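/-
Generic lemmas on nilpotent groups used in the odd-order local analysis.
-/
import Mathlib.GroupTheory.Nilpotent
import Mathlib.GroupTheory.Subgroup.Centralizer

set_option autoImplicit false

namespace Cfsg.Agent.OddOrder.Nilp

open scoped commutatorElement

variable {G : Type*} [Group G]

/-- In a nilpotent group, a normal subgroup `C` not contained in the normal subgroup `A` has an
element outside `A` whose commutators with every element lie in `A`. -/
theorem exists_mem_commutator_le [hG : Group.IsNilpotent G] {A C : Subgroup G} [C.Normal]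
    (h : ¬ C ≤ A) : ∃ x ∈ C, x ∉ A ∧ ∀ y : G, ⁅x, y⁆ ∈ A := by
  classical
  have hex : ∃ n, ¬ C ⊓ Subgroup.upperCentralSeries G n ≤ A :=
    ⟨hG.nilpotent.choose, by rw [hG.nilpotent.choose_spec, inf_top_eq]; exact h⟩
  have hn := Nat.find_spec hex
  match hk : Nat.find hex with
  | 0 => rw [hk] at hn; simp at hn
  | k + 1 =>
    rw [hk] at hn
    have hmin : C ⊓ Subgroup.upperCentralSeries G k ≤ A := by
      by_contra hc
      have := Nat.find_min' hex hc
      omega
    obtain ⟨x, hx, hxA⟩ := SetLike.not_le_iff_exists.mp hn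
    refine ⟨x, hx.1, hxA, fun y => hmin ⟨?_, Subgroup.mem_upperCentralSeries_succ_iff.mp hx.2 y⟩⟩
    have hC : C.Normal := inferInstance
    rw [commutatorElement_def, mul_assoc, mul_assoc, ← mul_assoc y]
    exact mul_mem hx.1 (hC.conj_mem _ (inv_mem hx.1) y)

/-- A finite nilpotent group has a normal abelian subgroup equal to its own centralizer. -/
theorem exists_normal_abelian_self_centralizing [Finite G] [Group.IsNilpotent G] :
    ∃ A : Subgroup G, A.Normal ∧ IsMulCommutative A ∧ Subgroup.centralizer (A : Set G) = A := by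
  classical
  obtain ⟨A, hA⟩ := Set.Finite.exists_maximal
    (s := {A : Subgroup G | A.Normal ∧ IsMulCommutative A}) (Set.toFinite _)
    ⟨⊥, inferInstance, inferInstance⟩
  obtain ⟨⟨hn, hc⟩, hmax⟩ := hA
  refine ⟨A, hn, hc, le_antisymm ?_ ?_⟩
  · by_contra hle
    obtain ⟨x, hxC, hxA, hx⟩ := exists_mem_commutator_le hle
    let B := Subgroup.closure ((A : Set G) ∪ {x})
    have hAB : A ≤ B := fun a ha => Subgroup.subset_closure (Or.inl ha)
    have hxB : x ∈ B := Subgroup.subset_closure (Or.inr rfl)
    have hBn : B.Normal := by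
      refine ⟨fun b hb g => ?_⟩
      induction hb using Subgroup.closure_induction with
      | mem z hz =>
        rcases hz with hz | hz
        · exact hAB (hn.conj_mem z hz g)
        · rw [Set.mem_singleton_iff] at hz
          subst hz
          have h1 := hx g
          have h2 : g * z * g⁻¹ = ⁅z, g⁆⁻¹ * z := by
            rw [commutatorElement_def]; group
          rw [h2]
          exact mul_mem (hAB (inv_mem h1)) hxB
      | one => simp
      | mul a b _ _ iha ihb =>
        have h2 : g * (a * b) * g⁻¹ = (g * a * g⁻¹) * (g * b * g⁻¹) := by group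
        rw [h2]; exact mul_mem iha ihb
      | inv a _ iha =>
        have h2 : g * a⁻¹ * g⁻¹ = (g * a * g⁻¹)⁻¹ := by group
        rw [h2]; exact inv_mem iha
    have hBc : IsMulCommutative B := by
      refine Subgroup.isMulCommutative_closure ?_
      rintro a (ha | rfl) b (hb | rfl)
      · exact congrArg Subtype.val (hc.is_comm.comm (⟨a, ha⟩ : A) ⟨b, hb⟩)
      · exact Subgroup.mem_centralizer_iff.mp hxC a ha
      · exact (Subgroup.mem_centralizer_iff.mp hxC b hb).symm
      · rfl
    exact hxA (hmax ⟨hBn, hBc⟩ hAB hxB)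
  · intro a ha
    rw [Subgroup.mem_centralizer_iff]
    intro b hb
    exact congrArg Subtype.val (hc.is_comm.comm (⟨b, hb⟩ : A) ⟨a, ha⟩)

end Cfsg.Agent.OddOrder.Nilp
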