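/-
Groups of odd order and `p`-rank one.
-/
import Cfsg.Agent.S0126
import Cfsg.Prelude.Def_OddOrderLocal
import Mathlib.GroupTheory.SpecificGroups.ZGroup

set_option autoImplicit false
set_option linter.style.haveILetI false

namespace Cfsg.Agent.OddOrder.CyclicSylow

variable {X : Type*} [Group X] [Finite X]

theorem isCyclic_of_isPGroup (hodd : Odd (Nat.card X)) {p : ℕ} [hp : Fact p.Prime] (hX : IsPGroup p X)
    (hr : Cfsg.PRankLE p 1 X) : IsCyclic X := by
  by_contra hnc
  rcases eq_or_ne p 2 with rfl | hp2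
  · obtain ⟨k, hk⟩ := IsPGroup.iff_card.1 hX
    rcases Nat.eq_zero_or_pos k with rfl | hk0
    · haveI : Subsingleton X := (Nat.card_eq_one_iff_unique.1 (by simpa using hk)).1
      exact hnc isCyclic_of_subsingleton
    · exact Nat.not_even_iff_odd.2 hodd (even_iff_two_dvd.2 (hk ▸ dvd_pow_self 2 hk0.ne'))
  obtain ⟨E, -, hEe, hE2⟩ := S0126.result hp2 hX hnc
  have := hr E hEe.1 hEe.2
  rw [hE2, pow_one, pow_two] at this
  exact absurd this (not_le.2 (lt_mul_of_one_lt_left hp.out.pos hp.out.one_lt))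

theorem isCyclic_sylow (hodd : Odd (Nat.card X)) {p : ℕ} [Fact p.Prime] (hr : Cfsg.PRankLE p 1 X)
    (S : Sylow p X) : IsCyclic (S : Subgroup X) :=
  isCyclic_of_isPGroup (hodd.of_dvd_nat (Subgroup.card_subgroup_dvd_card _)) S.isPGroup' fun B hB hBp => by
    haveI := hB
    have := hr (B.map (S : Subgroup X).subtype) inferInstance (by
      rintro _ ⟨b, hb, rfl⟩
      rw [← map_pow, hBp b hb, map_one])
    rwa [Subgroup.card_map_of_injective (Subgroup.subtype_injective _)] at this

theorem isZGroup (hodd : Odd (Nat.card X))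
    (h : ∀ p : ℕ, p.Prime → p ∣ Nat.card X → Cfsg.PRankLE p 1 X) : IsZGroup X := by
  refine ⟨fun p hp S => ?_⟩
  haveI := Fact.mk hp
  by_cases hd : p ∣ Nat.card X
  · exact isCyclic_sylow hodd (h p hp hd) S
  · have h1 : (S : Subgroup X) = ⊥ := by
      obtain ⟨j, hj⟩ := IsPGroup.iff_card.1 S.isPGroup'
      rcases Nat.eq_zero_or_pos j with rfl | hj0
      · exact Subgroup.card_eq_one.1 (by rw [hj, pow_zero])
      · exact absurd ((hj ▸ dvd_pow_self p hj0.ne').trans (Subgroup.card_subgroup_dvd_card _)) hd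
    show IsCyclic ↥(S : Subgroup X)
    rw [h1]
    infer_instance

end Cfsg.Agent.OddOrder.CyclicSylow
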