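/-
Alperin's lemma and normal elementary abelian subgroups of order `p ^ 3` in `p`-groups, `p` odd.
-/
import Cfsg.Prelude.Def_Transfer
import Cfsg.Prelude.Def_CaseTheorems
import Cfsg.Agent.Lib.OddOrder.Nilpotent
import Cfsg.Agent.Lib.LocalEven.OmegaOne
import Cfsg.Agent.Lib.Solvable.Structure
import Mathlib.GroupTheory.SpecificGroups.Cyclic
import Mathlib.GroupTheory.Sylow

set_option autoImplicit false
set_option linter.style.haveILetI false

namespace Cfsg.Agent.OddOrder.OmegaCen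

open scoped commutatorElement

variable {R : Type*} [Group R] [Finite R] {p : ℕ} [hp : Fact p.Prime]

/-- If `[L, L] ≤ K` and the elements of order dividing `p` of `K ∩ L` are central in `L` then the elements
of order dividing `p` of `L` are closed under products. -/
theorem pow_mul (hp2 : p ≠ 2) (hR : IsPGroup p R) (K L : Subgroup R)
    (hK : ∀ x ∈ L, ∀ y ∈ L, ⁅x, y⁆ ∈ K)
    (hc : ∀ x ∈ L, x ∈ K → x ^ p = 1 → ∀ y ∈ L, x * y = y * x) {a b : R} (ha : a ∈ L) (hb : b ∈ L)
    (hap : a ^ p = 1) (hbp : b ^ p = 1) : (a * b) ^ p = 1 := by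
  suffices key : ∀ n : ℕ, ∀ L : Subgroup R, Nat.card L ≤ n → (∀ x ∈ L, ∀ y ∈ L, ⁅x, y⁆ ∈ K) →
      (∀ x ∈ L, x ∈ K → x ^ p = 1 → ∀ y ∈ L, x * y = y * x) →
      ∀ a ∈ L, ∀ b ∈ L, a ^ p = 1 → b ^ p = 1 → (a * b) ^ p = 1 from
    key _ L le_rfl hK hc a ha b hb hap hbp
  intro n
  induction n with
  | zero => intro L hn; exact absurd hn (Nat.not_le.2 Nat.card_pos)
  | succ n ih =>
    intro L hn hK hc a ha b hb hap hbp
    have smaller : ∀ S : Subgroup R, S ≤ L → Nat.card S ≤ n →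
        ∀ a ∈ S, ∀ b ∈ S, a ^ p = 1 → b ^ p = 1 → (a * b) ^ p = 1 := fun S hS hSn =>
      ih S hSn (fun x hx y hy => hK x (hS hx) y (hS hy))
        (fun x hx hxK hxp y hy => hc x (hS hx) hxK hxp y (hS hy))
    have proper : ∀ S : Subgroup R, S ≤ L → S ≠ L → Nat.card S ≤ n := by
      intro S hS hne
      have : Nat.card S < Nat.card L := lt_of_le_of_ne (Subgroup.card_le_of_le hS)
        fun h => hne (Subgroup.eq_of_le_of_card_ge hS h.ge)
      omega
    haveI : Group.IsNilpotent L := (hR.to_subgroup L).isNilpotent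
    rcases eq_top_or_exists_le_coatom (Subgroup.zpowers (⟨a, ha⟩ : L)) with htop | ⟨M, hM, haM⟩
    · have hbmem : (⟨b, hb⟩ : L) ∈ Subgroup.zpowers (⟨a, ha⟩ : L) := htop ▸ Subgroup.mem_top _
      obtain ⟨i, hi⟩ := hbmem
      have hb' : b = a ^ i := (congrArg Subtype.val hi).symm
      have hcomm : Commute a b := hb' ▸ Commute.self_zpow a i
      rw [hcomm.mul_pow, hap, hbp, one_mul]
    · haveI := Subgroup.NormalizerCondition.normal_of_coatom M Group.normalizerCondition_of_isNilpotent hM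
      set S := M.map L.subtype with hS
      have hSL : S ≤ L := Subgroup.map_subtype_le _
      have hSne : S ≠ L := fun h => hM.1 (Subgroup.map_injective L.subtype_injective (by
        rw [← hS, h, ← MonoidHom.range_eq_map, Subgroup.range_subtype]))
      have haS : a ∈ S := ⟨⟨a, ha⟩, haM (Subgroup.mem_zpowers _), rfl⟩
      have hconj : b * a * b⁻¹ ∈ S :=
        ⟨⟨b, hb⟩ * ⟨a, ha⟩ * ⟨b, hb⟩⁻¹, ‹M.Normal›.conj_mem _ (haM (Subgroup.mem_zpowers _)) _, rfl⟩
      set c := a⁻¹ * (b * a * b⁻¹) with hcdef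
      have hcp : c ^ p = 1 := smaller S hSL (proper S hSL hSne) _ (inv_mem haS) _ hconj
        (by rw [inv_pow, hap, inv_one]) (by rw [conj_pow, hap, mul_one, mul_inv_cancel])
      have hcL : c ∈ L := mul_mem (inv_mem ha) (hSL hconj)
      have hcK : c ∈ K := by
        have e : c = ⁅a⁻¹, b⁆ := by rw [hcdef, commutatorElement_def]; group
        rw [e]; exact hK _ (inv_mem ha) _ hb
      have hcc := hc c hcL hcK hcp
      have hba : b * a = a * b * c := by
        rw [mul_assoc a, ← hcc b hb, hcdef]; group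
      rw [LEOmega.mul_pow_class_two hba (hcc a ha) (hcc b hb) p, hap, hbp, one_mul, one_mul]
      obtain ⟨k, hk⟩ := hp.out.dvd_choose_self two_ne_zero
        (lt_of_le_of_ne hp.out.two_le (Ne.symm hp2))
      rw [hk, _root_.pow_mul, hcp, one_pow]

theorem mem_normal_sup_zpowers {K : Subgroup R} [K.Normal] {x : R} (hx : ∀ y : R, ⁅x, y⁆ ∈ K) :
    (K ⊔ Subgroup.zpowers x).Normal := by
  refine Subgroup.normalizer_eq_top_iff.1 (top_le_iff.1 (Subgroup.le_normalizer_iff.2 fun g _ y hy => ?_))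
  have : (MulAut.conj g).toMonoidHom y ∈ (K ⊔ Subgroup.zpowers x).map (MulAut.conj g).toMonoidHom :=
    Subgroup.mem_map_of_mem _ hy
  refine (?_ : (K ⊔ Subgroup.zpowers x).map (MulAut.conj g).toMonoidHom ≤ K ⊔ Subgroup.zpowers x) this
  rw [Subgroup.map_sup, MonoidHom.map_zpowers]
  refine sup_le ?_ (Subgroup.zpowers_le.2 ?_)
  · rintro _ ⟨c, hc, rfl⟩
    exact Subgroup.mem_sup_left (‹K.Normal›.conj_mem c hc g)
  · have h1 : g * x * g⁻¹ = ⁅x, g⁆⁻¹ * x := by rw [commutatorElement_def]; group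
    change g * x * g⁻¹ ∈ _
    rw [h1]
    exact mul_mem (Subgroup.mem_sup_left (inv_mem (hx g))) (Subgroup.mem_sup_right (Subgroup.mem_zpowers x))

theorem commute_of_le_sup_zpowers {A : Subgroup R} {x : R} (hA : IsMulCommutative A)
    (hx : x ∈ Subgroup.centralizer (A : Set R)) : IsMulCommutative ↥(A ⊔ Subgroup.zpowers x) := by
  have hcl : A ⊔ Subgroup.zpowers x = Subgroup.closure ((A : Set R) ∪ {x}) := by
    rw [Subgroup.closure_union, Subgroup.closure_eq, Subgroup.zpowers_eq_closure]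
  rw [hcl]
  refine Subgroup.isMulCommutative_closure ?_
  rintro a (ha | ha) b (hb | hb)
  · exact congrArg Subtype.val (hA.is_comm.comm (⟨a, ha⟩ : A) ⟨b, hb⟩)
  · rw [Set.mem_singleton_iff] at hb
    subst hb
    exact Subgroup.mem_centralizer_iff.1 hx a ha
  · rw [Set.mem_singleton_iff] at ha
    subst ha
    exact (Subgroup.mem_centralizer_iff.1 hx b hb).symm
  · rw [Set.mem_singleton_iff] at ha hb
    rw [ha, hb]

/-- Alperin: a maximal normal elementary abelian subgroup contains every element of order `p`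
centralising it. -/
theorem mem_of_centralizes (hp2 : p ≠ 2) (hR : IsPGroup p R) (A : Subgroup R) [A.Normal]
    (hA : Cfsg.IsElementaryAbelian p A)
    (hmax : ∀ B : Subgroup R, B.Normal → Cfsg.IsElementaryAbelian p B → A ≤ B → B = A)
    {x : R} (hx : x ∈ Subgroup.centralizer (A : Set R)) (hxp : x ^ p = 1) : x ∈ A := by
  classical
  by_contra hxA
  haveI := hR.isNilpotent
  haveI := hA.1
  obtain ⟨L, -, hL⟩ := Finite.exists_le_minimal (a := Subgroup.centralizer (A : Set R))
    (p := fun L : Subgroup R => L.Normal ∧ A ≤ L ∧ L ≤ Subgroup.centralizer (A : Set R) ∧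
      ∃ y ∈ L, y ^ p = 1 ∧ y ∉ A)
    ⟨inferInstance, Subgroup.le_centralizer A, le_rfl, x, hx, hxp, hxA⟩
  obtain ⟨⟨hLn, hAL, hLC, y, hyL, hyp, hyA⟩, hLmin⟩ := hL
  haveI := hLn
  obtain ⟨K, -, hK⟩ := Finite.exists_le_maximal (a := A)
    (p := fun K : Subgroup R => K.Normal ∧ A ≤ K ∧ K < L)
    ⟨inferInstance, le_rfl, lt_of_le_of_ne hAL fun h => hyA (h ▸ hyL)⟩
  obtain ⟨⟨hKn, hAK, hKL⟩, hKmax⟩ := hK
  haveI := hKn
  have hsmall : ∀ z ∈ K, z ^ p = 1 → z ∈ A := by
    intro z hz hzp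
    by_contra hzA
    exact hKL.not_ge (hLmin ⟨hKn, hAK, hKL.le.trans hLC, z, hz, hzp, hzA⟩ hKL.le)
  obtain ⟨x₀, hx₀L, hx₀K, hx₀⟩ := Nilp.exists_mem_commutator_le (A := K) (C := L) hKL.not_ge
  have hLgen : L ≤ K ⊔ Subgroup.zpowers x₀ := by
    rcases (sup_le hKL.le (Subgroup.zpowers_le.2 hx₀L) : K ⊔ Subgroup.zpowers x₀ ≤ L).lt_or_eq with h | h
    · exact absurd (hKmax ⟨mem_normal_sup_zpowers hx₀, hAK.trans le_sup_left, h⟩ le_sup_left
        (Subgroup.mem_sup_right (Subgroup.mem_zpowers x₀))) hx₀K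
    · exact h.ge
  set π := QuotientGroup.mk' K with hπ
  have hcen : ∀ z ∈ L, π z ∈ Subgroup.center (R ⧸ K) := by
    intro z hz
    refine (?_ : K ⊔ Subgroup.zpowers x₀ ≤ (Subgroup.center (R ⧸ K)).comap π) (hLgen hz)
    refine sup_le (fun k hk => ?_) (Subgroup.zpowers_le.2 ?_)
    · rw [Subgroup.mem_comap, hπ, QuotientGroup.mk'_apply, (QuotientGroup.eq_one_iff k).2 hk]
      exact one_mem _
    · rw [Subgroup.mem_comap, Subgroup.mem_center_iff]
      intro g
      obtain ⟨g, rfl⟩ := QuotientGroup.mk'_surjective K g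
      refine (commutatorElement_eq_one_iff_mul_comm.1 ?_).symm
      rw [← map_commutatorElement]
      exact (QuotientGroup.eq_one_iff _).2 (hx₀ g)
  have hder : ∀ z ∈ L, ∀ w : R, ⁅z, w⁆ ∈ K := by
    intro z hz w
    rw [← QuotientGroup.eq_one_iff]
    show π ⁅z, w⁆ = 1
    rw [map_commutatorElement, commutatorElement_eq_one_iff_mul_comm]
    exact (Subgroup.mem_center_iff.1 (hcen z hz) (π w)).symm
  have hcentral : ∀ z ∈ L, z ∈ K → z ^ p = 1 → ∀ w ∈ L, z * w = w * z := fun z _ hzK hzp w hw =>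
    Subgroup.mem_centralizer_iff.1 (hLC hw) z (hsmall z hzK hzp)
  let W : Subgroup R :=
    { carrier := {z | z ∈ L ∧ z ^ p = 1}
      one_mem' := ⟨one_mem _, one_pow p⟩
      mul_mem' := fun {a b} ha hb => ⟨mul_mem ha.1 hb.1,
        pow_mul hp2 hR K L (fun z hz w _ => hder z hz w) hcentral ha.1 hb.1 ha.2 hb.2⟩
      inv_mem' := fun {a} ha => ⟨inv_mem ha.1, by rw [inv_pow, ha.2, inv_one]⟩ }
  have hWn : W.Normal := ⟨fun z hz g => ⟨hLn.conj_mem z hz.1 g, by
    rw [conj_pow, hz.2, mul_one, mul_inv_cancel]⟩⟩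
  have hAW : A ≤ W := fun a ha => ⟨hAL ha, hA.2 a ha⟩
  have hWA : W ≤ A ⊔ Subgroup.zpowers y := by
    have hyK : y ∉ K := fun h => hyA (hsmall y h hyp)
    have hgen : L ≤ Subgroup.zpowers y ⊔ K := by
      rcases (sup_le hKL.le (Subgroup.zpowers_le.2 hyL) : K ⊔ Subgroup.zpowers y ≤ L).lt_or_eq with h | h
      · exact absurd (hKmax ⟨mem_normal_sup_zpowers (hder y hyL), hAK.trans le_sup_left, h⟩ le_sup_left
          (Subgroup.mem_sup_right (Subgroup.mem_zpowers y))) hyK
      · exact (h.ge.trans (sup_comm _ _).le)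
    intro w hw
    have hw' : w ∈ ((Subgroup.zpowers y ⊔ K : Subgroup R) : Set R) := hgen hw.1
    rw [Subgroup.mul_normal] at hw'
    obtain ⟨u, hu, k, hk, rfl⟩ := hw'
    have huW : u ∈ W := (Subgroup.zpowers_le (H := W)).2 ⟨hyL, hyp⟩ hu
    have hkW : k ∈ W := by simpa using mul_mem (inv_mem huW) hw
    exact mul_mem (Subgroup.mem_sup_right hu) (Subgroup.mem_sup_left (hsmall k hk hkW.2))
  have hWc : IsMulCommutative W := by
    haveI := commute_of_le_sup_zpowers hA.1 (hLC hyL)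
    exact .of_setLike_mul_comm fun a ha b hb =>
      congrArg Subtype.val (mul_comm' (⟨a, hWA ha⟩ : ↥(A ⊔ Subgroup.zpowers y)) ⟨b, hWA hb⟩)
  have := hmax W hWn ⟨hWc, fun z hz => hz.2⟩ hAW
  exact hyA (this ▸ (show y ∈ W from ⟨hyL, hyp⟩))

omit hp in
theorem le_center_of_prime_card (hR : IsPGroup p R) [Fact p.Prime] {N : Subgroup R} [N.Normal]
    (hN : Nat.card N = p) : N ≤ Subgroup.center R := by
  haveI := hR.isNilpotent
  have hne : N ≠ ⊥ := fun h => (Fact.out : p.Prime).ne_one (hN ▸ Subgroup.card_eq_one.2 h)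
  have h1 := SolvStruct.inf_center_ne_bot hne
  have hd : Nat.card (N ⊓ Subgroup.center R : Subgroup R) ∣ p := hN ▸ Subgroup.card_dvd_of_le inf_le_left
  rcases (Nat.dvd_prime Fact.out).1 hd with h | h
  · exact absurd (Subgroup.card_eq_one.1 h) h1
  · exact inf_eq_left.1 (Subgroup.eq_of_le_of_card_ge inf_le_left (h.symm ▸ hN.le))

/-- A normal subgroup of order at most `p ^ 2` is centralized by a subgroup of index at most `p`. -/
theorem card_le_mul_inf_centralizer (hR : IsPGroup p R) (A : Subgroup R) [A.Normal]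
    (hA : Nat.card A ≤ p ^ 2) (hAc : IsMulCommutative A) (F : Subgroup R) :
    Nat.card F ≤ p * Nat.card (F ⊓ Subgroup.centralizer (A : Set R) : Subgroup R) := by
  classical
  by_cases hAZ : A ≤ Subgroup.center R
  · have : F ⊓ Subgroup.centralizer (A : Set R) = F := inf_eq_left.2 fun f _ =>
      Subgroup.mem_centralizer_iff.2 fun a ha => (Subgroup.mem_center_iff.1 (hAZ ha) f).symm
    rw [this]
    exact Nat.le_mul_of_pos_left _ hp.out.pos
  haveI := hR.isNilpotent
  obtain ⟨a, ha⟩ := IsPGroup.iff_card.1 (hR.to_subgroup A)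
  have ha2 : a = 2 := by
    have hle : a ≤ 2 := (Nat.pow_le_pow_iff_right hp.out.one_lt).1 (ha ▸ hA)
    interval_cases a
    · exact absurd ((Subgroup.card_eq_one.1 (by simpa using ha)).le.trans bot_le) hAZ
    · exact absurd (le_center_of_prime_card hR (by simpa using ha)) hAZ
    · rfl
  subst ha2
  have hne : A ≠ ⊥ := fun h => hAZ (h ▸ bot_le)
  haveI := (Subgroup.nontrivial_iff_ne_bot _).2 (SolvStruct.inf_center_ne_bot (N := A) hne)
  obtain ⟨m, hm, hm'⟩ := (hR.to_subgroup (A ⊓ Subgroup.center R)).nontrivial_iff_card.1 inferInstance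
  obtain ⟨z, hz⟩ := exists_prime_orderOf_dvd_card' (G := ↥(A ⊓ Subgroup.center R)) p
    (hm' ▸ dvd_pow_self p hm.ne')
  set Z := Subgroup.zpowers (z : R) with hZdef
  have hZA : Z ≤ A ⊓ Subgroup.center R := Subgroup.zpowers_le.2 z.2
  have hZcard : Nat.card Z = p := by rw [hZdef, Nat.card_zpowers, Subgroup.orderOf_coe, hz]
  haveI : Z.Normal := ⟨fun x hx g => by
    rw [Subgroup.mem_center_iff.1 (hZA hx).2 g, mul_inv_cancel_right]; exact hx⟩
  set π := QuotientGroup.mk' Z with hπ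
  haveI : (A.map π).Normal := ‹A.Normal›.map π (QuotientGroup.mk'_surjective Z)
  have hcardq : Nat.card (A.map π) = p := by
    have h2 : Z.relIndex A * Nat.card Z = Nat.card A := by
      rw [Subgroup.relIndex, ← Nat.card_congr (Subgroup.subgroupOfEquivOfLe (hZA.trans inf_le_left)).toEquiv]
      exact Subgroup.index_mul_card _
    have h3 : Nat.card (A.map π) = Z.relIndex A := by
      rw [← Subgroup.relIndex_ker, hπ, QuotientGroup.ker_mk']
    rw [hZcard, ha, sq] at h2
    rw [h3]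
    exact Nat.eq_of_mul_eq_mul_right hp.out.pos h2
  have hcomm : ∀ g : R, ∀ x ∈ A, ⁅g, x⁆ ∈ Z := by
    intro g x hx
    rw [← QuotientGroup.eq_one_iff]
    show π ⁅g, x⁆ = 1
    rw [map_commutatorElement, commutatorElement_eq_one_iff_mul_comm]
    exact Subgroup.mem_center_iff.1 (le_center_of_prime_card (hR.to_quotient Z) hcardq ⟨x, hx, rfl⟩) (π g)
  obtain ⟨e, heA, heZ⟩ : ∃ e ∈ A, e ∉ Z := by
    by_contra h
    push Not at h
    exact hAZ (fun x hx => (hZA (h x hx)).2)
  let φ : F →* R := MonoidHom.mk' (fun g => ⁅(g : R), e⁆) fun g h => by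
    have h1 := Subgroup.mem_center_iff.1 (hZA (hcomm (h : R) e heA)).2
    show ⁅((g * h : F) : R), e⁆ = ⁅(g : R), e⁆ * ⁅(h : R), e⁆
    calc ⁅((g * h : F) : R), e⁆ = (g : R) * ⁅(h : R), e⁆ * (g : R)⁻¹ * ⁅(g : R), e⁆ := by
          rw [Subgroup.coe_mul, commutatorElement_def, commutatorElement_def, commutatorElement_def]; group
      _ = ⁅(g : R), e⁆ * ⁅(h : R), e⁆ := by
          rw [h1 g, mul_inv_cancel_right, ← h1]
  have hker : φ.ker.map F.subtype ≤ F ⊓ Subgroup.centralizer (A : Set R) := by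
    rintro _ ⟨g, hg, rfl⟩
    refine ⟨g.2, Subgroup.mem_centralizer_iff.2 fun x hx => ?_⟩
    have hgen : A ≤ Z ⊔ Subgroup.zpowers e := by
      have hD : Z ⊔ Subgroup.zpowers e ≤ A :=
        sup_le (hZA.trans inf_le_left) (Subgroup.zpowers_le.2 heA)
      have hlt : Z < Z ⊔ Subgroup.zpowers e := lt_of_le_of_ne le_sup_left fun h =>
        heZ (h ▸ Subgroup.mem_sup_right (Subgroup.mem_zpowers e))
      obtain ⟨j, hj⟩ := IsPGroup.iff_card.1 (hR.to_subgroup (Z ⊔ Subgroup.zpowers e))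
      have h9 : p < p ^ j := by
        rw [← hj, ← hZcard]
        exact Set.ncard_lt_ncard (SetLike.coe_ssubset_coe.2 hlt) (Set.toFinite _)
      have h10 : 2 ≤ j := by
        by_contra h
        have : p ^ j ≤ p ^ 1 := Nat.pow_le_pow_right hp.out.pos (by omega)
        rw [pow_one] at this
        omega
      exact (Subgroup.eq_of_le_of_card_ge hD (by rw [ha, hj]; exact Nat.pow_le_pow_right hp.out.pos h10)).ge
    have hge : (g : R) * e = e * (g : R) := commutatorElement_eq_one_iff_mul_comm.1 hg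
    refine (Subgroup.mem_centralizer_singleton_iff.1
      ((sup_le ?_ ?_ : Z ⊔ Subgroup.zpowers e ≤ Subgroup.centralizer {(g : R)}) (hgen hx)))
    · exact fun w hw => Subgroup.mem_centralizer_singleton_iff.2 (Subgroup.mem_center_iff.1 (hZA hw).2 _).symm
    · exact Subgroup.zpowers_le.2 (Subgroup.mem_centralizer_singleton_iff.2 hge.symm)
  have hrange : φ.range ≤ Z := by
    rintro _ ⟨g, rfl⟩
    exact hcomm _ e heA
  have h1 := φ.ker.index_mul_card
  rw [Subgroup.index_ker] at h1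
  calc Nat.card F = Nat.card φ.range * Nat.card φ.ker := h1.symm
    _ ≤ p * Nat.card (F ⊓ Subgroup.centralizer (A : Set R) : Subgroup R) := by
      refine Nat.mul_le_mul (hZcard ▸ Subgroup.card_le_of_le hrange) ?_
      rw [← Subgroup.card_map_of_injective (K := φ.ker) F.subtype_injective]
      exact Subgroup.card_le_of_le hker

/-- A group of `p`-rank at least three has a normal elementary abelian subgroup of order at least
`p ^ 3` over each normal elementary abelian subgroup of order at most `p ^ 2`. -/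
theorem exists_normal_elementary_three (hp2 : p ≠ 2) (hR : IsPGroup p R) (F : Subgroup R)
    (hFc : IsMulCommutative F) (hFp : ∀ f ∈ F, f ^ p = 1) (hF : p ^ 2 < Nat.card F)
    (E : Subgroup R) [E.Normal] (hE : Cfsg.IsElementaryAbelian p E) :
    ∃ A : Subgroup R, A.Normal ∧ Cfsg.IsElementaryAbelian p A ∧ E ≤ A ∧ p ^ 3 ≤ Nat.card A := by
  classical
  obtain ⟨A, hEA, hA⟩ := Finite.exists_le_maximal (a := E)
    (p := fun A : Subgroup R => A.Normal ∧ Cfsg.IsElementaryAbelian p A) ⟨inferInstance, hE⟩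
  obtain ⟨⟨hAn, hAe⟩, hAmax⟩ := hA
  haveI := hAn
  refine ⟨A, hAn, hAe, hEA, ?_⟩
  obtain ⟨a, ha⟩ := IsPGroup.iff_card.1 (hR.to_subgroup A)
  rw [ha]
  refine Nat.pow_le_pow_right hp.out.pos (not_lt.1 fun hlt => ?_)
  have hA2 : Nat.card A ≤ p ^ 2 := ha ▸ Nat.pow_le_pow_right hp.out.pos (by omega)
  have hmem : F ⊓ Subgroup.centralizer (A : Set R) ≤ A := fun x hx =>
    mem_of_centralizes hp2 hR A hAe (fun B hBn hB hAB => le_antisymm (hAmax ⟨hBn, hB⟩ hAB) hAB)
      hx.2 (hFp x hx.1)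
  have h1 := card_le_mul_inf_centralizer hR A hA2 hAe.1 F
  obtain ⟨f, hf⟩ := IsPGroup.iff_card.1 (hR.to_subgroup F)
  obtain ⟨c, hc⟩ := IsPGroup.iff_card.1 (hR.to_subgroup (F ⊓ Subgroup.centralizer (A : Set R)))
  rw [hf, hc, ← pow_succ'] at h1
  have hf3 : 2 < f := (Nat.pow_lt_pow_iff_right hp.out.one_lt).1 (hf ▸ hF)
  have hca : p ^ c ≤ p ^ a := hc ▸ ha ▸ Subgroup.card_le_of_le hmem
  have hfc := (Nat.pow_le_pow_iff_right hp.out.one_lt).1 h1
  have hca' := (Nat.pow_le_pow_iff_right hp.out.one_lt).1 hca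
  have heq : F ⊓ Subgroup.centralizer (A : Set R) = A :=
    Subgroup.eq_of_le_of_card_ge hmem (by rw [ha, hc]; exact Nat.pow_le_pow_right hp.out.pos (by omega))
  have hFA : F ≤ A := by
    refine le_trans (le_inf le_rfl ?_) hmem
    exact le_trans (Subgroup.le_centralizer F) (Subgroup.centralizer_le (heq ▸ inf_le_left : A ≤ F))
  have h9 := Subgroup.card_le_of_le hFA
  rw [hf, ha] at h9
  have := (Nat.pow_le_pow_iff_right hp.out.one_lt).1 h9
  omega

/-- A normal subgroup of a `p`-group contains normal subgroups of every possible order. -/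
theorem exists_normal_card (hR : IsPGroup p R) (N : Subgroup R) [N.Normal] {k : ℕ}
    (hk : p ^ k ≤ Nat.card N) : ∃ B : Subgroup R, B.Normal ∧ B ≤ N ∧ Nat.card B = p ^ k := by
  induction k with
  | zero => exact ⟨⊥, inferInstance, bot_le, by simp⟩
  | succ k ih =>
    obtain ⟨B, hBn, hBN, hB⟩ := ih ((Nat.pow_le_pow_right hp.out.pos k.le_succ).trans hk)
    haveI := hBn
    have hnot : ¬ N ≤ B := fun h => by
      have := hk.trans ((Subgroup.card_le_of_le h).trans hB.le)
      exact absurd ((Nat.pow_le_pow_iff_right hp.out.one_lt).1 this) (by omega)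
    haveI := hR.isNilpotent
    obtain ⟨x, hxN, hxB, hx⟩ := Nilp.exists_mem_commutator_le hnot
    set π := QuotientGroup.mk' B with hπ
    set D := Subgroup.zpowers (π x) with hD
    have hcen : π x ∈ Subgroup.center (R ⧸ B) := by
      rw [Subgroup.mem_center_iff]
      intro g
      obtain ⟨g, rfl⟩ := QuotientGroup.mk'_surjective B g
      refine (commutatorElement_eq_one_iff_mul_comm.1 ?_).symm
      rw [← map_commutatorElement]
      exact (QuotientGroup.eq_one_iff _).2 (hx g)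
    have hne : π x ≠ 1 := fun h => hxB ((QuotientGroup.eq_one_iff x).1 h)
    obtain ⟨m, hm⟩ := IsPGroup.iff_orderOf.1 (hR.to_quotient B) (π x)
    have hm0 : m ≠ 0 := fun h => hne (orderOf_eq_one_iff.1 (by rw [hm, h, pow_zero]))
    set z := π x ^ p ^ (m - 1) with hz
    have hzo : orderOf z = p := by
      rw [hz, orderOf_pow_of_dvd (pow_ne_zero _ hp.out.ne_zero) (hm ▸ pow_dvd_pow p (by omega)), hm,
        Nat.pow_div (by omega) hp.out.pos, show m - (m - 1) = 1 by omega, pow_one]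
    have hzc : Subgroup.zpowers z ≤ Subgroup.center (R ⧸ B) :=
      Subgroup.zpowers_le.2 (pow_mem hcen _)
    haveI : (Subgroup.zpowers z).Normal := ⟨fun w hw g => by
      rw [Subgroup.mem_center_iff.1 (hzc hw) g, mul_inv_cancel_right]; exact hw⟩
    refine ⟨(Subgroup.zpowers z).comap π, inferInstance, fun y hy => ?_, ?_⟩
    · obtain ⟨i, hi⟩ := Subgroup.mem_comap.1 hy
      have hxy : π ((x ^ p ^ (m - 1)) ^ i) = π y := by rw [map_zpow, map_pow]; exact hi
      have hmem : ((x ^ p ^ (m - 1)) ^ i)⁻¹ * y ∈ B := QuotientGroup.eq.1 hxy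
      rw [show y = (x ^ p ^ (m - 1)) ^ i * (((x ^ p ^ (m - 1)) ^ i)⁻¹ * y) by group]
      exact mul_mem (zpow_mem (pow_mem hxN _) i) (hBN hmem)
    · have e1 := ((Subgroup.zpowers z).comap π).card_mul_index
      rw [Subgroup.index_comap_of_surjective _ (QuotientGroup.mk'_surjective B)] at e1
      have e2 := B.card_eq_card_quotient_mul_card_subgroup
      have e3 := (Subgroup.zpowers z).card_mul_index
      have e4 : Nat.card (Subgroup.zpowers z) = p := by rw [Nat.card_zpowers, hzo]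
      refine Nat.eq_of_mul_eq_mul_right
        (Nat.pos_of_ne_zero (Subgroup.index_ne_zero_of_finite (H := Subgroup.zpowers z))) ?_
      rw [e1, e2, ← e3, e4, hB]
      ring

end Cfsg.Agent.OddOrder.OmegaCen
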