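/-
Small maximal elementary abelian subgroups of p-groups of rank at least three (BG Lemma 5.3).
-/
import Cfsg.Prelude.Def_OddOrderLocal
import Cfsg.Prelude.Def_Transfer
import Cfsg.Prelude.Def_CaseTheorems
import Cfsg.Agent.Lib.OddOrder.OmegaCentral

set_option autoImplicit false
open Cfsg

namespace Cfsg.Agent.OddOrder.NarrowBasics

open scoped commutatorElement

variable {R : Type*} [Group R] [Finite R] {p : ℕ} [hp : Fact p.Prime]

/-- The elements of order dividing `p` of the centre. -/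
def omegaCenter (p : ℕ) (R : Type*) [Group R] : Subgroup R where
  carrier := {x | x ∈ Subgroup.center R ∧ x ^ p = 1}
  one_mem' := ⟨one_mem _, one_pow p⟩
  mul_mem' := fun {a b} ha hb => ⟨mul_mem ha.1 hb.1, by
    have hc : Commute a b := (Subgroup.mem_center_iff.1 hb.1 a)
    rw [hc.mul_pow, ha.2, hb.2, one_mul]⟩
  inv_mem' := fun {a} ha => ⟨inv_mem ha.1, by rw [inv_pow, ha.2, inv_one]⟩

omit [Finite R] hp in
theorem closure_center_eq :
    Subgroup.closure {x : R | x ∈ Subgroup.center R ∧ x ^ p = 1} = omegaCenter p R :=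
  Subgroup.closure_eq (omegaCenter p R)

omit hp in
/-- A maximal elementary abelian subgroup contains each element of order `p` centralising it. -/
theorem mem_of_commute {E : Subgroup R} (hE : IsElementaryAbelian p E)
    (hmax : ∀ B : Subgroup R, IsElementaryAbelian p B → E ≤ B → B = E) {x : R}
    (hx : x ∈ Subgroup.centralizer (E : Set R)) (hxp : x ^ p = 1) : x ∈ E := by
  have hab := OmegaCen.commute_of_le_sup_zpowers hE.1 hx
  let K : Subgroup R :=
    { carrier := {y | y ∈ E ⊔ Subgroup.zpowers x ∧ y ^ p = 1}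
      one_mem' := ⟨one_mem _, one_pow p⟩
      mul_mem' := fun {a b} ha hb => ⟨mul_mem ha.1 hb.1, by
        haveI := hab
        have hc : Commute a b :=
          congrArg Subtype.val (mul_comm' (⟨a, ha.1⟩ : ↥(E ⊔ Subgroup.zpowers x)) ⟨b, hb.1⟩)
        rw [hc.mul_pow, ha.2, hb.2, one_mul]⟩
      inv_mem' := fun {a} ha => ⟨inv_mem ha.1, by rw [inv_pow, ha.2, inv_one]⟩ }
  have hle : E ⊔ Subgroup.zpowers x ≤ K := sup_le (fun y hy => ⟨Subgroup.mem_sup_left hy, hE.2 y hy⟩)
    (Subgroup.zpowers_le.2 ⟨Subgroup.mem_sup_right (Subgroup.mem_zpowers x), hxp⟩)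
  have heq := hmax (E ⊔ Subgroup.zpowers x) ⟨hab, fun y hy => (hle hy).2⟩ le_sup_left
  exact heq ▸ Subgroup.mem_sup_right (Subgroup.mem_zpowers x)

/-- In a `p`-group of rank at least three there is a normal elementary abelian subgroup of order at
least `p ^ 3`. -/
theorem exists_normal_three (hp2 : p ≠ 2) (hR : IsPGroup p R) (hr : ¬ PRankLE p 2 R) :
    ∃ A : Subgroup R, A.Normal ∧ IsElementaryAbelian p A ∧ p ^ 3 ≤ Nat.card A := by
  rw [PRankLE] at hr
  push Not at hr
  obtain ⟨F, hFc, hFp, hF⟩ := hr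
  have hbot : IsElementaryAbelian p (⊥ : Subgroup R) :=
    ⟨.of_setLike_mul_comm fun a ha b hb => by
      rw [Subgroup.mem_bot.1 ha, Subgroup.mem_bot.1 hb], fun a ha => by
      rw [Subgroup.mem_bot.1 ha, one_pow]⟩
  obtain ⟨A, h1, h2, -, h3⟩ :=
    OmegaCen.exists_normal_elementary_three hp2 hR F hFc hFp hF ⊥ hbot
  exact ⟨A, h1, h2, h3⟩

/-- Every commutator of an element of a normal subgroup of order `p ^ 2` lies in the centre. -/
theorem commutator_mem_center (hR : IsPGroup p R) {B : Subgroup R} [B.Normal]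
    (hB : Nat.card B = p ^ 2) {b : R} (hb : b ∈ B) (g : R) : ⁅b, g⁆ ∈ Subgroup.center R := by
  obtain ⟨C, hCn, hCB, hC⟩ := OmegaCen.exists_normal_card hR B (k := 1)
    (hB ▸ Nat.pow_le_pow_right hp.out.pos (by norm_num))
  rw [pow_one] at hC
  haveI := hCn
  set π := QuotientGroup.mk' C with hπ
  haveI : (B.map π).Normal := ‹B.Normal›.map π (QuotientGroup.mk'_surjective C)
  have hcardq : Nat.card (B.map π) = p := by
    have h2 : C.relIndex B * Nat.card C = Nat.card B := by
      rw [Subgroup.relIndex, ← Nat.card_congr (Subgroup.subgroupOfEquivOfLe hCB).toEquiv]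
      exact Subgroup.index_mul_card _
    have h3 : Nat.card (B.map π) = C.relIndex B := by
      rw [← Subgroup.relIndex_ker, hπ, QuotientGroup.ker_mk']
    rw [hC, hB, sq] at h2
    rw [h3]
    exact Nat.eq_of_mul_eq_mul_right hp.out.pos h2
  refine OmegaCen.le_center_of_prime_card hR hC ?_
  rw [← QuotientGroup.eq_one_iff]
  show π ⁅b, g⁆ = 1
  rw [map_commutatorElement, commutatorElement_eq_one_iff_mul_comm]
  exact (Subgroup.mem_center_iff.1
    (OmegaCen.le_center_of_prime_card (hR.to_quotient C) hcardq ⟨b, hb, rfl⟩) (π g)).symm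

/-- The elements of order dividing `p` of the second centre form a subgroup. -/
def omegaSecond (hp2 : p ≠ 2) (hR : IsPGroup p R) : Subgroup R where
  carrier := {x | x ∈ Subgroup.upperCentralSeries R 2 ∧ x ^ p = 1}
  one_mem' := ⟨one_mem _, one_pow p⟩
  mul_mem' := fun {a b} ha hb => ⟨mul_mem ha.1 hb.1,
    OmegaCen.pow_mul hp2 hR (Subgroup.center R) (Subgroup.upperCentralSeries R 2)
      (fun x hx y _ => by
        have := Subgroup.mem_upperCentralSeries_succ_iff.1 hx y
        rw [Subgroup.upperCentralSeries_one] at this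
        rw [commutatorElement_def]
        exact this)
      (fun x _ hx _ y _ => (Subgroup.mem_center_iff.1 hx y).symm) ha.1 hb.1 ha.2 hb.2⟩
  inv_mem' := fun {a} ha => ⟨inv_mem ha.1, by rw [inv_pow, ha.2, inv_one]⟩

theorem closure_second_eq (hp2 : p ≠ 2) (hR : IsPGroup p R) :
    Subgroup.closure {x : R | x ∈ Subgroup.upperCentralSeries R 2 ∧ x ^ p = 1} = omegaSecond hp2 hR :=
  Subgroup.closure_eq (omegaSecond hp2 hR)

theorem omegaSecond_characteristic (hp2 : p ≠ 2) (hR : IsPGroup p R) :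
    (omegaSecond hp2 hR).Characteristic := by
  refine Subgroup.characteristic_iff_map_le.2 fun φ => ?_
  rintro _ ⟨x, hx, rfl⟩
  refine ⟨?_, ?_⟩
  · exact Subgroup.characteristic_iff_map_le.1
      (inferInstance : (Subgroup.upperCentralSeries R 2).Characteristic) φ ⟨x, hx.1, rfl⟩
  · show (φ x) ^ p = 1
    rw [← map_pow, hx.2, map_one]

/-- BG Lemma 5.3. -/
theorem structure_three (hp2 : p ≠ 2) (hR : IsPGroup p R) (hr : ¬ PRankLE p 2 R)
    {E : Subgroup R} (hE : IsElementaryAbelian p E) (hE2 : Nat.card E = p ^ 2)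
    (hEmax : ∀ B : Subgroup R, IsElementaryAbelian p B → E ≤ B → B = E) :
    ¬ E ≤ Subgroup.centralizer (omegaSecond hp2 hR : Set R) ∧
      Nat.card (omegaCenter p R) = p ∧
      IsElementaryAbelian p (omegaSecond hp2 hR) ∧ Nat.card (omegaSecond hp2 hR) = p ^ 2 ∧
      (Subgroup.centralizer (omegaSecond hp2 hR : Set R)).index = p ∧
      omegaCenter p R ≤ E ∧ ¬ E.Normal := by
  classical
  obtain ⟨A, hAn, hA, hA3⟩ := exists_normal_three hp2 hR hr
  haveI := hAn
  have hp32 : p ^ 2 < p ^ 3 := Nat.pow_lt_pow_right hp.out.one_lt (by norm_num)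
  have hAnot : ¬ A ≤ Subgroup.centralizer (E : Set R) := fun h => by
    have hAE : A ≤ E := fun a ha => mem_of_commute hE hEmax (h ha) (hA.2 a ha)
    have := hA3.trans ((Subgroup.card_le_of_le hAE).trans hE2.le)
    omega
  -- the centre
  have hZE : omegaCenter p R ≤ E := fun z hz =>
    mem_of_commute hE hEmax (Subgroup.mem_centralizer_iff.2 fun e _ => Subgroup.mem_center_iff.1 hz.1 e)
      hz.2
  have hZlt : omegaCenter p R < E := lt_of_le_of_ne hZE fun h => hAnot fun a _ =>
    Subgroup.mem_centralizer_iff.2 fun e he => by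
      have : e ∈ omegaCenter p R := h ▸ he
      exact (Subgroup.mem_center_iff.1 this.1 a).symm
  have hZcard : Nat.card (omegaCenter p R) = p := by
    obtain ⟨z, hz⟩ := IsPGroup.iff_card.1 (hR.to_subgroup (omegaCenter p R))
    have hlt : Nat.card (omegaCenter p R) < p ^ 2 := hE2 ▸ Set.ncard_lt_ncard
      (SetLike.coe_ssubset_coe.2 hZlt) (Set.toFinite _)
    have hz2 : z < 2 := (Nat.pow_lt_pow_iff_right hp.out.one_lt).1 (hz ▸ hlt)
    have hz0 : z ≠ 0 := by
      rintro rfl
      haveI : Nontrivial A := Finite.one_lt_card_iff_nontrivial.1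
        (lt_of_lt_of_le (Nat.one_lt_pow (by norm_num) hp.out.one_lt) hA3)
      haveI : Nontrivial R := A.subtype_injective.nontrivial
      haveI := hR.center_nontrivial
      obtain ⟨m, hm, hm'⟩ := (hR.to_subgroup (Subgroup.center R)).nontrivial_iff_card.1 inferInstance
      obtain ⟨c, hc⟩ := exists_prime_orderOf_dvd_card' (G := ↥(Subgroup.center R)) p
        (hm' ▸ dvd_pow_self p hm.ne')
      have hmem : (c : R) ∈ omegaCenter p R :=
        ⟨c.2, by rw [← hc, ← Subgroup.orderOf_coe, pow_orderOf_eq_one]⟩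
      have hbot : omegaCenter p R = ⊥ := Subgroup.card_eq_one.1 (by simpa using hz)
      rw [hbot, Subgroup.mem_bot] at hmem
      rw [← Subgroup.orderOf_coe, hmem, orderOf_one] at hc
      exact hp.out.ne_one hc.symm
    rw [hz, show z = 1 by omega, pow_one]
  -- E is not normal
  have hnn : ¬ E.Normal := fun hn => by
    have h1 := OmegaCen.card_le_mul_inf_centralizer hR E hE2.le hE.1 A
    have hsub : A ⊓ Subgroup.centralizer (E : Set R) ≤ A ⊓ E := fun a ha =>
      ⟨ha.1, mem_of_commute hE hEmax ha.2 (hA.2 a ha.1)⟩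
    have h2 : p ^ 2 ≤ Nat.card (A ⊓ E : Subgroup R) := by
      refine Nat.le_of_mul_le_mul_left ?_ hp.out.pos
      calc p * p ^ 2 = p ^ 3 := by ring
        _ ≤ Nat.card A := hA3
        _ ≤ p * Nat.card (A ⊓ Subgroup.centralizer (E : Set R) : Subgroup R) := h1
        _ ≤ p * Nat.card (A ⊓ E : Subgroup R) := Nat.mul_le_mul le_rfl (Subgroup.card_le_of_le hsub)
    have hEA : E ≤ A := inf_eq_right.1 (Subgroup.eq_of_le_of_card_ge inf_le_right (hE2.le.trans h2))
    haveI := hA.1
    exact hAnot ((Subgroup.le_centralizer A).trans (Subgroup.centralizer_le hEA))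
  -- the second centre
  set W := omegaSecond hp2 hR with hWdef
  have hcomm : ∀ w ∈ W, ∀ g : R, ⁅w, g⁆ ∈ omegaCenter p R := by
    intro w hw g
    have hc : ⁅w, g⁆ ∈ Subgroup.center R := by
      have := Subgroup.mem_upperCentralSeries_succ_iff.1 hw.1 g
      rw [Subgroup.upperCentralSeries_one] at this
      rw [commutatorElement_def]
      exact this
    refine ⟨hc, ?_⟩
    have e : g * w * g⁻¹ = ⁅w, g⁆⁻¹ * w := by rw [commutatorElement_def]; group
    have hcw : Commute ⁅w, g⁆⁻¹ w := (Subgroup.mem_center_iff.1 (inv_mem hc) w).symm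
    have h := congrArg (· ^ p) e
    simp only [conj_pow, hcw.mul_pow, hw.2, mul_one, mul_inv_cancel, inv_pow] at h
    exact inv_eq_one.1 h.symm
  have hEW : ¬ E ≤ W := fun h => hnn ⟨fun e he g => by
    have h1 := hZE (hcomm e (h he) g)
    have e2 : g * e * g⁻¹ = ⁅e, g⁆⁻¹ * e := by rw [commutatorElement_def]; group
    rw [e2]
    exact mul_mem (inv_mem h1) he⟩
  -- an upper bound
  obtain ⟨e, heE, heZ⟩ := SetLike.exists_of_lt hZlt
  have hEgen : E ≤ omegaCenter p R ⊔ Subgroup.zpowers e := by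
    have hle : omegaCenter p R ⊔ Subgroup.zpowers e ≤ E := sup_le hZE (Subgroup.zpowers_le.2 heE)
    refine (Subgroup.eq_of_le_of_card_ge hle ?_).ge
    obtain ⟨j, hj⟩ := IsPGroup.iff_card.1 (hR.to_subgroup (omegaCenter p R ⊔ Subgroup.zpowers e))
    have hlt : omegaCenter p R < omegaCenter p R ⊔ Subgroup.zpowers e := lt_of_le_of_ne le_sup_left
      fun h => heZ (h ▸ Subgroup.mem_sup_right (Subgroup.mem_zpowers e))
    have h9 : p ^ 1 < p ^ j := by
      rw [pow_one, ← hj]
      refine lt_of_eq_of_lt hZcard.symm ?_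
      exact Set.ncard_lt_ncard (SetLike.coe_ssubset_coe.2 hlt) (Set.toFinite _)
    have h10 := (Nat.pow_lt_pow_iff_right hp.out.one_lt).1 h9
    rw [hE2, hj]
    exact Nat.pow_le_pow_right hp.out.pos h10
  have hWle : Nat.card W ≤ p ^ 2 := by
    let φ : W →* R := MonoidHom.mk' (fun w => ⁅(w : R), e⁆) fun v w => by
      have h1 := Subgroup.mem_center_iff.1 (hcomm w w.2 e).1
      show ⁅((v * w : W) : R), e⁆ = ⁅(v : R), e⁆ * ⁅(w : R), e⁆
      calc ⁅((v * w : W) : R), e⁆ = (v : R) * ⁅(w : R), e⁆ * (v : R)⁻¹ * ⁅(v : R), e⁆ := by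
            rw [Subgroup.coe_mul, commutatorElement_def, commutatorElement_def, commutatorElement_def]
            group
        _ = ⁅(v : R), e⁆ * ⁅(w : R), e⁆ := by rw [h1 v, mul_inv_cancel_right, ← h1]
    have hker : φ.ker.map W.subtype ≤ W ⊓ E := by
      rintro _ ⟨w, hw, rfl⟩
      refine ⟨w.2, mem_of_commute hE hEmax ?_ w.2.2⟩
      refine Subgroup.mem_centralizer_iff.2 fun x hx => ?_
      have hwe : (w : R) * e = e * (w : R) := commutatorElement_eq_one_iff_mul_comm.1 hw
      have : omegaCenter p R ⊔ Subgroup.zpowers e ≤ Subgroup.centralizer {(w : R)} :=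
        sup_le (fun z hz => Subgroup.mem_centralizer_singleton_iff.2
            (Subgroup.mem_center_iff.1 hz.1 _).symm)
          (Subgroup.zpowers_le.2 (Subgroup.mem_centralizer_singleton_iff.2 hwe.symm))
      exact Subgroup.mem_centralizer_singleton_iff.1 (this (hEgen hx))
    have hrange : φ.range ≤ omegaCenter p R := by
      rintro _ ⟨w, rfl⟩
      exact hcomm w w.2 e
    have hWE : Nat.card (W ⊓ E : Subgroup R) ≤ p := by
      obtain ⟨k, hk⟩ := IsPGroup.iff_card.1 (hR.to_subgroup (W ⊓ E))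
      have hlt : Nat.card (W ⊓ E : Subgroup R) < p ^ 2 := hE2 ▸ Set.ncard_lt_ncard
        (SetLike.coe_ssubset_coe.2 (lt_of_le_of_ne inf_le_right fun h => hEW (inf_eq_right.1 h)))
        (Set.toFinite _)
      have hk2 : k < 2 := (Nat.pow_lt_pow_iff_right hp.out.one_lt).1 (hk ▸ hlt)
      rw [hk]
      exact le_trans (Nat.pow_le_pow_right hp.out.pos (by omega : k ≤ 1)) (pow_one p).le
    have h1 := φ.ker.index_mul_card
    rw [Subgroup.index_ker] at h1
    calc Nat.card W = Nat.card φ.range * Nat.card φ.ker := h1.symm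
      _ ≤ p * p := Nat.mul_le_mul (hZcard ▸ Subgroup.card_le_of_le hrange) (le_trans
          (by rw [← Subgroup.card_map_of_injective (K := φ.ker) W.subtype_injective]
              exact Subgroup.card_le_of_le hker) hWE)
      _ = p ^ 2 := (sq p).symm
  -- the lower bound
  obtain ⟨B, hBn, hBA, hB⟩ := OmegaCen.exists_normal_card hR A (k := 2)
    ((Nat.pow_le_pow_right hp.out.pos (by norm_num)).trans hA3)
  haveI := hBn
  have hBW : B ≤ W := fun b hb => ⟨Subgroup.mem_upperCentralSeries_succ_iff.2 fun g => by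
    rw [Subgroup.upperCentralSeries_one]
    have := commutator_mem_center hR hB hb g
    rwa [commutatorElement_def] at this, hA.2 b (hBA hb)⟩
  have hWeq : B = W := Subgroup.eq_of_le_of_card_ge hBW (hWle.trans hB.ge)
  have hWel : IsElementaryAbelian p W := by
    refine ⟨.of_setLike_mul_comm fun a ha b hb => ?_, fun a ha => ha.2⟩
    haveI := hA.1
    exact congrArg Subtype.val
      (mul_comm' (⟨a, hBA (hWeq ▸ ha)⟩ : A) ⟨b, hBA (hWeq ▸ hb)⟩)
  have hW2 : Nat.card W = p ^ 2 := hWeq ▸ hB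
  haveI hWn : W.Normal := hWeq ▸ hBn
  have hET : ¬ E ≤ Subgroup.centralizer (W : Set R) := fun h => by
    have hWE : W ≤ E := fun w hw => mem_of_commute hE hEmax
      (Subgroup.mem_centralizer_iff.2 fun x hx => (Subgroup.mem_centralizer_iff.1 (h hx) w hw).symm) hw.2
    exact hEW (Subgroup.eq_of_le_of_card_ge hWE (hE2.trans hW2.symm).le).ge
  refine ⟨hET, hZcard, hWel, hW2, ?_, hZE, hnn⟩
  set T := Subgroup.centralizer (W : Set R) with hT
  have h1 := OmegaCen.card_le_mul_inf_centralizer hR W hW2.le hWel.1 ⊤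
  rw [top_inf_eq, Subgroup.card_top, ← hT] at h1
  have hle : T.index ≤ p := by
    rw [← T.index_mul_card] at h1
    exact Nat.le_of_mul_le_mul_right h1 Nat.card_pos
  obtain ⟨i, hi⟩ := hR.index T
  have hi1 : i ≤ 1 := (Nat.pow_le_pow_iff_right hp.out.one_lt).1 (by rw [pow_one, ← hi]; exact hle)
  have hi0 : i ≠ 0 := by
    rintro rfl
    rw [pow_zero, Subgroup.index_eq_one] at hi
    exact hET (hi ▸ le_top)
  rw [hi, show i = 1 by omega, pow_one]

end Cfsg.Agent.OddOrder.NarrowBasics
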