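/-
A small maximal elementary abelian subgroup makes a p-group narrow (BG Lemma 5.3).
-/
import Cfsg.Agent.Lib.OddOrder.NarrowBasics
import Cfsg.Agent.Lib.OddOrder.CyclicSylow

set_option autoImplicit false
open Cfsg

namespace Cfsg.Agent.OddOrder.NarrowBasics

variable {R : Type*} [Group R] [Finite R] {p : ℕ} [hp : Fact p.Prime]

theorem isNarrow_of_maximal_pair (hp2 : p ≠ 2) (hR : IsPGroup p R)
    {E : Subgroup R} (hE : IsElementaryAbelian p E) (hE2 : Nat.card E = p ^ 2)
    (hEmax : ∀ B : Subgroup R, IsElementaryAbelian p B → E ≤ B → B = E) : IsNarrow p R := by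
  by_cases hr : PRankLE p 2 R
  · exact Or.inl hr
  refine Or.inr ?_
  obtain ⟨hEW, hZcard, -, -, hTidx, hZE, -⟩ := structure_three hp2 hR hr hE hE2 hEmax
  haveI := omegaSecond_characteristic hp2 hR
  set T := Subgroup.centralizer (omegaSecond hp2 hR : Set R) with hT
  haveI : T.Normal := inferInstance
  obtain ⟨x, hxE, hxT⟩ := SetLike.not_le_iff_exists.1 hEW
  set R₀ := Subgroup.zpowers x with hR0
  have hR0c : Nat.card R₀ = p := by
    rw [hR0, Nat.card_zpowers]
    exact orderOf_eq_prime (hE.2 x hxE) fun h => hxT (h ▸ one_mem T)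
  have hR0T : R₀ ⊓ T = ⊥ := by
    rcases (Nat.dvd_prime hp.out).1 (hR0c ▸ Subgroup.card_dvd_of_le (inf_le_left : R₀ ⊓ T ≤ R₀)) with h | h
    · exact Subgroup.card_eq_one.1 h
    · have heq : R₀ ⊓ T = R₀ := Subgroup.eq_of_le_of_card_ge inf_le_left (by rw [h, hR0c])
      exact absurd ((inf_eq_left.1 heq) (Subgroup.mem_zpowers x)) hxT
  have htop : R₀ ⊔ T = ⊤ := by
    have hdvd : (R₀ ⊔ T).index ∣ p := hTidx ▸ Subgroup.index_dvd_of_le le_sup_right
    rcases (Nat.dvd_prime hp.out).1 hdvd with h | h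
    · exact Subgroup.index_eq_one.1 h
    · exfalso
      have h1 := Subgroup.relIndex_mul_index (le_sup_right : T ≤ R₀ ⊔ T)
      rw [h, hTidx] at h1
      have hrel : T.relIndex (R₀ ⊔ T) = 1 := by
        have := hp.out.pos
        nlinarith
      exact hxT ((Subgroup.relIndex_eq_one.1 hrel) (Subgroup.mem_sup_left (Subgroup.mem_zpowers x)))
  set C := Subgroup.centralizer (R₀ : Set R) with hC
  have hR0C : R₀ ≤ C := fun a ha => Subgroup.mem_centralizer_iff.2 fun b hb => by
    obtain ⟨i, rfl⟩ := ha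
    obtain ⟨j, rfl⟩ := hb
    exact (zpow_mul_comm x j i)
  refine ⟨R₀, C ⊓ T, hR0c, ?_, le_bot_iff.1 ((inf_le_inf_left _ inf_le_right).trans hR0T.le),
    fun a ha b hb => Subgroup.mem_centralizer_iff.1 hb.1 a ha, le_antisymm (sup_le hR0C inf_le_left) ?_⟩
  · -- the only subgroup of order `p` is central
    have hodd : Odd (Nat.card (C ⊓ T : Subgroup R)) := by
      obtain ⟨k, hk⟩ := IsPGroup.iff_card.1 (hR.to_subgroup (C ⊓ T))
      rw [hk]; exact (hp.out.odd_of_ne_two hp2).pow
    refine CyclicSylow.isCyclic_of_isPGroup hodd (hR.to_subgroup _) ?_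
    intro B hB hBp
    rw [pow_one, ← Subgroup.card_map_of_injective (K := B) (C ⊓ T).subtype_injective]
    set B' := B.map (C ⊓ T).subtype with hB'
    -- `E` is generated by `R₀` and the centre
    have hsupE : R₀ ⊔ omegaCenter p R = E := by
      refine Subgroup.eq_of_le_of_card_ge (sup_le (Subgroup.zpowers_le.2 hxE) hZE) ?_
      obtain ⟨k, hk⟩ := IsPGroup.iff_card.1 (hR.to_subgroup (R₀ ⊔ omegaCenter p R))
      rw [hE2, hk]
      refine Nat.pow_le_pow_right hp.out.pos ?_
      by_contra hlt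
      have h1 : Nat.card (R₀ ⊔ omegaCenter p R : Subgroup R) ≤ p := by
        rw [hk]
        exact (Nat.pow_le_pow_right hp.out.pos (by omega : k ≤ 1)).trans (pow_one p).le
      have hzT : omegaCenter p R ≤ T := fun z hz =>
        Subgroup.mem_centralizer_iff.2 fun a _ => Subgroup.mem_center_iff.1 hz.1 a
      have e1 := Subgroup.eq_of_le_of_card_ge (le_sup_left : R₀ ≤ R₀ ⊔ omegaCenter p R) (hR0c ▸ h1)
      have e2 := Subgroup.eq_of_le_of_card_ge (le_sup_right : omegaCenter p R ≤ R₀ ⊔ omegaCenter p R) (h1.trans hZcard.ge)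
      exact hxT (hzT ((e1.trans e2.symm).le (Subgroup.mem_zpowers x)))
    have hle : B' ≤ E ⊓ T := by
      rintro _ ⟨b, hb, rfl⟩
      refine ⟨mem_of_commute hE hEmax ?_ (congrArg Subtype.val (hBp b hb)), b.2.2⟩
      rw [← hsupE, Subgroup.mem_centralizer_iff]
      intro a ha
      have hmem : (R₀ ⊔ omegaCenter p R) ≤ Subgroup.centralizer {(b : R)} := by
        refine sup_le (fun c hc => ?_) (fun c hc => ?_)
        · exact Subgroup.mem_centralizer_singleton_iff.2 (Subgroup.mem_centralizer_iff.1 b.2.1 c hc)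
        · exact Subgroup.mem_centralizer_singleton_iff.2 (Subgroup.mem_center_iff.1 hc.1 b).symm
      exact Subgroup.mem_centralizer_singleton_iff.1 (hmem ha)
    refine (Subgroup.card_le_of_le hle).trans ?_
    obtain ⟨i, hi, hEi⟩ := (Nat.dvd_prime_pow hp.out).1
      (hE2 ▸ Subgroup.card_dvd_of_le (inf_le_left : E ⊓ T ≤ E))
    have hi2 : i ≠ 2 := by
      rintro rfl
      exact hxT ((inf_eq_left.1 (Subgroup.eq_of_le_of_card_ge inf_le_left (by rw [hEi, hE2]))) hxE)
    rw [hEi]
    exact (Nat.pow_le_pow_right hp.out.pos (by omega : i ≤ 1)).trans (pow_one p).le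
  · intro a ha
    have hmem : a ∈ R₀ ⊔ T := htop ▸ Subgroup.mem_top a
    rw [← SetLike.mem_coe, Subgroup.mul_normal] at hmem
    obtain ⟨r, hr', t, ht, rfl⟩ := hmem
    refine Subgroup.mul_mem _ (Subgroup.mem_sup_left hr') (Subgroup.mem_sup_right ⟨?_, ht⟩)
    have := C.mul_mem (C.inv_mem (hR0C hr')) ha
    rwa [inv_mul_cancel_left] at this

end Cfsg.Agent.OddOrder.NarrowBasics
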