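/-
Subgroups of odd order of `SL(2, K)` with order divisible by the characteristic fix a point of the
projective line (counting fixed points).
-/
import Cfsg.Agent.Lib.Recog.SL2Orders
import Mathlib.LinearAlgebra.Projectivization.Action
import Mathlib.FieldTheory.IsAlgClosed.Basic
import Mathlib.GroupTheory.Sylow
import Mathlib.RingTheory.IntegralDomain

set_option autoImplicit false

namespace Cfsg.Agent.OddOrder.SL2Odd

open Matrix Projectivization
open scoped LinearAlgebra.Projectivization MatrixGroups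

variable {K : Type*} [Field K]

/-- `x` is fixed by `g` with eigenvalue `a`. -/
def Eig (g : SpecialLinearGroup (Fin 2) K) (v : Fin 2 → K) (a : K) : Prop :=
  (g : Matrix (Fin 2) (Fin 2) K) *ᵥ v = a • v

theorem smul_eq_iff (g : SpecialLinearGroup (Fin 2) K) {v : Fin 2 → K} (hv : v ≠ 0) :
    g • mk K v hv = mk K v hv ↔ ∃ a : K, Eig g v a := by
  show mk K ((g : Matrix (Fin 2) (Fin 2) K) *ᵥ v) _ = mk K v hv ↔ _
  exact (mk_eq_mk_iff' K _ _ _ _).trans ⟨fun ⟨a, ha⟩ => ⟨a, ha.symm⟩, fun ⟨a, ha⟩ => ⟨a, ha.symm⟩⟩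

theorem eig_quadratic {g : SpecialLinearGroup (Fin 2) K} {v : Fin 2 → K} (hv : v ≠ 0) {a : K}
    (h : Eig g v a) : a * a - (g : Matrix (Fin 2) (Fin 2) K).trace * a + 1 = 0 := by
  have hq := congrArg (fun M : Matrix (Fin 2) (Fin 2) K => M *ᵥ v) (SL2Orders.sq_eq g)
  simp only [add_mulVec, sub_mulVec, zero_mulVec, one_mulVec, pow_two, ← mulVec_mulVec, smul_mulVec] at hq
  unfold Eig at h
  rw [h, mulVec_smul, h, smul_smul, smul_smul] at hq
  have hq' : (a * a - (g : Matrix (Fin 2) (Fin 2) K).trace * a + 1) • v = 0 := by rw [add_smul, sub_smul, one_smul]; exact hq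
  exact (smul_eq_zero.1 hq').resolve_right hv

theorem eig_det {g : SpecialLinearGroup (Fin 2) K} {v : Fin 2 → K} (hv : v ≠ 0) {a : K}
    (h : Eig g v a) : a * ((g : Matrix (Fin 2) (Fin 2) K).trace - a) = 1 := by linear_combination -eig_quadratic hv h

theorem exists_eig [IsAlgClosed K] (g : SpecialLinearGroup (Fin 2) K) {a : K}
    (ha : a * a - (g : Matrix (Fin 2) (Fin 2) K).trace * a + 1 = 0) : ∃ v, v ≠ 0 ∧ Eig g v a := by
  have hdet := g.det_coe
  rw [det_fin_two] at hdet
  have h0 : ((g : Matrix (Fin 2) (Fin 2) K) - a • (1 : Matrix (Fin 2) (Fin 2) K)).det = 0 := by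
    rw [trace_fin_two] at ha
    simp [det_fin_two]
    linear_combination ha + hdet
  obtain ⟨v, hv, h⟩ := exists_mulVec_eq_zero_iff.2 h0
  exact ⟨v, hv, by rwa [sub_mulVec, smul_mulVec, one_mulVec, sub_eq_zero] at h⟩

/-- An eigenspace of a non-scalar element is a line. -/
theorem eig_unique {g : SpecialLinearGroup (Fin 2) K} {v w : Fin 2 → K} (hv : v ≠ 0) (hw : w ≠ 0) {a : K}
    (h₁ : Eig g v a) (h₂ : Eig g w a) (hg : (g : Matrix (Fin 2) (Fin 2) K) ≠ a • (1 : Matrix (Fin 2) (Fin 2) K)) :
    mk K v hv = mk K w hw := by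
  rw [mk_eq_mk_iff']
  set M := (g : Matrix (Fin 2) (Fin 2) K) - a • (1 : Matrix (Fin 2) (Fin 2) K) with hM
  have hMv : M *ᵥ v = 0 := by rw [hM, sub_mulVec, smul_mulVec, one_mulVec, h₁, sub_self]
  have hMw : M *ᵥ w = 0 := by rw [hM, sub_mulVec, smul_mulVec, one_mulVec, h₂, sub_self]
  obtain ⟨i, j, hij⟩ : ∃ i j, M i j ≠ 0 := by
    by_contra hcon
    push Not at hcon
    exact hg (sub_eq_zero.1 (Matrix.ext hcon))
  have e₁ := congrFun hMv i
  have e₂ := congrFun hMw i
  simp only [mulVec, dotProduct, Fin.sum_univ_two, Pi.zero_apply] at e₁ e₂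
  have hdet : v 0 * w 1 = v 1 * w 0 := by
    fin_cases j
    all_goals simp only [Fin.zero_eta, Fin.mk_one, Fin.isValue] at hij ⊢
    · have : M i 0 * (v 0 * w 1 - v 1 * w 0) = 0 := by linear_combination w 1 * e₁ - v 1 * e₂
      exact sub_eq_zero.1 ((mul_eq_zero.1 this).resolve_left hij)
    · have : M i 1 * (v 1 * w 0 - v 0 * w 1) = 0 := by linear_combination w 0 * e₁ - v 0 * e₂
      exact (sub_eq_zero.1 ((mul_eq_zero.1 this).resolve_left hij)).symm
  by_cases h0 : w 0 = 0
  · have h1 : w 1 ≠ 0 := fun h1 => hw (by ext k; fin_cases k <;> assumption)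
    have hv0 : v 0 = 0 := by
      rw [h0, mul_zero] at hdet
      exact (mul_eq_zero.1 hdet).resolve_right h1
    refine ⟨v 1 / w 1, ?_⟩
    ext k
    fin_cases k
    · simp [h0, hv0]
    · simp [div_mul_cancel₀ _ h1]
  · refine ⟨v 0 / w 0, ?_⟩
    ext k
    fin_cases k
    · simp [div_mul_cancel₀ _ h0]
    · simp only [Pi.smul_apply, smul_eq_mul, Fin.mk_one, Fin.isValue]
      field_simp
      linear_combination hdet

theorem map_mulVec_mul (g h : SpecialLinearGroup (Fin 2) K) (v : Fin 2 → K) :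
    ((g * h : SpecialLinearGroup (Fin 2) K) : Matrix (Fin 2) (Fin 2) K) *ᵥ v =
      (g : Matrix (Fin 2) (Fin 2) K) *ᵥ ((h : Matrix (Fin 2) (Fin 2) K) *ᵥ v) := by
  exact (mulVec_mulVec v _ _).symm

theorem map_mulVec_one (v : Fin 2 → K) :
    ((1 : SpecialLinearGroup (Fin 2) K) : Matrix (Fin 2) (Fin 2) K) *ᵥ v = v := by
  exact one_mulVec v

variable {S : Subgroup (SpecialLinearGroup (Fin 2) K)} [Finite S] (hS : Odd (Nat.card S))
  {p : ℕ} [hp : Fact p.Prime] [CharP K p] (hp2 : p ≠ 2)

include hS hp2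

theorem not_scalar {g : S} (hg : g ≠ 1) (a : K) : ((g.1 : SpecialLinearGroup (Fin 2) K) : Matrix (Fin 2) (Fin 2) K) ≠ a • (1 : Matrix (Fin 2) (Fin 2) K) := by
  intro h
  have hdet := g.1.det_coe
  rw [h, det_smul, det_one, Fintype.card_fin, mul_one] at hdet
  have hsq : g ^ 2 = 1 := by
    apply Subtype.ext
    rw [SubmonoidClass.coe_pow, OneMemClass.coe_one]
    apply Subtype.ext
    show ((g.1 : SpecialLinearGroup (Fin 2) K) : Matrix (Fin 2) (Fin 2) K) ^ 2 = (1 : Matrix (Fin 2) (Fin 2) K)
    rw [h, smul_pow, one_pow, hdet, one_smul]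
  refine hg (orderOf_eq_one_iff.1 ?_)
  exact Nat.eq_one_of_dvd_coprimes ((Nat.coprime_two_right).2 hS) (orderOf_dvd_natCard g)
    (orderOf_dvd_of_pow_eq_one hsq)

/-- Exponent of unipotence: eigenvalue `1` forces order dividing `p`; `-1` does not occur. -/
theorem pow_p_of_eig {g : S} {v : Fin 2 → K} (hv : v ≠ 0) {a : K} (h : Eig g.1 v a) :
    (a = 1 → g ^ p = 1) ∧ (g ^ p = 1 → a = 1) ∧ a ≠ -1 := by
  have hpow : ∀ n : ℕ, Eig (g.1 ^ n) v (a ^ n) := by
    intro n
    induction n with
    | zero => simp [Eig]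
    | succ n ih =>
      unfold Eig at h ih ⊢
      rw [pow_succ, map_mulVec_mul, h, mulVec_smul, ih, smul_smul, pow_succ']
  refine ⟨fun ha => ?_, fun hg => ?_, fun ha => ?_⟩
  · apply Subtype.ext
    rw [SubmonoidClass.coe_pow, OneMemClass.coe_one]
    exact SL2Orders.pow_char_of_fixed p g.1 v hv (by unfold Eig at h; rw [h, ha, one_smul])
  · have h1 : Eig (1 : SpecialLinearGroup (Fin 2) K) v (a ^ p) := by
      have := hpow p
      rwa [← SubmonoidClass.coe_pow, hg] at this
    unfold Eig at h1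
    rw [map_mulVec_one] at h1
    have : (a ^ p - 1) • v = 0 := by rw [sub_smul, one_smul, ← h1, sub_self]
    have hap := sub_eq_zero.1 ((smul_eq_zero.1 this).resolve_right hv)
    haveI : ExpChar K p := ExpChar.prime hp.out
    exact frobenius_inj K p (by simpa [frobenius_def] using hap)
  · have h1 : Eig (1 : SpecialLinearGroup (Fin 2) K) v (a ^ Nat.card S) := by
      have := hpow (Nat.card S)
      rwa [← SubmonoidClass.coe_pow, pow_card_eq_one'] at this
    unfold Eig at h1
    rw [map_mulVec_one, ha, hS.neg_one_pow] at h1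
    have h2 : ((-1 : K) - 1) • v = 0 := by rw [sub_smul, one_smul, ← h1, sub_self]
    have h3 := (smul_eq_zero.1 h2).resolve_right hv
    have : ((2 : ℕ) : K) = 0 := by push_cast; linear_combination -h3
    rw [CharP.cast_eq_zero_iff K p] at this
    exact hp2 ((Nat.prime_dvd_prime_iff_eq hp.out Nat.prime_two).1 this)

/-- A nonidentity element of `p`-power order fixes exactly one point, others exactly two. -/
theorem card_fixed [IsAlgClosed K] {g : S} (hg : g ≠ 1) :
    (g ^ p = 1 → ∃ x, MulAction.fixedBy (ℙ K (Fin 2 → K)) g = {x}) ∧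
      (g ^ p ≠ 1 → ∃ x y, x ≠ y ∧ MulAction.fixedBy (ℙ K (Fin 2 → K)) g = {x, y}) := by
  set t := ((g.1 : SpecialLinearGroup (Fin 2) K) : Matrix (Fin 2) (Fin 2) K).trace with ht
  obtain ⟨a, ha⟩ : ∃ a : K, a * a - t * a + 1 = 0 := by
    obtain ⟨a, ha⟩ := IsAlgClosed.exists_root
      (Polynomial.X ^ 2 - Polynomial.C t * Polynomial.X + 1 : Polynomial K) (by
        rw [Polynomial.degree_eq_natDegree (fun h => by simpa using congrArg (Polynomial.eval 0) h)]
        have : (Polynomial.X ^ 2 - Polynomial.C t * Polynomial.X + 1 : Polynomial K).natDegree = 2 := by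
          compute_degree!
        rw [this]; norm_num)
    exact ⟨a, by simpa [pow_two] using ha⟩
  obtain ⟨v, hv, hva⟩ := exists_eig g.1 ha
  have ha0 : a ≠ 0 := by rintro rfl; simp at ha
  have hroots : ∀ b : K, b * b - t * b + 1 = 0 → b = a ∨ b = a⁻¹ := by
    intro b hb
    have : (b - a) * (b * a - 1) = 0 := by linear_combination a * hb - b * ha
    rcases mul_eq_zero.1 this with h | h
    · exact Or.inl (sub_eq_zero.1 h)
    · exact Or.inr (eq_inv_of_mul_eq_one_left (sub_eq_zero.1 h))
  have hb : a⁻¹ * a⁻¹ - t * a⁻¹ + 1 = 0 := by field_simp; linear_combination ha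
  obtain ⟨w, hw, hwb⟩ := exists_eig g.1 hb
  have hsub : ∀ x, g • x = x → x = mk K v hv ∨ x = mk K w hw := by
    intro x
    induction x using Projectivization.ind with | _ u hu =>
    intro hx
    obtain ⟨b, hb'⟩ := (smul_eq_iff g.1 hu).1 hx
    rcases hroots b (eig_quadratic hu hb') with rfl | rfl
    · exact Or.inl (eig_unique hu hv hb' hva (not_scalar hS hp2 hg _))
    · exact Or.inr (eig_unique hu hw hb' hwb (not_scalar hS hp2 hg _))
  have hfix : MulAction.fixedBy (ℙ K (Fin 2 → K)) g = {mk K v hv, mk K w hw} := by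
    ext x
    refine ⟨fun hx => hsub x hx, ?_⟩
    rintro (rfl | rfl)
    · exact (smul_eq_iff g.1 hv).2 ⟨a, hva⟩
    · exact (smul_eq_iff g.1 hw).2 ⟨a⁻¹, hwb⟩
  refine ⟨fun hgp => ⟨mk K v hv, ?_⟩, fun hgp => ⟨_, _, ?_, hfix⟩⟩
  · have h1 := (pow_p_of_eig hS hp2 hv hva).2.1 hgp
    have h2 := (pow_p_of_eig hS hp2 hw hwb).2.1 hgp
    rw [hfix, eig_unique hw hv (a := 1) (h2 ▸ hwb) (h1 ▸ hva) (not_scalar hS hp2 hg _)]
    simp
  · intro h
    obtain ⟨c, hc⟩ := (mk_eq_mk_iff' K v w hv hw).1 h
    have hvb : Eig g.1 v a⁻¹ := by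
      unfold Eig at hwb ⊢
      rw [← hc, mulVec_smul, hwb, smul_comm]
    unfold Eig at hva hvb
    have h0 : (a - a⁻¹) • v = 0 := by rw [sub_smul, ← hva, ← hvb, sub_self]
    have h1 := sub_eq_zero.1 ((smul_eq_zero.1 h0).resolve_right hv)
    have h2 : (a - 1) * (a + 1) = 0 := by
      field_simp at h1
      linear_combination h1
    rcases mul_eq_zero.1 h2 with h3 | h3
    · exact hgp ((pow_p_of_eig hS hp2 hv (a := a) hva).1 (sub_eq_zero.1 h3))
    · exact (pow_p_of_eig hS hp2 hv (a := a) hva).2.2 (eq_neg_of_add_eq_zero_left h3)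

/-- Orbit counting of the pairs (nonidentity element, fixed point). -/
theorem orbit_count [IsAlgClosed K] (T : Finset (ℙ K (Fin 2 → K))) :
    ∑ x ∈ T, (Nat.card (MulAction.stabilizer S x) - 1) +
      Nat.card {g : S // g ≠ 1 ∧ g ^ p = 1} ≤ 2 * (Nat.card S - 1) ∧
    ((∀ g : S, g ≠ 1 → ∀ x : ℙ K (Fin 2 → K), g • x = x → x ∈ T) →
      ∑ x ∈ T, (Nat.card (MulAction.stabilizer S x) - 1) +
        Nat.card {g : S // g ≠ 1 ∧ g ^ p = 1} = 2 * (Nat.card S - 1)) := by
  classical
  haveI := Fintype.ofFinite S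
  have e1 : ∀ x : ℙ K (Fin 2 → K), Nat.card (MulAction.stabilizer S x) - 1 =
      ((Finset.univ : Finset S).filter fun g => g ≠ 1 ∧ g • x = x).card := by
    intro x
    have : ((Finset.univ : Finset S).filter fun g => g ≠ 1 ∧ g • x = x) =
        ((Finset.univ : Finset S).filter fun g => g • x = x).erase 1 := by
      ext g; simp
    rw [this, Finset.card_erase_of_mem (by simp), Nat.card_eq_fintype_card, ← Fintype.card_subtype]
    congr 1
  have e2 : 2 * (Nat.card S - 1) = ∑ g : S, if g ≠ 1 then 2 else 0 := by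
    rw [← Finset.sum_filter, Finset.sum_const, Finset.filter_ne', Finset.card_erase_of_mem (by simp),
      Finset.card_univ, Nat.card_eq_fintype_card, smul_eq_mul, mul_comm]
  have key : ∀ g : S,
      ((∑ x ∈ T, if g ≠ 1 ∧ g • x = x then 1 else 0) + if g ≠ 1 ∧ g ^ p = 1 then 1 else 0) ≤
        (if g ≠ 1 then 2 else 0) ∧
      ((∀ x : ℙ K (Fin 2 → K), g ≠ 1 → g • x = x → x ∈ T) →
        ((∑ x ∈ T, if g ≠ 1 ∧ g • x = x then 1 else 0) + if g ≠ 1 ∧ g ^ p = 1 then 1 else 0) =
          (if g ≠ 1 then 2 else 0)) := by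
    intro g
    by_cases hg : g = 1
    · simp [hg]
    simp only [ne_eq, hg, not_false_eq_true, true_and, if_true]
    rw [← Finset.card_filter]
    by_cases hgp : g ^ p = 1
    · obtain ⟨x, hx⟩ := (card_fixed hS hp2 hg).1 hgp
      have hsub : (T.filter fun y => g • y = y) ⊆ {x} := fun y hy => Finset.mem_singleton.2
        (Set.eq_of_mem_singleton (hx.le (Finset.mem_filter.1 hy).2))
      have := (Finset.card_le_card hsub).trans (Finset.card_singleton x).le
      simp only [hgp, if_true]
      refine ⟨by omega, fun hall => ?_⟩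
      have hxg : g • x = x := hx.ge rfl
      have : (T.filter fun y => g • y = y) = {x} :=
        Finset.Subset.antisymm hsub (Finset.singleton_subset_iff.2 (Finset.mem_filter.2 ⟨hall x trivial hxg, hxg⟩))
      rw [this, Finset.card_singleton]
    · obtain ⟨x, z, hxz, hx⟩ := (card_fixed hS hp2 hg).2 hgp
      have hsub : (T.filter fun y => g • y = y) ⊆ {x, z} := fun y hy => by
        have : y ∈ ({x, z} : Set _) := hx.le (Finset.mem_filter.1 hy).2
        simpa using this
      have := (Finset.card_le_card hsub).trans Finset.card_le_two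
      simp only [hgp, if_false]
      refine ⟨by omega, fun hall => ?_⟩
      have hxg : g • x = x := hx.ge (Or.inl rfl)
      have hzg : g • z = z := hx.ge (Or.inr rfl)
      have : (T.filter fun y => g • y = y) = {x, z} := by
        refine Finset.Subset.antisymm hsub ?_
        rw [Finset.insert_subset_iff, Finset.singleton_subset_iff]
        exact ⟨Finset.mem_filter.2 ⟨hall x trivial hxg, hxg⟩, Finset.mem_filter.2 ⟨hall z trivial hzg, hzg⟩⟩
      rw [this, Finset.card_pair hxz]
  simp_rw [e1, Finset.card_filter]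
  rw [Finset.sum_comm, Nat.card_eq_fintype_card (α := {g : S // g ≠ 1 ∧ g ^ p = 1}), Fintype.card_subtype,
    Finset.card_filter, ← Finset.sum_add_distrib, e2]
  exact ⟨Finset.sum_le_sum fun g _ => (key g).1,
    fun hall => Finset.sum_congr rfl fun g _ => (key g).2 fun x hg hx => hall g hg x hx⟩

/-- An odd order subgroup of `SL(2, K)` of order divisible by the characteristic fixes a point. -/
theorem exists_fixed_point [IsAlgClosed K] (hdvd : p ∣ Nat.card S) :
    ∃ x : ℙ K (Fin 2 → K), ∀ g : S, g • x = x := by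
  classical
  haveI := Fintype.ofFinite S
  obtain ⟨P⟩ : Nonempty (Sylow p S) := inferInstance
  have hP1 : (P : Subgroup S) ≠ ⊥ := P.ne_bot_of_dvd_card hdvd
  haveI := (Subgroup.nontrivial_iff_ne_bot _).2 hP1
  obtain ⟨⟨z, hz⟩, hz1⟩ := @exists_ne _ (P.isPGroup'.center_nontrivial) (1 : Subgroup.center (P : Subgroup S))
  have hz1' : (z : S) ≠ 1 := fun h => hz1 (Subtype.ext (Subtype.ext h))
  -- elements of `p`-power order have order `p`
  have hpexp : ∀ g : S, ∀ k : ℕ, g ^ (p ^ k) = 1 → g ^ p = 1 := by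
    intro g k hk
    by_contra hgp
    have hg1 : g ≠ 1 := fun h => hgp (by rw [h, one_pow])
    obtain ⟨v, w, -, hfix⟩ := (card_fixed hS hp2 hg1).2 hgp
    induction v using Projectivization.ind with | _ u hu =>
    have hv : g • mk K u hu = mk K u hu := (hfix.ge (Or.inl rfl) : _)
    obtain ⟨a, ha⟩ := (smul_eq_iff g.1 hu).1 hv
    have hpow : ∀ n : ℕ, Eig (g.1 ^ n) u (a ^ n) := by
      intro n
      induction n with
      | zero => exact (map_mulVec_one u).trans (by rw [pow_zero, one_smul])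
      | succ n ih =>
        unfold Eig at ha ih ⊢
        rw [pow_succ, map_mulVec_mul, ha, mulVec_smul, ih, smul_smul, pow_succ']
    have h1 : Eig (1 : SpecialLinearGroup (Fin 2) K) u (a ^ p ^ k) := by
      have := hpow (p ^ k)
      rwa [← SubmonoidClass.coe_pow, hk] at this
    unfold Eig at h1
    rw [map_mulVec_one] at h1
    have h2 : (a ^ p ^ k - 1) • u = 0 := by rw [sub_smul, one_smul, ← h1, sub_self]
    have h3 := sub_eq_zero.1 ((smul_eq_zero.1 h2).resolve_right hu)
    haveI : ExpChar K p := ExpChar.prime hp.out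
    exact hgp ((pow_p_of_eig hS hp2 hu (a := a) ha).1
      (iterateFrobenius_inj K p k (by simpa [iterateFrobenius_def] using h3)))
  have hPp : ∀ g ∈ (P : Subgroup S), g ^ p = 1 := fun g hg => by
    obtain ⟨k, hk⟩ := P.isPGroup' ⟨g, hg⟩
    exact hpexp g k (congrArg Subtype.val hk)
  obtain ⟨L, hL⟩ := (card_fixed hS hp2 hz1').1 (hPp _ z.2)
  have hPN : (P : Subgroup S) ≤ MulAction.stabilizer S L := by
    intro g hg
    have hzL : (z : S) • L = L := (hL.ge rfl : _)
    have hc : g * (z : S) = (z : S) * g :=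
      congrArg Subtype.val (Subgroup.mem_center_iff.1 hz ⟨g, hg⟩)
    have : g • L ∈ MulAction.fixedBy (ℙ K (Fin 2 → K)) (z : S) := by
      show (z : S) • g • L = g • L
      rw [smul_smul, ← hc, mul_smul, hzL]
    rw [hL] at this
    exact this
  -- the eigenvalue character
  obtain ⟨v, hv, rfl⟩ : ∃ v, ∃ hv : v ≠ 0, mk K v hv = L := ⟨L.rep, L.rep_nonzero, L.mk_rep⟩
  set N := MulAction.stabilizer S (mk K v hv) with hN
  have hex : ∀ g : N, ∃ a : K, Eig g.1.1 v a := fun g => (smul_eq_iff g.1.1 hv).1 g.2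
  choose χ hχ using hex
  have hinj : ∀ {a b : K}, a • v = b • v → a = b := fun {a b} h => by
    have : (a - b) • v = 0 := by rw [sub_smul, h, sub_self]
    exact sub_eq_zero.1 ((smul_eq_zero.1 this).resolve_right hv)
  let φ₀ : N →* K :=
    { toFun := χ
      map_one' := hinj ((hχ 1).symm.trans ((map_mulVec_one v).trans (one_smul K v).symm))
      map_mul' := fun g h => by
        refine hinj ((hχ (g * h)).symm.trans ?_)
        have eg := hχ g
        have eh := hχ h
        unfold Eig at eg eh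
        rw [show ((g * h : N) : S).1 = g.1.1 * h.1.1 from rfl, map_mulVec_mul, eh, mulVec_smul, eg,
          smul_smul, mul_comm] }
  let φ : N →* Kˣ := φ₀.toHomUnits
  have hφ : ∀ g, ((φ g : Kˣ) : K) = χ g := fun _ => rfl
  set U : Subgroup N := φ.ker with hU
  have hUp : ∀ g : N, g ∈ U ↔ g.1 ^ p = 1 := fun g =>
    ⟨fun h => (pow_p_of_eig hS hp2 hv (hχ g)).1 (congrArg Units.val (MonoidHom.mem_ker.1 h)),
      fun h => MonoidHom.mem_ker.2 (Units.ext ((pow_p_of_eig hS hp2 hv (hχ g)).2.1 h))⟩
  have hUc : Nat.card U = Nat.card (P : Subgroup S) := by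
    have hle : (P : Subgroup S) ≤ U.map N.subtype := fun g hg =>
      ⟨⟨g, hPN hg⟩, (hUp _).2 (hPp g hg), rfl⟩
    have hUP : IsPGroup p (U.map N.subtype : Subgroup S) := by
      rintro ⟨_, ⟨g, hg, rfl⟩⟩
      exact ⟨1, Subtype.ext (by simpa using (hUp g).1 hg)⟩
    rw [← P.3 hUP hle, Subgroup.card_map_of_injective N.subtype_injective]
  set u := Nat.card U with hu
  set c := Nat.card φ.range with hc
  set n := Nat.card (MulAction.orbit S (mk K v hv)) with hn
  have hNuc : Nat.card N = u * c := by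
    rw [hu, hc, Nat.mul_comm, ← Nat.card_congr (QuotientGroup.quotientKerEquivRange φ).toEquiv,
      ← Subgroup.card_eq_card_quotient_mul_card_subgroup]
  have hgn : n * (u * c) = Nat.card S := by
    rw [← hNuc, hn, Nat.card_congr (MulAction.orbitEquivQuotientStabilizer S (mk K v hv)),
      ← Subgroup.card_eq_card_quotient_mul_card_subgroup]
  have hodd : ∀ d, d ∣ Nat.card S → Odd d := fun d hd => hS.of_dvd_nat hd
  have hpu : p ∣ u := by
    rw [hUc]
    exact (P.isPGroup'.card_eq_or_dvd.resolve_left fun h => hP1 (Subgroup.card_eq_one.1 h))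
  have hu3 : 3 ≤ u := le_trans (by have := hp.out.two_le; omega) (Nat.le_of_dvd Nat.card_pos hpu)
  -- counting the unipotent elements
  haveI : Finite (MulAction.orbit S (mk K v hv)) :=
    Finite.of_equiv _ (MulAction.orbitEquivQuotientStabilizer S (mk K v hv)).symm
  haveI := Fintype.ofFinite (MulAction.orbit S (mk K v hv))
  have hnU : Nat.card {g : S // g ≠ 1 ∧ g ^ p = 1} = n * (u - 1) := by
    have h1 : ∀ x : MulAction.orbit S (mk K v hv),
        ((Finset.univ : Finset S).filter fun g => g ≠ 1 ∧ g ^ p = 1 ∧ g • (x : ℙ K (Fin 2 → K)) = x).card = u - 1 := by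
      intro x
      obtain ⟨s, hs⟩ := x.2
      have : u - 1 = ((Finset.univ : Finset U).erase 1).card := by
        rw [Finset.card_erase_of_mem (by simp), Finset.card_univ, hu, Nat.card_eq_fintype_card]
      rw [this]
      refine (Finset.card_bij (fun g _ => s * g.1.1 * s⁻¹) (fun g hg => ?_)
        (fun a _ b _ hab => Subtype.ext (Subtype.ext (mul_left_cancel (mul_right_cancel hab))))
        fun g hg => ?_).symm
      · simp only [Finset.mem_erase, Finset.mem_univ, and_true] at hg
        refine Finset.mem_filter.2 ⟨Finset.mem_univ _, ?_, ?_, ?_⟩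
        · intro h
          rw [mul_inv_eq_one] at h
          exact hg (Subtype.ext (Subtype.ext (by simpa using h)))
        · rw [conj_pow, (hUp g.1).1 g.2, mul_one, mul_inv_cancel]
        · rw [← hs]
          simp only [smul_smul, inv_mul_cancel_right]
          rw [mul_smul, (g.1.2 : g.1.1 • mk K v hv = mk K v hv)]
      · obtain ⟨-, hg1, hgp, hgx⟩ := Finset.mem_filter.1 hg
        have hgN : s⁻¹ * g * s ∈ N := by
          show (s⁻¹ * g * s) • mk K v hv = mk K v hv
          simp only at hs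
          rw [mul_smul, mul_smul, hs, hgx, ← hs, inv_smul_smul]
        have hgU : (⟨_, hgN⟩ : N) ∈ U := (hUp _).2 (by
          show (s⁻¹ * g * s) ^ p = 1
          rw [show s⁻¹ * g * s = s⁻¹ * g * (s⁻¹)⁻¹ by rw [inv_inv], conj_pow, hgp, mul_one, mul_inv_cancel])
        refine ⟨⟨_, hgU⟩, ?_, by simp [mul_assoc]⟩
        simp only [Finset.mem_erase, Finset.mem_univ, and_true]
        intro h
        have h' : s⁻¹ * g * s = 1 := congrArg (fun t : U => t.1.1) h
        refine hg1 ?_
        have := congrArg (fun t => s * t * s⁻¹) h'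
        simpa [mul_assoc] using this
    have hdisj : ∀ x ∈ (Finset.univ : Finset (MulAction.orbit S (mk K v hv))), ∀ y ∈ Finset.univ, x ≠ y →
        Disjoint ((Finset.univ : Finset S).filter fun g => g ≠ 1 ∧ g ^ p = 1 ∧ g • (x : ℙ K (Fin 2 → K)) = x)
          ((Finset.univ : Finset S).filter fun g => g ≠ 1 ∧ g ^ p = 1 ∧ g • (y : ℙ K (Fin 2 → K)) = y) := by
      intro x _ y _ hxy
      rw [Finset.disjoint_left]
      intro g hgx hgy
      obtain ⟨-, hg1, hgp, hx⟩ := Finset.mem_filter.1 hgx
      obtain ⟨-, -, -, hy⟩ := Finset.mem_filter.1 hgy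
      obtain ⟨w, hw⟩ := (card_fixed hS hp2 hg1).1 hgp
      have ex : (x : ℙ K (Fin 2 → K)) = w := (hw.le hx : _)
      have ey : (y : ℙ K (Fin 2 → K)) = w := (hw.le hy : _)
      exact hxy (Subtype.ext (ex.trans ey.symm))
    calc Nat.card {g : S // g ≠ 1 ∧ g ^ p = 1}
        = (Finset.univ.biUnion fun x : MulAction.orbit S (mk K v hv) =>
          (Finset.univ : Finset S).filter fun g => g ≠ 1 ∧ g ^ p = 1 ∧ g • (x : ℙ K (Fin 2 → K)) = x).card := by
          rw [Nat.card_eq_fintype_card, Fintype.card_subtype]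
          congr 1
          ext g
          simp only [Finset.mem_filter, Finset.mem_univ, true_and, Finset.mem_biUnion]
          refine ⟨fun ⟨hg1, hgp⟩ => ?_, fun ⟨x, h1, h2, _⟩ => ⟨h1, h2⟩⟩
          have hz : IsPGroup p (Subgroup.zpowers g) := by
            rw [IsPGroup.iff_card]
            exact ⟨1, by rw [Nat.card_zpowers, pow_one, orderOf_eq_prime hgp hg1]⟩
          obtain ⟨Q, hQ⟩ := hz.exists_le_sylow
          obtain ⟨s, hs⟩ := MulAction.exists_smul_eq S P Q
          have hgQ : g ∈ ((s • P : Sylow p S) : Subgroup S) := hs ▸ hQ (Subgroup.mem_zpowers g)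
          obtain ⟨w, hw, hwg⟩ := hgQ
          refine ⟨⟨s • mk K v hv, MulAction.mem_orbit _ _⟩, hg1, hgp, ?_⟩
          have hwg' : s * w * s⁻¹ = g := hwg
          show g • s • mk K v hv = s • mk K v hv
          rw [← hwg', smul_smul, inv_mul_cancel_right, mul_smul, (hPN hw : w • mk K v hv = mk K v hv)]
      _ = ∑ x : MulAction.orbit S (mk K v hv),
          ((Finset.univ : Finset S).filter fun g => g ≠ 1 ∧ g ^ p = 1 ∧ g • (x : ℙ K (Fin 2 → K)) = x).card :=
        Finset.card_biUnion hdisj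
      _ = _ := by
        rw [Finset.sum_congr rfl fun x _ => h1 x, Finset.sum_const, Finset.card_univ, hn,
          Nat.card_eq_fintype_card, smul_eq_mul]
  -- orbit sums
  have hsum : ∀ (x : ℙ K (Fin 2 → K)) [Fintype (MulAction.orbit S x)],
      ∑ y ∈ (MulAction.orbit S x).toFinset, (Nat.card (MulAction.stabilizer S y) - 1) =
        Nat.card (MulAction.orbit S x) * (Nat.card (MulAction.stabilizer S x) - 1) := by
    intro x _
    have hconst : ∀ y ∈ (MulAction.orbit S x).toFinset,
        Nat.card (MulAction.stabilizer S y) - 1 = Nat.card (MulAction.stabilizer S x) - 1 := by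
      intro y hy
      obtain ⟨s, rfl⟩ := Set.mem_toFinset.1 hy
      simp only
      rw [MulAction.stabilizer_smul_eq_stabilizer_map_conj,
        Subgroup.card_map_of_injective (MulEquiv.injective _)]
    rw [Finset.sum_const_nat hconst, Set.toFinset_card, Nat.card_eq_fintype_card (α := MulAction.orbit S x)]
  by_contra hcon
  push Not at hcon
  have hn1 : n ≠ 1 := by
    intro h1
    obtain ⟨g, hg⟩ := hcon (mk K v hv)
    have : Subsingleton (MulAction.orbit S (mk K v hv)) := Finite.card_le_one_iff_subsingleton.1 h1.le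
    exact hg (congrArg Subtype.val (this.elim ⟨g • mk K v hv, MulAction.mem_orbit _ _⟩
      ⟨mk K v hv, MulAction.mem_orbit_self _⟩))
  have hS0 : 0 < Nat.card S := Nat.card_pos
  have hN1 : Nat.card (MulAction.stabilizer S (mk K v hv)) = u * c := hNuc
  -- a second orbit, when there is one
  have horb : ∀ M, M ∉ MulAction.orbit S (mk K v hv) →
      n * (u * c - 1) + Nat.card (MulAction.orbit S M) * (Nat.card (MulAction.stabilizer S M) - 1) +
        n * (u - 1) ≤ 2 * (Nat.card S - 1) ∧
      Nat.card (MulAction.orbit S M) * Nat.card (MulAction.stabilizer S M) = Nat.card S := by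
    intro M hM
    haveI : Finite (MulAction.orbit S M) :=
      Finite.of_equiv _ (MulAction.orbitEquivQuotientStabilizer S M).symm
    haveI := Fintype.ofFinite (MulAction.orbit S M)
    have hb := (orbit_count hS hp2 (p := p) ((MulAction.orbit S (mk K v hv)).toFinset ∪ (MulAction.orbit S M).toFinset)).1
    rw [hnU, Finset.sum_union (by
      rw [Finset.disjoint_left]
      intro y hy hy'
      rw [Set.mem_toFinset] at hy hy'
      exact hM (MulAction.orbit_eq_iff.1 ((MulAction.orbit_eq_iff.2 hy').symm.trans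
        (MulAction.orbit_eq_iff.2 hy)))), hsum, hsum, hN1, ← hn] at hb
    refine ⟨hb, ?_⟩
    rw [Nat.card_congr (MulAction.orbitEquivQuotientStabilizer S M),
      ← Subgroup.card_eq_card_quotient_mul_card_subgroup]
  -- every fixed point outside the orbit has stabilizer of order at least three
  have hthree : ∀ M : ℙ K (Fin 2 → K), ∀ g : S, g ≠ 1 → g • M = M → 3 ≤ Nat.card (MulAction.stabilizer S M) := by
    intro M g hg hgM
    obtain ⟨k, hk⟩ := hodd _ (Subgroup.card_subgroup_dvd_card (MulAction.stabilizer S M))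
    have : Nat.card (MulAction.stabilizer S M) ≠ 1 := fun h => hg (by
      have := Subgroup.card_eq_one.1 h
      exact Subgroup.mem_bot.1 (this ▸ (hgM : g ∈ MulAction.stabilizer S M)))
    omega
  have hu1 : 1 ≤ u := by omega
  have hc1 : 1 ≤ c := Nat.card_pos
  by_cases hc' : c = 1
  · -- no torus in `N`
    rw [hc'] at hgn
    by_cases hM : ∃ g : S, g ≠ 1 ∧ ∃ M, g • M = M ∧ M ∉ MulAction.orbit S (mk K v hv)
    · obtain ⟨g, hg, M, hgM, hM⟩ := hM
      obtain ⟨h1, h2⟩ := horb M hM
      have h3 := hthree M g hg hgM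
      rw [hc', mul_one] at h1
      rw [mul_one] at hgn
      set o := Nat.card (MulAction.orbit S M) with ho
      set h' := Nat.card (MulAction.stabilizer S M) with hh'
      obtain ⟨H, hH⟩ : ∃ H, Nat.card S = H := ⟨_, rfl⟩
      rw [hH] at h1 h2 hgn hS0
      have k1 : n * (u - 1) + n = H := by
        rw [← Nat.mul_succ, Nat.succ_eq_add_one, Nat.sub_add_cancel hu1, hgn]
      have k2 : o * (h' - 1) + o = H := by
        rw [← Nat.mul_succ, Nat.succ_eq_add_one, Nat.sub_add_cancel (by omega : 1 ≤ h'), h2]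
      have k4 : 3 * o ≤ H := by rw [← h2, mul_comm 3]; exact Nat.mul_le_mul_left o h3
      have k6 : 3 * n ≤ H := by rw [← hgn, mul_comm 3]; exact Nat.mul_le_mul_left n hu3
      omega
    · push Not at hM
      refine hn1 ?_
      haveI := Fintype.ofFinite (MulAction.orbit S (mk K v hv))
      -- every nonidentity element is unipotent with fixed point in the orbit
      have hall : ∀ g : S, g ≠ 1 → g ^ p = 1 := by
        intro g hg
        obtain ⟨w, hw⟩ : ∃ w, g • w = w := by
          by_cases hgp : g ^ p = 1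
          · obtain ⟨x, hx⟩ := (card_fixed hS hp2 hg).1 hgp
            exact ⟨x, (hx.ge rfl : _)⟩
          · obtain ⟨x, y, -, hx⟩ := (card_fixed hS hp2 hg).2 hgp
            exact ⟨x, (hx.ge (Or.inl rfl) : _)⟩
        obtain ⟨s, rfl⟩ := hM g hg w hw
        have hgN : s⁻¹ * g * s ∈ N := by
          show (s⁻¹ * g * s) • mk K v hv = mk K v hv
          rw [mul_smul, mul_smul]
          simp only at hw
          rw [hw, inv_smul_smul]
        have hker : (⟨_, hgN⟩ : N) ∈ U := by
          rw [hU, MonoidHom.mem_ker]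
          have : Subsingleton φ.range := Finite.card_le_one_iff_subsingleton.1 (hc.symm.trans hc').le
          exact congrArg Subtype.val (this.elim ⟨_, MonoidHom.mem_range.2 ⟨_, rfl⟩⟩ 1)
        have h := (hUp _).1 hker
        simp only at h
        rw [show g = s * (s⁻¹ * g * s) * s⁻¹ by group, conj_pow, h, mul_one, mul_inv_cancel]
      have hg' : IsPGroup p S := fun g => ⟨1, by
        by_cases hg : g = 1
        · rw [hg, one_pow]
        · rw [pow_one]; exact hall g hg⟩
      have htop : (P : Subgroup S) = ⊤ := (P.3 (hg'.of_equiv Subgroup.topEquiv.symm) le_top).symm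
      have hcard : Nat.card S = u := by rw [hUc, htop, Subgroup.card_top]
      rw [hcard, mul_one] at hgn
      exact (Nat.mul_eq_right (by omega)).1 hgn
  · -- a torus in `N`
    have hcyc : IsCyclic φ.range := by
      haveI : Finite φ.range := Nat.finite_of_card_ne_zero (by rw [← hc]; omega)
      exact isCyclic_subgroup_units φ.range
    obtain ⟨⟨a, ha⟩, hgen⟩ := hcyc.exists_ofOrder_eq_natCard
    obtain ⟨g₀, hg₀⟩ := MonoidHom.mem_range.1 ha
    rw [← orderOf_injective φ.range.subtype Subtype.val_injective] at hgen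
    have hgen' : orderOf a = c := hgen
    have hcp : Nat.Coprime u c := by
      obtain ⟨k, hk⟩ := IsPGroup.iff_card.1 (show IsPGroup p U from fun g =>
        ⟨1, Subtype.ext (Subtype.ext (by simpa using (hUp g.1).1 g.2))⟩)
      rw [hu, hk]
      refine Nat.Coprime.pow_left k ((Nat.Prime.coprime_iff_not_dvd hp.out).2 fun hd => ?_)
      obtain ⟨m, hm⟩ := hd
      haveI : ExpChar K p := ExpChar.prime hp.out
      have : (a ^ m) ^ p = 1 := by rw [← pow_mul, mul_comm, ← hm, ← hgen', pow_orderOf_eq_one]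
      have this' : ((a ^ m : Kˣ) : K) ^ p = 1 := by rw [← Units.val_pow_eq_pow_val, this, Units.val_one]
      have h1 : a ^ m = 1 := Units.ext (frobenius_inj K p (by simpa [frobenius_def] using this'))
      have h2 := Nat.le_of_dvd (by
        rcases Nat.eq_zero_or_pos m with h0 | h0
        · rw [h0, mul_zero] at hm; omega
        · exact h0) (orderOf_dvd_of_pow_eq_one h1)
      rw [hgen', hm] at h2
      have := hp.out.two_le
      nlinarith [Nat.pos_of_ne_zero (fun h0 => by rw [h0, mul_zero] at hm; omega : m ≠ 0)]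
    set c₀ := g₀ ^ u with hc₀
    have hχ₀ : orderOf (φ c₀) = c := by
      rw [hc₀, map_pow, hg₀, Nat.Coprime.orderOf_pow (hgen' ▸ hcp.symm), hgen']
    have hc₀o : orderOf c₀ = c := by
      refine Nat.dvd_antisymm (orderOf_dvd_of_pow_eq_one ?_) (hχ₀ ▸ orderOf_map_dvd φ c₀)
      rw [hc₀, ← pow_mul, ← hNuc, pow_card_eq_one']
    have hc₀1 : c₀.1 ≠ 1 := fun h => hc' (by rw [← hc₀o, orderOf_eq_one_iff]; exact Subtype.ext h)
    have hc₀p : c₀.1 ^ p ≠ 1 := fun h => by
      have := MonoidHom.mem_ker.1 ((hUp c₀).2 h)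
      rw [this, orderOf_one] at hχ₀
      exact hc' hχ₀.symm
    obtain ⟨x, y, hxy, hfix⟩ := (card_fixed hS hp2 hc₀1).2 hc₀p
    have hLfix : mk K v hv ∈ ({x, y} : Set (ℙ K (Fin 2 → K))) := hfix ▸ (c₀.2 : _)
    obtain ⟨M, hML, hM⟩ : ∃ M, M ≠ mk K v hv ∧ c₀.1 • M = M := by
      rcases hLfix with h | h
      · exact ⟨y, fun e => hxy (h.symm.trans e.symm), (hfix.ge (Or.inr rfl) : _)⟩
      · exact ⟨x, fun e => hxy (e.trans (Set.mem_singleton_iff.1 h)), (hfix.ge (Or.inl rfl) : _)⟩
    -- `M` is not conjugate to the fixed point of `P`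
    have hMorb : M ∉ MulAction.orbit S (mk K v hv) := by
      rintro ⟨s, rfl⟩
      have hc₁ : s⁻¹ * c₀.1 * s ∈ N := by
        show (s⁻¹ * c₀.1 * s) • mk K v hv = mk K v hv
        rw [mul_smul, mul_smul]
        simp only at hM
        rw [hM, inv_smul_smul]
      set c₁ : N := ⟨_, hc₁⟩ with hc₁'
      -- the eigenvalue of `c₀` at `s • L` is `φ c₁`
      have hsv : ((s.1 : SpecialLinearGroup (Fin 2) K) : Matrix (Fin 2) (Fin 2) K) *ᵥ v ≠ 0 := by
        intro h0
        have := congrArg (fun w => ((s⁻¹.1 : SpecialLinearGroup (Fin 2) K) : Matrix (Fin 2) (Fin 2) K) *ᵥ w) h0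
        simp only [mulVec_zero] at this
        rw [← map_mulVec_mul, ← Subgroup.coe_mul, inv_mul_cancel, OneMemClass.coe_one, map_mulVec_one] at this
        exact hv this
      have he : Eig c₀.1.1 (((s.1 : SpecialLinearGroup (Fin 2) K) : Matrix (Fin 2) (Fin 2) K) *ᵥ v) (φ c₁ : K) := by
        have h := hχ c₁
        unfold Eig at h ⊢
        have hse : (c₀.1.1 * s.1 : SpecialLinearGroup (Fin 2) K) = s.1 * c₁.1.1 := by
          simp [hc₁', mul_assoc]
        rw [← map_mulVec_mul, hse, map_mulVec_mul, h, mulVec_smul]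
        rfl
      have hdetf : φ c₁ = (φ c₀)⁻¹ := by
        have h1 := eig_quadratic hsv he
        have h2 := eig_quadratic hv (hχ c₀)
        rw [← hφ] at h2
        have : ((φ c₁ : K) - φ c₀) * ((φ c₁ : K) * φ c₀ - 1) = 0 := by
          linear_combination (φ c₀ : K) * h1 - (φ c₁ : K) * h2
        rcases mul_eq_zero.1 this with h | h
        · exfalso
          refine hML ((smul_mk _ hv).trans ?_)
          exact eig_unique _ hv he (by rw [sub_eq_zero.1 h, hφ]; exact hχ c₀) (not_scalar hS hp2 hc₀1 _)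
        · exact eq_inv_of_mul_eq_one_left (Units.ext (by rw [Units.val_mul, Units.val_one]; exact sub_eq_zero.1 h))
      -- `U` conjugation is transitive on the coset
      have hker : c₁ * c₀ ∈ U := by
        rw [hU, MonoidHom.mem_ker, map_mul, hdetf, inv_mul_cancel]
      have hnorm : U.Normal := MonoidHom.normal_ker φ
      have hcomm : ∀ w ∈ U, w * c₀ = c₀ * w → w = 1 := by
        intro w hw hwc
        by_contra hw1
        obtain ⟨L', hL'⟩ := (card_fixed hS hp2 (fun e => hw1 (Subtype.ext e) : w.1 ≠ 1)).1 ((hUp w).1 hw)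
        have e1 : mk K v hv = L' := (hL'.le (w.2 : _) : _)
        have h2 : w.1 • s • mk K v hv ∈ ({x, y} : Set (ℙ K (Fin 2 → K))) := hfix ▸ (by
          show c₀.1 • w.1 • s • mk K v hv = w.1 • s • mk K v hv
          rw [smul_smul, ← Subgroup.coe_mul, ← hwc, Subgroup.coe_mul, mul_smul]
          exact congrArg (w.1 • ·) hM)
        have h3 : s • mk K v hv ∈ ({x, y} : Set (ℙ K (Fin 2 → K))) := hfix ▸ hM
        have h4 : w.1 • mk K v hv = mk K v hv := w.2
        have h5 : w.1 • s • mk K v hv ≠ mk K v hv := fun e =>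
          hML (MulAction.injective w.1 (e.trans h4.symm))
        have h6 : w.1 • s • mk K v hv = s • mk K v hv := by
          rcases hLfix with e | e <;> rcases h2 with g2 | g2 <;> rcases h3 with g3 | g3 <;>
            simp only [Set.mem_singleton_iff] at * <;>
            first | exact g2.trans g3.symm | exact absurd (g2.trans e.symm) h5 | exact absurd (g3.trans e.symm) hML
        exact hML (((hL'.le h6 : _) : s • mk K v hv = L').trans e1.symm)
      let ψ : U → U := fun w => ⟨w.1 * c₀⁻¹ * w.1⁻¹ * c₀, by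
        have : w.1 * c₀⁻¹ * w.1⁻¹ * c₀ = w.1 * (c₀⁻¹ * w.1⁻¹ * c₀) := by group
        rw [this]
        exact mul_mem w.2 (by simpa using hnorm.conj_mem _ (inv_mem w.2) c₀⁻¹)⟩
      have hψ : Function.Injective ψ := by
        intro a b hab
        have h := congrArg (fun t : U => (b.1⁻¹ * t.1 * c₀⁻¹ * b.1)) hab
        simp only [ψ] at h
        have h' : (b.1⁻¹ * a.1) * c₀⁻¹ = c₀⁻¹ * (b.1⁻¹ * a.1) := by
          have e := congrArg (· * (b.1⁻¹ * a.1)) (show (b.1⁻¹ * a.1) * c₀⁻¹ * (b.1⁻¹ * a.1)⁻¹ = c₀⁻¹ by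
            calc (b.1⁻¹ * a.1) * c₀⁻¹ * (b.1⁻¹ * a.1)⁻¹
                = b.1⁻¹ * (a.1 * c₀⁻¹ * a.1⁻¹ * c₀) * c₀⁻¹ * b.1 := by group
              _ = b.1⁻¹ * (b.1 * c₀⁻¹ * b.1⁻¹ * c₀) * c₀⁻¹ * b.1 := h
              _ = _ := by group)
          simpa [mul_assoc] using e
        have := hcomm _ (mul_mem (inv_mem b.2) a.2) ((Commute.inv_right_iff.1 h').eq)
        exact Subtype.ext (inv_mul_eq_one.1 this).symm
      obtain ⟨w, hw⟩ := (Finite.injective_iff_surjective.1 hψ) ⟨c₁ * c₀, hker⟩
      have hw' : w.1 * c₀⁻¹ * w.1⁻¹ = c₁ := by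
        have := congrArg Subtype.val hw
        simpa [ψ] using this
      -- so some element inverts `c₀`
      set t : S := s * w.1.1 with ht
      have hinv : t⁻¹ * c₀.1 * t = c₀.1⁻¹ := by
        have h := congrArg (fun g : N => w.1.1⁻¹ * g.1 * w.1.1) hw'
        simp only [Subgroup.coe_mul, Subgroup.coe_inv, hc₁'] at h
        rw [ht]
        calc (s * w.1.1)⁻¹ * c₀.1 * (s * w.1.1) = w.1.1⁻¹ * (s⁻¹ * c₀.1 * s) * w.1.1 := by group
          _ = w.1.1⁻¹ * (w.1.1 * c₀.1⁻¹ * w.1.1⁻¹) * w.1.1 := h.symm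
          _ = _ := by group
      have hinv2 : Commute (t ^ 2) c₀.1 := by
        have h' : t⁻¹ * c₀.1⁻¹ * t = c₀.1 := by
          have := congrArg (·⁻¹) hinv
          simpa [mul_assoc] using this
        have : (t ^ 2)⁻¹ * c₀.1 * t ^ 2 = c₀.1 := by
          calc (t ^ 2)⁻¹ * c₀.1 * t ^ 2 = t⁻¹ * (t⁻¹ * c₀.1 * t) * t := by rw [pow_two]; group
            _ = c₀.1 := by rw [hinv, h']
        show t ^ 2 * c₀.1 = c₀.1 * t ^ 2
        calc t ^ 2 * c₀.1 = t ^ 2 * ((t ^ 2)⁻¹ * c₀.1 * t ^ 2) := by rw [this]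
          _ = _ := by group
      obtain ⟨k, hk⟩ := hodd _ (orderOf_dvd_natCard t)
      have htc : Commute t c₀.1 := by
        have e : t = (t ^ 2) ^ (k + 1) := by
          rw [← pow_mul, show 2 * (k + 1) = orderOf t + 1 by omega, pow_add, pow_orderOf_eq_one, one_mul,
            pow_one]
        rw [e]
        exact hinv2.pow_left _
      have hsq : c₀.1 ^ 2 = 1 := by
        rw [pow_two]
        nth_rewrite 1 [show c₀.1 = t⁻¹ * c₀.1 * t by rw [mul_assoc, ← htc.eq]; group]
        rw [hinv, inv_mul_cancel]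
      exact hc₀1 (orderOf_eq_one_iff.1 (Nat.eq_one_of_dvd_coprimes ((Nat.coprime_two_right).2 hS)
        (orderOf_dvd_natCard _) (orderOf_dvd_of_pow_eq_one hsq)))
    have hcdvd : c ∣ Nat.card (MulAction.stabilizer S M) := by
      rw [← hc₀o, ← Subgroup.orderOf_coe]
      exact Subgroup.orderOf_dvd_natCard _ hM
    obtain ⟨m, hm⟩ := hcdvd
    obtain ⟨h1, h2⟩ := horb M hMorb
    have hm1 : m ≠ 0 := by rintro rfl; rw [mul_zero] at hm; exact Nat.card_pos.ne' hm
    have hmodd : Odd m := hodd m ((dvd_mul_left m c).trans (hm ▸ Subgroup.card_subgroup_dvd_card _))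
    have hc3 : 3 ≤ c := by
      obtain ⟨k, hk⟩ := hodd c ((dvd_mul_left c u).trans (hNuc ▸ Subgroup.card_subgroup_dvd_card _))
      omega
    set o := Nat.card (MulAction.orbit S M) with ho
    haveI : Finite (MulAction.orbit S M) :=
      Finite.of_equiv _ (MulAction.orbitEquivQuotientStabilizer S M).symm
    haveI := Fintype.ofFinite (MulAction.orbit S M)
    have hdis : Disjoint (MulAction.orbit S (mk K v hv)).toFinset (MulAction.orbit S M).toFinset := by
      rw [Finset.disjoint_left]
      intro y hy hy'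
      rw [Set.mem_toFinset] at hy hy'
      exact hMorb (MulAction.orbit_eq_iff.1 ((MulAction.orbit_eq_iff.2 hy').symm.trans
        (MulAction.orbit_eq_iff.2 hy)))
    -- no third orbit
    have hthird : ∀ g : S, g ≠ 1 → ∀ z : ℙ K (Fin 2 → K), g • z = z →
        z ∈ (MulAction.orbit S (mk K v hv)).toFinset ∪ (MulAction.orbit S M).toFinset := by
      intro g hg z hgz
      by_contra hz
      rw [Finset.mem_union, Set.mem_toFinset, Set.mem_toFinset, not_or] at hz
      haveI : Finite (MulAction.orbit S z) :=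
        Finite.of_equiv _ (MulAction.orbitEquivQuotientStabilizer S z).symm
      haveI := Fintype.ofFinite (MulAction.orbit S z)
      have hb := (orbit_count hS hp2 (p := p) ((MulAction.orbit S (mk K v hv)).toFinset ∪
        (MulAction.orbit S M).toFinset ∪ (MulAction.orbit S z).toFinset)).1
      rw [hnU, Finset.sum_union (by
        rw [Finset.disjoint_left]
        intro y hy hy'
        rw [Finset.mem_union, Set.mem_toFinset, Set.mem_toFinset] at hy
        rw [Set.mem_toFinset] at hy'
        rcases hy with hy | hy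
        · exact hz.1 (MulAction.orbit_eq_iff.1 ((MulAction.orbit_eq_iff.2 hy').symm.trans
            (MulAction.orbit_eq_iff.2 hy)))
        · exact hz.2 (MulAction.orbit_eq_iff.1 ((MulAction.orbit_eq_iff.2 hy').symm.trans
            (MulAction.orbit_eq_iff.2 hy)))), Finset.sum_union hdis, hsum, hsum, hsum, hN1, ← hn, ← ho, hm] at hb
      set o' := Nat.card (MulAction.orbit S z) with ho'
      have h2' : o' * Nat.card (MulAction.stabilizer S z) = Nat.card S := by
        rw [ho', Nat.card_congr (MulAction.orbitEquivQuotientStabilizer S z),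
          ← Subgroup.card_eq_card_quotient_mul_card_subgroup]
      have h3 := hthree z g hg hgz
      set h' := Nat.card (MulAction.stabilizer S z) with hh'
      rw [hm] at h2
      obtain ⟨H, hH⟩ : ∃ H, Nat.card S = H := ⟨_, rfl⟩
      rw [hH] at h2 h2' hgn hb hS0
      have hmc : 3 ≤ c * m := le_trans hc3 (Nat.le_mul_of_pos_right c (Nat.pos_of_ne_zero hm1))
      have k1 : n * (u * c - 1) + n = H := by
        rw [← Nat.mul_succ, Nat.succ_eq_add_one, Nat.sub_add_cancel (Nat.mul_pos hu1 hc1), hgn]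
      have k2 : o * (c * m - 1) + o = H := by
        rw [← Nat.mul_succ, Nat.succ_eq_add_one, Nat.sub_add_cancel (by omega : 1 ≤ c * m), h2]
      have k3 : o' * (h' - 1) + o' = H := by
        rw [← Nat.mul_succ, Nat.succ_eq_add_one, Nat.sub_add_cancel (by omega : 1 ≤ h'), h2']
      have k4 : 3 * o ≤ H := by rw [← h2, mul_comm 3]; exact Nat.mul_le_mul_left o hmc
      have k5 : 3 * o' ≤ H := by rw [← h2', mul_comm 3]; exact Nat.mul_le_mul_left o' h3
      have k6 : 3 * n ≤ H := by
        rw [← hgn, mul_comm 3]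
        exact Nat.mul_le_mul_left n (hu3.trans (Nat.le_mul_of_pos_right u hc1))
      omega
    have hb := (orbit_count hS hp2 (p := p) ((MulAction.orbit S (mk K v hv)).toFinset ∪
      (MulAction.orbit S M).toFinset)).2 hthird
    rw [hnU, Finset.sum_union hdis, hsum, hsum, hN1, ← hn, ← ho, hm] at hb
    rw [hm] at h2
    obtain ⟨H, hH⟩ : ∃ H, Nat.card S = H := ⟨_, rfl⟩
    rw [hH] at h2 hgn hb hS0
    have k1 : n * (u * c - 1) + n = H := by
      rw [← Nat.mul_succ, Nat.succ_eq_add_one, Nat.sub_add_cancel (Nat.mul_pos hu1 hc1), hgn]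
    have k2 : o * (c * m - 1) + o = H := by
      rw [← Nat.mul_succ, Nat.succ_eq_add_one,
        Nat.sub_add_cancel (Nat.mul_pos hc1 (Nat.pos_of_ne_zero hm1)), h2]
    have k3 : n * (u - 1) + n = n * u := by
      rw [← Nat.mul_succ, Nat.succ_eq_add_one, Nat.sub_add_cancel hu1]
    -- `o * m = n * u`
    have hom : o * m = n * u := Nat.eq_of_mul_eq_mul_right (by omega : 0 < c) (by
      calc o * m * c = o * (c * m) := by ring
        _ = n * (u * c) := by rw [h2, hgn]
        _ = n * u * c := by ring)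
    obtain ⟨j, rfl⟩ := hmodd
    rcases Nat.eq_zero_or_pos j with rfl | hj
    · simp only [mul_zero, zero_add, mul_one] at hom
      omega
    · have k4 : 3 * o ≤ n * u := by
        rw [← hom, mul_comm 3]
        exact Nat.mul_le_mul_left o (by omega)
      have k5 : 3 * n ≤ n * u := by rw [mul_comm 3]; exact Nat.mul_le_mul_left n hu3
      omega

end Cfsg.Agent.OddOrder.SL2Odd
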