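/-
Two quadratically acting elements generate a unipotent group when the group has odd order.
-/
import Cfsg.Agent.S1463
import Mathlib.FieldTheory.IsAlgClosed.AlgebraicClosure
import Mathlib.Algebra.CharP.Lemmas
import Mathlib.LinearAlgebra.Eigenspace.Zero

set_option autoImplicit false

namespace Cfsg.Agent.OddOrder.QuadraticPair

open Matrix

variable {F : Type*} [Field F] {ι : Type*} [Fintype ι] [DecidableEq ι]

/-- Alternating product `a b a …` of length `k`. -/
def alt (a b : Matrix ι ι F) : ℕ → Matrix ι ι F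
  | 0 => 1
  | k + 1 => a * alt b a k

theorem alt_two_mul (a b : Matrix ι ι F) (m : ℕ) : alt a b (2 * m) = (a * b) ^ m := by
  induction m with
  | zero => simp [alt]
  | succ m ih => rw [Nat.mul_succ, alt, alt, ih, pow_succ', mul_assoc]

theorem prod_eq {a b : Matrix ι ι F} (ha : a * a = 0) (hb : b * b = 0) :
    ∀ l : List (Matrix ι ι F), (∀ x ∈ l, x = a ∨ x = b) →
      l.prod = 0 ∨ l.prod = alt a b l.length ∨ l.prod = alt b a l.length := by
  intro l
  induction l with
  | nil => intro _; exact Or.inr (Or.inl rfl)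
  | cons x l ih =>
    intro h
    rw [List.prod_cons, List.length_cons]
    rcases ih (fun y hy => h y (List.mem_cons_of_mem _ hy)) with h0 | h0 | h0
    · exact Or.inl (by rw [h0, mul_zero])
    · rcases h x (List.mem_cons_self ..) with rfl | rfl
      · cases hl : l.length with
        | zero => exact Or.inr (Or.inl (by rw [h0, hl]; rfl))
        | succ k => exact Or.inl (by rw [h0, hl, alt, ← mul_assoc, ha, zero_mul])
      · exact Or.inr (Or.inr (by rw [h0]; rfl))
    · rcases h x (List.mem_cons_self ..) with rfl | rfl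
      · exact Or.inr (Or.inl (by rw [h0]; rfl))
      · cases hl : l.length with
        | zero => exact Or.inr (Or.inr (by rw [h0, hl]; rfl))
        | succ k => exact Or.inl (by rw [h0, hl, alt, ← mul_assoc, hb, zero_mul])

variable {K : Type*} [Group K] [Finite K] {p : ℕ} [hp : Fact p.Prime] [CharP F p]

/-- If `ab` is nilpotent for `a = x - 1`, `b = y - 1` then the group generated by `x, y` is unipotent. -/
theorem pow_eq_one_of_nilpotent (ρ : K →* Matrix ι ι F) {x y : K}
    (ha : (ρ x - 1) * (ρ x - 1) = 0) (hb : (ρ y - 1) * (ρ y - 1) = 0)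
    {m : ℕ} (hnil : ((ρ x - 1) * (ρ y - 1)) ^ m = 0) {g : K} (hg : g ∈ Subgroup.closure {x, y}) :
    ∃ k, ρ g ^ p ^ k = 1 := by
  set a := ρ x - 1 with hadef
  set b := ρ y - 1 with hbdef
  set L := 2 * m + 2 with hL
  have hab : alt a b (2 * m) = 0 := by rw [alt_two_mul, hnil]
  have hba' : ∀ n : ℕ, (b * a) ^ (n + 1) = b * (a * b) ^ n * a := by
    intro n
    induction n with
    | zero => simp
    | succ n ih => rw [pow_succ, ih, pow_succ]; noncomm_ring
  have hba : ((b * a) ^ (m + 1)) = 0 := by rw [hba' m, hnil, mul_zero, zero_mul]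
  have hword : ∀ l : List (Matrix ι ι F), (∀ z ∈ l, z = a ∨ z = b) → l.length = L → l.prod = 0 := by
    intro l hl hlen
    rcases prod_eq ha hb l hl with h | h | h
    · exact h
    · rw [h, hlen, show L = 2 * (m + 1) by omega, alt_two_mul, pow_succ, hnil, zero_mul]
    · rw [h, hlen, show L = 2 * (m + 1) by omega, alt_two_mul, hba]
  -- vectors killed by all words of length `k`
  let U : ℕ → (ι → F) → Prop := fun k v =>
    ∀ l : List (Matrix ι ι F), (∀ z ∈ l, z = a ∨ z = b) → l.length = k → l.prod *ᵥ v = 0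
  have hU0 : ∀ v, U 0 v → v = 0 := fun v hv => by simpa using hv [] (by simp) rfl
  have hUmono : ∀ k v, U k v → U (k + 1) v := by
    intro k v hv l hl hlen
    obtain ⟨z, l', rfl⟩ : ∃ z l', l = z :: l' := by
      cases l with
      | nil => simp at hlen
      | cons z l' => exact ⟨z, l', rfl⟩
    rw [List.prod_cons, ← mulVec_mulVec, hv l' (fun w hw => hl w (List.mem_cons_of_mem _ hw))
      (by simpa using hlen), mulVec_zero]
  have hUadd : ∀ k v w, U k v → U k w → U k (v + w) := fun k v w hv hw l hl hlen => by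
    rw [mulVec_add, hv l hl hlen, hw l hl hlen, add_zero]
  have hUstep : ∀ z, (z = a ∨ z = b) → ∀ k v, U (k + 1) v → U k (z *ᵥ v) := by
    intro z hz k v hv l hl hlen
    rw [mulVec_mulVec]
    have := hv (l ++ [z]) (by
      intro w hw
      rcases List.mem_append.1 hw with h | h
      · exact hl w h
      · rw [List.mem_singleton.1 h]; exact hz) (by simp [hlen])
    simpa [List.prod_append] using this
  let P : K → Prop := fun g => ∀ k v, U (k + 1) v → U k ((ρ g - 1) *ᵥ v)
  have hgen : ∀ g, g ∈ ({x, y} : Set K) → P g := by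
    intro g hg k v hv
    rcases hg with rfl | rfl
    · exact hUstep _ (Or.inl rfl) k v hv
    · exact hUstep _ (Or.inr rfl) k v hv
  have hmul : ∀ g h, P g → P h → P (g * h) := by
    intro g h hg hh k v hv
    have e : (ρ (g * h) - 1) *ᵥ v = (ρ g - 1) *ᵥ v + (ρ g - 1) *ᵥ ((ρ h - 1) *ᵥ v) + (ρ h - 1) *ᵥ v := by
      rw [map_mul, mulVec_mulVec, ← add_mulVec, ← add_mulVec]
      congr 1
      noncomm_ring
    rw [e]
    exact hUadd _ _ _ (hUadd _ _ _ (hg k v hv) (hg k _ (hUmono k _ (hh k v hv)))) (hh k v hv)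
  have hPg : P g := by
    have hg' : g ∈ (Subgroup.closure {x, y}).toSubmonoid := hg
    rw [Subgroup.closure_toSubmonoid_of_finite] at hg'
    clear hg
    induction hg' using Submonoid.closure_induction with
    | mem z hz => exact hgen z hz
    | one => intro k v _ l _ _; simp
    | mul z w _ _ hz hw => exact hmul z w hz hw
  have hpow : ∀ j k v, U (k + j) v → U k ((ρ g - 1) ^ j *ᵥ v) := by
    intro j
    induction j with
    | zero => intro k v hv; simpa using hv
    | succ j ih =>
      intro k v hv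
      rw [pow_succ', ← mulVec_mulVec]
      exact hPg k _ (ih (k + 1) v (by rwa [show k + 1 + j = k + (j + 1) by omega]))
  have hz : (ρ g - 1) ^ L = 0 := by
    apply Matrix.toLin'.injective
    refine LinearMap.ext fun v => ?_
    rw [map_zero, LinearMap.zero_apply, Matrix.toLin'_apply]
    refine hU0 _ (hpow L 0 v ?_)
    intro l hl hlen
    rw [hword l hl (by rw [hlen]; omega), zero_mulVec]
  haveI : ExpChar F p := ExpChar.prime hp.out
  refine ⟨L, sub_eq_zero.1 ?_⟩
  rcases isEmpty_or_nonempty ι with h | h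
  swap
  · haveI : CharP (Matrix ι ι F) p := Matrix.charP p
    rw [← one_pow (M := Matrix ι ι F) (p ^ L), ← sub_pow_char_pow_of_commute p (n := L) (Commute.one_right _)]
    exact pow_eq_zero_of_le (Nat.lt_pow_self hp.out.one_lt).le hz
  · exact Subsingleton.elim _ _

/-- In odd characteristic and a group of odd order two quadratically acting elements generate a unipotent
group. -/
theorem pow_eq_one [IsAlgClosed F] (hp2 : p ≠ 2) (hodd : Odd (Nat.card K)) (ρ : K →* Matrix ι ι F)
    {x y : K} (ha : (ρ x - 1) * (ρ x - 1) = 0) (hb : (ρ y - 1) * (ρ y - 1) = 0) {g : K}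
    (hg : g ∈ Subgroup.closure {x, y}) : ∃ k, ρ g ^ p ^ k = 1 := by
  set a := ρ x - 1 with hadef
  set b := ρ y - 1 with hbdef
  by_cases hnil : IsNilpotent (a * b)
  · obtain ⟨m, hm⟩ := hnil
    exact pow_eq_one_of_nilpotent ρ ha hb hm hg
  exfalso
  -- a nonzero eigenvalue of `ab`
  obtain ⟨t, v, ht, hv, hev⟩ : ∃ (t : F) (v : ι → F), t ≠ 0 ∧ v ≠ 0 ∧ (a * b) *ᵥ v = t • v := by
    by_contra hcon
    push Not at hcon
    refine hnil ?_
    set T := Matrix.toLinAlgEquiv' (a * b) with hT
    suffices h : IsNilpotent T by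
      have := h.map (Matrix.toLinAlgEquiv' (R := F) (n := ι)).symm
      rwa [hT, AlgEquiv.symm_apply_apply] at this
    refine ((LinearMap.charpoly_nilpotent_tfae T).out 1 0).1 ?_
    have hsplit := IsAlgClosed.splits T.charpoly
    rw [Polynomial.Splits.eq_prod_roots hsplit, LinearMap.charpoly_monic T |>.leadingCoeff,
      Polynomial.C_1, one_mul]
    have hroots : ∀ r ∈ T.charpoly.roots, r = 0 := by
      intro r hr
      by_contra hr0
      obtain ⟨w, hw, hw0⟩ := ((Module.End.hasEigenvalue_iff_isRoot_charpoly T r).2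
        (Polynomial.isRoot_of_mem_roots hr)).exists_hasEigenvector
      refine hcon r w hr0 hw0 ?_
      have h := Module.End.mem_eigenspace_iff.1 hw
      rwa [hT, Matrix.toLinAlgEquiv'_apply] at h
    rw [Multiset.eq_replicate_card.2 hroots, Multiset.map_replicate, Multiset.prod_replicate,
      Polynomial.C_0, sub_zero]
    congr 1
    rw [← Polynomial.Splits.natDegree_eq_card_roots hsplit, LinearMap.charpoly_natDegree]
  have hav : a *ᵥ v = 0 := by
    have h : a *ᵥ ((a * b) *ᵥ v) = 0 := by rw [mulVec_mulVec, ← mul_assoc, ha, zero_mul, zero_mulVec]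
    rw [hev, mulVec_smul] at h
    exact (smul_eq_zero.1 h).resolve_left ht
  set w := b *ᵥ v with hw
  have haw : a *ᵥ w = t • v := by rw [hw, mulVec_mulVec, hev]
  have hbw : b *ᵥ w = 0 := by rw [hw, mulVec_mulVec, hb, zero_mulVec]
  have hind : ∀ c d : F, c • v + d • w = 0 → c = 0 ∧ d = 0 := by
    intro c d h
    have h1 := congrArg (a *ᵥ ·) h
    simp only [mulVec_add, mulVec_smul, hav, haw, smul_zero, zero_add, mulVec_zero, smul_smul] at h1
    have hd : d = 0 := (mul_eq_zero.1 ((smul_eq_zero.1 h1).resolve_right hv)).resolve_right ht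
    rw [hd, zero_smul, add_zero] at h
    exact ⟨(smul_eq_zero.1 h).resolve_right hv, hd⟩
  let P : Matrix ι (Fin 2) F := Matrix.of fun i j => ![v i, w i] j
  have hP : ∀ u : Fin 2 → F, P *ᵥ u = u 0 • v + u 1 • w := fun u => by
    funext i
    simp [P, mulVec, dotProduct, Fin.sum_univ_two, mul_comm]
  have hPinj : ∀ u : Fin 2 → F, P *ᵥ u = 0 → u = 0 := fun u hu => by
    rw [hP] at hu
    obtain ⟨h0, h1⟩ := hind _ _ hu
    funext j; fin_cases j <;> assumption
  let X : Matrix (Fin 2) (Fin 2) F := !![1, t; 0, 1]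
  let Y : Matrix (Fin 2) (Fin 2) F := !![1, 0; 1, 1]
  have hdX : IsUnit X.det := by simp [X, det_fin_two]
  have hdY : IsUnit Y.det := by simp [Y, det_fin_two]
  let X' : GL (Fin 2) F := Matrix.nonsingInvUnit X hdX
  let Y' : GL (Fin 2) F := Matrix.nonsingInvUnit Y hdY
  have eX : (X' : Matrix (Fin 2) (Fin 2) F) = X := rfl
  have eY : (Y' : Matrix (Fin 2) (Fin 2) F) = Y := rfl
  have hPu : ∀ (M : Matrix ι ι F) (N : Matrix (Fin 2) (Fin 2) F), M * P = P * N ↔
      ∀ u : Fin 2 → F, M *ᵥ (P *ᵥ u) = P *ᵥ (N *ᵥ u) := fun M N => by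
    constructor
    · intro h u; rw [mulVec_mulVec, mulVec_mulVec, h]
    · intro h
      apply Matrix.toLin'.injective
      refine LinearMap.ext fun u => ?_
      rw [Matrix.toLin'_apply, Matrix.toLin'_apply, ← mulVec_mulVec, ← mulVec_mulVec, h u]
  have hxP : ρ x * P = P * (X' : Matrix (Fin 2) (Fin 2) F) := by
    rw [hPu]
    intro u
    rw [show ρ x = a + 1 by rw [hadef, sub_add_cancel], hP, hP, add_mulVec, one_mulVec, mulVec_add,
      mulVec_smul, mulVec_smul, hav, haw, eX]
    simp [X, mulVec, dotProduct, Fin.sum_univ_two, smul_smul, add_smul, mul_comm]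
    abel
  have hyP : ρ y * P = P * (Y' : Matrix (Fin 2) (Fin 2) F) := by
    rw [hPu]
    intro u
    rw [show ρ y = b + 1 by rw [hbdef, sub_add_cancel], hP, hP, add_mulVec, one_mulVec, mulVec_add,
      mulVec_smul, mulVec_smul, hbw, ← hw, eY]
    simp [Y, mulVec, dotProduct, Fin.sum_univ_two, smul_smul, add_smul, mul_comm]
    abel
  let Γ : Subgroup (K × GL (Fin 2) F) :=
    { carrier := {gM | ρ gM.1 * P = P * (gM.2 : Matrix (Fin 2) (Fin 2) F)}
      one_mem' := by simp
      mul_mem' := fun {g h} hg hh => by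
        simp only [Set.mem_setOf_eq, Prod.fst_mul, Prod.snd_mul, map_mul, Units.val_mul] at hg hh ⊢
        rw [Matrix.mul_assoc, hh, ← Matrix.mul_assoc, hg, Matrix.mul_assoc]
      inv_mem' := fun {g} hg => by
        simp only [Set.mem_setOf_eq, Prod.fst_inv, Prod.snd_inv] at hg ⊢
        calc ρ g.1⁻¹ * P = ρ g.1⁻¹ * (P * (g.2 : Matrix (Fin 2) (Fin 2) F)) * (↑g.2⁻¹ : Matrix (Fin 2) (Fin 2) F) := by
              rw [Matrix.mul_assoc, Matrix.mul_assoc, ← Units.val_mul, mul_inv_cancel, Units.val_one, Matrix.mul_one]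
          _ = P * (↑g.2⁻¹ : Matrix (Fin 2) (Fin 2) F) := by
              rw [← hg, ← Matrix.mul_assoc, ← map_mul, inv_mul_cancel, map_one, Matrix.one_mul] }
  have hfst : Function.Injective ((MonoidHom.fst K (GL (Fin 2) F)).comp Γ.subtype) := by
    rw [injective_iff_map_eq_one]
    rintro ⟨⟨g, M⟩, hgM⟩ h
    replace h : g = 1 := h
    subst h
    have hgM' : ρ 1 * P = P * (M : Matrix (Fin 2) (Fin 2) F) := hgM
    rw [map_one, Matrix.one_mul] at hgM'
    refine Subtype.ext (Prod.ext rfl (Units.ext ?_))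
    apply Matrix.toLin'.injective
    refine LinearMap.ext fun u => ?_
    rw [Matrix.toLin'_apply, Matrix.toLin'_apply]
    refine sub_eq_zero.1 (hPinj _ ?_)
    rw [mulVec_sub, mulVec_mulVec, mulVec_mulVec, ← hgM']
    simp
  haveI : Finite Γ := Finite.of_injective _ hfst
  have hΓ : Odd (Nat.card Γ) := hodd.of_dvd_nat (Subgroup.card_dvd_of_injective _ hfst)
  let H := Γ.map (MonoidHom.snd K (GL (Fin 2) F))
  haveI : Finite H := Finite.of_surjective _ (((MonoidHom.snd K (GL (Fin 2) F)).subgroupMap_surjective Γ))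
  have hH : Odd (Nat.card H) := hΓ.of_dvd_nat (Subgroup.card_map_dvd _ _)
  have hXH : X' ∈ H := ⟨(x, X'), hxP, rfl⟩
  have hYH : Y' ∈ H := ⟨(y, Y'), hyP, rfl⟩
  refine Cfsg.Agent.S1463.result p hp2 H hH ?_ ?_
  · intro u hu
    by_cases h1 : u 1 = 0
    · refine ⟨Y', hYH, fun hmem => ?_⟩
      obtain ⟨c, hc⟩ := Submodule.mem_span_singleton.1 hmem
      have e := congrFun hc 1
      simp [eY, Y, mulVec, dotProduct, Fin.sum_univ_two, h1] at e
      exact hu (funext fun j => by fin_cases j <;> [exact e.symm; exact h1])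
    · refine ⟨X', hXH, fun hmem => ?_⟩
      obtain ⟨c, hc⟩ := Submodule.mem_span_singleton.1 hmem
      have e1 := congrFun hc 1
      have e0 := congrFun hc 0
      simp [eX, X, mulVec, dotProduct, Fin.sum_univ_two, h1] at e1 e0
      rw [e1, one_mul] at e0
      exact mul_ne_zero ht h1 (by linear_combination -e0)
  · have hXp : X' ^ p = 1 := by
      apply Units.ext
      rw [Units.val_pow_eq_pow_val, Units.val_one, eX]
      have h2 : (X - 1) ^ 2 = 0 := by
        ext i j; fin_cases i <;> fin_cases j <;> simp [X, pow_two, mul_apply, Fin.sum_univ_two]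
      refine sub_eq_zero.1 ?_
      have := pow_eq_zero_of_le hp.out.two_le h2
      rwa [sub_pow_char_of_commute p (Commute.one_right _), one_pow] at this
    have hX1 : X' ≠ 1 := fun h => ht (by
      have := congrArg (fun g : GL (Fin 2) F => (g : Matrix (Fin 2) (Fin 2) F) 0 1) h
      simpa [eX, X] using this)
    rw [← orderOf_eq_prime hXp hX1]
    exact Subgroup.orderOf_dvd_natCard H hXH

end Cfsg.Agent.OddOrder.QuadraticPair
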