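/-
`p`-stability of groups of odd order: a quadratically acting `p`-element lies in `O_p` of the automizer.
-/
import Cfsg.Agent.Lib.OddOrder.QuadraticPair
import Cfsg.Agent.Lib.Involutions.BaerSuzuki
import Cfsg.Agent.Lib.PLocal.ZJ
import Mathlib.LinearAlgebra.Matrix.ToLin
import Mathlib.LinearAlgebra.FiniteDimensional.Basic
import Mathlib.Algebra.Module.ZMod

set_option autoImplicit false
set_option linter.style.haveILetI false

namespace Cfsg.Agent.OddOrder.PStable

open scoped commutatorElement
open Matrix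

variable {p : ℕ} [hp : Fact p.Prime]

theorem exists_rep_aux {G : Type*} [Group G] {W : Type*} [CommGroup W] [Finite W]
    (hexp : ∀ w : W, w ^ p = 1) (c : G →* MulAut W) :
    ∃ (n : ℕ) (ρ : G →* Matrix (Fin n) (Fin n) (AlgebraicClosure (ZMod p))),
      (∀ g, ρ g = 1 ↔ c g = 1) ∧
      ∀ g, (∀ w : W, c g (c g w / w) = c g w / w) → (ρ g - 1) * (ρ g - 1) = 0 := by
  have hmod : ∀ x : Additive W, p • x = 0 := fun x => Additive.toMul.injective (hexp (Additive.toMul x))
  letI := AddCommGroup.zmodModule (n := p) (G := Additive W) hmod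
  haveI : Module.Finite (ZMod p) (Additive W) := Module.Finite.of_finite
  let f : G →* Module.End (ZMod p) (Additive W) :=
    { toFun := fun g => (MonoidHom.toAdditive (c g).toMonoidHom).toZModLinearMap p
      map_one' := LinearMap.ext fun v => by
        show Additive.ofMul ((c 1) (Additive.toMul v)) = v
        rw [map_one]; rfl
      map_mul' := fun g h => LinearMap.ext fun v => by
        show Additive.ofMul ((c (g * h)) (Additive.toMul v)) =
          Additive.ofMul ((c g) ((c h) (Additive.toMul v)))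
        rw [map_mul]; rfl }
  let b := Module.finBasis (ZMod p) (Additive W)
  let n := Module.finrank (ZMod p) (Additive W)
  let e : Module.End (ZMod p) (Additive W) ≃ₐ[ZMod p] Matrix (Fin n) (Fin n) (ZMod p) :=
    LinearMap.toMatrixAlgEquiv b
  let m : Matrix (Fin n) (Fin n) (ZMod p) →+* Matrix (Fin n) (Fin n) (AlgebraicClosure (ZMod p)) :=
    (algebraMap (ZMod p) (AlgebraicClosure (ZMod p))).mapMatrix
  have hm : Function.Injective m := fun A B h => by
    ext i j
    exact (algebraMap (ZMod p) (AlgebraicClosure (ZMod p))).injective (congrFun (congrFun h i) j)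
  let emon : Module.End (ZMod p) (Additive W) →* Matrix (Fin n) (Fin n) (ZMod p) :=
    { toFun := e, map_one' := map_one e, map_mul' := map_mul e }
  refine ⟨n, (m.toMonoidHom.comp emon).comp f, fun g => ?_, fun g hg => ?_⟩
  · show m (e (f g)) = 1 ↔ _
    rw [← map_one m, hm.eq_iff, EmbeddingLike.map_eq_one_iff]
    constructor
    · intro h
      refine MulEquiv.ext fun w => ?_
      exact congrArg Additive.toMul (LinearMap.congr_fun h (Additive.ofMul w))
    · intro h
      refine LinearMap.ext fun v => ?_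
      show Additive.ofMul ((c g) (Additive.toMul v)) = v
      rw [h]; rfl
  · show (m (e (f g)) - 1) * (m (e (f g)) - 1) = 0
    have h0 : (f g - 1) * (f g - 1) = 0 := by
      refine LinearMap.ext fun v => ?_
      rw [Module.End.mul_apply, LinearMap.zero_apply, LinearMap.sub_apply (f g) 1, Module.End.one_apply,
        sub_eq_zero, LinearMap.sub_apply, Module.End.one_apply]
      show Additive.ofMul ((c g) ((c g) (Additive.toMul v) / Additive.toMul v)) =
        Additive.ofMul ((c g) (Additive.toMul v) / Additive.toMul v)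
      rw [hg]
    rw [← map_one m, ← map_sub, ← map_mul, ← map_one e, ← map_sub, ← map_mul, h0, map_zero, map_zero]

/-- A normal elementary abelian `p`-subgroup gives a representation over the algebraic closure. -/
theorem exists_rep {G : Type*} [Group G] [Finite G] (V : Subgroup G) [V.Normal]
    (hc : ∀ a ∈ V, ∀ b ∈ V, a * b = b * a) (hexp : ∀ a ∈ V, a ^ p = 1) :
    ∃ (n : ℕ) (ρ : G →* Matrix (Fin n) (Fin n) (AlgebraicClosure (ZMod p))),
      (∀ g, ρ g = 1 ↔ g ∈ Subgroup.centralizer (V : Set G)) ∧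
      ∀ g, (∀ v ∈ V, g * ⁅g, v⁆ = ⁅g, v⁆ * g) → (ρ g - 1) * (ρ g - 1) = 0 := by
  letI : CommGroup V :=
    { (inferInstance : Group V) with mul_comm := fun a b => Subtype.ext (hc a a.2 b b.2) }
  obtain ⟨n, ρ, h1, h2⟩ := exists_rep_aux (p := p) (W := V)
    (fun w => Subtype.ext (hexp w.1 w.2)) (MulAut.conjNormal : G →* MulAut V)
  refine ⟨n, ρ, fun g => (h1 g).trans ?_, fun g hg => h2 g fun w => Subtype.ext ?_⟩
  · rw [Subgroup.mem_centralizer_iff]
    constructor
    · intro h v hv
      have h' : g * v * g⁻¹ = v := congrArg (fun φ : MulAut V => ((φ ⟨v, hv⟩ : V) : G)) h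
      exact (mul_inv_eq_iff_eq_mul.1 h').symm
    · intro h
      refine MulEquiv.ext fun w => Subtype.ext ?_
      show g * (w : G) * g⁻¹ = (w : G)
      rw [← h _ w.2, mul_inv_cancel_right]
  · show g * ((g * (w : G) * g⁻¹) / (w : G)) * g⁻¹ = (g * (w : G) * g⁻¹) / (w : G)
    rw [div_eq_mul_inv, show g * (w : G) * g⁻¹ * ((w : G))⁻¹ = ⁅g, (w : G)⁆ from rfl, hg _ w.2,
      mul_inv_cancel_right]

/-- In a group of odd order a quadratic `p`-element centralizes a minimal normal `p`-subgroup. -/
theorem mem_centralizer_of_minimal {G : Type*} [Group G] [Finite G] (hodd : Odd (Nat.card G)) (hp2 : p ≠ 2)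
    (V : Subgroup G) [V.Normal] (hV : IsPGroup p V)
    (hmin : ∀ N : Subgroup G, N.Normal → N ≤ V → N ≠ ⊥ → N = V)
    (a : G) (ha : IsPGroup p (Subgroup.zpowers a)) (hq : ∀ v ∈ V, a * ⁅a, v⁆ = ⁅a, v⁆ * a) :
    a ∈ Subgroup.centralizer (V : Set G) := by
  by_cases hV1 : V = ⊥
  · rw [Subgroup.mem_centralizer_iff]
    intro v hv
    rw [hV1, SetLike.mem_coe, Subgroup.mem_bot] at hv
    rw [hv, one_mul, mul_one]
  haveI := (Subgroup.nontrivial_iff_ne_bot V).2 hV1
  have hZ : (Subgroup.center V).map V.subtype = V := by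
    refine hmin _ inferInstance (Subgroup.map_subtype_le _) fun h => ?_
    rw [Subgroup.map_eq_bot_iff_of_injective _ V.subtype_injective] at h
    exact (Subgroup.nontrivial_iff_ne_bot _).1 hV.center_nontrivial h
  have hc : ∀ x ∈ V, ∀ y ∈ V, x * y = y * x := by
    intro x hx y hy
    obtain ⟨z, hz, rfl⟩ : x ∈ (Subgroup.center V).map V.subtype := by rw [hZ]; exact hx
    exact congrArg Subtype.val (Subgroup.mem_center_iff.1 hz ⟨y, hy⟩).symm
  let W : Subgroup G :=
    { carrier := {x | x ∈ V ∧ x ^ p = 1}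
      one_mem' := ⟨one_mem _, one_pow p⟩
      mul_mem' := fun {x y} hx hy => ⟨mul_mem hx.1 hy.1, by
        rw [(show Commute x y from hc x hx.1 y hy.1).mul_pow, hx.2, hy.2, one_mul]⟩
      inv_mem' := fun {x} hx => ⟨inv_mem hx.1, by rw [inv_pow, hx.2, inv_one]⟩ }
  have hW : W.Normal := ⟨fun x hx g => ⟨‹V.Normal›.conj_mem x hx.1 g, by
    rw [conj_pow, hx.2, mul_one, mul_inv_cancel]⟩⟩
  have hWV : W = V := by
    refine hmin W hW (fun x hx => hx.1) fun h => ?_
    obtain ⟨k, hk, hk'⟩ := hV.nontrivial_iff_card.1 inferInstance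
    obtain ⟨x, hx⟩ := exists_prime_orderOf_dvd_card' p (G := V) (hk' ▸ dvd_pow_self p hk.ne')
    have hxW : (x : G) ∈ W := ⟨x.2, by rw [← Subgroup.coe_pow, ← hx, pow_orderOf_eq_one, Subgroup.coe_one]⟩
    rw [h, Subgroup.mem_bot] at hxW
    rw [show x = 1 from Subtype.ext hxW, orderOf_one] at hx
    exact hp.out.ne_one hx.symm
  have hexp : ∀ x ∈ V, x ^ p = 1 := fun x hx => (hWV.ge hx : x ∈ W).2
  obtain ⟨n, ρ, hker, hquad⟩ := exists_rep V hc hexp
  set C := Subgroup.centralizer (V : Set G) with hC
  haveI : C.Normal := inferInstance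
  set π := QuotientGroup.mk' C with hπ
  -- `O_p` of the automizer is trivial
  have hcore : ∀ M : Subgroup G, M.Normal → IsPGroup p (M.map π) → M ≤ C := by
    intro M hM hMp
    set M' := M ⊔ C with hM'
    haveI : M'.Normal := Subgroup.sup_normal _ _
    obtain ⟨S⟩ : Nonempty (Sylow p M') := inferInstance
    have hMC : M' ≤ (S : Subgroup M').map M'.subtype ⊔ C := by
      have h1 : M'.map π = M.map π := by
        rw [hM', Subgroup.map_sup, hπ, QuotientGroup.map_mk'_self, sup_bot_eq]
      set f := π.subgroupMap M' with hf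
      have hfs : Function.Surjective f := π.subgroupMap_surjective M'
      have htop : ((S.mapSurjective hfs : Sylow p (M'.map π)) : Subgroup (M'.map π)) = ⊤ :=
        ((S.mapSurjective hfs).3 ((h1.symm ▸ hMp : IsPGroup p (M'.map π)).of_equiv
          Subgroup.topEquiv.symm) le_top).symm
      intro x hx
      have hx' : f ⟨x, hx⟩ ∈ ((S.mapSurjective hfs : Sylow p (M'.map π)) : Subgroup (M'.map π)) := by
        rw [htop]; trivial
      rw [Sylow.coe_mapSurjective] at hx'
      obtain ⟨s, hs, hsx⟩ := hx'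
      have : π (s : G) = π x := congrArg Subtype.val hsx
      have hmem : (s : G)⁻¹ * x ∈ C := QuotientGroup.eq.1 this
      rw [show x = (s : G) * ((s : G)⁻¹ * x) by group]
      exact mul_mem (Subgroup.mem_sup_left ⟨s, hs, rfl⟩) (Subgroup.mem_sup_right hmem)
    set P := (S : Subgroup M').map M'.subtype with hP
    have hPp : IsPGroup p P := S.isPGroup'.map _
    -- fixed points of `P` on `V`
    have hfix : V ⊓ Subgroup.centralizer (P : Set G) ≠ ⊥ := by
      letI : MulAction P V :=
        { smul := fun g v => ⟨(g : G) * v * (g : G)⁻¹, ‹V.Normal›.conj_mem _ v.2 g⟩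
          one_smul := fun v => Subtype.ext (by show ((1 : P) : G) * v * ((1 : P) : G)⁻¹ = v; simp)
          mul_smul := fun g h v => Subtype.ext (by
            show ((g * h : P) : G) * v * ((g * h : P) : G)⁻¹ = (g : G) * ((h : G) * v * (h : G)⁻¹) * (g : G)⁻¹
            simp [mul_assoc]) }
      obtain ⟨k, hk, hk'⟩ := hV.nontrivial_iff_card.1 inferInstance
      obtain ⟨v, hv, hv1⟩ := hPp.exists_fixed_point_of_prime_dvd_card_of_fixed_point V
        (hk' ▸ dvd_pow_self p hk.ne') (a := 1) (by
          intro g; exact Subtype.ext (by show (g : G) * 1 * (g : G)⁻¹ = 1; group))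
      intro h
      refine hv1 (Subtype.ext (Eq.symm ?_))
      rw [OneMemClass.coe_one, ← Subgroup.mem_bot, ← h]
      exact Subgroup.mem_inf.2 ⟨v.2, Subgroup.mem_centralizer_iff.2 fun g hg =>
        mul_inv_eq_iff_eq_mul.1 (congrArg Subtype.val (hv ⟨g, hg⟩))⟩
    have heq : V ⊓ Subgroup.centralizer (M' : Set G) = V ⊓ Subgroup.centralizer (P : Set G) := by
      refine le_antisymm (inf_le_inf_left _ (Subgroup.centralizer_le (Subgroup.map_subtype_le _))) ?_
      refine le_inf inf_le_left ?_
      rw [Subgroup.le_centralizer_iff]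
      exact hMC.trans (sup_le (Subgroup.le_centralizer_iff.1 inf_le_right)
        (Subgroup.centralizer_le inf_le_left))
    have hall := hmin (V ⊓ Subgroup.centralizer (M' : Set G)) inferInstance inf_le_left (heq ▸ hfix)
    rw [hC, Subgroup.le_centralizer_iff]
    exact hall.ge.trans (inf_le_right.trans (Subgroup.centralizer_le (le_sup_left : M ≤ M')))
  -- two conjugates generate a `p`-group
  set X := Subgroup.zpowers (π a) with hX
  have hXp : IsPGroup p X := by
    rw [hX, ← MonoidHom.map_zpowers]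
    exact ha.map π
  have hpair : ∀ g : G ⧸ C, IsPGroup p ↥(X ⊔ X.map (MulAut.conj g).toMonoidHom) := by
    intro g
    obtain ⟨g, rfl⟩ := QuotientGroup.mk'_surjective C g
    set b := g * a * g⁻¹ with hb
    have hbq : ∀ v ∈ V, b * ⁅b, v⁆ = ⁅b, v⁆ * b := by
      intro v hv
      have h := hq (g⁻¹ * v * g) (by simpa using ‹V.Normal›.conj_mem v hv g⁻¹)
      have e : ⁅b, v⁆ = g * ⁅a, g⁻¹ * v * g⁆ * g⁻¹ := by
        simp only [hb, commutatorElement_def]; group
      rw [e, hb]
      calc g * a * g⁻¹ * (g * ⁅a, g⁻¹ * v * g⁆ * g⁻¹) = g * (a * ⁅a, g⁻¹ * v * g⁆) * g⁻¹ := by group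
        _ = g * (⁅a, g⁻¹ * v * g⁆ * a) * g⁻¹ := by rw [h]
        _ = _ := by group
    have hsup : X ⊔ X.map (MulAut.conj (π g)).toMonoidHom = (Subgroup.closure {a, b}).map π := by
      rw [MonoidHom.map_closure, Set.image_pair, hX, MonoidHom.map_zpowers, Subgroup.zpowers_eq_closure,
        Subgroup.zpowers_eq_closure, ← Subgroup.closure_union, Set.singleton_union]
      congr 2
    rw [hsup]
    rintro ⟨_, x, hx, rfl⟩
    obtain ⟨k, hk⟩ := QuadraticPair.pow_eq_one (p := p) hp2 hodd ρ (hquad a hq) (hquad b hbq) hx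
    refine ⟨k, Subtype.ext ?_⟩
    rw [SubmonoidClass.coe_pow, OneMemClass.coe_one]
    show π x ^ p ^ k = 1
    rw [← map_pow]
    exact (QuotientGroup.eq_one_iff _).2 ((hker _).1 (by rw [map_pow, hk]))
  obtain ⟨N, hN, hNp, hXN⟩ := BaerSuzuki.baerSuzuki X hXp hpair
  have hle := hcore (N.comap π) (hN.comap π) (by
    rwa [Subgroup.map_comap_eq_self_of_surjective (QuotientGroup.mk'_surjective C)])
  exact hle (Subgroup.mem_comap.2 (hXN (Subgroup.mem_zpowers _)))

/-- Elementwise form of `p`-stability in groups of odd order. -/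
theorem mk_mem_pCore {G : Type*} [Group G] [Finite G] (hodd : Odd (Nat.card G)) (hp2 : p ≠ 2)
    (B : Subgroup G) [B.Normal] (a : G) (hB : IsPGroup p B) (ha : IsPGroup p (Subgroup.zpowers a))
    (hq : ∀ v ∈ B, a * ⁅a, v⁆ = ⁅a, v⁆ * a) :
    (QuotientGroup.mk a : G ⧸ Subgroup.centralizer (B : Set G)) ∈
      Cfsg.pCore p (G ⧸ Subgroup.centralizer (B : Set G)) := by
  suffices key : ∀ (m : ℕ) (B : Subgroup G) [B.Normal] (a : G), Nat.card B ≤ m → IsPGroup p B →
      IsPGroup p (Subgroup.zpowers a) → (∀ v ∈ B, a * ⁅a, v⁆ = ⁅a, v⁆ * a) →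
      (QuotientGroup.mk a : G ⧸ Subgroup.centralizer (B : Set G)) ∈
        Cfsg.pCore p (G ⧸ Subgroup.centralizer (B : Set G)) from key _ B a le_rfl hB ha hq
  intro m
  induction m with
  | zero => intro B _ a hm; exact absurd hm (Nat.not_le.2 Nat.card_pos)
  | succ m ih =>
    intro B _ a hm hB ha hq
    by_cases hB1 : B = ⊥
    · have htop : Subgroup.centralizer (B : Set G) = ⊤ := by
        rw [eq_top_iff]; intro x _
        rw [Subgroup.mem_centralizer_iff]
        intro v hv
        rw [hB1, SetLike.mem_coe, Subgroup.mem_bot] at hv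
        rw [hv, one_mul, mul_one]
      rw [(QuotientGroup.eq_one_iff a).2 (by rw [htop]; trivial)]
      exact one_mem _
    obtain ⟨N, -, hN⟩ := Finite.exists_le_maximal (a := (⊥ : Subgroup G))
      (p := fun N : Subgroup G => N.Normal ∧ N < B) ⟨inferInstance, bot_lt_iff_ne_bot.2 hB1⟩
    obtain ⟨⟨hNn, hNB⟩, hNmax⟩ := hN
    haveI := hNn
    have hcardN : Nat.card N ≤ m := by
      have : Nat.card N < Nat.card B := lt_of_le_of_ne (Subgroup.card_le_of_le hNB.le)
        fun h => hNB.ne (Subgroup.eq_of_le_of_card_ge hNB.le h.ge)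
      omega
    have h1 := ih N a hcardN (hB.to_le hNB.le) ha fun v hv => hq v (hNB.le hv)
    set π := QuotientGroup.mk' N with hπ
    haveI : (B.map π).Normal := Subgroup.Normal.map inferInstance π (QuotientGroup.mk'_surjective N)
    have hoddq : Odd (Nat.card (G ⧸ N)) := hodd.of_dvd_nat (Subgroup.card_quotient_dvd_card N)
    have h2 : π a ∈ Subgroup.centralizer ((B.map π : Subgroup _) : Set (G ⧸ N)) := by
      refine mem_centralizer_of_minimal hoddq hp2 (B.map π) (hB.map π) (fun M hM hMB hM1 => ?_) (π a)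
        (MonoidHom.map_zpowers π a ▸ ha.map π) ?_
      · have hle : M.comap π ≤ B := by
          refine (Subgroup.comap_mono hMB).trans ?_
          rw [hπ, Subgroup.comap_map_eq, QuotientGroup.ker_mk', sup_eq_left.2 hNB.le]
        have hNM : N ≤ M.comap π := fun x hx => by
          rw [Subgroup.mem_comap, hπ, QuotientGroup.mk'_apply, (QuotientGroup.eq_one_iff x).2 hx]
          exact one_mem _
        rcases hle.lt_or_eq with h | h
        · refine absurd ?_ hM1
          have e : M.comap π = N := le_antisymm (hNmax ⟨hM.comap π, h⟩ hNM) hNM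
          rw [← Subgroup.map_comap_eq_self_of_surjective (QuotientGroup.mk'_surjective N) M, e,
            QuotientGroup.map_mk'_self]
        · rw [← Subgroup.map_comap_eq_self_of_surjective (QuotientGroup.mk'_surjective N) M, h]
      · rintro _ ⟨v, hv, rfl⟩
        rw [← map_commutatorElement, ← map_mul, ← map_mul, hq v hv]
    -- the subgroup of elements acting in a `p`-fashion on both layers
    set E := (Cfsg.pCore p (G ⧸ Subgroup.centralizer (N : Set G))).comap (QuotientGroup.mk' _) ⊓
      (Subgroup.centralizer ((B.map π : Subgroup _) : Set (G ⧸ N))).comap π with hE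
    haveI : (Cfsg.pCore p (G ⧸ Subgroup.centralizer (N : Set G))).Normal := FittingCores.pCore_normal p
    haveI : E.Normal := Subgroup.normal_inf_normal _ _
    set θ := QuotientGroup.mk' (Subgroup.centralizer (B : Set G)) with hθ
    have hEp : IsPGroup p (E.map θ) := by
      rintro ⟨_, x, hx, rfl⟩
      obtain ⟨hx1, hx2⟩ := Subgroup.mem_inf.1 hx
      obtain ⟨k, hk⟩ := FittingCores.pCore_isPGroup p ⟨_, hx1⟩
      obtain ⟨s, hs⟩ := IsPGroup.iff_card.1 hB
      have hy : x ^ p ^ k ∈ Subgroup.centralizer (N : Set G) := by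
        have := congrArg Subtype.val hk
        simp only [SubmonoidClass.coe_pow, OneMemClass.coe_one] at this
        rw [← map_pow] at this
        exact (QuotientGroup.eq_one_iff _).1 this
      set y := x ^ p ^ k with hy'
      have hy2 : π y ∈ Subgroup.centralizer ((B.map π : Subgroup _) : Set (G ⧸ N)) := by
        rw [hy', map_pow]
        exact pow_mem hx2 _
      refine ⟨k + s, Subtype.ext ?_⟩
      rw [SubmonoidClass.coe_pow, OneMemClass.coe_one]
      show θ x ^ p ^ (k + s) = 1
      rw [pow_add, pow_mul, ← map_pow, ← map_pow]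
      refine (QuotientGroup.eq_one_iff _).2 (Subgroup.mem_centralizer_iff.2 fun v hv => ?_)
      have hu : v⁻¹ * (y * v * y⁻¹) ∈ N := by
        rw [← QuotientGroup.eq_one_iff]
        show π (v⁻¹ * (y * v * y⁻¹)) = 1
        rw [map_mul, map_mul, map_mul, map_inv, map_inv,
          ← Subgroup.mem_centralizer_iff.1 hy2 (π v) ⟨v, hv, rfl⟩, mul_inv_cancel_right, inv_mul_cancel]
      set u := v⁻¹ * (y * v * y⁻¹) with hu'
      have hyu : y * u = u * y := (Subgroup.mem_centralizer_iff.1 hy u hu).symm
      have key : ∀ j : ℕ, y ^ j * v * (y ^ j)⁻¹ = v * u ^ j := by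
        intro j
        induction j with
        | zero => simp
        | succ j ihj =>
          have h' : Commute y (u ^ j) := (show Commute y u from hyu).pow_right j
          calc y ^ (j + 1) * v * (y ^ (j + 1))⁻¹ = y * (y ^ j * v * (y ^ j)⁻¹) * y⁻¹ := by
                rw [pow_succ']; group
            _ = y * v * (u ^ j * y⁻¹) := by rw [ihj]; group
            _ = y * v * (y⁻¹ * u ^ j) := by rw [(h'.inv_left).eq]
            _ = v * u * u ^ j := by rw [hu']; group
            _ = v * u ^ (j + 1) := by rw [pow_succ']; group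
      have hun : u ^ (p ^ s) = 1 := by
        have : u ∈ B := hNB.le hu
        rw [← hs]
        exact congrArg Subtype.val (pow_card_eq_one' (x := (⟨u, this⟩ : B)))
      have h' := key (p ^ s)
      rw [hun, mul_one] at h'
      exact (mul_inv_eq_iff_eq_mul.1 h').symm
    exact PBasic.le_pCore (Subgroup.Normal.map inferInstance θ (QuotientGroup.mk'_surjective _)) hEp
      ⟨a, Subgroup.mem_inf.2 ⟨h1, h2⟩, rfl⟩

/-- Groups of odd order are `p`-stable. -/
theorem isQuad {G : Type*} [Group G] [Finite G] (hodd : Odd (Nat.card G)) (hp2 : p ≠ 2) :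
    ZJ.IsQuad p G := by
  intro B _ a hB ha hq
  refine mk_mem_pCore hodd hp2 B a hB ha fun v hv => ?_
  have h1 : ⁅v, a⁆ ∈ ⁅B, Subgroup.zpowers a⁆ :=
    Subgroup.commutator_mem_commutator hv (Subgroup.mem_zpowers a)
  have h2 := Subgroup.commutator_mem_commutator (inv_mem h1) (Subgroup.mem_zpowers a)
  rw [hq, Subgroup.mem_bot, commutatorElement_eq_one_iff_mul_comm, commutatorElement_inv] at h2
  exact h2.symm

/-- The form used with a subgroup normalized by the elements on which it acts. -/
theorem map_le_pCore {G : Type*} [Group G] [Finite G] (hodd : Odd (Nat.card G)) (hp2 : p ≠ 2)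
    (B : Subgroup G) [B.Normal] (hB : IsPGroup p B) (C : Subgroup G) [C.Normal]
    (hC : C = Subgroup.centralizer (B : Set G)) (A : Subgroup G) (hA : IsPGroup p A)
    (hq : ∀ a ∈ A, ∀ v ∈ B, a * ⁅a, v⁆ = ⁅a, v⁆ * a) :
    A.map (QuotientGroup.mk' C) ≤ Cfsg.pCore p (G ⧸ C) := by
  subst hC
  rintro _ ⟨a, ha, rfl⟩
  exact mk_mem_pCore hodd hp2 B a hB (hA.to_le (Subgroup.zpowers_le.2 ha)) (hq a ha)

theorem quadratic_of_abelian {G : Type*} [Group G] {A P : Subgroup G} (hA : IsMulCommutative A)
    (hP : P ≤ Subgroup.normalizer (A : Set G)) : ∀ a ∈ A, ∀ v ∈ P, a * ⁅a, v⁆ = ⁅a, v⁆ * a := by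
  intro a ha v hv
  have hc : ⁅a, v⁆ ∈ A := by
    rw [commutatorElement_def, mul_assoc, mul_assoc, ← mul_assoc v]
    exact mul_mem ha ((Subgroup.mem_normalizer_iff.1 (hP hv) a⁻¹).1 (inv_mem ha))
  exact congrArg Subtype.val (hA.is_comm.comm (⟨a, ha⟩ : A) ⟨_, hc⟩)

/-- The first and second part of Bender-Glauberman 6.1 for one abelian subgroup. -/
theorem le_pCore_of_normalized {G : Type*} [Group G] [Finite G] (hodd : Odd (Nat.card G)) (hp2 : p ≠ 2)
    (P : Subgroup G) [P.Normal] (hP : IsPGroup p P)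
    (hC : IsPGroup p (Subgroup.centralizer (P : Set G))) (A : Subgroup G) (hA : IsPGroup p A)
    (hAc : IsMulCommutative A) (hPA : P ≤ Subgroup.normalizer (A : Set G)) : A ≤ Cfsg.pCore p G := by
  set C := Subgroup.centralizer (P : Set G)
  haveI := FittingCores.pCore_normal (G := G ⧸ C) p
  set M := (Cfsg.pCore p (G ⧸ C)).comap (QuotientGroup.mk' C) with hM
  have hMp : IsPGroup p M := by
    refine IsPGroup.comap_of_ker_isPGroup (FittingCores.pCore_isPGroup p) _ ?_
    rwa [QuotientGroup.ker_mk']
  refine le_trans ?_ (PBasic.le_pCore (inferInstance : M.Normal) hMp)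
  rw [hM, ← Subgroup.map_le_iff_le_comap]
  exact map_le_pCore hodd hp2 P hP C rfl A hA (quadratic_of_abelian hAc hPA)

/-- In a solvable group with trivial `O_{p'}` a normal `p`-subgroup with `O_p ∩ C(P) ≤ P` has `p`-group
centralizer. -/
theorem isPGroup_centralizer {G : Type*} [Group G] [Finite G] [Group.IsSolvable G]
    (hO : Cfsg.pPrimeCore p G = ⊥) (P : Subgroup G) [P.Normal]
    (hC : Cfsg.pCore p G ⊓ Subgroup.centralizer (P : Set G) ≤ P) :
    IsPGroup p (Subgroup.centralizer (P : Set G)) := by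
  set C := Subgroup.centralizer (P : Set G) with hCdef
  haveI := PBasic.pCore_characteristic p C
  haveI := PBasic.pPrimeCore_characteristic p C
  have hO' : Cfsg.pPrimeCore p C = ⊥ := by
    rw [← Subgroup.map_eq_bot_iff_of_injective _ (f := C.subtype) Subtype.coe_injective, ← le_bot_iff, ← hO]
    exact PBasic.map_pPrimeCore_le_of_normal C
  have hT : (Cfsg.pCore p C).map C.subtype ≤ P := by
    refine le_trans (le_inf ?_ (Subgroup.map_subtype_le _)) hC
    exact PBasic.le_pCore inferInstance ((FittingCores.pCore_isPGroup p).map _)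
  have htop : Subgroup.centralizer ((Cfsg.pCore p C : Subgroup C) : Set C) = ⊤ := by
    rw [eq_top_iff]
    intro x _
    rw [Subgroup.mem_centralizer_iff]
    intro t ht
    exact Subtype.ext (Subgroup.mem_centralizer_iff.1 x.2 (t : G) (hT ⟨t, ht, rfl⟩))
  have h := FittingCores.centralizer_pCore_le hp.out hO'
  rw [htop, top_le_iff] at h
  exact (h ▸ FittingCores.pCore_isPGroup (G := C) p : IsPGroup p (⊤ : Subgroup C)).of_equiv Subgroup.topEquiv

theorem isPGroup_centralizer_pCore {G : Type*} [Group G] [Finite G] [Group.IsSolvable G]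
    (hO : Cfsg.pPrimeCore p G = ⊥) :
    IsPGroup p (Subgroup.centralizer (Cfsg.pCore p G : Set G)) :=
  (FittingCores.pCore_isPGroup p).to_le (FittingCores.centralizer_pCore_le hp.out hO)

end Cfsg.Agent.OddOrder.PStable
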