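/-
Elementary properties of the Puig series.
-/
import Cfsg.Prelude.Def_OddOrderLocal
import Cfsg.Agent.Lib.OddOrder.Nilpotent
import Mathlib.Order.OrderIsoNat

set_option autoImplicit false

namespace Cfsg.Agent.OddOrder.Puig

variable {G : Type*} [Group G]

theorem le_puigStep {X A : Subgroup G} (hA : IsMulCommutative A)
    (hX : X ≤ Subgroup.normalizer (A : Set G)) : A ≤ Cfsg.puigStep X :=
  le_sSup ⟨hA, hX⟩

theorem puigStep_anti {X Y : Subgroup G} (h : X ≤ Y) : Cfsg.puigStep Y ≤ Cfsg.puigStep X :=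
  sSup_le fun _ hA => le_puigStep hA.1 (h.trans hA.2)

theorem puigStep_bot : Cfsg.puigStep (⊥ : Subgroup G) = ⊤ := by
  refine eq_top_iff.mpr fun g _ => ?_
  exact le_puigStep (inferInstanceAs (IsMulCommutative (Subgroup.zpowers g))) bot_le
    (Subgroup.mem_zpowers g)

theorem puigSeq_succ (n : ℕ) : Cfsg.puigSeq G (n + 1) = Cfsg.puigStep (Cfsg.puigSeq G n) := rfl

theorem puigSeq_one : Cfsg.puigSeq G 1 = ⊤ := puigStep_bot

theorem even_le_succ (n : ℕ) :
    Cfsg.puigSeq G (2 * n) ≤ Cfsg.puigSeq G (2 * n + 2) ∧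
      Cfsg.puigSeq G (2 * n + 3) ≤ Cfsg.puigSeq G (2 * n + 1) := by
  induction n with
  | zero => exact ⟨bot_le, by rw [puigSeq_one]; exact le_top⟩
  | succ n ih =>
    have h1 : Cfsg.puigSeq G (2 * n + 2) ≤ Cfsg.puigSeq G (2 * n + 4) := puigStep_anti ih.2
    exact ⟨h1, puigStep_anti h1⟩

theorem even_monotone : Monotone fun n => Cfsg.puigSeq G (2 * n) :=
  monotone_nat_of_le_succ fun n => (even_le_succ n).1

theorem odd_antitone : Antitone fun n => Cfsg.puigSeq G (2 * n + 1) :=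
  antitone_nat_of_succ_le fun n => (even_le_succ n).2

theorem even_le_next (n : ℕ) : Cfsg.puigSeq G (2 * n) ≤ Cfsg.puigSeq G (2 * n + 1) := by
  induction n with
  | zero => exact bot_le
  | succ n ih =>
    have h1 : Cfsg.puigSeq G (2 * n + 2) ≤ Cfsg.puigSeq G (2 * n + 1) := puigStep_anti ih
    exact puigStep_anti h1

theorem even_le_odd (n m : ℕ) : Cfsg.puigSeq G (2 * n) ≤ Cfsg.puigSeq G (2 * m + 1) :=
  (even_monotone (Nat.le_add_right n m)).trans
    ((even_le_next (n + m)).trans (odd_antitone (Nat.le_add_left m n)))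

theorem exists_stable [Finite G] : ∃ k : ℕ, 0 < k ∧ ∀ n : ℕ, k ≤ n →
    Cfsg.puigSeq G (2 * n) = Cfsg.puigLower G ∧
      Cfsg.puigSeq G (2 * n + 1) = Cfsg.puigSubgroup G := by
  obtain ⟨k, hk⟩ := WellFoundedGT.monotone_chain_condition
    (⟨fun n => Cfsg.puigSeq G (2 * n), even_monotone⟩ : ℕ →o Subgroup G)
  have hk' : ∀ m, k ≤ m → Cfsg.puigSeq G (2 * k) = Cfsg.puigSeq G (2 * m) := hk
  have hlow : ∀ n, k ≤ n → Cfsg.puigSeq G (2 * n) = Cfsg.puigLower G := by
    intro n hn
    refine le_antisymm (le_iSup (fun n => Cfsg.puigSeq G (2 * n)) n) (iSup_le fun m => ?_)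
    rw [← hk' n hn, hk' (max k m) (le_max_left _ _)]
    exact even_monotone (le_max_right _ _)
  refine ⟨k + 1, Nat.succ_pos k, fun n hn => ⟨hlow n (by omega), ?_⟩⟩
  refine le_antisymm (le_iInf fun m => ?_) (iInf_le _ n)
  have h1 : Cfsg.puigSeq G (2 * n + 1) = Cfsg.puigSeq G (2 * max n m + 1) := by
    rw [puigSeq_succ, puigSeq_succ, hlow n (by omega), hlow (max n m) (by omega)]
  rw [h1]
  exact odd_antitone (le_max_right _ _)

theorem centralizer_puigStep_le [Finite G] [Group.IsNilpotent G] (X : Subgroup G) :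
    Subgroup.centralizer (Cfsg.puigStep X : Set G) ≤ Cfsg.puigStep X := by
  obtain ⟨A, hn, hc, hA⟩ := Nilp.exists_normal_abelian_self_centralizing (G := G)
  have hle : A ≤ Cfsg.puigStep X := le_puigStep hc (by
    rw [Subgroup.normalizer_eq_top_iff.mpr hn]; exact le_top)
  calc Subgroup.centralizer (Cfsg.puigStep X : Set G) ≤ Subgroup.centralizer (A : Set G) :=
        Subgroup.centralizer_le hle
    _ = A := hA
    _ ≤ _ := hle

theorem center_le_centralizer (X : Subgroup G) :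
    Subgroup.center G ≤ Subgroup.centralizer (X : Set G) := Subgroup.center_le_centralizer _

end Cfsg.Agent.OddOrder.Puig
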