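/-
The Puig series of a subgroup, viewed in the ambient group.
-/
import Cfsg.Agent.Lib.OddOrder.Puig

set_option autoImplicit false

namespace Cfsg.Agent.OddOrder.PuigIn

variable {G : Type*} [Group G] {H : Type*} [Group H]

/-- The `n`-th Puig term of `S` inside `G`. -/
def term (S : Subgroup G) (n : ℕ) : Subgroup G := (Cfsg.puigSeq ↥S n).map S.subtype

/-- The Puig subgroup inside `G`. -/
def upper (S : Subgroup G) : Subgroup G := (Cfsg.puigSubgroup ↥S).map S.subtype

/-- `L_*` inside `G`. -/
def lower (S : Subgroup G) : Subgroup G := (Cfsg.puigLower ↥S).map S.subtype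

theorem term_le (S : Subgroup G) (n : ℕ) : term S n ≤ S := Subgroup.map_subtype_le _

theorem upper_le (S : Subgroup G) : upper S ≤ S := Subgroup.map_subtype_le _

theorem lower_le (S : Subgroup G) : lower S ≤ S := Subgroup.map_subtype_le _

theorem term_one (S : Subgroup G) : term S 1 = S := by
  rw [term, Puig.puigSeq_one, ← MonoidHom.range_eq_map, Subgroup.range_subtype]

theorem term_zero (S : Subgroup G) : term S 0 = ⊥ := Subgroup.map_bot _

theorem le_term_succ {S : Subgroup G} {n : ℕ} {A : Subgroup G} (hAS : A ≤ S) (hA : IsMulCommutative A)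
    (hn : term S n ≤ Subgroup.normalizer (A : Set G)) : A ≤ term S (n + 1) := by
  rw [← Subgroup.map_subgroupOf_eq_of_le hAS]
  refine Subgroup.map_mono (Puig.le_puigStep ⟨⟨fun a b => ?_⟩⟩ fun x hx => ?_)
  · exact Subtype.ext (Subtype.ext (congrArg Subtype.val
      (hA.is_comm.comm (⟨(a : S), a.2⟩ : A) ⟨(b : S), b.2⟩) :))
  · rw [Subgroup.mem_normalizer_iff]
    exact fun y => Subgroup.mem_normalizer_iff.1 (hn ⟨x, hx, rfl⟩) (y : G)

theorem term_succ_le {S : Subgroup G} {n : ℕ} {U : Subgroup G}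
    (h : ∀ A : Subgroup G, A ≤ S → IsMulCommutative A → A ≤ term S (n + 1) →
      term S n ≤ Subgroup.normalizer (A : Set G) → A ≤ U) : term S (n + 1) ≤ U := by
  show (Cfsg.puigStep (Cfsg.puigSeq ↥S n)).map S.subtype ≤ U
  rw [Subgroup.map_le_iff_le_comap]
  refine sSup_le fun A hA => ?_
  rw [← Subgroup.map_le_iff_le_comap]
  obtain ⟨hc, hn⟩ := hA
  haveI := hc
  refine h _ (Subgroup.map_subtype_le _) inferInstance (Subgroup.map_mono (Puig.le_puigStep hc hn)) ?_
  exact (Subgroup.map_mono hn).trans (Subgroup.le_normalizer_map _)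

theorem exists_stable [Finite G] (S : Subgroup G) : ∃ k, 0 < k ∧ ∀ n, k ≤ n →
    term S (2 * n) = lower S ∧ term S (2 * n + 1) = upper S := by
  obtain ⟨k, hk, h⟩ := Puig.exists_stable (G := ↥S)
  exact ⟨k, hk, fun n hn => ⟨by rw [term, (h n hn).1]; rfl, by rw [term, (h n hn).2]; rfl⟩⟩

theorem even_le_lower (S : Subgroup G) (n : ℕ) : term S (2 * n) ≤ lower S :=
  Subgroup.map_mono (le_iSup (fun n => Cfsg.puigSeq ↥S (2 * n)) n)

theorem upper_le_odd (S : Subgroup G) (n : ℕ) : upper S ≤ term S (2 * n + 1) :=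
  Subgroup.map_mono (iInf_le _ n)

theorem lower_le_upper [Finite G] (S : Subgroup G) : lower S ≤ upper S := by
  obtain ⟨k, -, hk⟩ := exists_stable S
  rw [← (hk k le_rfl).1, ← (hk k le_rfl).2]
  exact Subgroup.map_mono (Puig.even_le_next k)

/-- An abelian subgroup of `S` normalized by `L(S)` lies in `L_*(S)`. -/
theorem le_lower [Finite G] {S A : Subgroup G} (hAS : A ≤ S) (hA : IsMulCommutative A)
    (hn : upper S ≤ Subgroup.normalizer (A : Set G)) : A ≤ lower S := by
  obtain ⟨k, -, hk⟩ := exists_stable S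
  rw [← (hk (k + 1) (Nat.le_succ k)).1]
  exact le_term_succ (n := 2 * k + 1) hAS hA (by rw [(hk k le_rfl).2]; exact hn)

theorem upper_le_of_forall [Finite G] {S U : Subgroup G}
    (h : ∀ A : Subgroup G, A ≤ S → IsMulCommutative A → A ≤ upper S →
      lower S ≤ Subgroup.normalizer (A : Set G) → A ≤ U) : upper S ≤ U := by
  obtain ⟨k, -, hk⟩ := exists_stable S
  rw [← (hk k le_rfl).2]
  refine term_succ_le fun A h1 h2 h3 h4 => h A h1 h2 ?_ ?_
  · rwa [(hk k le_rfl).2] at h3
  · rwa [(hk k le_rfl).1] at h4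

/-- If `L(S) ≤ P ≤ S` then `L(P) = L(S)`. -/
theorem upper_eq [Finite G] {S P : Subgroup G} (hUP : upper S ≤ P) (hPS : P ≤ S) : upper P = upper S := by
  obtain ⟨k, -, hk⟩ := exists_stable S
  obtain ⟨j, -, hj⟩ := exists_stable P
  have h1 : ∀ n, term S (2 * n) ≤ term P (2 * n) := by
    intro n
    induction n with
    | zero => rw [Nat.mul_zero, term_zero]; exact bot_le
    | succ n ih =>
      rw [Nat.mul_succ]
      refine term_succ_le fun A _ hA hA' hn => le_term_succ ?_ hA (le_trans ?_ hn)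
      · exact hA'.trans ((even_le_lower S (n + 1)).trans ((lower_le_upper S).trans hUP))
      · exact term_succ_le fun B hB hBc _ hBn => le_term_succ (hB.trans hPS) hBc (ih.trans hBn)
  have step : ∀ n, term P (2 * n) ≤ lower S → upper S ≤ term P (2 * n + 1) := fun n h =>
    upper_le_of_forall fun A _ hA hA' hn => le_term_succ (hA'.trans hUP) hA (h.trans hn)
  have h2 : ∀ n, term P (2 * n) ≤ lower S ∧ upper S ≤ term P (2 * n + 1) := by
    intro n
    induction n with
    | zero =>
      have h0 : term P (2 * 0) ≤ lower S := by rw [Nat.mul_zero, term_zero]; exact bot_le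
      exact ⟨h0, step _ h0⟩
    | succ n ih =>
      have h0 : term P (2 * (n + 1)) ≤ lower S := by
        rw [Nat.mul_succ]
        refine term_succ_le fun A hA hAc _ hn => le_lower (hA.trans hPS) hAc (le_trans ?_ hn)
        exact ih.2
      exact ⟨h0, step _ h0⟩
  apply le_antisymm
  · have hmax := max_comm k j
    rw [← (hj (max k j) (le_max_right _ _)).2, ← (hk (max k j) (le_max_left _ _)).2]
    exact term_succ_le fun B hB hBc _ hBn => le_term_succ (hB.trans hPS) hBc ((h1 _).trans hBn)
  · rw [← (hj j le_rfl).2]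
    exact (h2 j).2

theorem term_map (f : G →* H) : ∀ (n : ℕ) (S : Subgroup G), Set.InjOn f S →
    (term S n).map f = term (S.map f) n := by
  intro n
  induction n with
  | zero => intro S _; rw [term_zero, term_zero, Subgroup.map_bot]
  | succ n ih =>
    intro S hf
    apply le_antisymm
    · rw [Subgroup.map_le_iff_le_comap]
      refine term_succ_le fun A hA hAc _ hn => Subgroup.map_le_iff_le_comap.1 ?_
      haveI := hAc
      exact le_term_succ (Subgroup.map_mono hA) inferInstance
        (ih S hf ▸ (Subgroup.map_mono hn).trans (Subgroup.le_normalizer_map f))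
    · refine term_succ_le fun B hB hBc _ hn => ?_
      have e : (B.comap f ⊓ S).map f = B := by
        refine le_antisymm ((Subgroup.map_mono inf_le_left).trans (Subgroup.map_comap_le _ _)) fun b hb => ?_
        obtain ⟨s, hs, rfl⟩ := hB hb
        exact ⟨s, Subgroup.mem_inf.2 ⟨hb, hs⟩, rfl⟩
      rw [← e]
      refine Subgroup.map_mono (le_term_succ inf_le_right ⟨⟨fun a b => ?_⟩⟩ fun x hx => ?_)
      · refine Subtype.ext (hf (S.mul_mem (Subgroup.mem_inf.1 a.2).2 (Subgroup.mem_inf.1 b.2).2)
          (S.mul_mem (Subgroup.mem_inf.1 b.2).2 (Subgroup.mem_inf.1 a.2).2) ?_)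
        show f ((a : G) * (b : G)) = f ((b : G) * (a : G))
        rw [map_mul, map_mul]
        exact congrArg Subtype.val
          (hBc.is_comm.comm (⟨_, (Subgroup.mem_inf.1 a.2).1⟩ : B) ⟨_, (Subgroup.mem_inf.1 b.2).1⟩)
      · have hxS := term_le S n hx
        have hfx : f x ∈ Subgroup.normalizer (B : Set H) := hn (ih S hf ▸ Subgroup.mem_map_of_mem f hx)
        refine Subgroup.mem_normalizer_iff.2 fun y => ?_
        simp only [Subgroup.mem_inf, Subgroup.mem_comap, map_mul, map_inv]
        refine and_congr (Subgroup.mem_normalizer_iff.1 hfx (f y)) ⟨fun hy => ?_, fun hy => ?_⟩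
        · exact mul_mem (mul_mem hxS hy) (inv_mem hxS)
        · simpa [mul_assoc] using mul_mem (mul_mem (inv_mem hxS) hy) hxS

theorem upper_map [Finite G] [Finite H] (f : G →* H) (S : Subgroup G) (hf : Set.InjOn f S) :
    (upper S).map f = upper (S.map f) := by
  obtain ⟨k, -, hk⟩ := exists_stable S
  obtain ⟨j, -, hj⟩ := exists_stable (S.map f)
  rw [← (hk (max k j) (le_max_left _ _)).2, ← (hj (max k j) (le_max_right _ _)).2, term_map f _ S hf]

/-- `L(S)` is normalized by the normalizer of `S`. -/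
theorem normalizer_le [Finite G] (S : Subgroup G) :
    Subgroup.normalizer (S : Set G) ≤ Subgroup.normalizer (upper S : Set G) := by
  intro g hg
  rw [Subgroup.mem_normalizer_iff_map_conj_eq] at hg ⊢
  rw [upper_map _ S (MulAut.conj g).injective.injOn, hg]

/-- The centre of a subgroup, inside `G`. -/
theorem center_map_subtype (L : Subgroup G) :
    (Subgroup.center L).map L.subtype = L ⊓ Subgroup.centralizer (L : Set G) := by
  ext x
  constructor
  · rintro ⟨z, hz, rfl⟩
    exact Subgroup.mem_inf.2 ⟨z.2, Subgroup.mem_centralizer_iff.2 fun l hl =>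
      congrArg Subtype.val (Subgroup.mem_center_iff.1 hz ⟨l, hl⟩)⟩
  · intro hx
    obtain ⟨hxL, hxC⟩ := Subgroup.mem_inf.1 hx
    exact ⟨⟨x, hxL⟩, Subgroup.mem_center_iff.2 fun l =>
      Subtype.ext (Subgroup.mem_centralizer_iff.1 hxC l l.2), rfl⟩

/-- The centre of `L(S)`, inside `G`. -/
theorem center_puig_eq (S : Subgroup G) :
    ((Subgroup.center ↥(Cfsg.puigSubgroup ↥S)).map (Cfsg.puigSubgroup ↥S).subtype).map S.subtype =
      upper S ⊓ Subgroup.centralizer (upper S : Set G) := by
  rw [center_map_subtype, Subgroup.map_inf _ _ _ S.subtype_injective]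
  refine le_antisymm (le_inf inf_le_left ?_) ?_
  · rintro _ ⟨-, x, hx, rfl⟩
    rw [Subgroup.mem_centralizer_iff]
    rintro _ ⟨l, hl, rfl⟩
    exact congrArg S.subtype (Subgroup.mem_centralizer_iff.1 hx l hl)
  · intro x hx
    obtain ⟨hxL, hxC⟩ := Subgroup.mem_inf.1 hx
    obtain ⟨y, hy, rfl⟩ := hxL
    refine Subgroup.mem_inf.2 ⟨⟨y, hy, rfl⟩, ⟨y, ?_, rfl⟩⟩
    refine Subgroup.mem_centralizer_iff.2 fun l hl => Subtype.ext ?_
    exact Subgroup.mem_centralizer_iff.1 hxC (l : G) ⟨l, hl, rfl⟩

end Cfsg.Agent.OddOrder.PuigIn
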