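/-
Puig's theorem for solvable groups of odd order: `Z(L(S))` is normal when `O_{p'} = 1`.
-/
import Cfsg.Agent.Lib.OddOrder.PStable
import Cfsg.Agent.Lib.OddOrder.PuigIn

set_option autoImplicit false

namespace Cfsg.Agent.OddOrder.PuigNormal

variable {G : Type*} [Group G] [Finite G] [Group.IsSolvable G] {p : ℕ} [hp : Fact p.Prime]

theorem term_normal (n : ℕ) : (PuigIn.term (Cfsg.pCore p G) n).Normal := by
  haveI := FittingCores.pCore_normal (G := G) p
  refine Subgroup.normalizer_eq_top_iff.1 (top_unique ?_)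
  intro g _
  rw [Subgroup.mem_normalizer_iff_map_conj_eq, PuigIn.term_map _ _ _ (MulAut.conj g).injective.injOn,
    Subgroup.mem_normalizer_iff_map_conj_eq.1
      (Subgroup.le_normalizer_of_normal (H := Cfsg.pCore p G) (Subgroup.mem_top g))]

theorem upper_normal : (PuigIn.upper (Cfsg.pCore p G)).Normal := by
  obtain ⟨k, -, hk⟩ := PuigIn.exists_stable (Cfsg.pCore p G)
  rw [← (hk k le_rfl).2]
  exact term_normal _

/-- A normal subgroup of `O_p` containing its centralizer there has `p`-group centralizer. -/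
theorem isPGroup_centralizer_of_le (hO : Cfsg.pPrimeCore p G = ⊥) (P : Subgroup G) [P.Normal]
    (hC : Cfsg.pCore p G ⊓ Subgroup.centralizer (P : Set G) ≤ P) :
    IsPGroup p (Subgroup.centralizer (P : Set G)) :=
  PStable.isPGroup_centralizer hO P hC

theorem centralizer_term_le {T : Subgroup G} [Group.IsNilpotent T] (n : ℕ) :
    T ⊓ Subgroup.centralizer (PuigIn.term T (n + 1) : Set G) ≤ PuigIn.term T (n + 1) := by
  intro x hx
  obtain ⟨hxT, hxC⟩ := Subgroup.mem_inf.1 hx
  refine ⟨⟨x, hxT⟩, Puig.centralizer_puigStep_le _ ?_, rfl⟩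
  refine Subgroup.mem_centralizer_iff.2 fun l hl => Subtype.ext ?_
  exact Subgroup.mem_centralizer_iff.1 hxC (l : G) ⟨l, hl, rfl⟩

/-- `L_*(S) ≤ L_*(T) ≤ L(T) ≤ L(S)` for `T = O_p(G)`. -/
theorem chain (hodd : Odd (Nat.card G)) (hp2 : p ≠ 2) (hO : Cfsg.pPrimeCore p G = ⊥) (S : Sylow p G) :
    PuigIn.lower (S : Subgroup G) ≤ PuigIn.lower (Cfsg.pCore p G) ∧
      PuigIn.upper (Cfsg.pCore p G) ≤ PuigIn.upper (S : Subgroup G) := by
  set T := Cfsg.pCore p G with hT
  have hTS : T ≤ (S : Subgroup G) := PBasic.pCore_le_sylow S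
  haveI : Group.IsNilpotent T := (FittingCores.pCore_isPGroup p).isNilpotent
  have key : ∀ n, PuigIn.term (S : Subgroup G) (2 * n) ≤ PuigIn.term T (2 * n) ∧
      PuigIn.term T (2 * n + 1) ≤ PuigIn.term (S : Subgroup G) (2 * n + 1) := by
    have step : ∀ n, PuigIn.term (S : Subgroup G) (2 * n) ≤ PuigIn.term T (2 * n) →
        PuigIn.term T (2 * n + 1) ≤ PuigIn.term (S : Subgroup G) (2 * n + 1) := fun n h =>
      PuigIn.term_succ_le fun A hA hAc _ hn => PuigIn.le_term_succ (hA.trans hTS) hAc (h.trans hn)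
    intro n
    induction n with
    | zero =>
      have h0 : PuigIn.term (S : Subgroup G) (2 * 0) ≤ PuigIn.term T (2 * 0) := by
        rw [Nat.mul_zero, PuigIn.term_zero]; exact bot_le
      exact ⟨h0, step 0 h0⟩
    | succ n ih =>
      have h0 : PuigIn.term (S : Subgroup G) (2 * (n + 1)) ≤ PuigIn.term T (2 * (n + 1)) := by
        rw [Nat.mul_succ]
        refine PuigIn.term_succ_le fun A hA hAc _ hn => ?_
        haveI := term_normal (G := G) (p := p) (2 * n + 1)
        have hPn : PuigIn.term T (2 * n + 1) ≤ Subgroup.normalizer (A : Set G) := ih.2.trans hn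
        refine PuigIn.le_term_succ ?_ hAc hPn
        exact PStable.le_pCore_of_normalized hodd hp2 _
          ((FittingCores.pCore_isPGroup p).to_le (PuigIn.term_le T _))
          (isPGroup_centralizer_of_le hO _ (centralizer_term_le (T := T) (2 * n)))
          A (S.isPGroup'.to_le hA) hAc hPn
      exact ⟨h0, step _ h0⟩
  obtain ⟨k, -, hk⟩ := PuigIn.exists_stable (S : Subgroup G)
  obtain ⟨j, -, hj⟩ := PuigIn.exists_stable T
  have h := key (max k j)
  rw [(hk _ (le_max_left k j)).1, (hk _ (le_max_left k j)).2, (hj _ (le_max_right k j)).1,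
    (hj _ (le_max_right k j)).2] at h
  exact h

/-- Puig's theorem. -/
theorem zPuig_normal (hodd : Odd (Nat.card G)) (hp2 : p ≠ 2) (hO : Cfsg.pPrimeCore p G = ⊥) (S : Sylow p G) :
    (PuigIn.upper (S : Subgroup G) ⊓
      Subgroup.centralizer (PuigIn.upper (S : Subgroup G) : Set G)).Normal := by
  set T := Cfsg.pCore p G with hT
  set L := PuigIn.upper (S : Subgroup G) with hL
  set X := L ⊓ Subgroup.centralizer (L : Set G) with hX
  obtain ⟨-, hUT⟩ := chain hodd hp2 hO S
  haveI := upper_normal (G := G) (p := p)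
  haveI : Group.IsNilpotent T := (FittingCores.pCore_isPGroup p).isNilpotent
  set LT := PuigIn.upper T with hLT
  obtain ⟨j, -, hj⟩ := PuigIn.exists_stable T
  have hLTC : T ⊓ Subgroup.centralizer (LT : Set G) ≤ LT := by
    rw [hLT, ← (hj j le_rfl).2]
    exact centralizer_term_le (T := T) (2 * j)
  have hCp : IsPGroup p (Subgroup.centralizer (LT : Set G)) := isPGroup_centralizer_of_le hO LT hLTC
  have hCT : Subgroup.centralizer (LT : Set G) ≤ T := PBasic.le_pCore inferInstance hCp
  set Y := LT ⊓ Subgroup.centralizer (LT : Set G) with hY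
  haveI : Y.Normal := Subgroup.normal_inf_normal _ _
  have hXY : X ≤ Y := by
    have h1 : X ≤ Subgroup.centralizer (LT : Set G) := inf_le_right.trans (Subgroup.centralizer_le hUT)
    exact le_inf (le_trans (le_inf (h1.trans hCT) h1) hLTC) h1
  have hYc : IsMulCommutative Y := ⟨⟨fun a b => Subtype.ext
    (Subgroup.mem_centralizer_iff.1 (Subgroup.mem_inf.1 b.2).2 a (Subgroup.mem_inf.1 a.2).1)⟩⟩
  have hYp : IsPGroup p Y := hCp.to_le inf_le_right
  have hYS : Y ≤ (S : Subgroup G) := (inf_le_right.trans hCT).trans (PBasic.pCore_le_sylow S)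
  have hYlow : Y ≤ PuigIn.lower (S : Subgroup G) :=
    PuigIn.le_lower hYS hYc Subgroup.le_normalizer_of_normal
  set C := Subgroup.centralizer (Y : Set G) with hC
  haveI := FittingCores.pCore_normal (G := G ⧸ C) p
  set D := (Cfsg.pCore p (G ⧸ C)).comap (QuotientGroup.mk' C) with hD
  have hLD : L ≤ D := by
    refine PuigIn.upper_le_of_forall fun A hA hAc _ hn => ?_
    rw [hD, ← Subgroup.map_le_iff_le_comap]
    exact PStable.map_le_pCore hodd hp2 Y hYp C rfl A (S.isPGroup'.to_le hA)
      (PStable.quadratic_of_abelian hAc (hYlow.trans hn))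
  set P := (S : Subgroup G) ⊓ D with hP
  have hLP : PuigIn.upper P = L := PuigIn.upper_eq (le_inf (PuigIn.upper_le _) hLD) inf_le_left
  have hnorm : Subgroup.normalizer (P : Set G) ≤ Subgroup.normalizer (X : Set G) := by
    refine (PuigIn.normalizer_le P).trans ?_
    rw [hLP]
    refine le_trans (le_inf le_rfl (fun g hg => ?_)) Subgroup.inf_normalizer_le_normalizer_inf
    have key : ∀ g ∈ Subgroup.normalizer (L : Set G), ∀ c ∈ Subgroup.centralizer (L : Set G),
        g * c * g⁻¹ ∈ Subgroup.centralizer (L : Set G) := fun g hg c hc =>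
      Subgroup.mem_centralizer_iff.2 fun h hh => by
        have h' := Subgroup.mem_centralizer_iff.1 hc _ ((Subgroup.mem_normalizer_iff''.1 hg h).1 hh)
        calc h * (g * c * g⁻¹) = g * ((g⁻¹ * h * g) * c) * g⁻¹ := by group
          _ = g * (c * (g⁻¹ * h * g)) * g⁻¹ := by rw [h']
          _ = _ := by group
    refine Subgroup.mem_normalizer_iff.2 fun c => ⟨key g hg c, fun h => ?_⟩
    simpa [mul_assoc] using key g⁻¹ (inv_mem hg) _ h
  have hCX : C ≤ Subgroup.normalizer (X : Set G) :=
    (Subgroup.centralizer_le hXY).trans (Subgroup.centralizer_le_normalizer _)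
  -- `P` is a Sylow subgroup of `D`
  have hDsylow : D ≤ C ⊔ P := by
    intro d hd
    have h1 : D ≤ C ⊔ (S : Subgroup G) := by
      rw [hD]
      refine (Subgroup.comap_mono (PBasic.pCore_le_sylow
        (S.mapSurjective (QuotientGroup.mk'_surjective C)))).trans (le_of_eq ?_)
      rw [Sylow.coe_mapSurjective, Subgroup.comap_map_eq, QuotientGroup.ker_mk', sup_comm]
    have h2 : d ∈ ((C ⊔ (S : Subgroup G) : Subgroup G) : Set G) := h1 hd
    rw [Subgroup.normal_mul] at h2
    obtain ⟨c, hc, s, hs, rfl⟩ := h2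
    have hCD : c ∈ D := by
      rw [hD, Subgroup.mem_comap, QuotientGroup.mk'_apply, (QuotientGroup.eq_one_iff c).2 hc]
      exact one_mem _
    refine mul_mem (Subgroup.mem_sup_left hc) (Subgroup.mem_sup_right (Subgroup.mem_inf.2 ⟨hs, ?_⟩))
    simpa using mul_mem (inv_mem hCD) hd
  rw [← Subgroup.normalizer_eq_top_iff, eq_top_iff]
  obtain ⟨S', hS'⟩ : ∃ S' : Sylow p D, (S' : Subgroup D).map D.subtype = P := by
    obtain ⟨S', hS'⟩ := IsPGroup.exists_le_sylow (p := p)
      ((S.isPGroup'.to_le (inf_le_left : P ≤ _)).comap_subtype (K := D))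
    refine ⟨S', le_antisymm ?_ ?_⟩
    · have hp' : IsPGroup p ((S' : Subgroup D).map D.subtype : Subgroup G) := S'.isPGroup'.map _
      obtain ⟨Q, hQ⟩ := hp'.exists_le_sylow
      obtain ⟨g, hg⟩ := MulAction.exists_smul_eq G Q S
      have hcard : Nat.card ((S' : Subgroup D).map D.subtype : Subgroup G) ≤ Nat.card P := by
        have hinj : Function.Injective (MulAut.conj g).toMonoidHom := (MulAut.conj g).injective
        rw [← Subgroup.card_map_of_injective (K := (S' : Subgroup D).map D.subtype) hinj]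
        refine Subgroup.card_le_of_le (le_inf ((Subgroup.map_mono hQ).trans ?_) ?_)
        · exact le_of_eq (congrArg (fun R : Sylow p G => (R : Subgroup G)) hg)
        · exact (Subgroup.map_mono (Subgroup.map_subtype_le _)).trans
            (Subgroup.mem_normalizer_iff_map_conj_eq.1
              (Subgroup.le_normalizer_of_normal (Subgroup.mem_top g))).le
      have hle : P ≤ (S' : Subgroup D).map D.subtype := by
        rw [← Subgroup.map_subgroupOf_eq_of_le (show P ≤ D from inf_le_right)]
        exact Subgroup.map_mono hS'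
      exact (Subgroup.eq_of_le_of_card_ge hle hcard).ge
    · rw [← Subgroup.map_subgroupOf_eq_of_le (show P ≤ D from inf_le_right)]
      exact Subgroup.map_mono hS'
  have hfr := S'.normalizer_sup_eq_top
  rw [hS'] at hfr
  rw [← hfr]
  exact sup_le hnorm (hDsylow.trans (sup_le hCX (Subgroup.le_normalizer.trans hnorm)))

end Cfsg.Agent.OddOrder.PuigNormal
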