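/-
Solvable groups of odd order acting faithfully on a 2-dimensional space have a common eigenvector;
automorphism groups of elementary abelian groups of order at most `p ^ 2`.
-/
import Mathlib

set_option autoImplicit false
set_option linter.style.haveILetI false

namespace Cfsg.Agent.OddOrder.GL2Odd

open Matrix
open scoped commutatorElement

variable {K : Type*} [Field K]

theorem exists_smul_of_det {v w : Fin 2 → K} (hv : v ≠ 0) (hd : v 0 * w 1 - v 1 * w 0 = 0) :
    ∃ c : K, w = c • v := by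
  by_cases h0 : v 0 = 0
  · have h1 : v 1 ≠ 0 := fun h1 => hv (by ext i; fin_cases i <;> assumption)
    rw [h0, zero_mul, zero_sub, neg_eq_zero] at hd
    have hw0 : w 0 = 0 := (mul_eq_zero.1 hd).resolve_left h1
    refine ⟨w 1 / v 1, ?_⟩
    ext i
    fin_cases i
    · simp [hw0, h0]
    · simp [h1]
  · refine ⟨w 0 / v 0, ?_⟩
    ext i
    fin_cases i
    · simp [h0]
    · simp only [Fin.mk_one, Fin.isValue, Pi.smul_apply, smul_eq_mul]
      field_simp
      linear_combination hd

/-- A non-scalar `2 × 2` matrix has one-dimensional eigenspaces. -/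
theorem eig_line {M : Matrix (Fin 2) (Fin 2) K} {a : K} (hM : M ≠ a • (1 : Matrix (Fin 2) (Fin 2) K))
    {v w : Fin 2 → K} (hv : v ≠ 0) (h₁ : M *ᵥ v = a • v) (h₂ : M *ᵥ w = a • w) :
    ∃ c : K, w = c • v := by
  by_cases hd : v 0 * w 1 - v 1 * w 0 = 0
  · exact exists_smul_of_det hv hd
  · exfalso
    apply hM
    rw [← sub_eq_zero]
    set N := M - a • (1 : Matrix (Fin 2) (Fin 2) K) with hN
    have hNv : N *ᵥ v = 0 := by rw [hN, sub_mulVec, smul_mulVec, one_mulVec, h₁, sub_self]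
    have hNw : N *ᵥ w = 0 := by rw [hN, sub_mulVec, smul_mulVec, one_mulVec, h₂, sub_self]
    ext i j
    have e₁ := congrFun hNv i
    have e₂ := congrFun hNw i
    simp only [mulVec, dotProduct, Fin.sum_univ_two, Pi.zero_apply] at e₁ e₂
    rw [Matrix.zero_apply]
    refine (mul_eq_zero.1 ?_).resolve_right hd
    fin_cases j
    · show N i 0 * _ = 0
      linear_combination w 1 * e₁ - v 1 * e₂
    · show N i 1 * _ = 0
      linear_combination v 0 * e₂ - w 0 * e₁

theorem exists_eigen [IsAlgClosed K] (h2 : (2 : K) ≠ 0) (M : Matrix (Fin 2) (Fin 2) K) :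
    ∃ (a : K) (v : Fin 2 → K), v ≠ 0 ∧ M *ᵥ v = a • v := by
  obtain ⟨s, hs⟩ := IsAlgClosed.exists_eq_mul_self (M.trace * M.trace - 4 * M.det)
  refine ⟨(M.trace + s) / 2, ?_⟩
  set a := (M.trace + s) / 2 with ha
  have ha2 : 2 * a = M.trace + s := by rw [ha]; field_simp
  have h0 : (M - a • (1 : Matrix (Fin 2) (Fin 2) K)).det = 0 := by
    rw [det_fin_two] at hs
    rw [trace_fin_two] at hs ha2
    have h4 : (4 : K) ≠ 0 := by
      rw [show (4 : K) = 2 * 2 by norm_num]
      exact mul_ne_zero h2 h2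
    have key : (M 0 0 - a) * (M 1 1 - a) - M 0 1 * M 1 0 = 0 :=
      (mul_eq_zero.1 (by linear_combination (-1 : K) * hs + (2 * a - M 0 0 - M 1 1 + s) * ha2 :
        (4 : K) * ((M 0 0 - a) * (M 1 1 - a) - M 0 1 * M 1 0) = 0)).resolve_left h4
    simp [det_fin_two]
    exact key
  obtain ⟨v, hv, h⟩ := exists_mulVec_eq_zero_iff.2 h0
  exact ⟨v, hv, by rwa [sub_mulVec, smul_mulVec, one_mulVec, sub_eq_zero] at h⟩

variable {X : Type*} [Group X] [Finite X] [Group.IsSolvable X] (f : X →* Matrix (Fin 2) (Fin 2) K)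

omit [Finite X] [Group.IsSolvable X] in
theorem mulVec_map (x y : X) (v : Fin 2 → K) : f (x * y) *ᵥ v = f x *ᵥ (f y *ᵥ v) := by
  rw [mulVec_mulVec, map_mul]

omit [Finite X] [Group.IsSolvable X] in
theorem mulVec_ne_zero (x : X) {v : Fin 2 → K} (hv : v ≠ 0) : f x *ᵥ v ≠ 0 := fun h => hv (by
  have := congrArg (fun t => f x⁻¹ *ᵥ t) h
  simp only [← mulVec_map f, inv_mul_cancel, map_one, one_mulVec, mulVec_zero] at this
  exact this)

omit [Finite X] [Group.IsSolvable X] in
theorem det_commutator (x y : X) : (f ⁅x, y⁆).det = 1 := by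
  rw [commutatorElement_def, map_mul, map_mul, map_mul, det_mul, det_mul, det_mul, ← det_mul (f x) (f y),
    mul_assoc, ← det_mul (f x⁻¹), ← map_mul, ← map_mul, ← det_mul, ← map_mul]
  have : x * y * (x⁻¹ * y⁻¹) = ⁅x, y⁆ := by rw [commutatorElement_def]; group
  rw [this]
  have h : ∀ z : X, (f z).det * (f z⁻¹).det = 1 := fun z => by
    rw [← det_mul, ← map_mul, mul_inv_cancel, map_one, det_one]
  rw [commutatorElement_def, map_mul, map_mul, map_mul, det_mul, det_mul, det_mul]
  linear_combination (f y).det * (f y⁻¹).det * h x + h y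

theorem common_eigen [IsAlgClosed K] (h2 : (2 : K) ≠ 0) (hf : Function.Injective f)
    (hodd : Odd (Nat.card X)) :
    ∃ v : Fin 2 → K, v ≠ 0 ∧ ∀ x : X, ∃ a : K, f x *ᵥ v = a • v := by
  classical
  let S : X → Prop := fun x => ∃ a : K, f x = a • (1 : Matrix (Fin 2) (Fin 2) K)
  by_cases hall : ∀ x, S x
  · refine ⟨Pi.single 0 1, by simp, fun x => ?_⟩
    obtain ⟨a, ha⟩ := hall x
    exact ⟨a, by rw [ha, smul_mulVec, one_mulVec]⟩
  have hcomm : ∀ x y : X, S ⁅x, y⁆ → x * y = y * x := by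
    rintro x y ⟨a, ha⟩
    have hd := det_commutator f x y
    rw [ha, det_smul, det_one, mul_one, Fintype.card_fin] at hd
    have hsq : ⁅x, y⁆ ^ 2 = 1 := hf (by rw [map_pow, ha, smul_pow, one_pow, hd, one_smul, map_one])
    have ho : orderOf ⁅x, y⁆ = 1 := Nat.eq_one_of_dvd_coprimes (Nat.coprime_two_right.2 hodd).symm
      (orderOf_dvd_of_pow_eq_one hsq) (orderOf_dvd_natCard _)
    exact commutatorElement_eq_one_iff_mul_comm.1 (orderOf_eq_one_iff.1 ho)
  have hex : ∃ k, ∀ x ∈ derivedSeries X k, S x := by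
    obtain ⟨k, hk⟩ := (Group.isSolvable_def X).1 inferInstance
    refine ⟨k, fun x hx => ⟨1, ?_⟩⟩
    rw [hk, Subgroup.mem_bot] at hx
    rw [hx, map_one, one_smul]
  obtain ⟨k, hk⟩ : ∃ k, Nat.find hex = k + 1 := Nat.exists_eq_succ_of_ne_zero fun h0 => hall fun x =>
    Nat.find_spec hex x (by rw [h0, derivedSeries_zero]; trivial)
  set D := derivedSeries X k with hD
  have hDn : D.Normal := derivedSeries_normal X k
  have hDc : ∀ x ∈ D, ∀ y ∈ D, x * y = y * x := fun x hx y hy => hcomm x y (Nat.find_spec hex _ (by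
    rw [hk, derivedSeries_succ]; exact Subgroup.commutator_mem_commutator hx hy))
  obtain ⟨x, hxD, hxS⟩ : ∃ x ∈ D, ¬ S x := by
    have := Nat.find_min hex (show k < Nat.find hex by omega)
    push Not at this
    exact this
  have hns : ∀ a : K, f x ≠ a • (1 : Matrix (Fin 2) (Fin 2) K) := fun a ha => hxS ⟨a, ha⟩
  obtain ⟨a, v, hv, hxv⟩ := exists_eigen h2 (f x)
  let Com : (Fin 2 → K) → Prop := fun u => u ≠ 0 ∧ ∀ y ∈ D, ∃ c : K, f y *ᵥ u = c • u
  have hComv : Com v := ⟨hv, fun y hy => eig_line (hns a) hv hxv (by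
    rw [← mulVec_map f, hDc x hxD y hy, mulVec_map f, hxv, mulVec_smul])⟩
  have hCom : ∀ g : X, ∀ u, Com u → Com (f g *ᵥ u) := by
    intro g u hu
    refine ⟨mulVec_ne_zero f g hu.1, fun y hy => ?_⟩
    obtain ⟨c, hc⟩ := hu.2 (g⁻¹ * y * g) (by simpa using hDn.conj_mem y hy g⁻¹)
    refine ⟨c, ?_⟩
    rw [← mulVec_map f, show y * g = g * (g⁻¹ * y * g) by group, mulVec_map f, hc, mulVec_smul]
  refine ⟨v, hv, fun g => ?_⟩
  set w := f g *ᵥ v with hw
  obtain ⟨hw0, hwc⟩ := hCom g v hComv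
  obtain ⟨hz0, hzc⟩ := hCom g w ⟨hw0, hwc⟩
  set z := f g *ᵥ w with hz
  obtain ⟨b, hxw⟩ := hwc x hxD
  obtain ⟨c, hxz⟩ := hzc x hxD
  by_cases hab : b = a
  · exact eig_line (hns a) hv hxv (hab ▸ hxw)
  have hd : v 0 * w 1 - v 1 * w 0 ≠ 0 := by
    intro hd
    obtain ⟨e, he⟩ := exists_smul_of_det hv hd
    apply hab
    have h : (b - a) • w = 0 := by
      have h1 : f x *ᵥ w = a • w := by rw [he, mulVec_smul, hxv, smul_comm]
      rw [sub_smul, ← hxw, h1, sub_self]
    exact sub_eq_zero.1 ((smul_eq_zero.1 h).resolve_right hw0)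
  obtain ⟨α, β, hαβ⟩ : ∃ α β : K, z = α • v + β • w := by
    refine ⟨(z 0 * w 1 - z 1 * w 0) / (v 0 * w 1 - v 1 * w 0),
      (v 0 * z 1 - v 1 * z 0) / (v 0 * w 1 - v 1 * w 0), ?_⟩
    ext i
    simp only [Pi.add_apply, Pi.smul_apply, smul_eq_mul]
    rw [div_mul_eq_mul_div, div_mul_eq_mul_div, ← add_div, eq_div_iff hd]
    fin_cases i
    · simp only [Fin.zero_eta, Fin.isValue]; ring
    · simp only [Fin.mk_one, Fin.isValue]; ring
  -- z is an eigenvector of `f x`, hence on one of the two lines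
  have hzero : (c - a) * α = 0 ∧ (c - b) * β = 0 := by
    have e : c • z = (α * a) • v + (β * b) • w := by
      rw [← hxz, hαβ, mulVec_add, mulVec_smul, mulVec_smul, hxv, hxw, smul_smul, smul_smul]
    rw [hαβ] at e
    have e0 := congrFun e 0
    have e1 := congrFun e 1
    simp only [Pi.add_apply, Pi.smul_apply, smul_eq_mul] at e0 e1
    constructor
    · refine (mul_eq_zero.1 ?_).resolve_right hd
      linear_combination w 1 * e0 - w 0 * e1
    · refine (mul_eq_zero.1 ?_).resolve_right hd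
      linear_combination v 0 * e1 - v 1 * e0
  have hfix : ∀ u : Fin 2 → K, ∀ c : K, f g *ᵥ (f g *ᵥ u) = c • u →
      ∀ n : ℕ, ∃ d : K, f ((g * g) ^ n) *ᵥ u = d • u := by
    intro u c hu n
    induction n with
    | zero => exact ⟨1, by rw [pow_zero, map_one, one_mulVec, one_smul]⟩
    | succ n ih =>
      obtain ⟨d, hd⟩ := ih
      exact ⟨c * d, by rw [pow_succ, mulVec_map f, mulVec_map f g g, hu, mulVec_smul, hd, smul_smul]⟩
  obtain ⟨m, hm⟩ := exists_pow_eq_self_of_coprime (x := g) (n := 2)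
    ((Nat.coprime_two_left.2 (hodd.of_dvd_nat (orderOf_dvd_natCard g))))
  rw [pow_two] at hm
  rcases mul_eq_zero.1 hzero.1 with hca | hα
  · have hca' : c = a := sub_eq_zero.1 hca
    have hβ : β = 0 := (mul_eq_zero.1 hzero.2).resolve_left (by rw [hca']; exact sub_ne_zero.2 (Ne.symm hab))
    rw [hβ, zero_smul, add_zero] at hαβ
    obtain ⟨d, hd'⟩ := hfix v α (by rw [← hw, ← hz, hαβ]) m
    exact ⟨d, by rwa [hm] at hd'⟩
  · rw [hα, zero_smul, zero_add] at hαβ
    have hβ : β ≠ 0 := fun h => hz0 (by rw [hαβ, h, zero_smul])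
    have hkill : f g *ᵥ (β⁻¹ • w - v) = 0 := by
      rw [mulVec_sub, mulVec_smul, ← hz, ← hw, hαβ, smul_smul, inv_mul_cancel₀ hβ, one_smul, sub_self]
    have hvw : β⁻¹ • w = v := by
      by_contra h
      exact mulVec_ne_zero f g (sub_ne_zero.2 h) hkill
    exact ⟨β, by rw [← hvw, smul_smul, mul_inv_cancel₀ hβ, one_smul]⟩

/-- The derived subgroup of a solvable odd-order subgroup of `GL(2, K)` has exponent `p`. -/
theorem derived_pow [IsAlgClosed K] (p : ℕ) [Fact p.Prime] [CharP K p] (hp : p ≠ 2)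
    (hf : Function.Injective f) (hodd : Odd (Nat.card X)) {u : X} (hu : u ∈ commutator X) : u ^ p = 1 := by
  have h2 : (2 : K) ≠ 0 := Ring.two_ne_zero (by rw [ringChar.eq K p]; exact hp)
  obtain ⟨v, hv, hev⟩ := common_eigen f h2 hf hodd
  choose l hl using hev
  have hlmul : ∀ x y, l (x * y) = l x * l y := fun x y => by
    have : l (x * y) • v = (l x * l y) • v := by
      rw [← hl, mulVec_map f, hl y, mulVec_smul, hl x, smul_smul, mul_comm]
    rwa [← sub_eq_zero, ← sub_smul, smul_eq_zero, or_iff_left hv, sub_eq_zero] at this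
  have hl1 : l 1 = 1 := by
    have h := hl 1
    rw [map_one, one_mulVec] at h
    have : (l 1 - 1) • v = 0 := by rw [sub_smul, one_smul, ← h, sub_self]
    rwa [smul_eq_zero, or_iff_left hv, sub_eq_zero] at this
  let L : X →* K := { toFun := l, map_one' := hl1, map_mul' := hlmul }
  let Φ : X →* K × K :=
    { toFun := fun x => ((f x).det, l x)
      map_one' := by rw [map_one, det_one, hl1]; rfl
      map_mul' := fun x y => by rw [map_mul, det_mul, hlmul]; rfl }
  have hcomm : ∀ x y : X, Φ ⁅x, y⁆ = 1 := by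
    intro x y
    refine Prod.ext (det_commutator f x y) ?_
    show L ⁅x, y⁆ = 1
    rw [commutatorElement_def, map_mul, map_mul, map_mul]
    have hx : L x * L x⁻¹ = 1 := by rw [← map_mul, mul_inv_cancel, map_one]
    have hy : L y * L y⁻¹ = 1 := by rw [← map_mul, mul_inv_cancel, map_one]
    linear_combination L y * L y⁻¹ * hx + hy
  have hker : commutator X ≤ Φ.ker := by
    rw [commutator_def, Subgroup.commutator_le]
    exact fun x _ y _ => MonoidHom.mem_ker.2 (hcomm x y)
  obtain ⟨hdet, hlu⟩ := Prod.ext_iff.1 (MonoidHom.mem_ker.1 (hker hu))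
  have hdet' : (f u).det = 1 := hdet
  have hlu' : l u = 1 := hlu
  set M := f u with hM
  have h0 : (M - 1).det = 0 := exists_mulVec_eq_zero_iff.1
    ⟨v, hv, by rw [sub_mulVec, one_mulVec, hl, hlu', one_smul, sub_self]⟩
  have hN : (M - 1) * (M - 1) = 0 := by
    rw [det_fin_two] at hdet'
    simp [det_fin_two] at h0
    have ht : M 0 0 + M 1 1 - 2 = 0 := by linear_combination hdet' - h0
    ext i j
    fin_cases i <;> fin_cases j <;> simp [Matrix.mul_apply, Fin.sum_univ_two]
    · linear_combination (M 0 0 - 1) * ht - h0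
    · linear_combination M 0 1 * ht
    · linear_combination M 1 0 * ht
    · linear_combination (M 1 1 - 1) * ht - h0
  refine hf ?_
  rw [map_pow, map_one, ← hM]
  haveI : CharP (Matrix (Fin 2) (Fin 2) K) p := inferInstance
  have : (M - 1) ^ p = 0 := by
    rw [← Nat.sub_add_cancel (Fact.out : p.Prime).two_le, pow_add, pow_two, hN, mul_zero]
  rw [sub_pow_char_of_commute p (Commute.one_right M), one_pow, sub_eq_zero] at this
  exact this

end Cfsg.Agent.OddOrder.GL2Odd
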