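/-
Automorphisms of `p`-groups of rank at most two, `p` odd.
-/
import Cfsg.Agent.Lib.OddOrder.GL2Odd
import Cfsg.Agent.Lib.Functors.Critical
import Cfsg.Agent.Lib.LocalEven.OmegaOne
import Cfsg.Agent.S3771

set_option autoImplicit false
set_option linter.style.haveILetI false

namespace Cfsg.Agent.OddOrder.RankTwoAut

open scoped commutatorElement

universe u

variable {p : ℕ} [hp : Fact p.Prime]

/-- The automorphism group of an elementary abelian group of order at most `p ^ 2` embeds in `GL(2, p)`. -/
theorem exists_rep {V : Type*} [CommGroup V] [Finite V] (hexp : ∀ v : V, v ^ p = 1)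
    (hcard : Nat.card V ≤ p ^ 2) :
    ∃ ρ : MulAut V →* Matrix (Fin 2) (Fin 2) (ZMod p), Function.Injective ρ := by
  have hmod : ∀ x : Additive V, p • x = 0 := fun x => Additive.toMul.injective (hexp (Additive.toMul x))
  letI := AddCommGroup.zmodModule (n := p) (G := Additive V) hmod
  haveI : Module.Finite (ZMod p) (Additive V) := Module.Finite.of_finite
  let f : MulAut V →* Module.End (ZMod p) (Additive V) :=
    { toFun := fun g => (MonoidHom.toAdditive g.toMonoidHom).toZModLinearMap p
      map_one' := LinearMap.ext fun _ => rfl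
      map_mul' := fun _ _ => LinearMap.ext fun _ => rfl }
  have hfinj : Function.Injective f := fun g h e => MulEquiv.ext fun v =>
    congrArg Additive.toMul (LinearMap.congr_fun e (Additive.ofMul v))
  set n := Module.finrank (ZMod p) (Additive V) with hn
  have hn2 : n ≤ 2 := by
    have h := Module.natCard_eq_pow_finrank (K := ZMod p) (V := Additive V)
    rw [Nat.card_zmod, Nat.card_congr (Additive.toMul (α := V)), ← hn] at h
    exact (Nat.pow_le_pow_iff_right hp.out.one_lt).1 (h ▸ hcard)
  let b := Module.finBasis (ZMod p) (Additive V)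
  let e : Module.End (ZMod p) (Additive V) ≃ₐ[ZMod p] Matrix (Fin n) (Fin n) (ZMod p) :=
    LinearMap.toMatrixAlgEquiv b
  let g : MulAut V →* Matrix (Fin n) (Fin n) (ZMod p) :=
    { toFun := fun x => e (f x), map_one' := by rw [map_one, map_one]
      map_mul' := fun x y => by rw [map_mul, map_mul] }
  have hginj : Function.Injective g := e.injective.comp hfinj
  clear_value g
  clear e b
  clear_value n
  clear hn
  interval_cases n
  · exact ⟨1, fun x y _ => hginj (Subsingleton.elim _ _)⟩
  · refine ⟨{ toFun := fun x => Matrix.diagonal ![g x 0 0, 1]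
              map_one' := by rw [map_one]; ext i j; fin_cases i <;> fin_cases j <;> simp
              map_mul' := fun x y => ?_ }, fun x y h => hginj ?_⟩
    · rw [map_mul, Matrix.diagonal_mul_diagonal]
      ext i j
      fin_cases i <;> fin_cases j <;> simp [Matrix.mul_apply]
    · ext i j
      fin_cases i
      fin_cases j
      have := congrFun (congrFun h 0) 0
      simpa using this
  · exact ⟨g, hginj⟩

/-- A solvable group of odd order acting on an elementary abelian group of order at most `p ^ 2`:
the derived subgroup acts with exponent `p`. -/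
theorem act_derived (hp2 : p ≠ 2) {A : Type*} [Group A] [Finite A] [Group.IsSolvable A]
    (hodd : Odd (Nat.card A)) {V : Type*} [CommGroup V] [Finite V] (hexp : ∀ v : V, v ^ p = 1)
    (hcard : Nat.card V ≤ p ^ 2) (c : A →* MulAut V) {a : A} (ha : a ∈ commutator A) :
    c a ^ p = 1 := by
  obtain ⟨ρ, hρ⟩ := exists_rep hexp hcard
  let K := AlgebraicClosure (ZMod p)
  let m : Matrix (Fin 2) (Fin 2) (ZMod p) →+* Matrix (Fin 2) (Fin 2) K :=
    (algebraMap (ZMod p) K).mapMatrix
  have hm : Function.Injective m := fun A B h => by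
    ext i j
    exact (algebraMap (ZMod p) K).injective (congrFun (congrFun h i) j)
  let f : c.range →* Matrix (Fin 2) (Fin 2) K := (m.toMonoidHom.comp ρ).comp c.range.subtype
  have hf : Function.Injective f := (hm.comp hρ).comp Subtype.val_injective
  have hsurj := c.rangeRestrict_surjective
  haveI : Group.IsSolvable c.range := Group.isSolvable_of_surjective hsurj
  haveI : Finite c.range := Finite.of_surjective _ hsurj
  haveI : CharP K p := charP_of_injective_algebraMap (algebraMap (ZMod p) K).injective p
  have hu : c.rangeRestrict a ∈ commutator c.range := by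
    rw [commutator_def, ← Subgroup.map_top_of_surjective _ hsurj, ← Subgroup.map_commutator]
    exact ⟨a, ha, rfl⟩
  exact congrArg Subtype.val (GL2Odd.derived_pow f p hp2 hf
    (hodd.of_dvd_nat (Subgroup.card_dvd_of_surjective _ hsurj)) hu)

/-- A prime other than `p` dividing the order of an automorphism of an elementary abelian group of order
at most `p ^ 2` divides `p ^ 2 - 1` and is smaller than `p`. -/
theorem act_prime (hp2 : p ≠ 2) {V : Type*} [CommGroup V] [Finite V] (hexp : ∀ v : V, v ^ p = 1)
    (hcard : Nat.card V ≤ p ^ 2) {q : ℕ} (hq : q.Prime) (hqp : q ≠ p) {a : MulAut V} (ha : orderOf a = q) :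
    q ∣ p ^ 2 - 1 ∧ q < p := by
  obtain ⟨ρ, hρ⟩ := exists_rep hexp hcard
  let ψ : MulAut V →* Matrix.GeneralLinearGroup (Fin 2) (ZMod p) := ρ.toHomUnits
  have hψ : Function.Injective ψ := fun x y h => hρ (congrArg Units.val h)
  have hd : q ∣ Nat.card (Matrix.GeneralLinearGroup (Fin 2) (ZMod p)) := by
    rw [← ha, ← orderOf_injective ψ hψ]
    exact orderOf_dvd_natCard _
  rw [Matrix.card_GL_field, Fin.prod_univ_two, ZMod.card] at hd
  simp only [Fin.val_zero, Fin.val_one, pow_zero, pow_one] at hd
  have hp3 : 3 ≤ p := by have := hp.out.two_le; omega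
  have hfac : p ^ 2 - p = p * (p - 1) := by rw [Nat.mul_sub, pow_two, mul_one]
  have hsq : p ^ 2 - 1 = (p + 1) * (p - 1) := by simpa using Nat.sq_sub_sq p 1
  have hor : q ∣ p + 1 ∨ q ∣ p - 1 := by
    rw [hfac, hsq] at hd
    rcases (Nat.Prime.dvd_mul hq).1 hd with h | h
    · exact (Nat.Prime.dvd_mul hq).1 h
    · rcases (Nat.Prime.dvd_mul hq).1 h with h | h
      · exact absurd ((Nat.prime_dvd_prime_iff_eq hq hp.out).1 h) hqp
      · exact Or.inr h
  refine ⟨hsq ▸ hor.elim (fun h => h.mul_right _) (fun h => h.mul_left _), ?_⟩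
  rcases hor with h | h
  · obtain ⟨k, hk⟩ := h
    rcases Nat.lt_or_ge k 2 with hk2 | hk2
    · interval_cases k
      · omega
      · exfalso
        obtain ⟨j, hj⟩ := hp.out.odd_of_ne_two hp2
        have : q = 2 := ((Nat.prime_dvd_prime_iff_eq Nat.prime_two hq).1 ⟨j + 1, by omega⟩).symm
        omega
    · have : q * 2 ≤ q * k := Nat.mul_le_mul_left q hk2
      omega
  · have := Nat.le_of_dvd (by omega) h
    omega

/-- The automorphism induced on a characteristic subgroup. -/
def restrictAut {R : Type*} [Group R] (W : Subgroup R) (hW : ∀ φ : MulAut R, ∀ x ∈ W, φ x ∈ W) :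
    MulAut R →* MulAut W where
  toFun φ :=
    { toFun := fun w => ⟨φ w, hW φ w w.2⟩
      invFun := fun w => ⟨φ.symm w, hW φ.symm w w.2⟩
      left_inv := fun w => Subtype.ext (φ.symm_apply_apply _)
      right_inv := fun w => Subtype.ext (φ.apply_symm_apply _)
      map_mul' := fun x y => Subtype.ext (map_mul φ _ _) }
  map_one' := rfl
  map_mul' _ _ := rfl

/-- The automorphism induced on the quotient by a characteristic subgroup. -/
def quotientAut {W : Type*} [Group W] (N : Subgroup W) [N.Normal]
    (hN : ∀ φ : MulAut W, N.map φ.toMonoidHom = N) : MulAut W →* MulAut (W ⧸ N) where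
  toFun φ := QuotientGroup.congr N N φ (hN φ)
  map_one' := MulEquiv.ext fun x => by
    induction x using QuotientGroup.induction_on with | H x => rfl
  map_mul' φ ψ := MulEquiv.ext fun x => by
    induction x using QuotientGroup.induction_on with | H x => rfl

/-- An automorphism of order prime to `p` fixing the elements of order dividing `p` of a critical
subgroup is trivial. -/
theorem eq_one_of_fix_omega {R : Type*} [Group R] [Finite R] (hp2 : p ≠ 2) (hR : IsPGroup p R)
    {H : Subgroup R} (hH : Critical.IsCritical p H) {a : MulAut R} (ha : (orderOf a).Coprime p)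
    (hfix : ∀ x ∈ H, x ^ p = 1 → a x = x) : a = 1 := by
  refine hH.mulAut_eq_one' hR ha fun x hx => ?_
  let Γ := R ⋊[MonoidHom.id (MulAut R)] MulAut R
  haveI : Finite Γ := Finite.of_equiv _ SemidirectProduct.equivProd.symm
  set Q : Subgroup Γ := H.map SemidirectProduct.inl with hQ
  have hconj : ∀ (φ : MulAut R) (y : R), (SemidirectProduct.inr φ : Γ) * SemidirectProduct.inl y *
      (SemidirectProduct.inr φ)⁻¹ = SemidirectProduct.inl (φ y) := fun φ y => by
    rw [← map_inv]; exact (SemidirectProduct.inl_aut φ y).symm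
  have hnorm : (SemidirectProduct.inr a : Γ) ∈ Subgroup.normalizer (Q : Set Γ) := by
    rw [Subgroup.mem_normalizer_iff_map_conj_eq, hQ, Subgroup.map_map]
    haveI := hH.char
    conv_rhs => rw [← Subgroup.characteristic_iff_map_eq.1 hH.char a, Subgroup.map_map]
    congr 1
    refine MonoidHom.ext fun y => ?_
    show _ * SemidirectProduct.inl y * _ = SemidirectProduct.inl (a y)
    exact hconj a y
  have := LEOmega.commute_of_omega hp2 (x := (SemidirectProduct.inr a : Γ))
    (by rwa [orderOf_injective _ SemidirectProduct.inr_injective]) _ Q le_rfl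
    ((hR.to_subgroup H).map _) hnorm ?_ _ ⟨x, hx, rfl⟩
  · apply SemidirectProduct.inl_injective (φ := MonoidHom.id (MulAut R))
    rw [← hconj]
    exact mul_inv_eq_iff_eq_mul.2 this
  · rintro _ ⟨y, hy, rfl⟩ hyp
    rw [← map_pow] at hyp
    refine mul_inv_eq_iff_eq_mul.1 ?_
    rw [hconj, hfix y hy ((map_eq_one_iff _ SemidirectProduct.inl_injective).1 hyp)]

/-- A `p`-group of rank at most two has a small elementary abelian section on which every
automorphism of order prime to `p` acts faithfully. -/
theorem exists_small_action {R : Type u} [Group R] [Finite R] (hp2 : p ≠ 2) (hR : IsPGroup p R)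
    (hrk : Cfsg.PRankLE p 2 R) :
    ∃ (V : Type u) (_ : CommGroup V) (_ : Finite V) (ψ : MulAut R →* MulAut V),
      (∀ v : V, v ^ p = 1) ∧ Nat.card V ≤ p ^ 2 ∧
      ∀ a : MulAut R, (orderOf a).Coprime p → ψ a = 1 → a = 1 := by
  classical
  obtain ⟨H, hH⟩ := Critical.exists_critical hR
  have hdiv : p ∣ p.choose 2 :=
    hp.out.dvd_choose_self two_ne_zero (lt_of_le_of_ne hp.out.two_le (Ne.symm hp2))
  have hcz : ∀ x ∈ H, ∀ y ∈ H, ⁅x, y⁆ ∈ H ∧ ∀ w ∈ H, w * ⁅x, y⁆ = ⁅x, y⁆ * w := fun x _ y hy => by
    have h := Subgroup.mem_inf.1 (hH.comm (Subgroup.commutator_mem_commutator (Subgroup.mem_top x) hy))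
    exact ⟨h.1, fun w hw => Subgroup.mem_centralizer_iff.1 h.2 w hw⟩
  let W : Subgroup R :=
    { carrier := {x | x ∈ H ∧ x ^ p = 1}
      one_mem' := ⟨one_mem _, one_pow p⟩
      mul_mem' := fun {a b} ha hb => ⟨mul_mem ha.1 hb.1, by
        set z := ⁅b⁻¹, a⁻¹⁆ with hz
        have hzH := hcz b⁻¹ (inv_mem hb.1) a⁻¹ (inv_mem ha.1)
        have hba : b * a = a * b * z := by rw [hz, commutatorElement_def]; group
        have hza : Commute z a := (hzH.2 a ha.1).symm
        have hzb : Commute z b := (hzH.2 b hb.1).symm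
        have hzp : z ^ p = 1 := by
          have h1 := LEOmega.pow_mul_swap hba hzb p
          rw [hb.2, one_mul, mul_one] at h1
          exact left_eq_mul.1 h1
        obtain ⟨k, hk⟩ := hdiv
        rw [LEOmega.mul_pow_class_two hba hza hzb p, ha.2, hb.2, one_mul, one_mul, hk, pow_mul, hzp,
          one_pow]⟩
      inv_mem' := fun {a} ha => ⟨inv_mem ha.1, by rw [inv_pow, ha.2, inv_one]⟩ }
  have hWchar : ∀ φ : MulAut R, ∀ x ∈ W, φ x ∈ W := fun φ x hx => ⟨by
    haveI := hH.char
    exact (Subgroup.characteristic_iff_le_comap.1 hH.char φ) hx.1, by rw [← map_pow, hx.2, map_one]⟩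
  have hWp : ∀ w : W, w ^ p = 1 := fun w => Subtype.ext w.2.2
  have hWrk : Cfsg.PRankLE p 2 W := fun A hA hAp => by
    rw [← Subgroup.card_map_of_injective (K := A) W.subtype_injective]
    haveI := hA
    exact hrk _ inferInstance (by rintro _ ⟨a, ha, rfl⟩; rw [← map_pow, hAp a ha, map_one])
  have hW3 := S3771.result (hR.to_subgroup W) hWrk hWp
  let N : Subgroup W := if IsMulCommutative W then ⊥ else Subgroup.center W
  haveI hNn : N.Normal := by simp only [N]; split <;> infer_instance
  have hNchar : ∀ φ : MulAut W, N.map φ.toMonoidHom = N := fun φ => by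
    simp only [N]; split
    · exact Subgroup.map_bot _
    · exact Subgroup.characteristic_iff_map_eq.1 inferInstance φ
  have hcenW : ∀ x y : W, ⁅x, y⁆ ∈ Subgroup.center W := fun x y => Subgroup.mem_center_iff.2 fun w =>
    Subtype.ext ((hcz x.1 x.2.1 y.1 y.2.1).2 w.1 w.2.1)
  have hquot : ∀ a b : W ⧸ N, a * b = b * a := by
    intro a b
    induction a using QuotientGroup.induction_on with | H a => ?_
    induction b using QuotientGroup.induction_on with | H b => ?_
    rw [← QuotientGroup.mk_mul, ← QuotientGroup.mk_mul, QuotientGroup.eq]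
    by_cases hc : IsMulCommutative W
    · rw [mul_comm' a b, inv_mul_cancel]; exact one_mem _
    · simp only [N, hc, if_false]
      have e : (a * b)⁻¹ * (b * a) = ⁅b⁻¹, a⁻¹⁆ := by rw [commutatorElement_def]; group
      rw [e]; exact hcenW _ _
  letI : CommGroup (W ⧸ N) := { (inferInstance : Group (W ⧸ N)) with mul_comm := hquot }
  have hpow : ∀ v : W ⧸ N, v ^ p = 1 := fun v => by
    induction v using QuotientGroup.induction_on with | H v => ?_
    rw [← QuotientGroup.mk_pow, hWp, QuotientGroup.mk_one]
  have hcardN := N.card_eq_card_quotient_mul_card_subgroup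
  have hcard : Nat.card (W ⧸ N) ≤ p ^ 2 := by
    by_cases hc : IsMulCommutative W
    · have h := hWrk ⊤ inferInstance (fun a _ => hWp a)
      rw [Subgroup.card_top] at h
      exact le_trans (Nat.le_of_dvd Nat.card_pos (Subgroup.card_quotient_dvd_card N)) h
    · have hN : N = Subgroup.center W := by simp only [N, hc, if_false]
      haveI : Nontrivial W := not_subsingleton_iff_nontrivial.1 fun h => hc ⟨⟨fun a b => Subsingleton.elim _ _⟩⟩
      haveI := (hR.to_subgroup W).center_nontrivial
      obtain ⟨k, hk, hk'⟩ := ((hR.to_subgroup W).to_subgroup (Subgroup.center W)).nontrivial_iff_card.1 inferInstance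
      have : p ≤ Nat.card N := by rw [hN, hk']; exact Nat.le_self_pow hk.ne' p
      have h3 : Nat.card (W ⧸ N) * p ≤ p ^ 2 * p := by
        rw [← pow_succ]
        exact le_trans (Nat.mul_le_mul_left _ this) (hcardN ▸ hW3)
      exact Nat.le_of_mul_le_mul_right h3 hp.out.pos
  refine ⟨W ⧸ N, inferInstance, inferInstance,
    (quotientAut N hNchar).comp (restrictAut W hWchar), hpow, hcard, fun a ha hψ => ?_⟩
  have hmod : ∀ w : W, w⁻¹ * restrictAut W hWchar a w ∈ N := fun w =>
    QuotientGroup.eq.1 (DFunLike.congr_fun hψ (w : W ⧸ N)).symm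
  set b := restrictAut W hWchar a with hb
  have hbn : b ^ orderOf a = 1 := by rw [hb, ← map_pow, pow_orderOf_eq_one, map_one]
  have hfixN : ∀ z ∈ N, b z = z := by
    intro z hz
    by_cases hc : IsMulCommutative W
    · simp only [N, hc, if_true, Subgroup.mem_bot] at hz
      rw [hz, map_one]
    · simp only [N, hc, if_false] at hz
      -- the centre is generated by a commutator
      obtain ⟨x, y, hxy⟩ : ∃ x y : W, ⁅x, y⁆ ≠ 1 := by
        by_contra h
        push Not at h
        exact hc ⟨⟨fun x y => commutatorElement_eq_one_iff_mul_comm.1 (h x y)⟩⟩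
      have hZ : Nat.card (Subgroup.center W) ≤ p := by
        by_contra hlt
        apply hc
        obtain ⟨k, hk⟩ := IsPGroup.iff_card.1 ((hR.to_subgroup W).to_subgroup (Subgroup.center W))
        have hk2 : 2 ≤ k := by
          by_contra h
          exact hlt (hk ▸ (Nat.pow_le_pow_right hp.out.pos (by omega : k ≤ 1)).trans (pow_one p).le)
        have h1 := (Subgroup.center W).card_eq_card_quotient_mul_card_subgroup
        have hle : Nat.card (W ⧸ Subgroup.center W) ≤ p := by
          refine Nat.le_of_mul_le_mul_right ?_ (pow_pos hp.out.pos 2)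
          calc Nat.card (W ⧸ Subgroup.center W) * p ^ 2
              ≤ Nat.card (W ⧸ Subgroup.center W) * Nat.card (Subgroup.center W) :=
                Nat.mul_le_mul_left _ (hk ▸ Nat.pow_le_pow_right hp.out.pos hk2)
            _ ≤ p * p ^ 2 := by rw [← h1, ← pow_succ']; exact hW3
        haveI : IsCyclic (W ⧸ Subgroup.center W) := by
          obtain ⟨j, hj⟩ := IsPGroup.iff_card.1 ((hR.to_subgroup W).to_quotient (Subgroup.center W))
          have hj1 : j ≤ 1 := (Nat.pow_le_pow_iff_right hp.out.one_lt).1 (by rw [pow_one, ← hj]; exact hle)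
          interval_cases j
          · haveI := (Nat.card_eq_one_iff_unique.1 (by simpa using hj)).1
            exact isCyclic_of_subsingleton
          · exact isCyclic_of_prime_card (p := p) (by simpa using hj)
        exact ⟨⟨commutative_of_cyclic_center_quotient (QuotientGroup.mk' (Subgroup.center W))
          (QuotientGroup.ker_mk' _).le⟩⟩
      have hzgen : z ∈ Subgroup.zpowers ⁅x, y⁆ := by
        have hle : Subgroup.zpowers ⁅x, y⁆ ≤ Subgroup.center W := Subgroup.zpowers_le.2 (hcenW x y)
        have ho : orderOf ⁅x, y⁆ = p := orderOf_eq_prime (hWp _) hxy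
        rw [Subgroup.eq_of_le_of_card_ge hle (by rw [Nat.card_zpowers, ho]; exact hZ)]
        exact hz
      obtain ⟨i, rfl⟩ := hzgen
      show b (⁅x, y⁆ ^ i) = ⁅x, y⁆ ^ i
      rw [map_zpow, map_commutatorElement]
      congr 1
      have hN : N = Subgroup.center W := by simp only [N, hc, if_false]
      have hu := Subgroup.mem_center_iff.1 (hN ▸ hmod x)
      have hv := Subgroup.mem_center_iff.1 (hN ▸ hmod y)
      set u := x⁻¹ * b x with hu'
      set v := y⁻¹ * b y with hv'
      rw [show b x = x * u by rw [hu']; group, show b y = y * v by rw [hv']; group]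
      simp only [commutatorElement_def, mul_inv_rev]
      calc x * u * (y * v) * (u⁻¹ * x⁻¹) * (v⁻¹ * y⁻¹)
          = x * (u * (y * v) * u⁻¹) * x⁻¹ * (v⁻¹ * y⁻¹) := by group
        _ = x * y * (v * (x⁻¹ * v⁻¹)) * y⁻¹ := by
          rw [← hu (y * v), mul_inv_cancel_right]; group
        _ = x * y * x⁻¹ * y⁻¹ := by rw [← mul_assoc v, ← hv x⁻¹]; group
  refine eq_one_of_fix_omega hp2 hR hH ha fun x hx hxp => ?_
  let w : W := ⟨x, hx, hxp⟩
  set d := w⁻¹ * b w with hd
  have hiter : ∀ n : ℕ, (b ^ n) w = w * d ^ n := by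
    intro n
    induction n with
    | zero => simp
    | succ n ih =>
      rw [pow_succ', MulAut.mul_apply, ih, map_mul, map_pow, hfixN d (hmod w), pow_succ', ← mul_assoc,
        show w * d = b w by rw [hd, mul_inv_cancel_left]]
  have h1 := hiter (orderOf a)
  rw [hbn, MulAut.one_apply, left_eq_mul] at h1
  have hd1 : d = 1 := orderOf_eq_one_iff.1 (Nat.eq_one_of_dvd_coprimes ha
    (orderOf_dvd_of_pow_eq_one h1) (orderOf_dvd_of_pow_eq_one (hWp d)))
  exact congrArg Subtype.val (inv_mul_eq_one.1 hd1).symm

/-- A solvable group of odd order acting on a `p`-group of rank at most two: the derived subgroup acts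
as a `p`-group. -/
theorem aut_derived {R : Type*} [Group R] [Finite R] (hp2 : p ≠ 2) (hR : IsPGroup p R)
    (hrk : Cfsg.PRankLE p 2 R) {A : Type*} [Group A] [Finite A] [Group.IsSolvable A]
    (hodd : Odd (Nat.card A)) (c : A →* MulAut R) {a : A} (ha : a ∈ commutator A) :
    ∃ k, c a ^ p ^ k = 1 := by
  obtain ⟨V, _, _, ψ, hexp, hcard, hker⟩ := exists_small_action hp2 hR hrk
  have h := act_derived hp2 hodd hexp hcard (ψ.comp c) ha
  rw [MonoidHom.comp_apply, ← map_pow] at h
  set z := c a ^ p with hz
  obtain ⟨k, m, hm, hcard'⟩ := Nat.exists_eq_pow_mul_and_not_dvd (orderOf_pos z).ne' p hp.out.ne_one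
  refine ⟨k + 1, ?_⟩
  rw [pow_succ', pow_mul, ← hz]
  refine hker _ ?_ (by rw [map_pow, h, one_pow])
  rw [orderOf_pow_of_dvd (pow_ne_zero k hp.out.ne_zero) (hcard' ▸ dvd_mul_right _ _), hcard',
    Nat.mul_div_cancel_left _ (pow_pos hp.out.pos k)]
  exact (hp.out.coprime_iff_not_dvd.2 hm).symm

/-- Primes other than `p` in the automorphism group of a `p`-group of rank at most two. -/
theorem aut_prime {R : Type*} [Group R] [Finite R] (hp2 : p ≠ 2) (hR : IsPGroup p R)
    (hrk : Cfsg.PRankLE p 2 R) {q : ℕ} (hq : q.Prime) (hqp : q ≠ p) {a : MulAut R} (ha : orderOf a = q) :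
    q ∣ p ^ 2 - 1 ∧ q < p := by
  obtain ⟨V, _, _, ψ, hexp, hcard, hker⟩ := exists_small_action hp2 hR hrk
  refine act_prime hp2 hexp hcard hq hqp (a := ψ a) ?_
  haveI := Fact.mk hq
  refine orderOf_eq_prime (by rw [← map_pow, ← ha, pow_orderOf_eq_one, map_one]) fun h => ?_
  have := hker a (ha ▸ (Nat.coprime_primes hq hp.out).2 hqp) h
  rw [this, orderOf_one] at ha
  exact hq.ne_one ha.symm

end Cfsg.Agent.OddOrder.RankTwoAut
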