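/-
Solvable groups of odd order and `p`-rank at most two (Bender-Glauberman 4.18).
-/
import Cfsg.Agent.Lib.OddOrder.RankTwoAut
import Cfsg.Agent.Lib.Solvable.Fitting
import Cfsg.Prelude.Def_Local
import Cfsg.Prelude.Def_Transfer

set_option autoImplicit false
set_option linter.style.haveILetI false

namespace Cfsg.Agent.OddOrder.RankTwo

open scoped commutatorElement

variable {p : ℕ} [hp : Fact p.Prime]

omit hp in
theorem prankLE_mono {G : Type*} [Group G] {H : Subgroup G} {k : ℕ} (h : Cfsg.PRankLE p k G) :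
    Cfsg.PRankLE p k H := fun A hA hAp => by
  rw [← Subgroup.card_map_of_injective (K := A) H.subtype_injective]
  haveI := hA
  exact h _ inferInstance (by rintro _ ⟨a, ha, rfl⟩; rw [← map_pow, hAp a ha, map_one])

/-- The `p`-rank does not grow modulo a normal `p'`-subgroup. -/
theorem prankLE_quotient {G : Type*} [Group G] [Finite G] (O : Subgroup G) [O.Normal]
    (hO : (Nat.card O).Coprime p) {k : ℕ} (h : Cfsg.PRankLE p k G) : Cfsg.PRankLE p k (G ⧸ O) := by
  intro A hA hAp
  set π := QuotientGroup.mk' O with hπ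
  set L := A.comap π with hL
  set f := π.subgroupMap L with hf
  have hfs : Function.Surjective f := π.subgroupMap_surjective L
  have hLA : L.map π = A := Subgroup.map_comap_eq_self_of_surjective (QuotientGroup.mk'_surjective O) A
  have hAgrp : IsPGroup p (L.map π) := fun a => ⟨1, Subtype.ext (by
    rw [pow_one, SubmonoidClass.coe_pow, OneMemClass.coe_one]; exact hAp _ (hLA ▸ a.2))⟩
  obtain ⟨Q⟩ : Nonempty (Sylow p L) := inferInstance
  have htop : ((Q.mapSurjective hfs : Sylow p (L.map π)) : Subgroup (L.map π)) = ⊤ :=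
    ((Q.mapSurjective hfs).3 (hAgrp.of_equiv Subgroup.topEquiv.symm) le_top).symm
  set Q' := (Q : Subgroup L).map L.subtype with hQ'
  have hQO : ∀ x ∈ Q', π x = 1 → x = 1 := fun x hx hx1 => by
    refine orderOf_eq_one_iff.1 (Nat.eq_one_of_dvd_coprimes ?_
      (Subgroup.orderOf_dvd_natCard Q' hx) (Subgroup.orderOf_dvd_natCard O ((QuotientGroup.eq_one_iff x).1 hx1)))
    obtain ⟨n, hn⟩ := IsPGroup.iff_card.1 (Q.isPGroup'.map L.subtype)
    rw [hn]; exact Nat.Coprime.pow_left n hO.symm
  have hmem : ∀ x ∈ Q', π x ∈ A := by rintro _ ⟨y, -, rfl⟩; exact hLA ▸ ⟨y, y.2, rfl⟩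
  have hQc : IsMulCommutative Q' := .of_setLike_mul_comm fun x hx y hy => by
    haveI := hA
    have h1 : π (x * y * (y * x)⁻¹) = 1 := by
      rw [map_mul, map_inv, map_mul, map_mul,
        show π x * π y = π y * π x from congrArg Subtype.val (mul_comm' (⟨_, hmem x hx⟩ : A) ⟨_, hmem y hy⟩),
        mul_inv_cancel]
    exact mul_inv_eq_one.1 (hQO _ (mul_mem (mul_mem hx hy) (inv_mem (mul_mem hy hx))) h1)
  have hcard : Nat.card A ≤ Nat.card Q' := by
    refine Nat.card_le_card_of_surjective (fun x : Q' => (⟨π x, hmem x x.2⟩ : A)) fun a => ?_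
    obtain ⟨q, hq, hqa⟩ : (⟨a.1, hLA.symm ▸ a.2⟩ : L.map π) ∈ (Q : Subgroup L).map f := by
      rw [← Sylow.coe_mapSurjective hfs, htop]; trivial
    refine ⟨⟨q, q, hq, rfl⟩, Subtype.ext ?_⟩
    exact (congrArg Subtype.val hqa : (f q : G ⧸ O) = a)
  refine hcard.trans (h Q' hQc fun x hx => hQO _ (pow_mem hx p) ?_)
  rw [map_pow, hAp _ (hmem x hx)]

/-- A normal `p'`-subgroup with `p`-group quotient is a normal `p`-complement. -/
theorem hasNormalPComplement_of {G : Type*} [Group G] [Finite G] (N : Subgroup G) [N.Normal]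
    (hN : (Nat.card N).Coprime p) (hq : IsPGroup p (G ⧸ N)) : Cfsg.HasNormalPComplement p G := by
  obtain ⟨P⟩ : Nonempty (Sylow p G) := inferInstance
  refine ⟨P, N, inferInstance, Subgroup.isComplement'_of_coprime ?_ ?_⟩
  · obtain ⟨n, hn⟩ := IsPGroup.iff_card.1 hq
    obtain ⟨m, hm⟩ := IsPGroup.iff_card.1 P.isPGroup'
    have hG := N.card_eq_card_quotient_mul_card_subgroup
    have hP : Nat.card (P : Subgroup G) = p ^ n := by
      rw [Sylow.card_eq_multiplicity, hG, hn]
      congr 1
      rw [Nat.factorization_mul (pow_ne_zero n hp.out.ne_zero) Nat.card_pos.ne', Finsupp.add_apply,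
        Nat.Prime.factorization_pow hp.out, Finsupp.single_eq_same,
        Nat.factorization_eq_zero_of_not_dvd ((hp.out.coprime_iff_not_dvd).1 hN.symm), add_zero]
    rw [hP, hG, hn, mul_comm]
  · obtain ⟨m, hm⟩ := IsPGroup.iff_card.1 P.isPGroup'
    rw [hm]
    exact Nat.Coprime.pow_right m hN

variable {G : Type*} [Group G] [Finite G] [Group.IsSolvable G]

/-- Odd solvable, `p`-rank at most two, trivial `O_{p'}`: the derived subgroup is a `p`-group and
primes of the order are at most `p`. -/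
theorem core_free (hodd : Odd (Nat.card G)) (hp2 : p ≠ 2) (hr : Cfsg.PRankLE p 2 G)
    (hO : Cfsg.pPrimeCore p G = ⊥) :
    commutator G ≤ Cfsg.pCore p G ∧
      ∀ q : ℕ, q.Prime → q ∣ Nat.card G → q ≠ p → q ∣ p ^ 2 - 1 ∧ q < p := by
  haveI := FittingCores.pCore_normal (G := G) p
  have hP := FittingCores.pCore_isPGroup (G := G) p
  have hC := FittingCores.centralizer_pCore_le hp.out hO
  let c : G →* MulAut (Cfsg.pCore p G) := MulAut.conjNormal
  have hker : ∀ g : G, c g = 1 → g ∈ Cfsg.pCore p G := by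
    intro g hg
    refine hC (Subgroup.mem_centralizer_iff.2 fun y hy => ?_)
    have h := congrArg (fun φ : MulAut (Cfsg.pCore p G) => ((φ ⟨y, hy⟩ : Cfsg.pCore p G) : G)) hg
    have h' : g * y * g⁻¹ = y := by simpa [c] using h
    exact (mul_inv_eq_iff_eq_mul.1 h').symm
  refine ⟨FittingCores.le_pCore inferInstance ?_, fun q hq hd hqp => ?_⟩
  · rintro ⟨x, hx⟩
    obtain ⟨k, hk⟩ := RankTwoAut.aut_derived hp2 hP (prankLE_mono hr) hodd c hx
    rw [← map_pow] at hk
    obtain ⟨l, hl⟩ := hP ⟨_, hker _ hk⟩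
    refine ⟨k + l, Subtype.ext ?_⟩
    have := congrArg Subtype.val hl
    simp only [SubmonoidClass.coe_pow, OneMemClass.coe_one] at this ⊢
    rw [pow_add, pow_mul]
    exact this
  · haveI := Fact.mk hq
    obtain ⟨g, hg⟩ := exists_prime_orderOf_dvd_card' q hd
    refine RankTwoAut.aut_prime hp2 hP (prankLE_mono hr) hq hqp (a := c g)
      (orderOf_eq_prime (by rw [← map_pow, ← hg, pow_orderOf_eq_one, map_one]) fun h => ?_)
    obtain ⟨l, hl⟩ := IsPGroup.iff_orderOf.1 hP ⟨g, hker g h⟩
    rw [Subgroup.orderOf_mk, hg] at hl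
    exact hqp ((Nat.prime_dvd_prime_iff_eq hq hp.out).1 (hq.dvd_of_dvd_pow (dvd_of_eq hl)))

/-- Bender-Glauberman 4.18 (b), (d): the derived subgroup lies in `O_{p',p}`, of index prime to `p`. -/
theorem structure_general (hodd : Odd (Nat.card G)) (hp2 : p ≠ 2) (hr : Cfsg.PRankLE p 2 G) :
    commutator G ≤ Cfsg.pPrimePCore p G ∧ ((Cfsg.pPrimePCore p G).index).Coprime p ∧
      ∀ q : ℕ, q.Prime → q ∣ (Cfsg.pPrimeCore p G).index → q ≠ p → q ∣ p ^ 2 - 1 ∧ q < p := by
  haveI := FittingCores.pPrimeCore_normal (G := G) p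
  set O := Cfsg.pPrimeCore p G with hO
  set π := QuotientGroup.mk' O with hπ
  have hsurj := QuotientGroup.mk'_surjective O
  haveI : Group.IsSolvable (G ⧸ O) := Group.isSolvable_of_surjective hsurj
  have hoddq : Odd (Nat.card (G ⧸ O)) := hodd.of_dvd_nat (Subgroup.card_quotient_dvd_card O)
  obtain ⟨h1, h2⟩ := core_free hoddq hp2 (prankLE_quotient O (FittingCores.pPrimeCore_coprime p) hr)
    (FittingCores.pPrimeCore_quotient_eq_bot p _ rfl)
  refine ⟨?_, ?_, fun q hq hd hqp => h2 q hq (by rwa [← Subgroup.index_eq_card]) hqp⟩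
  · rw [Cfsg.pPrimePCore, ← Subgroup.map_le_iff_le_comap]
    refine le_trans ?_ h1
    rw [commutator_def, commutator_def, Subgroup.map_commutator]
    exact Subgroup.commutator_mono le_top le_top
  · haveI := FittingCores.pCore_normal (G := G ⧸ O) p
    set P := Cfsg.pCore p (G ⧸ O) with hP
    rw [Cfsg.pPrimePCore, Subgroup.index_comap_of_surjective _ hsurj, Nat.coprime_comm,
      hp.out.coprime_iff_not_dvd]
    intro hd
    rw [Subgroup.index_eq_card] at hd
    obtain ⟨z, hz⟩ := exists_prime_orderOf_dvd_card' p hd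
    set φ := QuotientGroup.mk' P with hφ
    have hzc : ∀ w : (G ⧸ O) ⧸ P, w * z = z * w := by
      intro w
      obtain ⟨a, rfl⟩ := QuotientGroup.mk'_surjective P w
      obtain ⟨b, rfl⟩ := QuotientGroup.mk'_surjective P z
      rw [← map_mul, ← map_mul, ← mul_inv_eq_one, ← map_inv, ← map_mul]
      refine (QuotientGroup.eq_one_iff _).2 (h1 ?_)
      have e : a * b * (b * a)⁻¹ = ⁅a, b⁆ := by rw [commutatorElement_def]; group
      rw [e, commutator_def]
      exact Subgroup.commutator_mem_commutator (Subgroup.mem_top _) (Subgroup.mem_top _)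
    haveI : (Subgroup.zpowers z).Normal := ⟨fun x hx g => by
      obtain ⟨i, rfl⟩ := hx
      show g * z ^ i * g⁻¹ ∈ _
      rw [((show Commute g z from hzc g).zpow_right i).eq, mul_inv_cancel_right]
      exact ⟨i, rfl⟩⟩
    have hzp : IsPGroup p (Subgroup.zpowers z) := IsPGroup.of_card (n := 1) (by
      rw [Nat.card_zpowers, hz, pow_one])
    have hW : (Subgroup.zpowers z).comap φ ≤ P := by
      refine FittingCores.le_pCore inferInstance (IsPGroup.comap_of_ker_isPGroup hzp φ ?_)
      rw [hφ, QuotientGroup.ker_mk']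
      exact FittingCores.pCore_isPGroup p
    obtain ⟨b, rfl⟩ := QuotientGroup.mk'_surjective P z
    have : φ b = 1 := (QuotientGroup.eq_one_iff b).2 (hW (Subgroup.mem_comap.2 (Subgroup.mem_zpowers _)))
    rw [← hφ, this, orderOf_one] at hz
    exact hp.out.ne_one hz.symm

end Cfsg.Agent.OddOrder.RankTwo
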