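/-
Factorisations `H = O_{p'}(H) N_H(Q)` of solvable subgroups of odd order, inside the ambient group.
-/
import Cfsg.Agent.Lib.OddOrder.PuigNormal
import Cfsg.Agent.Lib.OddOrder.RankTwoSolvable
import Cfsg.Agent.Lib.Solvable.Coprime
import Cfsg.Agent.Lib.CharP.AxB
import Cfsg.Prelude.Def_OddOrderLocal

set_option autoImplicit false
set_option linter.style.haveILetI false
set_option linter.unusedSectionVars false

namespace Cfsg.Agent.OddOrder.LocalFactor

open scoped Pointwise

variable {p : ℕ} [hp : Fact p.Prime]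

section Group

variable {G : Type*} [Group G] [Finite G]

/-- If `O_{p'}(G) Z` is normal for a `p`-subgroup `Z` then `G = O_{p'}(G) N(Z)`. -/
theorem factor_of_normal (Z : Subgroup G) (hZ : IsPGroup p Z)
    (hn : (Z ⊔ Cfsg.pPrimeCore p G).Normal) :
    Cfsg.pPrimeCore p G ⊔ Subgroup.normalizer (Z : Set G) = ⊤ := by
  haveI := FittingCores.pPrimeCore_normal (G := G) p
  have hcop : (Nat.card Z).Coprime (Nat.card (Cfsg.pPrimeCore p G)) := by
    obtain ⟨k, hk⟩ := IsPGroup.iff_card.1 hZ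
    rw [hk]
    exact Nat.Coprime.pow_left k (FittingCores.pPrimeCore_coprime p).symm
  haveI := hZ.isNilpotent
  rw [eq_top_iff]
  intro g _
  have hB : MulAut.conj g • Z ≤ Cfsg.pPrimeCore p G ⊔ Z := by
    rintro _ ⟨z, hz, rfl⟩
    rw [sup_comm]
    exact hn.conj_mem z (Subgroup.mem_sup_left hz) g
  obtain ⟨k, hk, hkZ⟩ := SchurZ.conj_in Subgroup.le_normalizer_of_normal hcop (Or.inl inferInstance)
    hB (SolvBasic.card_conjSmul _ _)
  have hmem : k⁻¹ * g ∈ Subgroup.normalizer (Z : Set G) := by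
    rw [SolvBasic.mem_normalizer_iff_conjSmul, ← SolvBasic.conjSmul_conjSmul, ← hkZ,
      SolvBasic.conjSmul_inv_conjSmul]
  rw [show g = k * (k⁻¹ * g) by group]
  exact mul_mem (Subgroup.mem_sup_left hk) (Subgroup.mem_sup_right hmem)

theorem injOn_mk (S : Subgroup G) (hS : IsPGroup p S) [(Cfsg.pPrimeCore p G).Normal] :
    Set.InjOn (QuotientGroup.mk' (Cfsg.pPrimeCore p G)) (S : Set G) := fun a ha b hb hab => by
  have h : a⁻¹ * b ∈ Cfsg.pPrimeCore p G := QuotientGroup.eq.1 hab
  exact inv_mul_eq_one.1 (PBasic.eq_one_of_isPGroup_of_coprime (p := p) hS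
    (mul_mem (inv_mem ha) hb) (PBasic.coprime_orderOf_of_mem (FittingCores.pPrimeCore_coprime p) h))

/-- `Z(L(S))` for the ambient form of Puig's subgroup. -/
abbrev zL (S : Subgroup G) : Subgroup G :=
  PuigIn.upper S ⊓ Subgroup.centralizer (PuigIn.upper S : Set G)

theorem zL_le (S : Subgroup G) : zL S ≤ S := inf_le_left.trans (PuigIn.upper_le S)

theorem normalizer_le_zL (S : Subgroup G) :
    Subgroup.normalizer (S : Set G) ≤ Subgroup.normalizer (zL S : Set G) :=
  (PuigIn.normalizer_le S).trans ((le_inf le_rfl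
    ((Subgroup.normal_subgroupOf_iff_le_normalizer (Subgroup.centralizer_le_normalizer _)).1
      inferInstance)).trans Subgroup.inf_normalizer_le_normalizer_inf)

theorem zL_ne_bot {S : Subgroup G} (hS : IsPGroup p S) (h : S ≠ ⊥) : zL S ≠ ⊥ := by
  haveI := (Subgroup.nontrivial_iff_ne_bot _).2 h
  haveI := hS.center_nontrivial
  set C := (Subgroup.center S).map S.subtype with hC
  have hCS : C ≤ S := Subgroup.map_subtype_le _
  have hCc : IsMulCommutative C := inferInstance
  have hSC : S ≤ Subgroup.normalizer (C : Set G) := AxB.le_normalizer_map_subtype inferInstance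
  have hCU : C ≤ PuigIn.upper S := (PuigIn.le_lower hCS hCc ((PuigIn.upper_le S).trans hSC)).trans (PuigIn.lower_le_upper S)
  intro hb
  have hCZ : C ≤ zL S := le_inf hCU fun x hx => by
    refine Subgroup.mem_centralizer_iff.2 fun y hy => ?_
    obtain ⟨z, hz, rfl⟩ := hx
    exact congrArg Subtype.val (Subgroup.mem_center_iff.1 hz ⟨y, PuigIn.upper_le S hy⟩)
  rw [hb, le_bot_iff, hC, Subgroup.map_eq_bot_iff_of_injective _ S.subtype_injective] at hCZ
  exact (Subgroup.nontrivial_iff_ne_bot _).1 (inferInstance : Nontrivial (Subgroup.center S)) hCZ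

theorem factor_zL [Group.IsSolvable G] (hodd : Odd (Nat.card G)) (hp2 : p ≠ 2) (S : Sylow p G) :
    Cfsg.pPrimeCore p G ⊔ Subgroup.normalizer (zL (S : Subgroup G) : Set G) = ⊤ := by
  haveI := FittingCores.pPrimeCore_normal (G := G) p
  set f := QuotientGroup.mk' (Cfsg.pPrimeCore p G) with hf
  have hinj := injOn_mk (S : Subgroup G) S.isPGroup'
  refine factor_of_normal _ (S.isPGroup'.to_le (zL_le _)) ?_
  have hn : ((zL (S : Subgroup G)).map f).Normal := by
    rw [zL, ZJ.inf_centralizer_map f (hinj.mono (PuigIn.upper_le _)),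
      PuigIn.upper_map f _ hinj, ← Sylow.coe_mapSurjective (QuotientGroup.mk'_surjective _)]
    haveI : Group.IsSolvable (G ⧸ Cfsg.pPrimeCore p G) :=
      Group.isSolvable_of_surjective (QuotientGroup.mk'_surjective _)
    exact PuigNormal.zPuig_normal (hodd.of_dvd_nat (Subgroup.card_quotient_dvd_card _)) hp2
      (FittingCores.pPrimeCore_quotient_eq_bot p _ rfl) _
  have := hn.comap f
  rwa [Subgroup.comap_map_eq, hf, QuotientGroup.ker_mk'] at this

theorem core_le_sup (S : Sylow p G) :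
    Cfsg.pPrimePCore p G ≤ Cfsg.pPrimeCore p G ⊔ ((S : Subgroup G) ⊓ Cfsg.pPrimePCore p G) := by
  haveI := FittingCores.pPrimeCore_normal (G := G) p
  set f := QuotientGroup.mk' (Cfsg.pPrimeCore p G) with hf
  intro x hx
  have hx' : f x ∈ ((S.mapSurjective (f := f) (QuotientGroup.mk'_surjective _) : Sylow p _) : Subgroup _) :=
    FittingCores.pCore_le_sylow _ hx
  rw [Sylow.coe_mapSurjective] at hx'
  obtain ⟨s, hs, hsx⟩ := hx'
  have hmem : s⁻¹ * x ∈ Cfsg.pPrimeCore p G := QuotientGroup.eq.1 hsx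
  have hsU : s ∈ Cfsg.pPrimePCore p G := by
    rw [Cfsg.pPrimePCore, Subgroup.mem_comap] at hx ⊢
    rwa [← hf, hsx]
  rw [show x = s * (s⁻¹ * x) by group]
  exact mul_mem (Subgroup.mem_sup_right ⟨hs, hsU⟩) (Subgroup.mem_sup_left hmem)

theorem factor_core (S : Sylow p G) :
    Cfsg.pPrimeCore p G ⊔ Subgroup.normalizer (((S : Subgroup G) ⊓ Cfsg.pPrimePCore p G : Subgroup G) : Set G) = ⊤ := by
  haveI := FittingCores.pPrimeCore_normal (G := G) p
  haveI := FittingCores.pCore_normal (G := G ⧸ Cfsg.pPrimeCore p G) p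
  refine factor_of_normal _ (S.isPGroup'.to_le inf_le_left) ?_
  have : ((S : Subgroup G) ⊓ Cfsg.pPrimePCore p G) ⊔ Cfsg.pPrimeCore p G = Cfsg.pPrimePCore p G := by
    refine le_antisymm (sup_le inf_le_right fun x hx => ?_) (by rw [sup_comm]; exact core_le_sup S)
    rw [Cfsg.pPrimePCore, Subgroup.mem_comap, QuotientGroup.mk'_apply, (QuotientGroup.eq_one_iff x).2 hx]
    exact one_mem _
  rw [this]
  exact Subgroup.Normal.comap inferInstance _

/-- A `p'`-subgroup normalized by enough of `O_{p',p}` lies in `O_{p'}`. -/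
theorem invariant_le [Group.IsSolvable G] {Q Y : Subgroup G}
    (hQ : Cfsg.pPrimePCore p G ≤ Cfsg.pPrimeCore p G ⊔ Q) (hY : (Nat.card Y).Coprime p)
    (hQY : Q ≤ Subgroup.normalizer (Y : Set G)) : Y ≤ Cfsg.pPrimeCore p G := by
  haveI := FittingCores.pPrimeCore_normal (G := G) p
  set f := QuotientGroup.mk' (Cfsg.pPrimeCore p G) with hf
  haveI : Group.IsSolvable (G ⧸ Cfsg.pPrimeCore p G) :=
    Group.isSolvable_of_surjective (QuotientGroup.mk'_surjective _)
  set T := Cfsg.pCore p (G ⧸ Cfsg.pPrimeCore p G) with hT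
  haveI : T.Normal := FittingCores.pCore_normal p
  have hTY : T ≤ Subgroup.normalizer (Y.map f : Set _) := by
    refine le_trans ?_ ((Subgroup.map_mono hQY).trans (Subgroup.le_normalizer_map f))
    have h : (Cfsg.pPrimePCore p G).map f ≤ Q.map f := by
      refine (Subgroup.map_mono hQ).trans ?_
      rw [Subgroup.map_sup, hf, QuotientGroup.map_mk'_self, bot_sup_eq]
    rwa [Cfsg.pPrimePCore, Subgroup.map_comap_eq_self_of_surjective (QuotientGroup.mk'_surjective _)] at h
  have hco : (Nat.card T).Coprime (Nat.card (Y.map f)) := by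
    obtain ⟨k, hk⟩ := IsPGroup.iff_card.1 (FittingCores.pCore_isPGroup (G := G ⧸ Cfsg.pPrimeCore p G) p)
    rw [hk]
    exact Nat.Coprime.pow_left k (Nat.Coprime.coprime_dvd_left (Y.card_map_dvd f) hY).symm
  intro y hy
  rw [← QuotientGroup.eq_one_iff]
  have hyT : f y ∈ T := FittingCores.centralizer_pCore_le hp.out
    (FittingCores.pPrimeCore_quotient_eq_bot p _ rfl) (Subgroup.mem_centralizer_iff.2 fun t ht =>
      AxB.commute_of_coprime hTY Subgroup.le_normalizer_of_normal hco ht ⟨y, hy, rfl⟩)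
  exact PBasic.eq_one_of_isPGroup_of_coprime (FittingCores.pCore_isPGroup p) hyT
    (Nat.Coprime.coprime_dvd_left ((orderOf_map_dvd f y).trans (Subgroup.orderOf_dvd_natCard Y hy)) hY)

/-- Abelian subgroups normalized by a Sylow subgroup lie in `O_{p',p}`. -/
theorem abelian_le [Group.IsSolvable G] (hodd : Odd (Nat.card G)) (hp2 : p ≠ 2) (S : Sylow p G)
    {A : Subgroup G} (hA : A ≤ (S : Subgroup G)) (hAc : IsMulCommutative A)
    (hSA : (S : Subgroup G) ≤ Subgroup.normalizer (A : Set G)) : A ≤ Cfsg.pPrimePCore p G := by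
  haveI := FittingCores.pPrimeCore_normal (G := G) p
  set f := QuotientGroup.mk' (Cfsg.pPrimeCore p G) with hf
  haveI : Group.IsSolvable (G ⧸ Cfsg.pPrimeCore p G) :=
    Group.isSolvable_of_surjective (QuotientGroup.mk'_surjective _)
  haveI := FittingCores.pCore_normal (G := G ⧸ Cfsg.pPrimeCore p G) p
  rw [Cfsg.pPrimePCore, ← Subgroup.map_le_iff_le_comap]
  haveI := hAc
  refine PStable.le_pCore_of_normalized (hodd.of_dvd_nat (Subgroup.card_quotient_dvd_card _)) hp2 _
    (FittingCores.pCore_isPGroup p)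
    (PStable.isPGroup_centralizer_pCore (FittingCores.pPrimeCore_quotient_eq_bot p _ rfl))
    (A.map f) ((S.isPGroup'.to_le hA).map f) inferInstance ?_
  refine (FittingCores.pCore_le_sylow (S.mapSurjective (QuotientGroup.mk'_surjective _))).trans ?_
  rw [Sylow.coe_mapSurjective]
  exact (Subgroup.map_mono hSA).trans (Subgroup.le_normalizer_map f)

theorem sylow_le_core [Group.IsSolvable G] (hodd : Odd (Nat.card G)) (hp2 : p ≠ 2)
    (hr : Cfsg.PRankLE p 2 G) (S : Sylow p G) : (S : Subgroup G) ≤ Cfsg.pPrimePCore p G := by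
  haveI := FittingCores.pPrimeCore_normal (G := G) p
  haveI := FittingCores.pCore_normal (G := G ⧸ Cfsg.pPrimeCore p G) p
  haveI : (Cfsg.pPrimePCore p G).Normal := Subgroup.Normal.comap inferInstance _
  obtain ⟨-, h, -⟩ := RankTwo.structure_general hodd hp2 hr
  rw [Subgroup.index_eq_card] at h
  intro s hs
  rw [← QuotientGroup.eq_one_iff]
  exact PBasic.eq_one_of_isPGroup_of_coprime (S.isPGroup'.map (QuotientGroup.mk' (Cfsg.pPrimePCore p G)))
    ⟨s, hs, rfl⟩ (Nat.Coprime.coprime_dvd_left (orderOf_dvd_natCard _) h)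

end Group

section Ambient

variable {G : Type*} [Group G] [Finite G]

/-- `O_{p'}(H)` inside the ambient group. -/
abbrev coreOf (p : ℕ) (H : Subgroup G) : Subgroup G := (Cfsg.pPrimeCore p H).map H.subtype

theorem coreOf_le (H : Subgroup G) : coreOf p H ≤ H := Subgroup.map_subtype_le _

theorem le_normalizer_coreOf (H : Subgroup G) : H ≤ Subgroup.normalizer (coreOf p H : Set G) :=
  AxB.le_normalizer_map_subtype (FittingCores.pPrimeCore_normal p)

omit hp in
theorem coprime_coreOf (H : Subgroup G) : (Nat.card (coreOf p H)).Coprime p :=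
  AxB.coprime_card_pPrimeCoreOf p H

theorem le_of_factor {H Q : Subgroup G} {Q₀ : Subgroup H} (hQ : Q₀.map H.subtype = Q)
    (h : Cfsg.pPrimeCore p H ⊔ Subgroup.normalizer (Q₀ : Set H) = ⊤) :
    H ≤ coreOf p H ⊔ (H ⊓ Subgroup.normalizer (Q : Set G)) := by
  intro x hx
  have hmem : (⟨x, hx⟩ : H) ∈ Cfsg.pPrimeCore p H ⊔ Subgroup.normalizer (Q₀ : Set H) := h ▸ Subgroup.mem_top _
  have h1 := Subgroup.mem_map_of_mem H.subtype hmem
  rw [Subgroup.map_sup] at h1
  refine (sup_le_sup_left (le_inf (Subgroup.map_subtype_le _) ?_) _) h1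
  rw [← hQ]
  exact Subgroup.le_normalizer_map _

theorem factor_zL' {H R : Subgroup G} (hsolv : Group.IsSolvable H) (hodd : Odd (Nat.card G))
    (hp2 : p ≠ 2) (S : Sylow p H) (hS : (S : Subgroup H).map H.subtype = R) :
    H ≤ coreOf p H ⊔ (H ⊓ Subgroup.normalizer (zL R : Set G)) := by
  refine le_of_factor ?_ (factor_zL (hodd.of_dvd_nat H.card_subgroup_dvd_card) hp2 S)
  have hinj : Set.InjOn H.subtype ((S : Subgroup H) : Set H) := fun a _ b _ h => Subtype.ext h
  rw [zL, zL, ZJ.inf_centralizer_map H.subtype (hinj.mono (PuigIn.upper_le _)),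
    PuigIn.upper_map H.subtype _ hinj, hS]

theorem invariant_le' {M P Y : Subgroup G} (hsolv : Group.IsSolvable M) (S : Sylow p M)
    (hS : (S : Subgroup M).map M.subtype = P) (hY : Y ≤ M) (hco : (Nat.card Y).Coprime p)
    (hPY : P ≤ Subgroup.normalizer (Y : Set G)) : Y ≤ coreOf p M := by
  have h : Y.subgroupOf M ≤ Cfsg.pPrimeCore p M := by
    refine invariant_le (Q := (S : Subgroup M))
      ((core_le_sup S).trans (sup_le_sup_left inf_le_left _))
      (by rwa [Nat.card_congr (Subgroup.subgroupOfEquivOfLe hY).toEquiv]) fun s hs => ?_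
    rw [Subgroup.mem_normalizer_iff]
    intro y
    exact Subgroup.mem_normalizer_iff.1 (hPY (hS ▸ ⟨s, hs, rfl⟩ : (s : G) ∈ P)) y
  intro y hy
  exact ⟨⟨y, hY hy⟩, h hy, rfl⟩

/-- The subgroup `R ∩ O_{p',p}(H)` and its properties. -/
theorem exists_core_part {H R : Subgroup G} (hsolv : Group.IsSolvable H) (hodd : Odd (Nat.card G))
    (hp2 : p ≠ 2) (S : Sylow p H) (hS : (S : Subgroup H).map H.subtype = R) :
    ∃ Q : Subgroup G, Q ≤ R ∧ H ≤ coreOf p H ⊔ (H ⊓ Subgroup.normalizer (Q : Set G)) ∧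
      (∀ A : Subgroup G, A ≤ R → IsMulCommutative A → R ≤ Subgroup.normalizer (A : Set G) → A ≤ Q) ∧
      (Cfsg.PRankLE p 2 H → Q = R) := by
  have hodd' : Odd (Nat.card H) := hodd.of_dvd_nat H.card_subgroup_dvd_card
  refine ⟨((S : Subgroup H) ⊓ Cfsg.pPrimePCore p H).map H.subtype,
    hS ▸ Subgroup.map_mono inf_le_left, le_of_factor rfl (factor_core S), fun A hA hAc hn => ?_, fun hr => ?_⟩
  · have hAH : A ≤ H := hA.trans (hS ▸ Subgroup.map_subtype_le _)
    have hAS : A.subgroupOf H ≤ (S : Subgroup H) := fun a ha => by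
      obtain ⟨b, hb, hab⟩ := (hS.symm ▸ hA ha : (a : G) ∈ (S : Subgroup H).map H.subtype)
      rwa [← Subtype.ext hab]
    haveI := hAc
    have hle : A.subgroupOf H ≤ Cfsg.pPrimePCore p H := by
      refine abelian_le hodd' hp2 S hAS inferInstance fun s hs => ?_
      rw [Subgroup.mem_normalizer_iff]
      intro y
      exact Subgroup.mem_normalizer_iff.1 (hn (hS ▸ ⟨s, hs, rfl⟩ : (s : G) ∈ R)) y
    intro a ha
    exact ⟨⟨a, hAH ha⟩, ⟨hAS ha, hle ha⟩, rfl⟩
  · rw [inf_eq_left.2 (sylow_le_core hodd' hp2 hr S), hS]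

/-- The `p`-rank of every subgroup is that of a Sylow subgroup. -/
theorem prankLE_of_sylow (P : Sylow p G) {k : ℕ} (h : Cfsg.PRankLE p k ↥(P : Subgroup G)) :
    Cfsg.PRankLE p k G := by
  intro A hA hAp
  obtain ⟨T, hT⟩ := (show IsPGroup p A from fun a => ⟨1, Subtype.ext (by simpa using hAp a a.2)⟩).exists_le_sylow
  obtain ⟨g, hg⟩ := MulAction.exists_smul_eq G T P
  set A' := A.map (MulAut.conj g).toMonoidHom with hA'
  have hA'P : A' ≤ (P : Subgroup G) := by
    rintro _ ⟨a, ha, rfl⟩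
    rw [← hg]
    exact Subgroup.smul_mem_pointwise_smul a (MulAut.conj g) (T : Subgroup G) (hT ha)
  haveI := hA
  haveI : IsMulCommutative A' := inferInstance
  have := h (A'.subgroupOf (P : Subgroup G)) inferInstance (by
    intro x hx
    obtain ⟨a, ha, hax⟩ := hx
    refine Subtype.ext ?_
    rw [SubmonoidClass.coe_pow, OneMemClass.coe_one]
    have : (x : G) = MulAut.conj g a := hax.symm
    rw [this, ← map_pow, hAp a ha, map_one])
  rw [Nat.card_congr (Subgroup.subgroupOfEquivOfLe hA'P).toEquiv, hA',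
    Subgroup.card_map_of_injective (MulAut.conj g).injective] at this
  exact this

/-- A proper `p`-overgroup contains a normalizing element outside. -/
theorem exists_normalizing {R T : Subgroup G} (hT : IsPGroup p T) (hRT : R < T) :
    ∃ x ∈ T, x ∈ Subgroup.normalizer (R : Set G) ∧ x ∉ R := by
  have := hT.isNilpotent
  have hlt : R.subgroupOf T < ⊤ :=
    lt_top_iff_ne_top.2 fun h => hRT.not_ge (Subgroup.subgroupOf_eq_top.1 h)
  obtain ⟨x, hx, hxR⟩ := SetLike.exists_of_lt (Group.normalizerCondition_of_isNilpotent _ hlt)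
  refine ⟨x, x.2, ?_, hxR⟩
  rw [Subgroup.mem_normalizer_iff]
  intro r
  constructor
  · intro hr
    exact (Subgroup.mem_normalizer_iff.1 hx ⟨r, hRT.le hr⟩).1 hr
  · intro hr
    have hrT : r ∈ T := by
      simpa [mul_assoc] using mul_mem (mul_mem (inv_mem x.2) (hRT.le hr)) x.2
    exact (Subgroup.mem_normalizer_iff.1 hx ⟨r, hrT⟩).2 hr

end Ambient

end Cfsg.Agent.OddOrder.LocalFactor
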