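/-
Coprime action on metacyclic p-groups, p odd: `⁅R, A⁆` is abelian.
-/
import Cfsg.Prelude.Def_OddOrderLocal
import Cfsg.Agent.Lib.Solvable.Coprime
import Cfsg.Agent.Lib.OddOrder.OmegaCentral
import Cfsg.Agent.Lib.PLocal.ClassThree

set_option autoImplicit false
set_option linter.style.haveILetI false
set_option linter.unusedSectionVars false
open Cfsg

namespace Cfsg.Agent.OddOrder.MetacyclicAction

open scoped commutatorElement

variable {G : Type*} [Group G] [Finite G] {p : ℕ} [hp : Fact p.Prime] {R A : Subgroup G}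

/-- If `R = ⁅R, A⁆`, no element outside `U ⊇ R'` is fixed modulo `U`. -/
theorem no_fixed [R.Normal] (hR : IsPGroup p R) (hcop : (Nat.card A).Coprime p) (hRA : ⁅R, A⁆ = R)
    (U : Subgroup G) [U.Normal] (hD : ⁅R, R⁆ ≤ U) {g : G} (hg : g ∈ R) (hgU : g ∉ U)
    (hfix : ∀ a ∈ A, g⁻¹ * (a * g * a⁻¹) ∈ U) : False := by
  set π := QuotientGroup.mk' U with hπ
  have hker : ∀ x : G, π x = 1 ↔ x ∈ U := fun x => QuotientGroup.eq_one_iff x
  haveI : IsMulCommutative (R.map π) := .of_setLike_mul_comm <| by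
    rintro _ ⟨x, hx, rfl⟩ _ ⟨y, hy, rfl⟩
    rw [← commutatorElement_eq_one_iff_mul_comm, ← map_commutatorElement, hker]
    exact hD (Subgroup.commutator_mem_commutator hx hy)
  have hn : A.map π ≤ Subgroup.normalizer ((R.map π : Subgroup (G ⧸ U)) : Set (G ⧸ U)) := by
    haveI := ‹R.Normal›.map π (QuotientGroup.mk'_surjective U)
    rw [Subgroup.normalizer_eq_top]
    exact le_top
  have hc : (Nat.card (A.map π)).Coprime (Nat.card (R.map π)) := by
    obtain ⟨k, hk⟩ := IsPGroup.iff_card.1 (hR.map π)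
    rw [hk]
    exact (hcop.coprime_dvd_left (Subgroup.card_map_dvd A π)).pow_right k
  have hmem : π g ∈ (R.map π ⊓ Subgroup.centralizer ((A.map π : Subgroup (G ⧸ U)) : Set (G ⧸ U))) ⊓
      ⁅R.map π, A.map π⁆ := by
    refine ⟨⟨⟨g, hg, rfl⟩, Subgroup.mem_centralizer_iff.2 ?_⟩, ?_⟩
    · rintro _ ⟨a, ha, rfl⟩
      have h := (hker _).2 (hfix a ha)
      rw [map_mul, map_mul, map_mul, map_inv, map_inv, inv_mul_eq_one] at h
      exact (eq_mul_inv_iff_mul_eq.1 h).symm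
    · rw [← Subgroup.map_commutator, hRA]
      exact ⟨g, hg, rfl⟩
  rw [CoprimeAct.centralizer_inf_commutator_eq_bot hn hc, Subgroup.mem_bot] at hmem
  exact hgU ((hker g).1 hmem)

/-- Commutators in a group of class at most two are bilinear. -/
theorem comm_zpow (hc : ∀ x ∈ R, ∀ y ∈ R, ∀ u ∈ R, Commute u ⁅x, y⁆) {x y φ ψ : G} (hx : x ∈ R)
    (hy : y ∈ R) (hφ : φ ∈ R) (hψ : ψ ∈ R) (hφc : ∀ u ∈ R, Commute φ u) (hψc : ∀ u ∈ R, Commute ψ u)
    (i j : ℤ) : ⁅φ * x ^ i, ψ * y ^ j⁆ = ⁅x, y⁆ ^ (i * j) := by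
  have h1 : ∀ u ∈ R, ∀ v ∈ R, ∀ w ∈ R, ⁅u * v, w⁆ = ⁅u, w⁆ * ⁅v, w⁆ := by
    intro u hu v hv w hw
    have h := (hc v hv w hw u hu).eq
    have e : ⁅u * v, w⁆ = u * ⁅v, w⁆ * u⁻¹ * ⁅u, w⁆ := by simp only [commutatorElement_def]; group
    rw [e, h, mul_inv_cancel_right, (hc u hu w hw ⁅v, w⁆ (by
      rw [commutatorElement_def]
      exact mul_mem (mul_mem (mul_mem hv hw) (inv_mem hv)) (inv_mem hw))).eq]
  have h2 : ∀ w ∈ R, ∀ u ∈ R, ∀ k : ℤ, ⁅u ^ k, w⁆ = ⁅u, w⁆ ^ k := by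
    intro w hw u hu k
    let f : R →* G := MonoidHom.mk' (fun v => ⁅(v : G), w⁆) fun v v' => h1 v v.2 v' v'.2 w hw
    exact map_zpow f ⟨u, hu⟩ k
  have h3 : ⁅φ * x ^ i, ψ * y ^ j⁆ = ⁅x ^ i, ψ * y ^ j⁆ := by
    rw [h1 φ hφ _ (zpow_mem hx i) _ (mul_mem hψ (zpow_mem hy j)),
      commutatorElement_eq_one_iff_commute.2 (hφc _ (mul_mem hψ (zpow_mem hy j))), one_mul]
  rw [h3, h2 _ (mul_mem hψ (zpow_mem hy j)) x hx, ← commutatorElement_inv,
    h1 ψ hψ _ (zpow_mem hy j) x hx, commutatorElement_eq_one_iff_commute.2 (hψc x hx), one_mul,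
    h2 x hx y hy, ← zpow_neg, ← zpow_mul, ← commutatorElement_inv x y, inv_zpow, ← zpow_neg]
  congr 1
  ring

/-- If `c` generates a group of order `p` and `c ^ m = c` then `p ∣ m - 1`. -/
theorem dvd_sub_one {c : G} (hc : c ^ p = 1) (hc1 : c ≠ 1) {m : ℤ} (h : c ^ m = c) : (p : ℤ) ∣ m - 1 := by
  rw [← orderOf_eq_prime hc hc1]
  exact orderOf_dvd_iff_zpow_eq_one.2 (by rw [zpow_sub, zpow_one, h, mul_inv_cancel])

/-- The class two case: it does not occur. -/
theorem class_two_false [R.Normal] (hp2 : p ≠ 2) (hR : IsPGroup p R) (hcop : (Nat.card A).Coprime p)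
    (hRA : ⁅R, A⁆ = R) (hD : Nat.card (⁅R, R⁆ : Subgroup G) = p) {a b : G} (ha : a ∈ R) (hb : b ∈ R)
    (hgen : ∀ r ∈ R, ∃ i j : ℤ, r = a ^ i * b ^ j) (hD1 : ∀ d ∈ ⁅R, R⁆, ∃ x ∈ R, x ^ p = d) :
    False := by
  classical
  set D := ⁅R, R⁆ with hDdef
  have hDR : D ≤ R := Subgroup.commutator_le_self R
  obtain ⟨⟨z, hzD⟩, hz1'⟩ := Subgroup.ne_bot_iff_exists_ne_one.1 (fun h : D = ⊥ => hp.out.ne_one
    (by rw [← hD, h, Subgroup.card_bot]))
  have hz1 : z ≠ 1 := fun h => hz1' (Subtype.ext h)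
  have hDpow : ∀ d ∈ D, d ^ p = 1 := fun d hd => by
    rw [← hD]; exact congrArg Subtype.val (pow_card_eq_one' (x := (⟨d, hd⟩ : D)))
  have hDz : D = Subgroup.zpowers z := (Subgroup.eq_of_le_of_card_ge (Subgroup.zpowers_le.2 hzD)
    (by rw [Nat.card_zpowers, orderOf_eq_prime (hDpow z hzD) hz1, hD])).symm
  have hDc : ∀ x ∈ R, ∀ y ∈ R, ∀ u ∈ R, Commute u ⁅x, y⁆ := by
    intro x hx y hy u hu
    haveI : (D.subgroupOf R).Normal :=
      (Subgroup.normal_subgroupOf_iff hDR).2 fun d g hd _ => (inferInstance : D.Normal).conj_mem d hd g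
    have hcard : Nat.card (D.subgroupOf R) = p := by
      rw [Nat.card_congr (Subgroup.subgroupOfEquivOfLe hDR).toEquiv, hD]
    have h := Subgroup.mem_center_iff.1 (OmegaCen.le_center_of_prime_card hR hcard
      (show (⟨_, hDR (Subgroup.commutator_mem_commutator hx hy)⟩ : R) ∈ D.subgroupOf R from
        Subgroup.commutator_mem_commutator hx hy)) ⟨u, hu⟩
    exact congrArg Subtype.val h
  have hcw : ∀ x ∈ R, ∀ y ∈ R, ∀ i j : ℤ, ⁅x ^ i, y ^ j⁆ = ⁅x, y⁆ ^ (i * j) := fun x hx y hy i j => by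
    simpa using comm_zpow hDc hx hy (one_mem R) (one_mem R) (fun u _ => Commute.one_left u)
      (fun u _ => Commute.one_left u) i j
  have hpc : ∀ x ∈ R, ∀ u ∈ R, Commute (x ^ p) u := fun x hx u hu => by
    rw [← commutatorElement_eq_one_iff_commute]
    have := hcw x hx u hu p 1
    rw [zpow_natCast, zpow_one, mul_one, zpow_natCast] at this
    rw [this]
    exact hDpow _ (Subgroup.commutator_mem_commutator hx hu)
  -- powers
  have hpow : ∀ n, ∀ x ∈ R, ∀ y ∈ R, (x * y) ^ p ^ n = x ^ p ^ n * y ^ p ^ n := by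
    intro n
    induction n with
    | zero => intro x _ y _; simp
    | succ n ih =>
      intro x hx y hy
      have h1 : (x * y) ^ p = x ^ p * y ^ p := by
        have hcl : ⁅commutator R, (⊤ : Subgroup R)⁆ = ⊥ := by
          refine (Subgroup.commutator_eq_bot_iff_le_centralizer).2 fun w hw => ?_
          refine Subgroup.mem_centralizer_iff.2 fun u _ => Subtype.ext ?_
          have hwD : (w : G) ∈ D := by
            rw [hDdef, ← Subgroup.map_subtype_commutator]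
            exact ⟨w, hw, rfl⟩
          rw [hDz] at hwD
          obtain ⟨k, hk⟩ := hwD
          show (u : G) * w = w * u
          rw [← hk]
          refine (Commute.zpow_right ?_ k).eq
          have hzc : z ∈ Subgroup.centralizer (R : Set G) := by
            refine (?_ : D ≤ Subgroup.centralizer (R : Set G)) hzD
            rw [hDdef, Subgroup.commutator_le]
            exact fun x hx y hy => Subgroup.mem_centralizer_iff.2 fun v hv => hDc x hx y hy v hv
          exact Subgroup.mem_centralizer_iff.1 hzc u u.2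
        exact congrArg Subtype.val (ClassThree.mul_pow_prime (Or.inl ⟨hp2, hcl⟩)
          (a := (⟨x, hx⟩ : R)) (b := ⟨y, hy⟩) (Or.inr fun w hw => Subtype.ext (hDpow w (by
            rw [hDdef, ← Subgroup.map_subtype_commutator]; exact ⟨w, hw, rfl⟩))))
      rw [pow_succ', pow_mul, h1, ih _ (pow_mem hx p) _ (pow_mem hy p), ← pow_mul, ← pow_mul]
  let I : ℕ → Subgroup G := fun n =>
    { carrier := {u | ∃ x ∈ R, x ^ p ^ n = u}
      one_mem' := ⟨1, one_mem _, one_pow _⟩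
      mul_mem' := by
        rintro _ _ ⟨x, hx, rfl⟩ ⟨y, hy, rfl⟩
        exact ⟨x * y, mul_mem hx hy, hpow n x hx y hy⟩
      inv_mem' := by
        rintro _ ⟨x, hx, rfl⟩
        exact ⟨x⁻¹, inv_mem hx, inv_pow _ _⟩ }
  have hIn : ∀ n, (I n).Normal := fun n => ⟨by
    rintro _ ⟨x, hx, rfl⟩ g
    exact ⟨g * x * g⁻¹, ‹R.Normal›.conj_mem x hx g, conj_pow⟩⟩
  -- the last power subgroup containing `z`
  obtain ⟨n, hn, hzn, hzn1⟩ : ∃ n, 1 ≤ n ∧ z ∈ I n ∧ z ∉ I (n + 1) := by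
    by_contra h
    push Not at h
    have h2 : ∀ n, 1 ≤ n → z ∈ I n := by
      intro n hn
      induction n with
      | zero => omega
      | succ n ih =>
        rcases Nat.eq_zero_or_pos n with rfl | hn0
        · obtain ⟨x, hx, hxz⟩ := hD1 z hzD
          exact ⟨x, hx, by rw [zero_add, pow_one]; exact hxz⟩
        · exact h n hn0 (ih hn0)
    obtain ⟨k, hk⟩ := IsPGroup.iff_card.1 hR
    obtain ⟨x, hx, hxz⟩ := h2 (k + 1) (by omega)
    apply hz1
    rw [← hxz, pow_succ, pow_mul, ← hk,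
      show x ^ Nat.card R = 1 from congrArg Subtype.val (pow_card_eq_one' (x := (⟨x, hx⟩ : R))), one_pow]
  have hinter : ∀ k : ℤ, z ^ k ∈ I (n + 1) → z ^ k = 1 := by
    intro k hk
    by_contra hne
    apply hzn1
    have hle : Subgroup.zpowers (z ^ k) ≤ I (n + 1) := Subgroup.zpowers_le.2 hk
    have heq : Subgroup.zpowers (z ^ k) = Subgroup.zpowers z :=
      Subgroup.eq_of_le_of_card_ge (Subgroup.zpowers_le.2 (Subgroup.zpow_mem_zpowers z k))
        (by rw [Nat.card_zpowers, Nat.card_zpowers, orderOf_eq_prime (hDpow z hzD) hz1,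
          orderOf_eq_prime (hDpow _ (zpow_mem hzD k)) hne])
    exact hle (heq ▸ Subgroup.mem_zpowers z)
  -- the Frattini subgroup
  set Φ : Subgroup G := D ⊔ I 1 with hΦdef
  haveI := hIn 1
  haveI hΦn : Φ.Normal := Subgroup.sup_normal D (I 1)
  have hI1R : I 1 ≤ R := by rintro _ ⟨x, hx, rfl⟩; exact pow_mem hx _
  have hΦR : Φ ≤ R := sup_le hDR hI1R
  have hΦc : ∀ φ ∈ Φ, ∀ u ∈ R, Commute φ u := by
    have : Φ ≤ Subgroup.centralizer (R : Set G) := by
      refine sup_le ?_ ?_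
      · rw [hDdef, Subgroup.commutator_le]
        exact fun x hx y hy => Subgroup.mem_centralizer_iff.2 fun v hv => hDc x hx y hy v hv
      · rintro _ ⟨x, hx, rfl⟩
        rw [pow_one]
        exact Subgroup.mem_centralizer_iff.2 fun v hv => (hpc x hx v hv).eq.symm
    exact fun φ hφ u hu => (Subgroup.mem_centralizer_iff.1 (this hφ) u hu).symm
  have hΦp : ∀ x ∈ R, ∀ k : ℤ, (p : ℤ) ∣ k → x ^ k ∈ Φ := by
    rintro x hx k ⟨q, rfl⟩
    rw [zpow_mul, zpow_natCast]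
    exact zpow_mem (Subgroup.mem_sup_right (show x ^ p ∈ I 1 from ⟨x, hx, by rw [pow_one]⟩)) q
  have hΦf : ∀ φ ∈ Φ, φ ^ p ^ n ∈ I (n + 1) := by
    intro φ hφ
    obtain ⟨d, hd, u, hu, rfl⟩ := Subgroup.mem_sup_of_normal_left.1 hφ
    obtain ⟨x, hx, rfl⟩ := hu
    rw [hpow n d (hDR hd) _ (pow_mem hx _), ← pow_mul, ← pow_add, add_comm 1 n]
    have : d ^ p ^ n = 1 := by
      obtain ⟨m, rfl⟩ := Nat.exists_eq_add_of_le hn
      rw [pow_add, pow_one, pow_mul, hDpow d hd, one_pow]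
    rw [this, one_mul]
    exact ⟨x, hx, rfl⟩
  have hidx : Nat.card R ≤ p ^ 2 * Nat.card Φ := by
    let f : Fin p × Fin p × Φ → G := fun t => a ^ (t.1 : ℕ) * b ^ (t.2.1 : ℕ) * t.2.2
    have hsub : (R : Set G) ⊆ Set.range f := by
      intro r hr
      obtain ⟨i, j, rfl⟩ := hgen r hr
      have hp0 : (p : ℤ) ≠ 0 := by exact_mod_cast hp.out.ne_zero
      have hqi : a ^ ((p : ℤ) * (i / p)) ∈ Φ := hΦp a ha _ (dvd_mul_right _ _)
      have hqj : b ^ ((p : ℤ) * (j / p)) ∈ Φ := hΦp b hb _ (dvd_mul_right _ _)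
      refine ⟨(⟨(i % p).toNat, ?_⟩, ⟨(j % p).toNat, ?_⟩,
        ⟨a ^ ((p : ℤ) * (i / p)) * b ^ ((p : ℤ) * (j / p)), mul_mem hqi hqj⟩), ?_⟩
      · have := Int.emod_lt_of_pos i (show (0 : ℤ) < p by exact_mod_cast hp.out.pos)
        have := Int.emod_nonneg i hp0
        omega
      · have := Int.emod_lt_of_pos j (show (0 : ℤ) < p by exact_mod_cast hp.out.pos)
        have := Int.emod_nonneg j hp0
        omega
      · show a ^ (i % (p : ℤ)).toNat * b ^ (j % (p : ℤ)).toNat * _ = _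
        rw [← zpow_natCast a, ← zpow_natCast b, Int.toNat_of_nonneg (Int.emod_nonneg i hp0),
          Int.toNat_of_nonneg (Int.emod_nonneg j hp0)]
        have hc := (hΦc _ hqi _ (zpow_mem hb (j % p))).eq
        rw [mul_assoc, ← mul_assoc (b ^ (j % (p : ℤ))), ← hc, mul_assoc, ← mul_assoc, ← zpow_add,
          ← zpow_add, Int.emod_add_mul_ediv, Int.emod_add_mul_ediv]
    calc Nat.card R ≤ Nat.card (Set.range f) := Nat.card_mono (Set.toFinite _) hsub
      _ ≤ Nat.card (Fin p × Fin p × Φ) := Finite.card_range_le f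
      _ = p ^ 2 * Nat.card Φ := by simp [Nat.card_prod, sq, mul_assoc]
  have step : ∀ S T : Subgroup G, T ≤ R → S < T → p * Nat.card S ≤ Nat.card T := by
    intro S T hT hlt
    obtain ⟨s, hs⟩ := IsPGroup.iff_card.1 (hR.to_le (hlt.le.trans hT))
    obtain ⟨t, ht⟩ := IsPGroup.iff_card.1 (hR.to_le hT)
    have h : Nat.card S < Nat.card T := Set.ncard_lt_ncard (SetLike.coe_ssubset_coe.2 hlt) (Set.toFinite _)
    rw [hs, ht] at h ⊢
    rw [← pow_succ']
    exact Nat.pow_le_pow_right hp.out.pos ((Nat.pow_lt_pow_iff_right hp.out.one_lt).1 h)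
  have hnab : ¬ ∀ x ∈ R, ∀ y ∈ R, Commute x y := fun h => hz1 (by
    have : D ≤ ⊥ := by
      rw [hDdef, Subgroup.commutator_le]
      exact fun x hx y hy => Subgroup.mem_bot.2 (commutatorElement_eq_one_iff_commute.2 (h x hx y hy))
    exact Subgroup.mem_bot.1 (this hzD))
  -- a frame adapted to an intermediate subgroup
  have frame : ∀ g h : G, g ∈ R → h ∈ R → g ∉ Φ → h ∉ Φ ⊔ Subgroup.zpowers g →
      ⁅g, h⁆ ≠ 1 ∧ ∀ W : Subgroup G, Φ ⊔ Subgroup.zpowers g ≤ W → W < R → W = Φ ⊔ Subgroup.zpowers g := by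
    intro g h hg hh hgΦ hhS
    set S := Φ ⊔ Subgroup.zpowers g with hS
    set T := S ⊔ Subgroup.zpowers h with hT
    have hSR : S ≤ R := sup_le hΦR (Subgroup.zpowers_le.2 hg)
    have hTR : T ≤ R := sup_le hSR (Subgroup.zpowers_le.2 hh)
    have h1 := step Φ S hSR (lt_of_le_of_ne le_sup_left fun e =>
      hgΦ (e ▸ Subgroup.mem_sup_right (Subgroup.mem_zpowers g)))
    have h2 := step S T hTR (lt_of_le_of_ne le_sup_left fun e =>
      hhS (e ▸ Subgroup.mem_sup_right (Subgroup.mem_zpowers h)))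
    have hTeq : T = R := Subgroup.eq_of_le_of_card_ge hTR (hidx.trans (by
      calc p ^ 2 * Nat.card Φ = p * (p * Nat.card Φ) := by ring
        _ ≤ p * Nat.card S := Nat.mul_le_mul_left _ h1
        _ ≤ Nat.card T := h2))
    refine ⟨fun hgh => hnab ?_, fun W hSW hW => ?_⟩
    · have hgh' : Commute g h := commutatorElement_eq_one_iff_commute.1 hgh
      have cent : ∀ w : G, w ∈ R → Commute g w → Commute h w → R ≤ Subgroup.centralizer {w} := by
        intro w hw hgw hhw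
        rw [← hTeq]
        refine sup_le (sup_le (fun φ hφ => ?_) ?_) ?_
        · exact Subgroup.mem_centralizer_singleton_iff.2 (hΦc φ hφ w hw)
        · exact Subgroup.zpowers_le.2 (Subgroup.mem_centralizer_singleton_iff.2 hgw)
        · exact Subgroup.zpowers_le.2 (Subgroup.mem_centralizer_singleton_iff.2 hhw)
      intro x hx y hy
      exact Subgroup.mem_centralizer_singleton_iff.1 (cent y hy
        (Subgroup.mem_centralizer_singleton_iff.1 (cent g hg (Commute.refl g) hgh'.symm hy)).symm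
        (Subgroup.mem_centralizer_singleton_iff.1 (cent h hh hgh' (Commute.refl h) hy)).symm hx)
    · refine (Subgroup.eq_of_le_of_card_ge hSW ?_).symm
      have h3 := step W R le_rfl hW
      refine Nat.le_of_mul_le_mul_left (h3.trans (hidx.trans ?_)) hp.out.pos
      calc p ^ 2 * Nat.card Φ = p * (p * Nat.card Φ) := by ring
        _ ≤ p * Nat.card S := Nat.mul_le_mul_left _ h1
  have decomp : ∀ (S : Subgroup G) [S.Normal] (g x : G), x ∈ S ⊔ Subgroup.zpowers g →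
      ∃ i : ℤ, ∃ φ ∈ S, x = φ * g ^ i := by
    intro S _ g x hx
    obtain ⟨φ, hφ, u, ⟨i, rfl⟩, rfl⟩ := Subgroup.mem_sup_of_normal_left.1 hx
    exact ⟨i, φ, hφ, rfl⟩
  -- the image of a commutator under conjugation
  have key : ∀ (u g h : G) (i m : ℤ) (φ ψ : G), g ∈ R → h ∈ R → φ ∈ Φ → ψ ∈ Φ →
      u * g * u⁻¹ = φ * g ^ i → u * h * u⁻¹ = ψ * h ^ m → u * ⁅g, h⁆ * u⁻¹ = ⁅g, h⁆ ^ (i * m) := by
    intro u g h i m φ ψ hg hh hφ hψ h1 h2
    have := comm_zpow hDc hg hh (hΦR hφ) (hΦR hψ) (hΦc φ hφ) (hΦc ψ hψ) i m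
    rw [← this, ← h1, ← h2]
    simp only [commutatorElement_def]
    group
  -- the two cases
  obtain ⟨g, hgR, hgz⟩ := hzn
  haveI := hIn n
  haveI := hIn (n + 1)
  haveI hJn : (D ⊔ I (n + 1)).Normal := Subgroup.sup_normal D (I (n + 1))
  let W : Subgroup G :=
    { carrier := {x | x ∈ R ∧ x ^ p ^ n ∈ D ⊔ I (n + 1)}
      one_mem' := ⟨one_mem _, by rw [one_pow]; exact one_mem _⟩
      mul_mem' := fun {x y} hx hy => ⟨mul_mem hx.1 hy.1, by
        rw [hpow n x hx.1 y hy.1]; exact mul_mem hx.2 hy.2⟩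
      inv_mem' := fun {x} hx => ⟨inv_mem hx.1, by rw [inv_pow]; exact inv_mem hx.2⟩ }
  haveI hWn : W.Normal := ⟨fun x hx u => ⟨‹R.Normal›.conj_mem x hx.1 u, by
    rw [conj_pow]; exact hJn.conj_mem _ hx.2 u⟩⟩
  have hgΦ : g ∉ Φ := fun h => hzn1 (hgz ▸ hΦf g h)
  have hΦW : Φ ≤ W := fun φ hφ => ⟨hΦR hφ, Subgroup.mem_sup_right (hΦf φ hφ)⟩
  have hgW : g ∈ W := ⟨hgR, Subgroup.mem_sup_left (hgz ▸ hzD)⟩
  by_cases hWR : W = R
  · -- the `p ^ n`-th powers form `D`
    have hdown : ∀ k, n ≤ k → I (k + 1) ≤ I (k + 2) := by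
      intro k hk
      rintro _ ⟨x, hx, rfl⟩
      have hxW : x ∈ W := hWR.symm ▸ hx
      obtain ⟨d, hd, _, ⟨y, hy, rfl⟩, he⟩ := Subgroup.mem_sup_of_normal_left.1 hxW.2
      obtain ⟨j, rfl⟩ := Nat.exists_eq_add_of_le hk
      refine ⟨y, hy, ?_⟩
      have e2 : x ^ p ^ (n + j + 1) = (x ^ p ^ n) ^ (p * p ^ j) := by
        rw [← pow_mul]; ring_nf
      rw [e2, ← he, (hΦc d (Subgroup.mem_sup_left hd) _ (pow_mem hy _)).mul_pow, pow_mul d, hDpow d hd,
        one_pow, one_mul, ← pow_mul]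
      ring_nf
    have hI1 : ∀ k, I (n + 1) ≤ I (n + 1 + k) := by
      intro k
      induction k with
      | zero => exact le_rfl
      | succ k ih => exact ih.trans (by
          have := hdown (n + k) (by omega)
          rwa [show n + k + 1 = n + 1 + k by omega, show n + k + 2 = n + 1 + (k + 1) by omega] at this)
    obtain ⟨e, he⟩ := IsPGroup.iff_card.1 hR
    have hbot : ∀ w ∈ I (n + 1), w = 1 := by
      intro w hw
      obtain ⟨x, hx, rfl⟩ := hI1 e hw
      rw [pow_add, mul_comm, pow_mul, ← he,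
        show x ^ Nat.card R = 1 from congrArg Subtype.val (pow_card_eq_one' (x := (⟨x, hx⟩ : R))), one_pow]
    have hfD : ∀ x ∈ R, x ^ p ^ n ∈ D := by
      intro x hx
      obtain ⟨d, hd, w, hw, he⟩ := Subgroup.mem_sup_of_normal_left.1 (hWR.symm ▸ hx : x ∈ W).2
      rw [← he, hbot w hw, mul_one]
      exact hd
    let K : Subgroup G :=
      { carrier := {x | x ∈ R ∧ x ^ p ^ n = 1}
        one_mem' := ⟨one_mem _, one_pow _⟩
        mul_mem' := fun {x y} hx hy => ⟨mul_mem hx.1 hy.1, by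
          rw [hpow n x hx.1 y hy.1, hx.2, hy.2, mul_one]⟩
        inv_mem' := fun {x} hx => ⟨inv_mem hx.1, by rw [inv_pow, hx.2, inv_one]⟩ }
    haveI hKn : K.Normal := ⟨fun x hx u => ⟨‹R.Normal›.conj_mem x hx.1 u, by
      rw [conj_pow, hx.2, mul_one, mul_inv_cancel]⟩⟩
    have hΦK : Φ ≤ K := fun φ hφ => ⟨hΦR hφ, hbot _ (hΦf φ hφ)⟩
    have hgK : g ∉ K := fun h => hz1 (hgz ▸ h.2)
    obtain ⟨k, hk, hkΦ⟩ : ∃ k ∈ K, k ∉ Φ := by
      by_contra hall
      push Not at hall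
      have hR' : ∀ x ∈ R, x ∈ Φ ⊔ Subgroup.zpowers g := by
        intro x hx
        obtain ⟨i, hi⟩ := (hDz ▸ hfD x hx : x ^ p ^ n ∈ Subgroup.zpowers z)
        have hmem : x * g ^ (-i) ∈ K := ⟨mul_mem hx (zpow_mem hgR _), by
          rw [hpow n x hx _ (zpow_mem hgR _), ← zpow_natCast (g ^ (-i)), ← zpow_mul, mul_comm,
            zpow_mul, zpow_natCast, hgz, ← hi, zpow_neg]
          exact mul_inv_cancel _⟩
        have e2 : x = x * g ^ (-i) * g ^ i := by group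
        rw [e2]
        exact mul_mem (Subgroup.mem_sup_left (hall _ hmem))
          (Subgroup.mem_sup_right (Subgroup.zpow_mem_zpowers g i))
      apply hnab
      intro x hx y hy
      obtain ⟨i, φ, hφ, rfl⟩ := decomp Φ g x (hR' x hx)
      obtain ⟨j, ψ, hψ, rfl⟩ := decomp Φ g y (hR' y hy)
      rw [← commutatorElement_eq_one_iff_commute,
        comm_zpow hDc hgR hgR (hΦR hφ) (hΦR hψ) (hΦc φ hφ) (hΦc ψ hψ), commutatorElement_self, one_zpow]
    have hSK : Φ ⊔ Subgroup.zpowers k ≤ K := sup_le hΦK (Subgroup.zpowers_le.2 hk)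
    obtain ⟨hne, hWeq⟩ := frame k g hk.1 hgR hkΦ fun h => hgK (hSK h)
    have hKeq := hWeq K hSK (lt_of_le_of_ne (fun x hx => hx.1) fun e => hgK (e ▸ hgR))
    refine no_fixed hR hcop hRA Φ le_sup_left hk.1 hkΦ fun u hu => ?_
    obtain ⟨l, φ, hφ, hul⟩ := decomp Φ k (u * k * u⁻¹) (hKeq ▸ hKn.conj_mem k hk u)
    obtain ⟨t, w, hw, hut⟩ := decomp K g (u * g * u⁻¹) (by
      obtain ⟨i, hi⟩ := (hDz ▸ hfD _ (‹R.Normal›.conj_mem g hgR u) :
        (u * g * u⁻¹) ^ p ^ n ∈ Subgroup.zpowers z)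
      have hmem : u * g * u⁻¹ * g ^ (-i) ∈ K := ⟨mul_mem (‹R.Normal›.conj_mem g hgR u) (zpow_mem hgR _), by
          rw [hpow n _ (‹R.Normal›.conj_mem g hgR u) _ (zpow_mem hgR _), ← zpow_natCast (g ^ (-i)),
            ← zpow_mul, mul_comm, zpow_mul, zpow_natCast, hgz, ← hi, zpow_neg]
          exact mul_inv_cancel _⟩
      have e2 : u * g * u⁻¹ = u * g * u⁻¹ * g ^ (-i) * g ^ i := by group
      rw [e2]
      exact mul_mem (Subgroup.mem_sup_left hmem) (Subgroup.mem_sup_right (Subgroup.zpow_mem_zpowers g i)))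
    have haz : u * z * u⁻¹ = z ^ t := by
      rw [← hgz, ← conj_pow, hut, hpow n w hw.1 _ (zpow_mem hgR t), hw.2, one_mul, ← zpow_natCast,
        ← zpow_mul, mul_comm, zpow_mul, zpow_natCast]
    obtain ⟨m, ψ, hψ, hwk⟩ := decomp Φ k w (hKeq ▸ hw)
    have hz' : ⁅k, g⁆ ∈ D := Subgroup.commutator_mem_commutator hk.1 hgR
    obtain ⟨e', he'⟩ := (hDz ▸ hz' : ⁅k, g⁆ ∈ Subgroup.zpowers z)
    have e1 : u * ⁅k, g⁆ * u⁻¹ = ⁅k, g⁆ ^ t := by
      rw [← he', ← conj_zpow, haz, ← zpow_mul, ← zpow_mul, mul_comm]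
    have e2 : u * ⁅k, g⁆ * u⁻¹ = ⁅k, g⁆ ^ (l * t) := by
      have h3 : ⁅u * k * u⁻¹, u * g * u⁻¹⁆ = ⁅k, g⁆ ^ (l * t) := by
        rw [hut, hwk, hul, commutatorElement_def]
        have hkk : ⁅φ * k ^ l, ψ * k ^ m * g ^ t⁆ = ⁅φ * k ^ l, g ^ t⁆ := by
          have hc1 : Commute (φ * k ^ l) (ψ * k ^ m) :=
            ((hΦc φ hφ _ (mul_mem (hΦR hψ) (zpow_mem hk.1 m))).mul_left
              (((hΦc ψ hψ _ (zpow_mem hk.1 l)).symm).mul_right ((Commute.refl k).zpow_zpow l m)))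
          have hcc := (hDc _ (mul_mem (hΦR hφ) (zpow_mem hk.1 l)) _ (zpow_mem hgR t) _
            (mul_mem (hΦR hψ) (zpow_mem hk.1 m))).eq
          calc ⁅φ * k ^ l, ψ * k ^ m * g ^ t⁆
              = (φ * k ^ l * (ψ * k ^ m)) * g ^ t * (φ * k ^ l)⁻¹ * (g ^ t)⁻¹ * (ψ * k ^ m)⁻¹ := by
                rw [commutatorElement_def]; group
            _ = ψ * k ^ m * ⁅φ * k ^ l, g ^ t⁆ * (ψ * k ^ m)⁻¹ := by
                rw [hc1.eq, commutatorElement_def]; group
            _ = ⁅φ * k ^ l, g ^ t⁆ := by rw [hcc, mul_inv_cancel_right]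
        rw [← commutatorElement_def, hkk]
        simpa using comm_zpow hDc hk.1 hgR (hΦR hφ) (one_mem R) (hΦc φ hφ) (fun v _ => Commute.one_left v)
          l t
      rw [← h3]
      simp only [commutatorElement_def]
      group
    have hc1 : u * ⁅k, g⁆ * u⁻¹ ≠ 1 := fun h => hne (by
      rwa [conj_eq_one_iff] at h)
    have hdvd := dvd_sub_one (hDpow _ ((inferInstance : D.Normal).conj_mem _ hz' u)) hc1
      (m := l) (by rw [e1, ← zpow_mul, mul_comm, ← e2, e1])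
    rw [hul, show k⁻¹ * (φ * k ^ l) = φ * k ^ (l - 1) by
      rw [← mul_assoc, ← ((hΦc φ hφ k⁻¹ (inv_mem hk.1))).eq, mul_assoc, zpow_sub, zpow_one,
        ((Commute.refl k).inv_left.zpow_right l).eq]]
    exact mul_mem hφ (hΦp k hk.1 _ hdvd)
  · have hWlt : W < R := lt_of_le_of_ne (fun x hx => hx.1) hWR
    obtain ⟨h, hhR, hhW⟩ := SetLike.exists_of_lt hWlt
    have hSW : Φ ⊔ Subgroup.zpowers g ≤ W := sup_le hΦW (Subgroup.zpowers_le.2 hgW)
    obtain ⟨hne, hWeq⟩ := frame g h hgR hhR hgΦ fun hh => hhW (hSW hh)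
    have hWS := hWeq W hSW hWlt
    refine no_fixed hR hcop hRA W (le_sup_left.trans hΦW) hhR hhW fun u hu => ?_
    obtain ⟨i, φ, hφ, hui⟩ := decomp Φ g (u * g * u⁻¹) (hWS ▸ hWn.conj_mem g hgW u)
    obtain ⟨m, w, hw, hum⟩ := decomp W h (u * h * u⁻¹) (by
      have hlt : W < W ⊔ Subgroup.zpowers h := lt_of_le_of_ne le_sup_left fun e =>
        hhW (e ▸ Subgroup.mem_sup_right (Subgroup.mem_zpowers h))
      have hTR : W ⊔ Subgroup.zpowers h ≤ R := sup_le hWlt.le (Subgroup.zpowers_le.2 hhR)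
      have hT : W ⊔ Subgroup.zpowers h = R := by
        refine Subgroup.eq_of_le_of_card_ge hTR (hidx.trans ?_)
        calc p ^ 2 * Nat.card Φ = p * (p * Nat.card Φ) := by ring
          _ ≤ p * Nat.card W := Nat.mul_le_mul_left _ (step Φ W hWlt.le
              (lt_of_le_of_ne hΦW fun e => hgΦ (e ▸ hgW)))
          _ ≤ _ := step W _ hTR hlt
      exact hT ▸ ‹R.Normal›.conj_mem h hhR u)
    have haz : u * z * u⁻¹ = z ^ i := by
      have h2 : u * z * u⁻¹ * (z ^ i)⁻¹ = φ ^ p ^ n := by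
        rw [← hgz, ← conj_pow, hui, hpow n φ (hΦR hφ) _ (zpow_mem hgR i), ← zpow_natCast (g ^ i),
          ← zpow_mul, mul_comm i, zpow_mul, zpow_natCast, mul_inv_cancel_right]
      obtain ⟨s, hs⟩ := (hDz ▸ (inferInstance : D.Normal).conj_mem z hzD u :
        u * z * u⁻¹ ∈ Subgroup.zpowers z)
      replace hs : z ^ s = u * z * u⁻¹ := hs
      have h3 := hinter (s - i) (by rw [zpow_sub, hs, h2]; exact hΦf φ hφ)
      rw [← hs]
      rw [zpow_sub, mul_inv_eq_one] at h3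
      exact h3
    obtain ⟨q, ψ, hψ, hwg⟩ := decomp Φ g w (hWS ▸ hw)
    have hz' : ⁅g, h⁆ ∈ D := Subgroup.commutator_mem_commutator hgR hhR
    obtain ⟨e', he'⟩ := (hDz ▸ hz' : ⁅g, h⁆ ∈ Subgroup.zpowers z)
    have e1 : u * ⁅g, h⁆ * u⁻¹ = ⁅g, h⁆ ^ i := by
      rw [← he', ← conj_zpow, haz, ← zpow_mul, ← zpow_mul, mul_comm]
    have e2 : u * ⁅g, h⁆ * u⁻¹ = ⁅g, h⁆ ^ (i * m) := by
      have h3 : ⁅φ * g ^ i, ψ * g ^ q * h ^ m⁆ = ⁅φ * g ^ i, h ^ m⁆ := by
        have hc1 : Commute (φ * g ^ i) (ψ * g ^ q) :=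
          ((hΦc φ hφ _ (mul_mem (hΦR hψ) (zpow_mem hgR q))).mul_left
            (((hΦc ψ hψ _ (zpow_mem hgR i)).symm).mul_right ((Commute.refl g).zpow_zpow i q)))
        have hcc := (hDc _ (mul_mem (hΦR hφ) (zpow_mem hgR i)) _ (zpow_mem hhR m) _
          (mul_mem (hΦR hψ) (zpow_mem hgR q))).eq
        calc ⁅φ * g ^ i, ψ * g ^ q * h ^ m⁆
            = (φ * g ^ i * (ψ * g ^ q)) * h ^ m * (φ * g ^ i)⁻¹ * (h ^ m)⁻¹ * (ψ * g ^ q)⁻¹ := by
              rw [commutatorElement_def]; group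
          _ = ψ * g ^ q * ⁅φ * g ^ i, h ^ m⁆ * (ψ * g ^ q)⁻¹ := by
              rw [hc1.eq, commutatorElement_def]; group
          _ = ⁅φ * g ^ i, h ^ m⁆ := by rw [hcc, mul_inv_cancel_right]
      have h4 := comm_zpow hDc hgR hhR (hΦR hφ) (one_mem R) (hΦc φ hφ) (fun v _ => Commute.one_left v) i m
      rw [one_mul] at h4
      rw [← h4, ← h3, ← hwg, ← hum, ← hui]
      simp only [commutatorElement_def]
      group
    have hc1 : u * ⁅g, h⁆ * u⁻¹ ≠ 1 := fun hh => hne (by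
      rwa [conj_eq_one_iff] at hh)
    have hdvd := dvd_sub_one (hDpow _ ((inferInstance : D.Normal).conj_mem _ hz' u)) hc1
      (m := m) (by rw [e1, ← zpow_mul, ← e2, e1])
    rw [hum, show h⁻¹ * (w * h ^ m) = (h⁻¹ * w * h) * h ^ (m - 1) by group]
    exact mul_mem (by simpa using hWn.conj_mem w hw h⁻¹) (hΦW (hΦp h hhR _ hdvd))

/-- Generators of a metacyclic `p`-group: the derived group is cyclic and consists of `p`-th powers. -/
theorem exists_gens (hR : IsPGroup p R) (hRm : Cfsg.IsMetacyclic R) :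
    ∃ a ∈ R, ∃ b ∈ R, (∀ r ∈ R, ∃ i j : ℤ, r = a ^ i * b ^ j) ∧
      ⁅R, R⁆ ≤ Subgroup.zpowers (a ^ p) := by
  classical
  obtain ⟨N, hN, hNc, hQ⟩ := hRm
  obtain ⟨⟨a, haN⟩, ha⟩ := IsCyclic.exists_generator (α := N)
  obtain ⟨q, hq⟩ := IsCyclic.exists_generator (α := R ⧸ N)
  obtain ⟨b, rfl⟩ := QuotientGroup.mk'_surjective N q
  have hgen : ∀ r : R, ∃ i j : ℤ, r = a ^ i * b ^ j := by
    intro r
    obtain ⟨j, hj⟩ := hq (QuotientGroup.mk' N r)
    replace hj : (QuotientGroup.mk' N b) ^ j = QuotientGroup.mk' N r := hj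
    have hmem : r * (b ^ j)⁻¹ ∈ N := by
      rw [← QuotientGroup.eq_one_iff]
      show QuotientGroup.mk' N (r * (b ^ j)⁻¹) = 1
      rw [map_mul, map_inv, map_zpow, hj, mul_inv_cancel]
    obtain ⟨i, hi⟩ := ha ⟨_, hmem⟩
    replace hi : a ^ i = r * (b ^ j)⁻¹ := congrArg Subtype.val hi
    exact ⟨i, j, by rw [hi, inv_mul_cancel_right]⟩
  set M : Subgroup R := Subgroup.zpowers (a ^ p) with hM
  haveI hMn : M.Normal := ⟨by
    rintro _ ⟨u, rfl⟩ g
    obtain ⟨k, hk⟩ := ha ⟨_, hN.conj_mem a haN g⟩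
    replace hk : a ^ k = g * a * g⁻¹ := congrArg Subtype.val hk
    refine ⟨k * u, ?_⟩
    show (a ^ p) ^ (k * u) = g * (a ^ p) ^ u * g⁻¹
    rw [← conj_zpow, ← conj_pow, ← hk, ← zpow_natCast, ← zpow_natCast, ← zpow_mul, ← zpow_mul,
      ← zpow_mul]
    congr 1
    ring⟩
  obtain ⟨k, hk⟩ := ha ⟨_, hN.conj_mem a haN b⟩
  replace hk : a ^ k = b * a * b⁻¹ := congrArg Subtype.val hk
  have hiter : ∀ r : ℕ, b ^ r * a * (b ^ r)⁻¹ = a ^ (k ^ r) := by
    intro r
    induction r with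
    | zero => simp
    | succ r ih =>
      calc b ^ (r + 1) * a * (b ^ (r + 1))⁻¹ = b * (b ^ r * a * (b ^ r)⁻¹) * b⁻¹ := by
            rw [pow_succ']; group
        _ = a ^ (k ^ (r + 1)) := by
            rw [ih, ← conj_zpow, ← hk, ← zpow_mul]
            congr 1
            ring
  have hcomm : ⁅b, a⁆ ∈ M := by
    have e1 : ⁅b, a⁆ = a ^ (k - 1) := by
      rw [commutatorElement_def, ← hk, zpow_sub, zpow_one]
    rw [e1]
    by_cases ha1 : a = 1
    · rw [ha1, one_zpow]; exact one_mem _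
    obtain ⟨m, hm⟩ := IsPGroup.iff_orderOf.1 hR a
    obtain ⟨s, hs⟩ := IsPGroup.iff_orderOf.1 hR b
    have hm0 : m ≠ 0 := fun h => ha1 (orderOf_eq_one_iff.1 (by rw [hm, h, pow_zero]))
    have h1 : (orderOf a : ℤ) ∣ k ^ (p ^ s) - 1 := orderOf_dvd_iff_zpow_eq_one.2 (by
      rw [zpow_sub, zpow_one, ← hiter, ← hs, pow_orderOf_eq_one]
      simp)
    have h2 : (p : ℤ) ∣ k ^ (p ^ s) - 1 := by
      refine dvd_trans ?_ h1
      rw [hm]
      exact_mod_cast dvd_pow_self p hm0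
    have h3 : (p : ℤ) ∣ k - 1 := by
      rw [← ZMod.intCast_zmod_eq_zero_iff_dvd] at h2 ⊢
      push_cast at h2 ⊢
      rwa [ZMod.pow_card_pow] at h2
    obtain ⟨c, hc⟩ := h3
    rw [hc]
    exact ⟨c, by show (a ^ p) ^ c = a ^ ((p : ℤ) * c); rw [zpow_mul, zpow_natCast]⟩
  have hc : Commute (QuotientGroup.mk' M b) (QuotientGroup.mk' M a) := by
    rw [← commutatorElement_eq_one_iff_commute, ← map_commutatorElement]
    exact (QuotientGroup.eq_one_iff _).2 hcomm
  have hle : commutator R ≤ M := by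
    rw [commutator_def, Subgroup.commutator_le]
    intro x _ y _
    obtain ⟨i, j, rfl⟩ := hgen x
    obtain ⟨u, v, rfl⟩ := hgen y
    rw [← QuotientGroup.eq_one_iff]
    show QuotientGroup.mk' M _ = 1
    rw [map_commutatorElement, commutatorElement_eq_one_iff_commute, map_mul, map_mul, map_zpow,
      map_zpow, map_zpow, map_zpow]
    exact (((Commute.refl _).zpow_zpow i u).mul_right (hc.symm.zpow_zpow i v)).mul_left
      ((hc.zpow_zpow j u).mul_right ((Commute.refl _).zpow_zpow j v))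
  refine ⟨a, a.2, b, b.2, fun r hr => ?_, ?_⟩
  · obtain ⟨i, j, h⟩ := hgen ⟨r, hr⟩
    exact ⟨i, j, by simpa using congrArg Subtype.val h⟩
  · rw [← Subgroup.map_subtype_commutator, show (a : G) ^ p = R.subtype (a ^ p) from rfl,
      ← MonoidHom.map_zpowers]
    exact Subgroup.map_mono hle

/-- A metacyclic `p`-group, `p` odd, equal to its commutator with a coprime operator group is abelian. -/
theorem abelian_of_normal [R.Normal] (hp2 : p ≠ 2) (hR : IsPGroup p R) (hRm : Cfsg.IsMetacyclic R)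
    (hcop : (Nat.card A).Coprime p) (hRA : ⁅R, A⁆ = R) : ⁅R, R⁆ = ⊥ := by
  classical
  by_contra hne
  obtain ⟨a, ha, b, hb, hgen, hD⟩ := exists_gens hR hRm
  obtain ⟨d, hd⟩ := (Subgroup.isCyclic_iff_exists_zpowers_eq_top _).1
    (Subgroup.isCyclic_of_le hD : IsCyclic ↥⁅R, R⁆)
  set D := ⁅R, R⁆ with hDdef
  have hDd : D = Subgroup.zpowers d := hd.symm
  set M : Subgroup G := Subgroup.zpowers (d ^ p) with hM
  haveI hMn : M.Normal := ⟨by
    rintro _ ⟨u, rfl⟩ g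
    obtain ⟨k, hk⟩ : g * d * g⁻¹ ∈ Subgroup.zpowers d :=
      hDd ▸ (inferInstance : D.Normal).conj_mem d (hDd ▸ Subgroup.mem_zpowers d) g
    replace hk : d ^ k = g * d * g⁻¹ := hk
    refine ⟨k * u, ?_⟩
    show (d ^ p) ^ (k * u) = g * (d ^ p) ^ u * g⁻¹
    rw [← conj_zpow, ← conj_pow, ← hk, ← zpow_natCast, ← zpow_natCast, ← zpow_mul, ← zpow_mul,
      ← zpow_mul]
    congr 1
    ring⟩
  set π := QuotientGroup.mk' M with hπ
  haveI : (R.map π).Normal := ‹R.Normal›.map π (QuotientGroup.mk'_surjective M)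
  have hdD : d ∈ D := hDd ▸ Subgroup.mem_zpowers d
  have hd1 : d ≠ 1 := fun h => hne (by rw [hDd, h, Subgroup.zpowers_one_eq_bot])
  have hDR : D ≤ R := Subgroup.commutator_le_self R
  have hcard : Nat.card (⁅R.map π, R.map π⁆ : Subgroup (G ⧸ M)) = p := by
    rw [← Subgroup.map_commutator, ← hDdef, hDd, MonoidHom.map_zpowers, Nat.card_zpowers]
    refine orderOf_eq_prime ?_ ?_
    · rw [← map_pow, hπ, QuotientGroup.mk'_apply, QuotientGroup.eq_one_iff]
      exact Subgroup.mem_zpowers _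
    · intro h
      obtain ⟨u, hu⟩ := (QuotientGroup.eq_one_iff d).1 h
      replace hu : (d ^ p) ^ u = d := hu
      rw [← zpow_natCast, ← zpow_mul] at hu
      obtain ⟨m, hm⟩ := IsPGroup.iff_orderOf.1 hR ⟨d, hDR hdD⟩
      rw [Subgroup.orderOf_mk] at hm
      have h1 : (orderOf d : ℤ) ∣ (p : ℤ) * u - 1 := orderOf_dvd_iff_zpow_eq_one.2 (by
        rw [zpow_sub, zpow_one, hu, mul_inv_cancel])
      have hm0 : m ≠ 0 := fun h0 => hd1 (orderOf_eq_one_iff.1 (by rw [hm, h0, pow_zero]))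
      have h2 : (p : ℤ) ∣ (p : ℤ) * u - 1 := by
        refine dvd_trans ?_ h1
        rw [hm]
        exact_mod_cast dvd_pow_self p hm0
      have h3 : (p : ℤ) ∣ 1 := (dvd_sub_right (dvd_mul_right _ _)).1 h2
      exact hp.out.ne_one (Nat.dvd_one.1 (by exact_mod_cast h3))
  refine class_two_false (A := A.map π) hp2 (hR.map π)
    (hcop.coprime_dvd_left (Subgroup.card_map_dvd A π))
    (by rw [← Subgroup.map_commutator, hRA]) hcard (a := π a) (b := π b) ⟨a, ha, rfl⟩ ⟨b, hb, rfl⟩ ?_ ?_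
  · rintro _ ⟨r, hr, rfl⟩
    obtain ⟨i, j, rfl⟩ := hgen r hr
    exact ⟨i, j, by rw [map_mul, map_zpow, map_zpow]⟩
  · intro t ht
    rw [← Subgroup.map_commutator] at ht
    obtain ⟨c, hc, rfl⟩ := ht
    obtain ⟨u, hu⟩ := hD hc
    refine ⟨π (a ^ u), ⟨a ^ u, zpow_mem ha u, rfl⟩, ?_⟩
    rw [← map_pow, ← zpow_natCast, ← zpow_mul, mul_comm, zpow_mul, zpow_natCast]
    exact congrArg π hu

omit [Finite G] hp in
/-- Subgroups of metacyclic groups are metacyclic. -/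
theorem isMetacyclic_of_le {K : Subgroup G} (hK : K ≤ R) (hRm : Cfsg.IsMetacyclic R) :
    Cfsg.IsMetacyclic K := by
  obtain ⟨N, hN, hNc, hQ⟩ := hRm
  set ι := Subgroup.inclusion hK with hι
  refine ⟨N.comap ι, hN.comap ι, ?_, ?_⟩
  · exact isCyclic_of_injective ((ι.comp (N.comap ι).subtype).codRestrict N fun x => x.2) fun x y h =>
      Subtype.ext (Subgroup.inclusion_injective hK (congrArg Subtype.val h))
  · refine isCyclic_of_injective (QuotientGroup.map (N.comap ι) N ι le_rfl) ?_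
    rw [← MonoidHom.ker_eq_bot_iff, eq_bot_iff]
    intro x hx
    induction x using QuotientGroup.induction_on with | H x => ?_
    rw [MonoidHom.mem_ker, QuotientGroup.map_mk, QuotientGroup.eq_one_iff] at hx
    exact Subgroup.mem_bot.2 ((QuotientGroup.eq_one_iff x).2 hx)

/-- A metacyclic `p`-group, `p` odd, equal to its commutator with a coprime operator group is abelian. -/
theorem abelian (hp2 : p ≠ 2) (hR : IsPGroup p R) (hRm : Cfsg.IsMetacyclic R)
    (hA : A ≤ Subgroup.normalizer (R : Set G)) (hcop : (Nat.card A).Coprime p) (hRA : ⁅R, A⁆ = R) :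
    IsMulCommutative R := by
  set H := Subgroup.normalizer (R : Set G) with hH
  have hRH : R ≤ H := Subgroup.le_normalizer
  haveI : (R.subgroupOf H).Normal := Subgroup.normal_subgroupOf_of_le_normalizer le_rfl
  set e := Subgroup.subgroupOfEquivOfLe hRH
  have h := abelian_of_normal (R := R.subgroupOf H) (A := A.subgroupOf H) hp2
    (hR.of_equiv e.symm) ?_
    (by rwa [Nat.card_congr (Subgroup.subgroupOfEquivOfLe hA).toEquiv]) ?_
  · refine .of_setLike_mul_comm fun x hx y hy => ?_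
    have hmem : ⁅(⟨x, hRH hx⟩ : H), ⟨y, hRH hy⟩⁆ ∈ ⁅R.subgroupOf H, R.subgroupOf H⁆ :=
      Subgroup.commutator_mem_commutator hx hy
    rw [h, Subgroup.mem_bot] at hmem
    exact congrArg Subtype.val (commutatorElement_eq_one_iff_mul_comm.1 hmem)
  · obtain ⟨N, hN, hNc, hQ⟩ := hRm
    refine ⟨N.comap e.toMonoidHom, hN.comap _, ?_, ?_⟩
    · exact isCyclic_of_injective ((e.toMonoidHom.comp (N.comap e.toMonoidHom).subtype).codRestrict N
        fun x => x.2) fun x y h => Subtype.ext (e.injective (congrArg Subtype.val h))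
    · refine isCyclic_of_injective (QuotientGroup.map (N.comap e.toMonoidHom) N e.toMonoidHom le_rfl) ?_
      rw [← MonoidHom.ker_eq_bot_iff, eq_bot_iff]
      intro x hx
      induction x using QuotientGroup.induction_on with | H x => ?_
      rw [MonoidHom.mem_ker, QuotientGroup.map_mk, QuotientGroup.eq_one_iff] at hx
      exact Subgroup.mem_bot.2 ((QuotientGroup.eq_one_iff x).2 hx)
  · apply Subgroup.map_injective H.subtype_injective
    rw [Subgroup.map_commutator, Subgroup.subgroupOf_map_subtype, Subgroup.subgroupOf_map_subtype,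
      inf_eq_left.2 hRH, inf_eq_left.2 hA, hRA]

end Cfsg.Agent.OddOrder.MetacyclicAction
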