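/-
BG Lemma 4.? : coprime action on a metacyclic p-group, p odd.
-/
import Cfsg.Agent.Lib.OddOrder.MetacyclicAction
import Cfsg.Agent.Lib.Fusion.ClosedMetacyclic
import Cfsg.Agent.Lib.FiniteGroup.CyclicPGroup

set_option autoImplicit false
set_option linter.style.haveILetI false
open Cfsg

namespace Cfsg.Agent.OddOrder.MetacyclicAction

open scoped commutatorElement

variable {G : Type*} [Group G] [Finite G] {p : ℕ} [hp : Fact p.Prime] {R A : Subgroup G}

/-- A noncyclic subgroup of a `p`-group, `p` odd, contains `p ^ 2` elements killed by `p`. -/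
theorem exists_sq_of_not_cyclic (hp2 : p ≠ 2) {K : Subgroup G} (hK : IsPGroup p K) (hc : ¬ IsCyclic K) :
    ∃ E : Subgroup G, E ≤ K ∧ Nat.card E = p ^ 2 ∧ ∀ e ∈ E, e ^ p = 1 := by
  obtain ⟨B, hBc, hBn⟩ := CyclicPGroup.exists_noncyclic_abelian hp2 K hK hc
  haveI := hBc
  obtain ⟨q, E, hq, hE, hexp⟩ := CoprimeAct.exists_elementary_of_not_isCyclic hBn
  have hqp : q = p := by
    obtain ⟨k, hk⟩ := IsPGroup.iff_card.1 ((hK.to_subgroup B).to_subgroup E)
    have : q ∣ p ^ k := hk ▸ hE ▸ dvd_pow_self q two_ne_zero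
    exact (Nat.prime_dvd_prime_iff_eq hq hp.out).1 (hq.dvd_of_dvd_pow this)
  subst hqp
  refine ⟨E.map (K.subtype.comp B.subtype), ?_, ?_, ?_⟩
  · rintro _ ⟨e, -, rfl⟩
    exact ((e : B) : K).2
  · rw [Subgroup.card_map_of_injective (f := K.subtype.comp B.subtype)
      (K.subtype_injective.comp B.subtype_injective), hE]
  · rintro _ ⟨e, he, rfl⟩
    rw [← map_pow]
    have : e ^ q = 1 := congrArg Subtype.val (hexp ⟨e, he⟩)
    rw [this, map_one]

/-- Coprime action on a metacyclic `p`-group, `p` odd. -/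
theorem main (hp2 : p ≠ 2) (hR : IsPGroup p R) (hRm : Cfsg.IsMetacyclic R)
    (hA : A ≤ Subgroup.normalizer (R : Set G)) (hcop : (Nat.card A).Coprime p) :
    IsMulCommutative ↥⁅R, A⁆ ∧ ⁅R, A⁆ ⊔ (R ⊓ Subgroup.centralizer (A : Set G)) = R ∧
      ⁅R, A⁆ ⊓ (R ⊓ Subgroup.centralizer (A : Set G)) = ⊥ ∧
      (¬ IsMulCommutative R → ¬ A ≤ Subgroup.centralizer (R : Set G) →
        ⁅R, A⁆ ≠ ⊥ ∧ IsCyclic ↥⁅R, A⁆ ∧ (R ⊓ Subgroup.centralizer (A : Set G)) ≠ ⊥ ∧
          IsCyclic ↥(R ⊓ Subgroup.centralizer (A : Set G)) ∧ ⁅R, R⁆ ≤ ⁅R, A⁆) := by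
  classical
  set S := ⁅R, A⁆ with hS
  set C := R ⊓ Subgroup.centralizer (A : Set G) with hC
  haveI : Group.IsNilpotent R := hR.isNilpotent
  have hsolv : Group.IsSolvable R := inferInstance
  have hc' : (Nat.card A).Coprime (Nat.card R) := by
    obtain ⟨k, hk⟩ := IsPGroup.iff_card.1 hR
    rw [hk]
    exact hcop.pow_right k
  have hSR : S ≤ R := CoprimeAct.commutator_le_left hA
  have hSp : IsPGroup p S := hR.to_le hSR
  have hSA : A ≤ Subgroup.normalizer (S : Set G) := Subgroup.normalizer_commutator_ge_right R A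
  have hRS : R ≤ Subgroup.normalizer (S : Set G) := Subgroup.normalizer_commutator_ge_left R A
  have hSS : ⁅S, A⁆ = S := CoprimeAct.commutator_commutator hA hc' (Or.inr hsolv)
  have hSab : IsMulCommutative S :=
    abelian hp2 hSp (isMetacyclic_of_le hSR hRm) hSA hcop hSS
  haveI := hSab
  have hsup : S ⊔ C = R := CoprimeAct.commutator_sup_centralizer hA hc' (Or.inr hsolv)
  have hinf : S ⊓ C = ⊥ := by
    have h := CoprimeAct.centralizer_inf_commutator_eq_bot hSA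
      (hc'.coprime_dvd_right (Subgroup.card_dvd_of_le hSR))
    rw [hSS] at h
    rw [eq_bot_iff, ← h]
    exact fun x hx => ⟨⟨hx.1, hx.2.2⟩, hx.1⟩
  refine ⟨hSab, hsup, hinf, fun hnab hnc => ?_⟩
  have hSne : S ≠ ⊥ := fun h => hnc (by
    rw [h, bot_sup_eq] at hsup
    exact Subgroup.le_centralizer_iff.1 (hsup.ge.trans inf_le_right))
  have hCne : C ≠ ⊥ := fun h => hnab (by
    rw [h, sup_bot_eq] at hsup
    exact hsup ▸ hSab)
  obtain ⟨U, hU, hUcard⟩ := FusionSys.exists_omega_metacyclic hp2 hR hRm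
  have hCp : IsPGroup p C := hR.to_le inf_le_left
  have cyc : ∀ X Y : Subgroup G, X ≤ R → Y ≤ R → X ⊓ Y = ⊥ → Y ≠ ⊥ → IsCyclic X := by
    intro X Y hX hY hXY hYne
    by_contra hc
    obtain ⟨E, hEX, hE, hEp⟩ := exists_sq_of_not_cyclic hp2 (hR.to_le hX) hc
    have hEU : E = U.map R.subtype := by
      refine Subgroup.eq_of_le_of_card_ge (fun e he => ?_) ?_
      · exact ⟨⟨e, hX (hEX he)⟩, (hU _).2 (Subtype.ext (hEp e he)), rfl⟩
      · rw [Subgroup.card_map_of_injective R.subtype_injective, hE]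
        exact hUcard
    haveI := (Subgroup.nontrivial_iff_ne_bot Y).2 hYne
    obtain ⟨k, hk, hk'⟩ := (hR.to_le hY).nontrivial_iff_card.1 inferInstance
    obtain ⟨y, hy⟩ := exists_prime_orderOf_dvd_card' (G := Y) p (hk' ▸ dvd_pow_self p hk.ne')
    have hyE : (y : G) ∈ E := by
      rw [hEU]
      exact ⟨⟨y, hY y.2⟩, (hU _).2 (Subtype.ext (by
        show (y : G) ^ p = 1
        rw [← hy, ← Subgroup.orderOf_coe, pow_orderOf_eq_one])), rfl⟩
    have hy1 : (y : G) ∈ (⊥ : Subgroup G) := hXY ▸ ⟨hEX hyE, y.2⟩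
    rw [Subgroup.mem_bot] at hy1
    rw [← Subgroup.orderOf_coe, hy1, orderOf_one] at hy
    exact hp.out.ne_one hy.symm
  have hScyc : IsCyclic S := cyc S C hSR inf_le_left hinf hCne
  have hCcyc : IsCyclic C := cyc C S inf_le_left hSR (inf_comm S C ▸ hinf) hSne
  refine ⟨hSne, hScyc, hCne, hCcyc, ?_⟩
  rw [Subgroup.commutator_le]
  intro x hx y hy
  obtain ⟨s, hs, c, hc, rfl⟩ := CoprimeAct.exists_commutator_mul hA hc' (Or.inr hsolv) hx
  obtain ⟨s', hs', c', hc'', rfl⟩ := CoprimeAct.exists_commutator_mul hA hc' (Or.inr hsolv) hy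
  have hcc : c * c' = c' * c := by
    letI : CommGroup C := IsCyclic.commGroup
    exact congrArg Subtype.val (mul_comm (⟨c, hc⟩ : C) ⟨c', hc''⟩)
  have e : ⁅s * c, s' * c'⁆ = s * (c * s' * c⁻¹) * (c' * s⁻¹ * c'⁻¹) * s'⁻¹ := by
    have h2 : c' * c⁻¹ = c⁻¹ * c' := (Commute.inv_left (show Commute c c' from hcc)).eq.symm
    calc ⁅s * c, s' * c'⁆ = s * c * s' * (c' * c⁻¹) * s⁻¹ * c'⁻¹ * s'⁻¹ := by
          rw [commutatorElement_def]; group
      _ = _ := by rw [h2]; group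
  rw [e]
  refine mul_mem (mul_mem (mul_mem hs ?_) ?_) (inv_mem hs')
  · exact (Subgroup.mem_normalizer_iff.1 (hRS hc.1) s').1 hs'
  · exact (Subgroup.mem_normalizer_iff.1 (hRS hc''.1) s⁻¹).1 (inv_mem hs)

end Cfsg.Agent.OddOrder.MetacyclicAction
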