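/-
Blackburn: a p-group of rank at most two, p odd, equal to its commutator with an operator group of
odd order prime to p.
-/
import Cfsg.Agent.Lib.OddOrder.MetacyclicActionMain
import Cfsg.Agent.Lib.OddOrder.RankTwoAut
import Cfsg.Agent.Lib.OddOrder.NarrowBasics
import Cfsg.Agent.Lib.PLocal.OmegaSmall

set_option autoImplicit false
set_option linter.style.haveILetI false
set_option linter.unusedSectionVars false
open Cfsg

namespace Cfsg.Agent.OddOrder.Blackburn

open scoped commutatorElement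

universe u

variable {P : Type u} [Group P] [Finite P] {p : ℕ} [hp : Fact p.Prime]

/-- An abelian quotient has no fixed point for an operator group generating it. -/
theorem no_fixed {A : Type*} [Group A] [Finite A] (α : A →* MulAut P)
    (hgen : Subgroup.closure {g : P | ∃ a x, g = x * (α a x)⁻¹} = ⊤) (hP : IsPGroup p P)
    (hcop : (Nat.card A).Coprime p) (U : Subgroup P) [U.Normal] (hD : commutator P ≤ U) {g : P}
    (hfix : ∀ a, g⁻¹ * α a g ∈ U) : g ∈ U := by
  classical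
  letI : CommGroup (P ⧸ U) := { (inferInstance : Group (P ⧸ U)) with
    mul_comm := fun a b => by
      obtain ⟨a, rfl⟩ := QuotientGroup.mk'_surjective U a
      obtain ⟨b, rfl⟩ := QuotientGroup.mk'_surjective U b
      rw [← commutatorElement_eq_one_iff_mul_comm, ← map_commutatorElement, QuotientGroup.mk'_apply,
        QuotientGroup.eq_one_iff]
      exact hD (Subgroup.commutator_mem_commutator (Subgroup.mem_top a) (Subgroup.mem_top b)) }
  have := Fintype.ofFinite A
  let Ψ : P →* P ⧸ U := ∏ a : A, (QuotientGroup.mk' U).comp (α a).toMonoidHom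
  have hΨ : ∀ x, Ψ x = ∏ a : A, QuotientGroup.mk' U (α a x) := fun x => MonoidHom.finsetProd_apply ..
  have hinv : ∀ (b : A) x, Ψ (α b x) = Ψ x := fun b x => by
    simp only [hΨ]
    refine Fintype.prod_equiv (Equiv.mulRight b) _ _ fun a => ?_
    simp
  have h1 : Ψ g = 1 := by
    have : Subgroup.closure {g : P | ∃ a x, g = x * (α a x)⁻¹} ≤ Ψ.ker := by
      rw [Subgroup.closure_le]
      rintro _ ⟨a, x, rfl⟩
      rw [SetLike.mem_coe, MonoidHom.mem_ker, map_mul, map_inv, hinv, mul_inv_cancel]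
    exact MonoidHom.mem_ker.1 (this (hgen ▸ Subgroup.mem_top g))
  have h2 : Ψ g = (QuotientGroup.mk' U g) ^ Nat.card A := by
    rw [hΨ, Nat.card_eq_fintype_card, ← Finset.card_univ, ← Finset.prod_const]
    refine Finset.prod_congr rfl fun a _ => (QuotientGroup.eq.2 ?_).symm
    exact hfix a
  rw [← QuotientGroup.eq_one_iff]
  obtain ⟨k, hk⟩ := IsPGroup.iff_orderOf.1 (hP.to_quotient U) (QuotientGroup.mk' U g)
  exact orderOf_eq_one_iff.1 (Nat.eq_one_of_dvd_coprimes (hcop.pow_right k)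
    (orderOf_dvd_of_pow_eq_one (h2.symm.trans h1)) hk.dvd)

/-- A subgroup of order at most `p ^ 3` with a central subgroup of order `p ^ 2` is abelian. -/
theorem commutative_of_central (hP : IsPGroup p P) {X E : Subgroup P} (hX : Nat.card X ≤ p ^ 3)
    (hEX : E ≤ X) (hE : p ^ 2 ≤ Nat.card E) (hcen : ∀ e ∈ E, ∀ x ∈ X, Commute e x) :
    IsMulCommutative X := by
  have hle : p ^ 2 ≤ Nat.card (Subgroup.center X) := by
    refine hE.trans (Nat.card_le_card_of_injective
      (fun e : E => (⟨⟨e, hEX e.2⟩, Subgroup.mem_center_iff.2 fun x =>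
        Subtype.ext (hcen e e.2 x x.2).eq.symm⟩ : Subgroup.center X)) ?_)
    intro a b h
    exact Subtype.ext (congrArg (fun t : Subgroup.center X => ((t : X) : P)) h)
  have h1 := (Subgroup.center X).card_eq_card_quotient_mul_card_subgroup
  have hq : Nat.card (X ⧸ Subgroup.center X) ≤ p := by
    refine Nat.le_of_mul_le_mul_right ?_ (pow_pos hp.out.pos 2)
    calc Nat.card (X ⧸ Subgroup.center X) * p ^ 2
        ≤ Nat.card (X ⧸ Subgroup.center X) * Nat.card (Subgroup.center X) := Nat.mul_le_mul_left _ hle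
      _ ≤ p * p ^ 2 := by rw [← h1, ← pow_succ']; exact hX
  haveI : IsCyclic (X ⧸ Subgroup.center X) := by
    obtain ⟨j, hj⟩ := IsPGroup.iff_card.1 ((hP.to_subgroup X).to_quotient (Subgroup.center X))
    have hj1 : j ≤ 1 := (Nat.pow_le_pow_iff_right hp.out.one_lt).1 (by rw [pow_one, ← hj]; exact hq)
    interval_cases j
    · haveI := (Nat.card_eq_one_iff_unique.1 (by simpa using hj)).1
      exact isCyclic_of_subsingleton
    · exact isCyclic_of_prime_card (p := p) (by simpa using hj)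
  exact ⟨⟨commutative_of_cyclic_center_quotient (QuotientGroup.mk' (Subgroup.center X))
    (QuotientGroup.ker_mk' _).le⟩⟩

/-- The structure when the elements killed by `p` form a group of order `p ^ 3`. -/
theorem structure_cube {A : Type*} [Group A] [Finite A] (α : A →* MulAut P) (hp3 : 3 < p)
    (hgen : Subgroup.closure {g : P | ∃ a x, g = x * (α a x)⁻¹} = ⊤) (hP : IsPGroup p P)
    (hcop : (Nat.card A).Coprime p) (hodd : Odd (Nat.card A)) (hr : PRankLE p 2 P)
    (R₁ : Subgroup P) (hR₁ : ∀ x, x ∈ R₁ ↔ x ^ p = 1) (h3 : Nat.card R₁ = p ^ 3) :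
    ∃ R₂ : Subgroup P, R₁ ⊔ R₂ = ⊤ ∧ (∀ a ∈ R₁, ∀ b ∈ R₂, a * b = b * a) ∧ ¬ IsMulCommutative R₁ ∧
      IsCyclic R₂ ∧ Subgroup.closure {x : P | x ∈ R₂ ∧ x ^ p = 1} = ⁅R₁, R₁⁆ := by
  classical
  have hnab : ¬ IsMulCommutative R₁ := fun h => by
    have h1 := hr R₁ h fun x hx => (hR₁ x).1 hx
    rw [h3] at h1
    exact absurd ((Nat.pow_le_pow_iff_right hp.out.one_lt).1 h1) (by norm_num)
  have hR₁pow : ∀ x ∈ R₁, x ^ p = 1 := fun x hx => (hR₁ x).1 hx
  haveI hR₁n : R₁.Normal := ⟨fun x hx g => (hR₁ _).2 (by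
    rw [conj_pow, hR₁pow x hx, mul_one, mul_inv_cancel])⟩
  set C := Subgroup.centralizer (R₁ : Set P) with hC
  haveI hCn : C.Normal := inferInstance
  set Z := R₁ ⊓ C with hZ
  haveI hZn : Z.Normal := Subgroup.normal_inf_normal R₁ C
  have hZR : Z ≤ R₁ := inf_le_left
  have hZc : ∀ z ∈ Z, ∀ r ∈ R₁, Commute z r := fun z hz r hr' =>
    (Subgroup.mem_centralizer_iff.1 hz.2 r hr').symm
  -- `Z` has order `p`
  have hZlt : Nat.card Z < p ^ 2 := by
    by_contra h
    exact hnab (commutative_of_central hP h3.le hZR (not_lt.1 h) hZc)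
  have hZne : Z ≠ ⊥ := by
    haveI : Nontrivial R₁ := Finite.one_lt_card_iff_nontrivial.1
      (h3 ▸ Nat.one_lt_pow (by norm_num) hp.out.one_lt)
    haveI := (hP.to_subgroup R₁).center_nontrivial
    obtain ⟨z, hz⟩ := exists_ne (1 : Subgroup.center R₁)
    intro h
    have hmem : ((z : R₁) : P) ∈ Z := ⟨(z : R₁).2, Subgroup.mem_centralizer_iff.2 fun r hr' =>
      congrArg Subtype.val (Subgroup.mem_center_iff.1 z.2 ⟨r, hr'⟩)⟩
    rw [h, Subgroup.mem_bot] at hmem
    exact hz (Subtype.ext (Subtype.ext hmem))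
  have hZp : Nat.card Z = p := by
    obtain ⟨k, hk⟩ := IsPGroup.iff_card.1 (hP.to_subgroup Z)
    have hk2 : k < 2 := (Nat.pow_lt_pow_iff_right hp.out.one_lt).1 (hk ▸ hZlt)
    have hk0 : k ≠ 0 := fun h => hZne (Subgroup.card_eq_one.1 (by rw [hk, h, pow_zero]))
    rw [hk, show k = 1 by omega, pow_one]
  have hZcen : ∀ z ∈ Z, ∀ g : P, Commute z g := fun z hz g =>
    (Subgroup.mem_center_iff.1 (OmegaCen.le_center_of_prime_card hP hZp hz) g).symm
  -- `C` is cyclic
  have hCcyc : IsCyclic C := by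
    by_contra h
    obtain ⟨E, hEC, hE, hEp⟩ := MetacyclicAction.exists_sq_of_not_cyclic (p := p) (by omega)
      (hP.to_subgroup C) h
    have := Subgroup.card_le_of_le (show E ≤ Z from fun e he => ⟨(hR₁ e).2 (hEp e he), hEC he⟩)
    omega
  -- the section `V`
  set π := QuotientGroup.mk' Z with hπ
  have hker : ∀ x : P, π x = 1 ↔ x ∈ Z := fun x => QuotientGroup.eq_one_iff x
  haveI hVn : (R₁.map π).Normal := hR₁n.map π (QuotientGroup.mk'_surjective Z)
  have hV : Nat.card (R₁.map π) = p ^ 2 := by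
    have h2 : Z.relIndex R₁ * Nat.card Z = Nat.card R₁ := by
      rw [Subgroup.relIndex, ← Nat.card_congr (Subgroup.subgroupOfEquivOfLe hZR).toEquiv]
      exact Subgroup.index_mul_card _
    have h4 : Nat.card (R₁.map π) = Z.relIndex R₁ := by
      rw [← Subgroup.relIndex_ker, hπ, QuotientGroup.ker_mk']
    rw [hZp, h3, pow_succ] at h2
    rw [h4]
    exact Nat.eq_of_mul_eq_mul_right hp.out.pos h2
  have hVc : IsMulCommutative (R₁.map π) := IsPGroup.isMulCommutative_of_card_eq_prime_sq hV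
  have hVcomm : ∀ r ∈ R₁, ∀ s ∈ R₁, ⁅r, s⁆ ∈ Z := fun r hr' s hs => by
    haveI := hVc
    rw [← hker, map_commutatorElement, commutatorElement_eq_one_iff_mul_comm]
    exact congrArg Subtype.val (mul_comm' (⟨π r, r, hr', rfl⟩ : R₁.map π) ⟨π s, s, hs, rfl⟩)
  have hR₁'Z : ⁅R₁, R₁⁆ = Z := by
    have hle : ⁅R₁, R₁⁆ ≤ Z := Subgroup.commutator_le.2 hVcomm
    refine Subgroup.eq_of_le_of_card_ge hle ?_
    have hd := Subgroup.card_dvd_of_le hle
    rw [hZp] at hd
    rcases (Nat.dvd_prime hp.out).1 hd with h | h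
    · exfalso
      rw [Subgroup.card_eq_one] at h
      apply hnab
      refine .of_setLike_mul_comm fun a ha b hb => ?_
      rw [← commutatorElement_eq_one_iff_mul_comm, ← Subgroup.mem_bot, ← h]
      exact Subgroup.commutator_mem_commutator ha hb
    · rw [hZp, h]
  set D := R₁ ⊔ C with hDdef
  haveI hDn : D.Normal := Subgroup.sup_normal R₁ C
  have hDR : R₁ ≤ D := le_sup_left
  set K := (Subgroup.centralizer ((R₁.map π : Subgroup (P ⧸ Z)) : Set (P ⧸ Z))).comap π with hK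
  have hmemK : ∀ g, (∀ r ∈ R₁, ⁅g, r⁆ ∈ Z) → g ∈ K := fun g hg => by
    refine Subgroup.mem_centralizer_iff.2 ?_
    rintro _ ⟨r, hr', rfl⟩
    refine (commutatorElement_eq_one_iff_mul_comm.1 ?_).symm
    rw [← map_commutatorElement, hker]
    exact hg r hr'
  have hKmem : ∀ g ∈ K, ∀ r ∈ R₁, ⁅g, r⁆ ∈ Z := fun g hg r hr' => by
    rw [← hker, map_commutatorElement, commutatorElement_eq_one_iff_mul_comm]
    exact (Subgroup.mem_centralizer_iff.1 hg (π r) ⟨r, hr', rfl⟩).symm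
  obtain ⟨y₁, hy₁, y₂, hy₂, hy12⟩ : ∃ y₁ ∈ R₁, ∃ y₂ ∈ R₁, ⁅y₁, y₂⁆ ≠ 1 := by
    by_contra h
    push Not at h
    exact hnab (.of_setLike_mul_comm fun a ha b hb => commutatorElement_eq_one_iff_mul_comm.1 (h a ha b hb))
  have hgenR : ∀ r ∈ R₁, ∀ g : P, Commute g y₁ → Commute g y₂ → Commute g r := by
    intro r hr' g hg1 hg2
    set S := Z ⊔ Subgroup.zpowers y₁ with hS
    set T := S ⊔ Subgroup.zpowers y₂ with hT
    have hSR : S ≤ R₁ := sup_le hZR (Subgroup.zpowers_le.2 hy₁)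
    have hTR : T ≤ R₁ := sup_le hSR (Subgroup.zpowers_le.2 hy₂)
    have hy1Z : y₁ ∉ Z := fun h => hy12 (commutatorElement_eq_one_iff_commute.2 (hZc y₁ h y₂ hy₂))
    have hy2S : y₂ ∉ S := fun h => hy12 (by
      obtain ⟨z, hz, _, ⟨i, rfl⟩, he⟩ := Subgroup.mem_sup_of_normal_left.1 h
      rw [← he, commutatorElement_eq_one_iff_commute]
      exact ((hZc z hz y₁ hy₁).symm).mul_right ((Commute.refl y₁).zpow_right i))
    have step : ∀ S T : Subgroup P, S < T → p * Nat.card S ≤ Nat.card T := by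
      intro S T hlt
      obtain ⟨s, hs⟩ := IsPGroup.iff_card.1 (hP.to_subgroup S)
      obtain ⟨t, ht⟩ := IsPGroup.iff_card.1 (hP.to_subgroup T)
      have h : Nat.card S < Nat.card T := Set.ncard_lt_ncard (SetLike.coe_ssubset_coe.2 hlt) (Set.toFinite _)
      rw [hs, ht] at h ⊢
      rw [← pow_succ']
      exact Nat.pow_le_pow_right hp.out.pos ((Nat.pow_lt_pow_iff_right hp.out.one_lt).1 h)
    have h1 := step Z S (lt_of_le_of_ne le_sup_left fun e =>
      hy1Z (e ▸ Subgroup.mem_sup_right (Subgroup.mem_zpowers y₁)))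
    have h2 := step S T (lt_of_le_of_ne le_sup_left fun e =>
      hy2S (e ▸ Subgroup.mem_sup_right (Subgroup.mem_zpowers y₂)))
    have hTeq : T = R₁ := Subgroup.eq_of_le_of_card_ge hTR (by
      rw [h3]
      calc p ^ 3 = p * (p * Nat.card Z) := by rw [hZp]; ring
        _ ≤ p * Nat.card S := Nat.mul_le_mul_left _ h1
        _ ≤ Nat.card T := h2)
    have hle : T ≤ Subgroup.centralizer {g} := sup_le (sup_le (fun z hz =>
        Subgroup.mem_centralizer_singleton_iff.2 (hZcen z hz g))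
      (Subgroup.zpowers_le.2 (Subgroup.mem_centralizer_singleton_iff.2 hg1.symm)))
      (Subgroup.zpowers_le.2 (Subgroup.mem_centralizer_singleton_iff.2 hg2.symm))
    exact (Subgroup.mem_centralizer_singleton_iff.1 (hle (hTeq.symm ▸ hr'))).symm
  have hKD : K ≤ D := by
    intro g hg
    let θ : K → Z × Z := fun g =>
      (⟨⁅(g : P), y₁⁆, hKmem g g.2 y₁ hy₁⟩, ⟨⁅(g : P), y₂⁆, hKmem g g.2 y₂ hy₂⟩)
    have hfib : ∀ g h : K, θ g = θ h → (h : P)⁻¹ * g ∈ C := by
      intro g h e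
      have e1 : ∀ y : P, ⁅(g : P), y⁆ = ⁅(h : P), y⁆ → Commute ((h : P)⁻¹ * g) y := by
        intro y he
        rw [commutatorElement_def, commutatorElement_def, mul_left_inj] at he
        show (h : P)⁻¹ * g * y = y * ((h : P)⁻¹ * g)
        calc (h : P)⁻¹ * g * y = (h : P)⁻¹ * (g * y * (g : P)⁻¹) * g := by group
          _ = y * ((h : P)⁻¹ * g) := by rw [he]; group
      have c1 := e1 y₁ (congrArg (fun t : Z × Z => (t.1 : P)) e)
      have c2 := e1 y₂ (congrArg (fun t : Z × Z => (t.2 : P)) e)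
      exact Subgroup.mem_centralizer_iff.2 fun r hr' => (hgenR r hr' _ c1 c2).eq.symm
    have hRK : ∀ r ∈ R₁, r ∈ K := fun r hr' => hmemK r (hVcomm r hr')
    let θ' : R₁ → Z × Z := fun r => θ ⟨r, hRK r r.2⟩
    let sec : Z × Z → R₁ := Function.invFun θ'
    let emb : R₁ → Set.range θ' × Z := fun r => (⟨θ' r, r, rfl⟩, ⟨(sec (θ' r) : P)⁻¹ * r,
      R₁.mul_mem (R₁.inv_mem (sec (θ' r)).2) r.2, hfib ⟨r, hRK r r.2⟩ ⟨sec (θ' r), hRK _ (sec (θ' r)).2⟩
        (Function.invFun_eq (f := θ') (b := θ' r) ⟨r, rfl⟩).symm⟩)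
    have hemb : Function.Injective emb := by
      intro r s h
      obtain ⟨h1, h2⟩ := Prod.ext_iff.1 h
      have h1' : θ' r = θ' s := congrArg Subtype.val h1
      have h2' : (sec (θ' r) : P)⁻¹ * r = (sec (θ' s) : P)⁻¹ * s := congrArg Subtype.val h2
      rw [h1'] at h2'
      exact Subtype.ext (mul_left_cancel h2')
    have hcnt := Nat.card_le_card_of_injective emb hemb
    rw [Nat.card_prod, h3, hZp] at hcnt
    have hsurj : Set.range θ' = Set.univ := by
      refine Set.eq_of_subset_of_ncard_le (Set.subset_univ _) ?_ (Set.toFinite _)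
      rw [Set.ncard_univ, Nat.card_prod, hZp, ← Nat.card_coe_set_eq]
      refine Nat.le_of_mul_le_mul_right (le_trans (le_of_eq ?_) hcnt) hp.out.pos
      ring
    obtain ⟨r, hr'⟩ : θ ⟨g, hg⟩ ∈ Set.range θ' := hsurj ▸ Set.mem_univ _
    have := hfib ⟨g, hg⟩ ⟨r, hRK r r.2⟩ hr'.symm
    have e2 : g = (r : P) * ((r : P)⁻¹ * g) := (mul_inv_cancel_left _ _).symm
    rw [e2]
    exact mul_mem (Subgroup.mem_sup_left r.2) (Subgroup.mem_sup_right this)
  -- `C` is central
  have hCcen : ∀ w ∈ C, ∀ g : P, Commute w g := by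
    have hinvC : ∀ a, ∀ w ∈ C, α a w ∈ C := fun a w hw => Subgroup.mem_centralizer_iff.2 fun r hr' => by
      have hr2 : (α a).symm r ∈ R₁ := (hR₁ _).2 (by rw [← map_pow, hR₁pow r hr', map_one])
      have := congrArg (α a) (Subgroup.mem_centralizer_iff.1 hw _ hr2)
      rwa [map_mul, map_mul, MulEquiv.apply_symm_apply] at this
    haveI := hCcyc
    letI : CommGroup C := IsCyclic.commGroup
    let β : A → MulAut C := fun a =>
      { toFun := fun w => ⟨α a w, hinvC a w w.2⟩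
        invFun := fun w => ⟨α a⁻¹ w, hinvC a⁻¹ w w.2⟩
        left_inv := fun w => Subtype.ext (by
          show α a⁻¹ (α a w) = w
          rw [← MulAut.mul_apply, ← map_mul, inv_mul_cancel, map_one, MulAut.one_apply])
        right_inv := fun w => Subtype.ext (by
          show α a (α a⁻¹ w) = w
          rw [← MulAut.mul_apply, ← map_mul, mul_inv_cancel, map_one, MulAut.one_apply])
        map_mul' := fun v w => Subtype.ext (map_mul (α a) _ _) }
    have hcomm : ∀ φ ψ : MulAut C, φ * ψ = ψ * φ := fun φ ψ =>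
      (IsCyclic.mulAutMulEquiv C).injective (by rw [map_mul, map_mul, mul_comm])
    set ρ : P →* MulAut C := MulAut.conjNormal with hρ
    have hstab : ∀ a x, ρ (α a x) = ρ x := by
      intro a x
      have e : ρ (α a x) * β a = β a * ρ x := MulEquiv.ext fun w => Subtype.ext (by
        show α a x * α a w * (α a x)⁻¹ = α a (x * w * x⁻¹)
        rw [map_mul, map_mul, map_inv])
      rw [hcomm (β a)] at e
      exact mul_right_cancel e
    have htriv : ∀ g, ρ g = 1 := fun g => by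
      have : Subgroup.closure {g : P | ∃ a x, g = x * (α a x)⁻¹} ≤ ρ.ker := by
        rw [Subgroup.closure_le]
        rintro _ ⟨a, x, rfl⟩
        rw [SetLike.mem_coe, MonoidHom.mem_ker, map_mul, map_inv, hstab, mul_inv_cancel]
      exact MonoidHom.mem_ker.1 (this (hgen ▸ Subgroup.mem_top g))
    intro w hw g
    have h := congrArg (fun φ : MulAut C => ((φ ⟨w, hw⟩ : C) : P)) (htriv g)
    exact (mul_inv_eq_iff_eq_mul.1 (show g * w * g⁻¹ = w from h)).symm
  have hsupR : ∀ {R₂ : Subgroup P}, R₂ = C → R₁ ⊔ C = ⊤ →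
      R₁ ⊔ R₂ = ⊤ ∧ (∀ a ∈ R₁, ∀ b ∈ R₂, a * b = b * a) ∧ ¬ IsMulCommutative R₁ ∧
      IsCyclic R₂ ∧ Subgroup.closure {x : P | x ∈ R₂ ∧ x ^ p = 1} = ⁅R₁, R₁⁆ := by
    rintro _ rfl h
    refine ⟨h, fun a ha b hb => Subgroup.mem_centralizer_iff.1 hb a ha, hnab, hCcyc, ?_⟩
    rw [hR₁'Z, ← Subgroup.closure_eq Z]
    congr 1
    ext x
    exact ⟨fun hx => ⟨(hR₁ x).2 hx.2, hx.1⟩, fun hx => ⟨hx.2, (hR₁ x).1 hx.1⟩⟩
  by_cases hDtop : D = ⊤
  · exact ⟨C, hsupR rfl hDtop⟩
  exfalso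
  obtain ⟨x, -, hxD⟩ := SetLike.exists_of_lt (lt_top_iff_ne_top.2 hDtop)
  obtain ⟨y, hy, hxy⟩ : ∃ y ∈ R₁, ⁅x, y⁆ ∉ Z := by
    by_contra h
    push Not at h
    exact hxD (hKD (hmemK x h))
  set c := ⁅x, y⁆ with hcdef
  have hc : c ∈ R₁ := by
    rw [hcdef, commutatorElement_def]
    exact mul_mem (hR₁n.conj_mem y hy x) (inv_mem hy)
  set L := R₁ ⊓ (Subgroup.center (P ⧸ Z)).comap π with hL
  haveI : L.Normal := Subgroup.normal_inf_normal R₁ _
  have hcen : ∀ v ∈ R₁, ∀ g : P, π ⁅v, g⁆ ∈ Subgroup.center (P ⧸ Z) := fun v hv g => by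
    rw [map_commutatorElement]
    exact NarrowBasics.commutator_mem_center (hP.to_quotient Z) hV ⟨v, hv, rfl⟩ (π g)
  have hcL : c ∈ L := ⟨hc, by
    have h := inv_mem (hcen y hy x)
    rw [← map_inv, commutatorElement_inv] at h
    exact h⟩
  have hLmem : ∀ l ∈ L, ∀ g, ⁅l, g⁆ ∈ Z := fun l hl g => by
    rw [← hker, map_commutatorElement, commutatorElement_eq_one_iff_mul_comm]
    exact (Subgroup.mem_center_iff.1 hl.2 (π g)).symm
  have hZL : Z ≤ L := fun z hz => ⟨hZR hz, by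
    refine Subgroup.mem_comap.2 ?_; rw [(hker z).2 hz]; exact one_mem _⟩
  have hyL : y ∉ L := fun h => hxy (by
    have := inv_mem (hLmem y h x)
    rwa [commutatorElement_inv] at this)
  -- generation inside `R₁`
  have step : ∀ S T : Subgroup P, S < T → p * Nat.card S ≤ Nat.card T := by
    intro S T hlt
    obtain ⟨s, hs⟩ := IsPGroup.iff_card.1 (hP.to_subgroup S)
    obtain ⟨t, ht⟩ := IsPGroup.iff_card.1 (hP.to_subgroup T)
    have h : Nat.card S < Nat.card T := Set.ncard_lt_ncard (SetLike.coe_ssubset_coe.2 hlt) (Set.toFinite _)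
    rw [hs, ht] at h ⊢
    rw [← pow_succ']
    exact Nat.pow_le_pow_right hp.out.pos ((Nat.pow_lt_pow_iff_right hp.out.one_lt).1 h)
  have hZc1 := step Z (Z ⊔ Subgroup.zpowers c) (lt_of_le_of_ne le_sup_left fun e =>
    hxy (e ▸ Subgroup.mem_sup_right (Subgroup.mem_zpowers c)))
  have hScL : Z ⊔ Subgroup.zpowers c ≤ L := sup_le hZL (Subgroup.zpowers_le.2 hcL)
  have hLy : L ⊔ Subgroup.zpowers y = R₁ := by
    refine Subgroup.eq_of_le_of_card_ge (sup_le inf_le_left (Subgroup.zpowers_le.2 hy)) ?_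
    rw [h3]
    calc p ^ 3 = p * (p * Nat.card Z) := by rw [hZp]; ring
      _ ≤ p * Nat.card L := Nat.mul_le_mul_left _ (hZc1.trans (Subgroup.card_le_of_le hScL))
      _ ≤ _ := step L _ (lt_of_le_of_ne le_sup_left fun e =>
          hyL (e ▸ Subgroup.mem_sup_right (Subgroup.mem_zpowers y)))
  have hLeq : L = Z ⊔ Subgroup.zpowers c := by
    refine (Subgroup.eq_of_le_of_card_ge hScL (le_trans ?_ hZc1)).symm
    have h := step L R₁ (lt_of_le_of_ne inf_le_left fun e => hyL (e.symm ▸ hy))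
    rw [h3] at h
    refine Nat.le_of_mul_le_mul_left (h.trans (le_of_eq ?_)) hp.out.pos
    rw [hZp]; ring
  have hdecL : ∀ l ∈ L, ∃ z ∈ Z, ∃ i : ℤ, l = z * c ^ i := fun l hl => by
    obtain ⟨z, hz, _, ⟨i, rfl⟩, he⟩ := Subgroup.mem_sup_of_normal_left.1 (hLeq ▸ hl)
    exact ⟨z, hz, i, he.symm⟩
  have hdec : ∀ r ∈ R₁, ∃ l ∈ L, ∃ i : ℤ, r = l * y ^ i := fun r hr' => by
    obtain ⟨l, hl, _, ⟨i, rfl⟩, he⟩ := Subgroup.mem_sup_of_normal_left.1 (hLy.symm ▸ hr')
    exact ⟨l, hl, i, he.symm⟩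
  have hζ : ⁅c, y⁆ ≠ 1 := fun h => by
    have hcy : Commute c y := commutatorElement_eq_one_iff_commute.1 h
    apply hnab
    refine .of_setLike_mul_comm fun a ha b hb => ?_
    obtain ⟨l, hl, i, rfl⟩ := hdec a ha
    obtain ⟨z, hz, j, rfl⟩ := hdecL l hl
    obtain ⟨l', hl', i', rfl⟩ := hdec b hb
    obtain ⟨z', hz', j', rfl⟩ := hdecL l' hl'
    exact (((hZcen z hz _).mul_left ((((hZcen z' hz' _).symm).mul_right ((Commute.refl c).zpow_zpow j j')).mul_right
      (hcy.zpow_zpow j i'))).mul_left ((((hZcen z' hz' _).symm).mul_right (hcy.symm.zpow_zpow i j')).mul_right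
      ((Commute.refl y).zpow_zpow i i'))).eq
  -- `x ^ p` lies in `C`
  have hz₁ : ⁅x, c⁆ ∈ Z := by
    have := inv_mem (hLmem c hcL x)
    rwa [commutatorElement_inv] at this
  set z₁ := ⁅x, c⁆ with hz₁def
  have hxc : ∀ n : ℕ, x ^ n * c * (x ^ n)⁻¹ = z₁ ^ n * c := by
    intro n
    induction n with
    | zero => simp
    | succ n ih =>
      calc x ^ (n + 1) * c * (x ^ (n + 1))⁻¹ = x * (x ^ n * c * (x ^ n)⁻¹) * x⁻¹ := by
            rw [pow_succ']; group
        _ = z₁ ^ n * (x * c * x⁻¹) := by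
            rw [ih, ← mul_assoc x, ← ((hZcen z₁ hz₁ x).pow_left n).eq]; group
        _ = z₁ ^ (n + 1) * c := by
            rw [pow_succ, hz₁def, commutatorElement_def]; group
  have hxy' : ∀ n : ℕ, x ^ n * y * (x ^ n)⁻¹ = z₁ ^ n.choose 2 * c ^ n * y := by
    intro n
    induction n with
    | zero => simp
    | succ n ih =>
      have e1 : x * y * x⁻¹ = c * y := by rw [hcdef, commutatorElement_def]; group
      have e2 : x * c ^ n * x⁻¹ = z₁ ^ n * c ^ n := by
        rw [← conj_pow, show x * c * x⁻¹ = z₁ * c by rw [hz₁def, commutatorElement_def]; group,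
          (hZcen z₁ hz₁ c).mul_pow]
      calc x ^ (n + 1) * y * (x ^ (n + 1))⁻¹ = x * (x ^ n * y * (x ^ n)⁻¹) * x⁻¹ := by
            rw [pow_succ']; group
        _ = x * z₁ ^ n.choose 2 * c ^ n * y * x⁻¹ := by rw [ih]; group
        _ = z₁ ^ n.choose 2 * ((x * c ^ n * x⁻¹) * (x * y * x⁻¹)) := by
            rw [← ((hZcen z₁ hz₁ x).pow_left _).eq]; group
        _ = z₁ ^ (n + 1).choose 2 * c ^ (n + 1) * y := by
            rw [e1, e2, Nat.choose_succ_succ', Nat.choose_one_right, add_comm n (n.choose 2), pow_add,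
              pow_succ]
            group
  have hz₁p : z₁ ^ p = 1 := hR₁pow z₁ (hZR hz₁)
  have hxpC : x ^ p ∈ C := by
    have h1 : Commute (x ^ p) c := by
      have h := hxc p
      rw [hz₁p, one_mul] at h
      exact mul_inv_eq_iff_eq_mul.1 h
    have h2 : Commute (x ^ p) y := by
      have h := hxy' p
      obtain ⟨q, hq⟩ := hp.out.dvd_choose_self two_ne_zero (by omega : 2 < p)
      rw [hq, pow_mul, hz₁p, one_pow, one_mul, hR₁pow c hc, one_mul] at h
      exact mul_inv_eq_iff_eq_mul.1 h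
    refine Subgroup.mem_centralizer_iff.2 fun r hr' => ?_
    obtain ⟨l, hl, i, rfl⟩ := hdec r hr'
    obtain ⟨z, hz, j, rfl⟩ := hdecL l hl
    exact ((((hZcen z hz _).symm).mul_right (h1.zpow_right j)).mul_right (h2.zpow_right i)).eq.symm
  have hCgen : C ≤ Subgroup.zpowers (x ^ p) := by
    obtain ⟨⟨w, hw⟩, hwgen⟩ := IsCyclic.exists_generator (α := C)
    obtain ⟨k, hk⟩ := hwgen ⟨_, hxpC⟩
    replace hk : w ^ k = x ^ p := congrArg Subtype.val hk
    have hpk : ¬ (p : ℤ) ∣ k := by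
      rintro ⟨q, rfl⟩
      apply hxD
      have hmem : x * (w ^ q)⁻¹ ∈ R₁ := by
        rw [hR₁, ((hCcen w hw x).zpow_left q).symm.inv_right.mul_pow, ← hk, inv_pow, mul_inv_eq_one,
          ← zpow_natCast (w ^ q), ← zpow_mul, mul_comm]
      have e : x = x * (w ^ q)⁻¹ * w ^ q := by group
      rw [e]
      exact mul_mem (Subgroup.mem_sup_left hmem) (Subgroup.mem_sup_right (zpow_mem hw q))
    obtain ⟨m, hm⟩ := IsPGroup.iff_orderOf.1 hP w
    have hco : IsCoprime k ((p : ℤ) ^ m) :=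
      ((Prime.coprime_iff_not_dvd (Nat.prime_iff_prime_int.1 hp.out)).2 hpk).symm.pow_right
    obtain ⟨u, v, huv⟩ := hco
    intro d hd
    obtain ⟨i, hi⟩ := hwgen ⟨d, hd⟩
    replace hi : w ^ i = d := congrArg Subtype.val hi
    refine ⟨u * i, ?_⟩
    show (x ^ p) ^ (u * i) = d
    rw [← hk, ← hi, ← zpow_mul, ← mul_inv_eq_one, ← zpow_sub]
    refine orderOf_dvd_iff_zpow_eq_one.1 ?_
    rw [hm]
    exact ⟨-v * i, by push_cast; linear_combination i * huv⟩
  have hD' : D ≤ R₁ ⊔ Subgroup.zpowers x := sup_le le_sup_left (hCgen.trans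
    (Subgroup.zpowers_le.2 (Subgroup.mem_sup_right (Subgroup.npow_mem_zpowers x p))))
  have hKcard : Nat.card P ≤ p * Nat.card D := by
    have h := OmegaCen.card_le_mul_inf_centralizer (hP.to_quotient Z) (R₁.map π) hV.le hVc ⊤
    rw [top_inf_eq, Subgroup.card_top] at h
    have h1 := Z.card_eq_card_quotient_mul_card_subgroup
    have h2 : Nat.card K = Nat.card (Subgroup.centralizer ((R₁.map π : Subgroup (P ⧸ Z)) : Set (P ⧸ Z))) *
        Nat.card Z := by
      have ha := K.card_mul_index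
      rw [hK, Subgroup.index_comap_of_surjective _ (QuotientGroup.mk'_surjective Z), h1,
        ← (Subgroup.centralizer ((R₁.map π : Subgroup (P ⧸ Z)) : Set (P ⧸ Z))).card_mul_index] at ha
      refine Nat.eq_of_mul_eq_mul_right (Nat.pos_of_ne_zero (Subgroup.index_ne_zero_of_finite
        (H := Subgroup.centralizer ((R₁.map π : Subgroup (P ⧸ Z)) : Set (P ⧸ Z))))) ?_
      rw [hK, ha]; ring
    calc Nat.card P = Nat.card (P ⧸ Z) * Nat.card Z := h1
      _ ≤ p * Nat.card (Subgroup.centralizer ((R₁.map π : Subgroup (P ⧸ Z)) : Set (P ⧸ Z))) * Nat.card Z :=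
          Nat.mul_le_mul_right _ h
      _ = p * Nat.card K := by rw [h2, mul_assoc]
      _ ≤ p * Nat.card D := Nat.mul_le_mul_left _ (Subgroup.card_le_of_le hKD)
  have htop : R₁ ⊔ Subgroup.zpowers x = ⊤ := by
    refine Subgroup.eq_top_of_card_eq _ (le_antisymm (Subgroup.card_le_card_group _) ?_)
    refine hKcard.trans (step D _ (lt_of_le_of_ne hD' fun e => hxD ?_))
    exact e.symm ▸ Subgroup.mem_sup_right (Subgroup.mem_zpowers x)
  have hdecP : ∀ g : P, ∃ r ∈ R₁, ∃ i : ℤ, g = r * x ^ i := fun g => by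
    obtain ⟨r, hr', _, ⟨i, rfl⟩, he⟩ := Subgroup.mem_sup_of_normal_left.1 (htop.symm ▸ Subgroup.mem_top g)
    exact ⟨r, hr', i, he.symm⟩
  -- the derived group
  have hP'L : commutator P ≤ L := by
    have hcq : ∀ g : P, ∃ i j : ℤ, QuotientGroup.mk' L g = QuotientGroup.mk' L y ^ j * QuotientGroup.mk' L x ^ i := by
      intro g
      obtain ⟨r, hr', i, rfl⟩ := hdecP g
      obtain ⟨l, hl, j, rfl⟩ := hdec r hr'
      refine ⟨i, j, ?_⟩
      rw [map_mul, map_mul, map_zpow, map_zpow, (QuotientGroup.mk'_apply L l), (QuotientGroup.eq_one_iff l).2 hl,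
        one_mul]
    have hc2 : Commute (QuotientGroup.mk' L x) (QuotientGroup.mk' L y) := by
      rw [← commutatorElement_eq_one_iff_commute, ← map_commutatorElement]
      exact (QuotientGroup.eq_one_iff _).2 hcL
    rw [commutator_def, Subgroup.commutator_le]
    intro g _ h _
    obtain ⟨i, j, hg⟩ := hcq g
    obtain ⟨i', j', hh⟩ := hcq h
    rw [← QuotientGroup.eq_one_iff]
    show QuotientGroup.mk' L _ = 1
    rw [map_commutatorElement, commutatorElement_eq_one_iff_commute, hg, hh]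
    exact (((Commute.refl _).zpow_zpow j j').mul_right (hc2.symm.zpow_zpow j i')).mul_left
      ((hc2.zpow_zpow i j').mul_right ((Commute.refl _).zpow_zpow i i'))
  have hlcs : ⁅⁅commutator P, (⊤ : Subgroup P)⁆, (⊤ : Subgroup P)⁆ = ⊥ := by
    rw [eq_bot_iff]
    refine (Subgroup.commutator_mono ((Subgroup.commutator_mono hP'L le_rfl).trans
      (Subgroup.commutator_le.2 fun l hl g _ => hLmem l hl g)) le_rfl).trans ?_
    rw [Subgroup.commutator_le]
    exact fun z hz g _ => Subgroup.mem_bot.2 (commutatorElement_eq_one_iff_commute.2 (hZcen z hz g))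
  have hmulpow : ∀ a b : P, (a * b) ^ p = a ^ p * b ^ p := fun a b =>
    ClassThree.mul_pow_prime (Or.inr ⟨hp3, hlcs⟩) (Or.inr fun w hw => hR₁pow w (hP'L hw).1)
  -- `y` is fixed modulo `L`
  refine hyL (no_fixed α hgen hP hcop L hP'L fun a => ?_)
  set φ := α a with hφdef
  have hRinv : ∀ ψ : MulAut P, ∀ r ∈ R₁, ψ r ∈ R₁ := fun ψ r hr' =>
    (hR₁ _).2 (by rw [← map_pow, hR₁pow r hr', map_one])
  have hCinv : ∀ ψ : MulAut P, ∀ w ∈ C, ψ w ∈ C := fun ψ w hw => Subgroup.mem_centralizer_iff.2 fun r hr' => by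
    have := congrArg ψ (Subgroup.mem_centralizer_iff.1 hw _ (hRinv ψ.symm r hr'))
    rwa [map_mul, map_mul, MulEquiv.apply_symm_apply] at this
  have hZinv : ∀ ψ : MulAut P, ∀ z ∈ Z, ψ z ∈ Z := fun ψ z hz => ⟨hRinv ψ z hz.1, hCinv ψ z hz.2⟩
  have hLinv : ∀ ψ : MulAut P, ∀ l ∈ L, ψ l ∈ L := fun ψ l hl => ⟨hRinv ψ l hl.1, by
    refine Subgroup.mem_comap.2 (Subgroup.mem_center_iff.2 ?_)
    intro g
    obtain ⟨g, rfl⟩ := QuotientGroup.mk'_surjective Z g
    refine (commutatorElement_eq_one_iff_mul_comm.1 ?_).symm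
    rw [← map_commutatorElement, hker]
    have := hZinv ψ _ (hLmem l hl (ψ.symm g))
    rwa [map_commutatorElement, MulEquiv.apply_symm_apply] at this⟩
  obtain ⟨r, hr', t, hx'⟩ := hdecP (φ x)
  obtain ⟨l, hl, m, hy'⟩ := hdec (φ y) (hRinv φ y hy)
  obtain ⟨z'', hz'', q, rfl⟩ := hdecL l hl
  -- the image of `c` modulo `Z`
  have hQ2 : ∀ u ∈ (⊤ : Subgroup (P ⧸ Z)), ∀ v ∈ (⊤ : Subgroup (P ⧸ Z)), ∀ w ∈ (⊤ : Subgroup (P ⧸ Z)),
      Commute w ⁅u, v⁆ := by
    intro u _ v _ w _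
    obtain ⟨u, rfl⟩ := QuotientGroup.mk'_surjective Z u
    obtain ⟨v, rfl⟩ := QuotientGroup.mk'_surjective Z v
    rw [← map_commutatorElement]
    exact Subgroup.mem_center_iff.1
      (hP'L (Subgroup.commutator_mem_commutator (Subgroup.mem_top u) (Subgroup.mem_top v))).2 w
  have hlc : ∀ w : P ⧸ Z, Commute (π (z'' * c ^ q)) w := fun w =>
    (Subgroup.mem_center_iff.1 hl.2 w).symm
  have hc' : ∃ z' ∈ Z, φ c = z' * c ^ (t * m) := by
    have h1 : π (φ c) = π c ^ (t * m) := by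
      rw [hcdef, map_commutatorElement φ, hx', hy', map_commutatorElement, map_commutatorElement,
        map_mul π r, map_mul π, map_zpow, map_zpow]
      have hcm : Commute (π r) (π (z'' * c ^ q) * π y ^ m) := by
        rw [← map_zpow, ← map_mul, ← commutatorElement_eq_one_iff_commute, ← map_commutatorElement, hker]
        exact hVcomm r hr' _ (mul_mem hl.1 (zpow_mem hy m))
      have hdrop : ⁅π r * π x ^ t, π (z'' * c ^ q) * π y ^ m⁆ =
          ⁅π x ^ t, π (z'' * c ^ q) * π y ^ m⁆ := by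
        have e : ⁅π r * π x ^ t, π (z'' * c ^ q) * π y ^ m⁆ =
            π r * ⁅π x ^ t, π (z'' * c ^ q) * π y ^ m⁆ * (π r)⁻¹ *
              ⁅π r, π (z'' * c ^ q) * π y ^ m⁆ := by
          simp only [commutatorElement_def]; group
        rw [e, commutatorElement_eq_one_iff_commute.2 hcm, mul_one,
          (hQ2 _ (Subgroup.mem_top _) _ (Subgroup.mem_top _) _ (Subgroup.mem_top _)).eq, mul_inv_cancel_right]
      rw [hdrop]
      simpa using MetacyclicAction.comm_zpow (R := (⊤ : Subgroup (P ⧸ Z))) hQ2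
        (Subgroup.mem_top (π x)) (Subgroup.mem_top (π y)) (one_mem _) (Subgroup.mem_top _)
        (fun w _ => Commute.one_left w) (fun w _ => hlc w) t m
    refine ⟨φ c * (c ^ (t * m))⁻¹, ?_, by group⟩
    rw [← hker, map_mul, map_inv, map_zpow, h1, mul_inv_cancel]
  obtain ⟨z', hz', hc'⟩ := hc'
  set ζ := ⁅c, y⁆ with hζdef
  have hζZ : ζ ∈ Z := hVcomm c hc y hy
  have e1 : φ ζ = ζ ^ (t * m * m) := by
    rw [hζdef, map_commutatorElement φ, hc', hy']
    have hR2 : ∀ u ∈ R₁, ∀ v ∈ R₁, ∀ w ∈ R₁, Commute w ⁅u, v⁆ := fun u hu v hv w hw =>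
      (hZc _ (hVcomm u hu v hv) w hw).symm
    have hdrop : ⁅z' * c ^ (t * m), z'' * c ^ q * y ^ m⁆ = ⁅z' * c ^ (t * m), y ^ m⁆ := by
      have hc1 : Commute (z' * c ^ (t * m)) (z'' * c ^ q) :=
        (hZcen z' hz' _).mul_left (((hZcen z'' hz'' _).symm).mul_right ((Commute.refl c).zpow_zpow _ _))
      calc ⁅z' * c ^ (t * m), z'' * c ^ q * y ^ m⁆
          = (z' * c ^ (t * m) * (z'' * c ^ q)) * y ^ m * (z' * c ^ (t * m))⁻¹ * (y ^ m)⁻¹ *
              (z'' * c ^ q)⁻¹ := by rw [commutatorElement_def]; group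
        _ = z'' * c ^ q * ⁅z' * c ^ (t * m), y ^ m⁆ * (z'' * c ^ q)⁻¹ := by
              rw [hc1.eq, commutatorElement_def]; group
        _ = ⁅z' * c ^ (t * m), y ^ m⁆ := by
              rw [(hR2 _ (mul_mem (hZR hz') (zpow_mem hc _)) _ (zpow_mem hy m) _
                (mul_mem (hZR hz'') (zpow_mem hc q))).eq, mul_inv_cancel_right]
    rw [hdrop]
    simpa using MetacyclicAction.comm_zpow (R := R₁) hR2 hc hy (hZR hz') (one_mem _)
      (fun w hw => hZc z' hz' w hw) (fun w _ => Commute.one_left w) (t * m) m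
  have e2 : φ ζ = ζ ^ t := by
    obtain ⟨k, hk⟩ := hCgen (show ζ ∈ C from hζZ.2)
    replace hk : (x ^ p) ^ k = ζ := hk
    have hxt : φ (x ^ p) = (x ^ p) ^ t := by
      rw [map_pow, hx', hmulpow, hR₁pow r hr', one_mul, ← zpow_natCast, ← zpow_mul, mul_comm t, zpow_mul,
        zpow_natCast]
    rw [← hk, map_zpow, hxt, ← zpow_mul, ← zpow_mul, mul_comm]
  have hne : φ ζ ≠ 1 := fun h => hζ ((map_eq_one_iff φ φ.injective).1 h)
  have hm2 := MetacyclicAction.dvd_sub_one (hR₁pow _ (hRinv φ ζ (hZR hζZ))) hne (m := m * m) (by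
    rw [e2, ← zpow_mul, ← mul_assoc, ← e1, e2])
  have hm1 : (p : ℤ) ∣ m - 1 := by
    have hprime := Nat.prime_iff_prime_int.1 hp.out
    rw [show m * m - 1 = (m - 1) * (m + 1) by ring] at hm2
    rcases hprime.dvd_mul.1 hm2 with h | h
    · exact h
    exfalso
    have hiter : ∀ n : ℕ, (φ ^ n) y * (y ^ (m ^ n))⁻¹ ∈ L := by
      intro n
      induction n with
      | zero => simp
      | succ n ih =>
        have h1 := hLinv φ _ ih
        rw [map_mul, map_inv, map_zpow, hy'] at h1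
        have hmul : (QuotientGroup.mk' L) ((φ ^ (n + 1)) y) = QuotientGroup.mk' L y ^ (m ^ (n + 1)) := by
          have h2 := (QuotientGroup.eq_one_iff _).2 h1
          rw [← QuotientGroup.mk'_apply, map_mul, map_inv, map_zpow, map_mul, map_zpow,
            QuotientGroup.mk'_apply L (z'' * c ^ q), (QuotientGroup.eq_one_iff _).2 hl, one_mul,
            mul_inv_eq_one, ← zpow_mul] at h2
          rw [pow_succ' φ, MulAut.mul_apply, h2, pow_succ']
        rw [← QuotientGroup.eq_one_iff, ← QuotientGroup.mk'_apply, map_mul, map_inv, map_zpow, hmul,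
          mul_inv_cancel]
    have hn := hiter (Nat.card A)
    rw [hφdef, ← map_pow, pow_card_eq_one', map_one, MulAut.one_apply] at hn
    have hpn : (p : ℤ) ∣ m ^ Nat.card A + 1 := by
      have hd := sub_dvd_pow_sub_pow m (-1) (Nat.card A)
      rw [hodd.neg_one_pow, sub_neg_eq_add, sub_neg_eq_add] at hd
      exact h.trans hd
    apply hyL
    obtain ⟨s, hs⟩ := hpn
    have h2 : y ^ (2 : ℤ) ∈ L := by
      have e : y ^ (2 : ℤ) = (y * (y ^ (m ^ Nat.card A))⁻¹) * y ^ (m ^ Nat.card A + 1) := by group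
      rw [e, hs, zpow_mul, zpow_natCast, hR₁pow y hy, one_zpow, mul_one]
      exact hn
    obtain ⟨j, hj⟩ := hp.out.odd_of_ne_two (by omega)
    have e : y = (y ^ (2 : ℤ))⁻¹ ^ j * y ^ p := by
      rw [← zpow_natCast _ j, inv_zpow, ← zpow_mul, ← zpow_neg, ← zpow_natCast y p, hj, ← zpow_add]
      push_cast
      simp
    rw [e, hR₁pow y hy, mul_one]
    exact pow_mem (inv_mem h2) j
  rw [hy']
  obtain ⟨s, hs⟩ := hm1
  have e : y⁻¹ * (z'' * c ^ q * y ^ m) = (y⁻¹ * (z'' * c ^ q) * y) * y ^ (m - 1) := by group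
  rw [e, hs, zpow_mul, zpow_natCast, hR₁pow y hy, one_zpow, mul_one]
  simpa using ‹L.Normal›.conj_mem _ hl y⁻¹

section Main

variable {G : Type u} [Group G] [Finite G]

/-- The action by conjugation of a normalizing subgroup. -/
def conjAct (R A : Subgroup G) (hA : A ≤ Subgroup.normalizer (R : Set G)) : A →* MulAut R :=
  (Subgroup.normalizerMonoidHom R).comp (Subgroup.inclusion hA)

theorem closure_conjAct (R A : Subgroup G) (hA : A ≤ Subgroup.normalizer (R : Set G)) (hRA : ⁅R, A⁆ = R) :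
    Subgroup.closure {g : R | ∃ a x, g = x * (conjAct R A hA a x)⁻¹} = ⊤ := by
  set S := Subgroup.closure {g : R | ∃ a x, g = x * (conjAct R A hA a x)⁻¹} with hS
  refine Subgroup.map_injective R.subtype_injective (le_antisymm (Subgroup.map_mono le_top) ?_)
  rw [← MonoidHom.range_eq_map, Subgroup.range_subtype]
  refine hRA.ge.trans (Subgroup.commutator_le.2 fun r hr a ha => ?_)
  refine ⟨⟨r, hr⟩ * (conjAct R A hA ⟨a, ha⟩ ⟨r, hr⟩)⁻¹, Subgroup.subset_closure ⟨_, _, rfl⟩, ?_⟩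
  show r * (a * r * a⁻¹)⁻¹ = ⁅r, a⁆
  rw [commutatorElement_def]
  group

/-- Blackburn's theorem. -/
theorem main (hp2 : p ≠ 2) (R A : Subgroup G) (hR : IsPGroup p R) (hR1 : R ≠ ⊥) (hr : PRankLE p 2 R)
    (hA : A ≤ Subgroup.normalizer (R : Set G)) (hcop : (Nat.card A).Coprime p) (hodd : Odd (Nat.card A))
    (hRA : ⁅R, A⁆ = R) :
    3 < p ∧ (IsMulCommutative R ∨ ∃ R₁ R₂ : Subgroup R, (∀ x, x ∈ R₁ ↔ x ^ p = 1) ∧
      Nat.card R₁ = p ^ 3 ∧ R₁ ⊔ R₂ = ⊤ ∧ (∀ a ∈ R₁, ∀ b ∈ R₂, a * b = b * a) ∧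
      ¬ IsMulCommutative R₁ ∧ IsCyclic R₂ ∧
      Subgroup.closure {x : R | x ∈ R₂ ∧ x ^ p = 1} = ⁅R₁, R₁⁆) := by
  classical
  set α := conjAct R A hA with hα
  have hgen := closure_conjAct R A hA hRA
  have hp3 : 3 < p := by
    by_contra hle
    have hpeq : p = 3 := by have := hp.out.two_le; omega
    haveI := (Subgroup.nontrivial_iff_ne_bot R).2 hR1
    have htriv : ∀ a, α a = 1 := by
      intro a
      by_contra hne
      have h1 : orderOf (α a) ≠ 1 := fun h => hne (orderOf_eq_one_iff.1 h)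
      obtain ⟨q, hq, hqd⟩ := Nat.exists_prime_and_dvd h1
      have hqA : q ∣ Nat.card A := hqd.trans ((orderOf_map_dvd α a).trans (orderOf_dvd_natCard a))
      have hqp : q ≠ p := fun h => hq.ne_one (Nat.eq_one_of_dvd_coprimes hcop hqA h.dvd)
      have ho : orderOf (α a ^ (orderOf (α a) / q)) = q := by
        rw [orderOf_pow_of_dvd (Nat.div_pos (Nat.le_of_dvd (orderOf_pos _) hqd) hq.pos).ne'
          (Nat.div_dvd_of_dvd hqd), Nat.div_div_self hqd (orderOf_pos _).ne']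
      obtain ⟨-, hlt⟩ := RankTwoAut.aut_prime hp2 hR hr hq hqp ho
      obtain ⟨k, hk⟩ := hodd.of_dvd_nat hqA
      have := hq.two_le
      omega
    have : (⊤ : Subgroup R) ≤ ⊥ := by
      rw [← hgen, Subgroup.closure_le]
      rintro _ ⟨a, x, rfl⟩
      rw [← hα, htriv, MulAut.one_apply, mul_inv_cancel]
      exact one_mem _
    obtain ⟨x, hx⟩ := exists_ne (1 : R)
    exact hx (Subgroup.mem_bot.1 (this (Subgroup.mem_top x)))
  refine ⟨hp3, ?_⟩
  have hrk : ∀ E : Subgroup R, IsElementaryAbelian p E → Nat.card E ≤ p ^ 2 := fun E hE => hr E hE.1 hE.2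
  let R₁ : Subgroup R :=
    { carrier := {x | x ^ p = 1}
      one_mem' := one_pow p
      mul_mem' := fun {a b} ha hb => OmegaSmall.mul_pow_of_rank hp3 _ R le_rfl hR hrk a b ha hb
      inv_mem' := fun {x} (hx : x ^ p = 1) => by show x⁻¹ ^ p = 1; rw [inv_pow, hx, inv_one] }
  by_cases hle : Nat.card R₁ ≤ p ^ 2
  · left
    have hO : Nat.card (Cfsg.omegaOne p (⊤ : Subgroup R)) ≤ p ^ 2 :=
      (Subgroup.card_le_of_le ((Subgroup.closure_le R₁).2 fun x hx => hx.2)).trans hle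
    exact MetacyclicAction.abelian hp2 hR (OmegaSmall.isMetacyclic_of_omega_le hp3 _ R le_rfl hR hO) hA hcop hRA
  right
  have hle3 : Nat.card R₁ ≤ p ^ 3 := by
    refine OmegaSmall.card_le_cube hp2 (hR.to_subgroup R₁) (fun x => Subtype.ext x.2) fun E hE => ?_
    rw [← Subgroup.card_map_of_injective R₁.subtype_injective]
    refine hrk _ ⟨?_, ?_⟩
    · haveI := hE.1
      infer_instance
    · rintro _ ⟨e, he, rfl⟩
      rw [← map_pow, hE.2 e he, map_one]
  have h3 : Nat.card R₁ = p ^ 3 := by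
    obtain ⟨k, hk⟩ := IsPGroup.iff_card.1 (hR.to_subgroup R₁)
    rw [hk] at hle hle3 ⊢
    have h1 := (Nat.pow_le_pow_iff_right hp.out.one_lt).1 hle3
    have h2 : ¬ k ≤ 2 := fun h => hle (Nat.pow_le_pow_right hp.out.pos h)
    rw [show k = 3 by omega]
  obtain ⟨R₂, h⟩ := structure_cube α hp3 hgen hR hcop hodd hr R₁ (fun x => Iff.rfl) h3
  exact ⟨R₁, R₂, fun x => Iff.rfl, h3, h⟩

end Main

end Cfsg.Agent.OddOrder.Blackburn
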