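/-
Automorphisms of narrow p-groups of rank at least three (BG Theorem 5.5).
-/
import Cfsg.Agent.Lib.OddOrder.NarrowBasics
import Cfsg.Agent.Lib.OddOrder.RankTwoAut

set_option autoImplicit false
set_option linter.style.haveILetI false
set_option linter.unusedSectionVars false
open Cfsg

namespace Cfsg.Agent.OddOrder.NarrowAut

open scoped commutatorElement

variable {R : Type*} [Group R] [Finite R] {p : ℕ} [hp : Fact p.Prime]

/-- A narrow group of rank at least three has a maximal elementary abelian subgroup of order `p ^ 2`. -/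
theorem exists_maximal_pair (hR : IsPGroup p R) (hn : IsNarrow p R) (hr : ¬ PRankLE p 2 R) :
    ∃ E : Subgroup R, IsElementaryAbelian p E ∧ Nat.card E = p ^ 2 ∧
      ∀ B : Subgroup R, IsElementaryAbelian p B → E ≤ B → B = E := by
  classical
  obtain ⟨R₀, R₁, h0, hcyc, -, hcomm, hsup⟩ := hn.resolve_left hr
  haveI := hcyc
  haveI : IsCyclic R₀ := isCyclic_of_prime_card h0
  set C := Subgroup.centralizer (R₀ : Set R) with hC
  have hab : IsMulCommutative C := by
    rw [← hsup]
    letI : CommGroup R₀ := IsCyclic.commGroup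
    letI : CommGroup R₁ := IsCyclic.commGroup
    rw [show R₀ ⊔ R₁ = Subgroup.closure ((R₀ : Set R) ∪ R₁) by
      rw [Subgroup.closure_union, Subgroup.closure_eq, Subgroup.closure_eq]]
    apply Subgroup.isMulCommutative_closure
    rintro a (ha | ha) b (hb | hb)
    · exact congrArg Subtype.val (mul_comm (⟨a, ha⟩ : R₀) ⟨b, hb⟩)
    · exact hcomm a ha b hb
    · exact (hcomm b hb a ha).symm
    · exact congrArg Subtype.val (mul_comm (⟨a, ha⟩ : R₁) ⟨b, hb⟩)
  haveI := hab
  have hcC : ∀ a ∈ C, ∀ b ∈ C, Commute a b := fun a ha b hb =>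
    congrArg Subtype.val (mul_comm' (⟨a, ha⟩ : C) ⟨b, hb⟩)
  let E : Subgroup R :=
    { carrier := {x | x ∈ C ∧ x ^ p = 1}
      one_mem' := ⟨one_mem _, one_pow p⟩
      mul_mem' := fun {a b} ha hb => ⟨mul_mem ha.1 hb.1, by
        rw [(hcC a ha.1 b hb.1).mul_pow, ha.2, hb.2, one_mul]⟩
      inv_mem' := fun {a} ha => ⟨inv_mem ha.1, by rw [inv_pow, ha.2, inv_one]⟩ }
  have hR0E : R₀ ≤ E := fun a ha =>
    ⟨hsup ▸ Subgroup.mem_sup_left ha, by
      rw [← h0]; exact congrArg Subtype.val (pow_card_eq_one' (x := (⟨a, ha⟩ : R₀)))⟩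
  have hE : IsElementaryAbelian p E :=
    ⟨.of_setLike_mul_comm fun a ha b hb => (hcC a ha.1 b hb.1).eq, fun a ha => ha.2⟩
  have hmax : ∀ B : Subgroup R, IsElementaryAbelian p B → E ≤ B → B = E := by
    intro B hB hEB
    refine le_antisymm (fun b hb => ⟨?_, hB.2 b hb⟩) hEB
    haveI := hB.1
    exact Subgroup.mem_centralizer_iff.2 fun a ha =>
      congrArg Subtype.val (mul_comm' (⟨a, hEB (hR0E ha)⟩ : B) ⟨b, hb⟩)
  have hle : Nat.card E ≤ p ^ 2 := by
    have hdec : ∀ e : E, ∃ a : R₀, ∃ b : {b : R₁ // b ^ p = 1}, (e : R) = (a : R) * ((b : R₁) : R) := by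
      intro e
      have hmem : (e : R) ∈ R₀ ⊔ R₁ := hsup.symm ▸ e.2.1
      rw [show R₀ ⊔ R₁ = Subgroup.closure ((R₀ : Set R) ∪ R₁) by
        rw [Subgroup.closure_union, Subgroup.closure_eq, Subgroup.closure_eq]] at hmem
      have hN : R₁ ≤ Subgroup.normalizer (R₀ : Set R) := fun b hb =>
        Subgroup.centralizer_le_normalizer _ (Subgroup.mem_centralizer_iff.2 fun a ha => hcomm a ha b hb)
      rw [Subgroup.closure_union, Subgroup.closure_eq, Subgroup.closure_eq, ← SetLike.mem_coe,
        Subgroup.coe_mul_of_right_le_normalizer_left _ _ hN] at hmem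
      obtain ⟨a, ha, b, hb, he⟩ := hmem
      refine ⟨⟨a, ha⟩, ⟨⟨b, hb⟩, Subtype.ext ?_⟩, he.symm⟩
      have := e.2.2
      rw [← he, (show Commute a b from hcomm a ha b hb).mul_pow, (hR0E ha).2, one_mul] at this
      exact this
    choose fa fb hf using hdec
    have h1 := Nat.card_le_card_of_injective (fun e : E => (fa e, fb e)) (by
      intro e e' h
      obtain ⟨h1, h2⟩ := Prod.ext_iff.1 h
      exact Subtype.ext (by rw [hf e, hf e', show fa e = fa e' from h1, show fb e = fb e' from h2]))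
    rw [Nat.card_prod, h0] at h1
    refine h1.trans ?_
    rw [sq]
    refine Nat.mul_le_mul_left _ ?_
    letI := Fintype.ofFinite R₁
    rw [Nat.card_eq_fintype_card, Fintype.card_subtype]
    exact IsCyclic.card_pow_eq_one_le hp.out.pos
  refine ⟨E, hE, le_antisymm hle (not_lt.1 fun hlt => hr ?_), hmax⟩
  -- otherwise `E` is central
  have hER : R₀ = E := by
    refine Subgroup.eq_of_le_of_card_ge hR0E ?_
    obtain ⟨k, hk⟩ := IsPGroup.iff_card.1 (hR.to_subgroup E)
    have hk2 : k < 2 := (Nat.pow_lt_pow_iff_right hp.out.one_lt).1 (hk ▸ hlt)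
    rw [hk, h0]
    exact (Nat.pow_le_pow_right hp.out.pos (by omega : k ≤ 1)).trans (pow_one p).le
  haveI : Nontrivial R := by
    haveI : Nontrivial R₀ := Finite.one_lt_card_iff_nontrivial.1 (h0 ▸ hp.out.one_lt)
    exact R₀.subtype_injective.nontrivial
  haveI := hR.center_nontrivial
  obtain ⟨m, hm, hm'⟩ := (hR.to_subgroup (Subgroup.center R)).nontrivial_iff_card.1 inferInstance
  obtain ⟨z, hz⟩ := exists_prime_orderOf_dvd_card' (G := ↥(Subgroup.center R)) p (hm' ▸ dvd_pow_self p hm.ne')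
  have hzp : (z : R) ^ p = 1 := by rw [← hz, ← Subgroup.orderOf_coe, pow_orderOf_eq_one]
  have hzE : (z : R) ∈ R₀ := hER.symm ▸ (⟨Subgroup.mem_centralizer_iff.2 fun a _ =>
    Subgroup.mem_center_iff.1 z.2 a, hzp⟩ : (z : R) ∈ E)
  have hR0eq : Subgroup.zpowers (z : R) = R₀ := Subgroup.eq_of_le_of_card_ge (Subgroup.zpowers_le.2 hzE)
    (by rw [Nat.card_zpowers, Subgroup.orderOf_coe, hz, h0])
  intro A hA hAp
  refine le_trans (Subgroup.card_le_of_le (show A ≤ E from fun a ha => ⟨?_, hAp a ha⟩)) hle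
  refine Subgroup.mem_centralizer_iff.2 fun b hb => ?_
  have hbc : b ∈ Subgroup.center R := (Subgroup.zpowers_le.2 z.2) (hR0eq.symm ▸ hb)
  exact (Subgroup.mem_center_iff.1 hbc a).symm

/-- The automorphisms acting trivially on a factor. -/
theorem exists_factor_hom {M N : Subgroup R} [M.Normal] [N.Characteristic] [M.Characteristic]
    (hMN : M ≤ N) (hcard : Nat.card N ≤ p * Nat.card M) (hR : IsPGroup p R) :
    ∃ S : Subgroup (MulAut R), S.Normal ∧ (∀ φ ψ : MulAut R, ⁅φ, ψ⁆ ∈ S) ∧ (∀ φ : MulAut R, φ ^ (p - 1) ∈ S) ∧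
      ∀ φ ∈ S, ∀ x ∈ N, x⁻¹ * φ x ∈ M := by
  classical
  have hN : ∀ φ : MulAut R, ∀ x ∈ N, φ x ∈ N := fun φ x hx =>
    Subgroup.characteristic_iff_le_comap.1 inferInstance φ hx
  have hM : ∀ φ : MulAut R, ∀ x ∈ M, φ x ∈ M := fun φ x hx =>
    Subgroup.characteristic_iff_le_comap.1 inferInstance φ hx
  set M' := M.subgroupOf N with hM'
  haveI : M'.Normal := inferInstance
  have hmap : ∀ φ : MulAut R, M'.map (RankTwoAut.restrictAut N hN φ).toMonoidHom = M' := by
    intro φ
    ext x
    constructor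
    · rintro ⟨y, hy, rfl⟩
      exact hM φ _ hy
    · intro hx
      refine ⟨(RankTwoAut.restrictAut N hN φ).symm x, ?_, MulEquiv.apply_symm_apply _ x⟩
      exact hM φ.symm _ hx
  let Φ : MulAut R →* MulAut (N ⧸ M') :=
    { toFun := fun φ => QuotientGroup.congr M' M' (RankTwoAut.restrictAut N hN φ) (hmap φ)
      map_one' := MulEquiv.ext fun x => by
        induction x using QuotientGroup.induction_on with | H x => rfl
      map_mul' := fun φ ψ => MulEquiv.ext fun x => by
        induction x using QuotientGroup.induction_on with | H x => rfl }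
  have hq : Nat.card (N ⧸ M') ∣ p := by
    obtain ⟨k, hk⟩ := IsPGroup.iff_card.1 ((hR.to_subgroup N).to_quotient M')
    have h1 := M'.card_eq_card_quotient_mul_card_subgroup
    rw [Nat.card_congr (Subgroup.subgroupOfEquivOfLe hMN).toEquiv] at h1
    have hle : Nat.card (N ⧸ M') ≤ p := Nat.le_of_mul_le_mul_right (h1 ▸ hcard) Nat.card_pos
    have hk1 : k ≤ 1 := (Nat.pow_le_pow_iff_right hp.out.one_lt).1 (by rw [pow_one, ← hk]; exact hle)
    rw [hk]
    exact (pow_dvd_pow p hk1).trans (pow_one p).dvd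
  haveI hcyc : IsCyclic (N ⧸ M') := by
    rcases (Nat.dvd_prime hp.out).1 hq with h | h
    · haveI := (Nat.card_eq_one_iff_unique.1 h).1
      exact isCyclic_of_subsingleton
    · exact isCyclic_of_prime_card h
  have e := IsCyclic.mulAutMulEquiv (N ⧸ M')
  refine ⟨Φ.ker, inferInstance, fun φ ψ => ?_, fun φ => ?_, fun φ hφ x hx => ?_⟩
  · rw [MonoidHom.mem_ker, map_commutatorElement, commutatorElement_eq_one_iff_mul_comm]
    exact e.injective (by rw [map_mul, map_mul, mul_comm])
  · rw [MonoidHom.mem_ker, map_pow]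
    refine orderOf_dvd_iff_pow_eq_one.1 ?_
    refine (orderOf_dvd_natCard _).trans ?_
    rw [IsCyclic.card_mulAut]
    rcases (Nat.dvd_prime hp.out).1 hq with h | h
    · rw [h, Nat.totient_one]; exact one_dvd _
    · rw [h, Nat.totient_prime hp.out]
  · have h := DFunLike.congr_fun (MonoidHom.mem_ker.1 hφ) ((⟨x, hx⟩ : N) : N ⧸ M')
    exact (QuotientGroup.eq.1 h.symm : _)

/-- An automorphism of order prime to `p` stabilising a step of exponent `p` fixes it. -/
theorem fix_step {φ : MulAut R} (hφ : (orderOf φ).Coprime p) {M : Subgroup R}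
    (hfix : ∀ x ∈ M, φ x = x) {x : R} (hd : x⁻¹ * φ x ∈ M) (hdp : (x⁻¹ * φ x) ^ p = 1) : φ x = x := by
  set d := x⁻¹ * φ x with hdef
  have hiter : ∀ n : ℕ, (φ ^ n) x = x * d ^ n := by
    intro n
    induction n with
    | zero => simp
    | succ n ih =>
      rw [pow_succ', MulAut.mul_apply, ih, map_mul, map_pow, hfix d hd, pow_succ', ← mul_assoc,
        show x * d = φ x by rw [hdef, mul_inv_cancel_left]]
  have h1 := hiter (orderOf φ)
  rw [pow_orderOf_eq_one, MulAut.one_apply, left_eq_mul] at h1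
  have hd1 : d = 1 := orderOf_eq_one_iff.1 (Nat.eq_one_of_dvd_coprimes hφ
    (orderOf_dvd_of_pow_eq_one h1) (orderOf_dvd_of_pow_eq_one hdp))
  exact (inv_mul_eq_one.1 hd1).symm

/-- BG Theorem 5.5 for automorphism groups. -/
theorem exists_rep (hp2 : p ≠ 2) (hR : IsPGroup p R) (hn : IsNarrow p R) (hr : ¬ PRankLE p 2 R) :
    ∃ S : Subgroup (MulAut R), S.Normal ∧ (∀ φ ψ : MulAut R, ⁅φ, ψ⁆ ∈ S) ∧ (∀ φ : MulAut R, φ ^ (p - 1) ∈ S) ∧
      ∀ φ ∈ S, (orderOf φ).Coprime p → φ = 1 := by
  classical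
  obtain ⟨E, hE, hE2, hEmax⟩ := exists_maximal_pair hR hn hr
  obtain ⟨hET, hZ1, -, -, hTidx, hZE, -⟩ := NarrowBasics.structure_three hp2 hR hr hE hE2 hEmax
  haveI := NarrowBasics.omegaSecond_characteristic (p := p) hp2 hR
  set T := Subgroup.centralizer ((NarrowBasics.omegaSecond hp2 hR : Subgroup R) : Set R) with hT
  obtain ⟨r, hrE, hrT⟩ := SetLike.not_le_iff_exists.1 hET
  obtain ⟨H, hH⟩ := Critical.exists_critical hR
  haveI := hH.char
  let K : Subgroup R :=
    { carrier := {x | x ∈ H ∧ x ^ p = 1}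
      one_mem' := ⟨one_mem _, one_pow p⟩
      mul_mem' := fun {a b} ha hb => ⟨mul_mem ha.1 hb.1, by
        refine OmegaCen.pow_mul hp2 hR (H ⊓ Subgroup.centralizer (H : Set R)) H (fun x _ y hy =>
          hH.comm (Subgroup.commutator_mem_commutator (Subgroup.mem_top x) hy)) ?_ ha.1 hb.1 ha.2 hb.2
        exact fun x _ hx _ y hy => (Subgroup.mem_centralizer_iff.1 hx.2 y hy).symm⟩
      inv_mem' := fun {a} ha => ⟨inv_mem ha.1, by rw [inv_pow, ha.2, inv_one]⟩ }
  haveI hKc : K.Characteristic := Subgroup.characteristic_iff_le_comap.2 fun φ x hx => ⟨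
    Subgroup.characteristic_iff_le_comap.1 hH.char φ hx.1, by
      show (φ x) ^ p = 1
      rw [← map_pow, hx.2, map_one]⟩
  set N := K ⊓ T with hN
  have hchar : ∀ U V : Subgroup R, U.Characteristic → V.Characteristic → (U ⊓ V).Characteristic :=
    fun U V hU hV => Subgroup.characteristic_iff_le_comap.2 fun φ x hx =>
      ⟨Subgroup.characteristic_iff_le_comap.1 hU φ hx.1, Subgroup.characteristic_iff_le_comap.1 hV φ hx.2⟩
  haveI hNc : N.Characteristic := hchar K T inferInstance inferInstance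
  haveI hLc : ∀ i, (N ⊓ Subgroup.upperCentralSeries R i).Characteristic := fun i =>
    hchar _ _ hNc inferInstance
  have hKN : Nat.card K ≤ p * Nat.card N := by
    have h2 : N.relIndex K * Nat.card N = Nat.card K := by
      rw [Subgroup.relIndex, ← Nat.card_congr (Subgroup.subgroupOfEquivOfLe (inf_le_left : N ≤ K)).toEquiv]
      exact Subgroup.index_mul_card _
    rw [← h2]
    refine Nat.mul_le_mul_right _ (Nat.le_of_dvd hp.out.pos ?_)
    rw [hN, inf_comm, Subgroup.inf_relIndex_right]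
    exact hTidx ▸ Subgroup.relIndex_dvd_index_of_normal T K
  -- the bound on each layer
  have hC : Nat.card (N ⊓ Subgroup.centralizer {r} : Subgroup R) ≤ p := by
    have hsub : N ⊓ Subgroup.centralizer {r} ≤ E ⊓ T := by
      intro n hn'
      refine ⟨NarrowBasics.mem_of_commute hE hEmax ?_ hn'.1.1.2, hn'.1.2⟩
      refine Subgroup.mem_centralizer_iff.2 fun e he => ?_
      have hgen : E ≤ NarrowBasics.omegaCenter p R ⊔ Subgroup.zpowers r := by
        refine (Subgroup.eq_of_le_of_card_ge (sup_le hZE (Subgroup.zpowers_le.2 hrE)) ?_).ge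
        obtain ⟨j, hj⟩ := IsPGroup.iff_card.1
          (hR.to_subgroup (NarrowBasics.omegaCenter p R ⊔ Subgroup.zpowers r))
        have hlt : NarrowBasics.omegaCenter p R < NarrowBasics.omegaCenter p R ⊔ Subgroup.zpowers r :=
          lt_of_le_of_ne le_sup_left fun h => hrT (by
            have hr' : r ∈ NarrowBasics.omegaCenter p R :=
              h ▸ Subgroup.mem_sup_right (Subgroup.mem_zpowers r)
            exact Subgroup.center_le_centralizer _ hr'.1)
        have h9 : p ^ 1 < p ^ j := by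
          rw [pow_one, ← hj]
          refine lt_of_eq_of_lt hZ1.symm ?_
          exact Set.ncard_lt_ncard (SetLike.coe_ssubset_coe.2 hlt) (Set.toFinite _)
        have h10 := (Nat.pow_lt_pow_iff_right hp.out.one_lt).1 h9
        rw [hE2, hj]
        exact Nat.pow_le_pow_right hp.out.pos h10
      have : NarrowBasics.omegaCenter p R ⊔ Subgroup.zpowers r ≤ Subgroup.centralizer {n} :=
        sup_le (fun z hz => Subgroup.mem_centralizer_singleton_iff.2
            (Subgroup.mem_center_iff.1 hz.1 n).symm)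
          (Subgroup.zpowers_le.2 (Subgroup.mem_centralizer_singleton_iff.2
            (Subgroup.mem_centralizer_singleton_iff.1 hn'.2).symm))
      exact Subgroup.mem_centralizer_singleton_iff.1 (this (hgen he))
    refine (Subgroup.card_le_of_le hsub).trans ?_
    obtain ⟨k, hk⟩ := IsPGroup.iff_card.1 (hR.to_subgroup (E ⊓ T))
    have hlt : Nat.card (E ⊓ T : Subgroup R) < p ^ 2 := hE2 ▸ Set.ncard_lt_ncard
      (SetLike.coe_ssubset_coe.2 (lt_of_le_of_ne inf_le_left fun h => hET (inf_eq_left.1 h)))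
      (Set.toFinite _)
    have hk2 : k < 2 := (Nat.pow_lt_pow_iff_right hp.out.one_lt).1 (hk ▸ hlt)
    rw [hk]
    exact (Nat.pow_le_pow_right hp.out.pos (by omega : k ≤ 1)).trans (pow_one p).le
  have hstep : ∀ i, Nat.card (N ⊓ Subgroup.upperCentralSeries R (i + 1) : Subgroup R) ≤
      p * Nat.card (N ⊓ Subgroup.upperCentralSeries R i : Subgroup R) := by
    intro i
    set U := N ⊓ Subgroup.upperCentralSeries R (i + 1)
    set V := N ⊓ Subgroup.upperCentralSeries R i
    let f : U → V := fun n => ⟨⁅(n : R), r⁆, by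
      have hmem : ⁅(n : R), r⁆ ∈ N := by
        rw [commutatorElement_def, mul_assoc, mul_assoc, ← mul_assoc r]
        exact mul_mem n.2.1 ((inferInstance : N.Normal).conj_mem _ (inv_mem n.2.1) r)
      refine ⟨hmem, ?_⟩
      have := Subgroup.mem_upperCentralSeries_succ_iff.1 n.2.2 r
      rw [commutatorElement_def]
      exact this⟩
    let sec : V → U := Function.invFun f
    let emb : U → V × (N ⊓ Subgroup.centralizer {r} : Subgroup R) := fun n => (f n,
      ⟨(sec (f n) : R)⁻¹ * n, N.mul_mem (N.inv_mem (sec (f n)).2.1) n.2.1,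
        Subgroup.mem_centralizer_singleton_iff.2 (by
          have h := congrArg (fun v : V => (v : R)) (Function.invFun_eq (f := f) (b := f n) ⟨n, rfl⟩)
          replace h : ⁅(sec (f n) : R), r⁆ = ⁅(n : R), r⁆ := h
          rw [commutatorElement_def, commutatorElement_def, mul_left_inj] at h
          calc (sec (f n) : R)⁻¹ * n * r = (sec (f n) : R)⁻¹ * ((n : R) * r * (n : R)⁻¹) * n := by group
            _ = (sec (f n) : R)⁻¹ * ((sec (f n) : R) * r * (sec (f n) : R)⁻¹) * n := by rw [← h]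
            _ = r * ((sec (f n) : R)⁻¹ * n) := by group)⟩)
    have hemb : Function.Injective emb := by
      intro a b h
      obtain ⟨h1, h2⟩ := Prod.ext_iff.1 h
      have h1' : f a = f b := h1
      have h2' : (sec (f a) : R)⁻¹ * a = (sec (f b) : R)⁻¹ * b := congrArg Subtype.val h2
      rw [h1'] at h2'
      exact Subtype.ext (mul_left_cancel h2')
    refine (Nat.card_le_card_of_injective emb hemb).trans ?_
    rw [Nat.card_prod, mul_comm]
    exact Nat.mul_le_mul_right _ hC
  -- the stabiliser of the series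
  choose S hSn hS1 hS2 hS3 using fun i => exists_factor_hom (p := p)
    (M := N ⊓ Subgroup.upperCentralSeries R i) (N := N ⊓ Subgroup.upperCentralSeries R (i + 1))
    (inf_le_inf_left _ (Subgroup.upperCentralSeries_mono R i.le_succ)) (hstep i) hR
  obtain ⟨S', hS'n, hS'1, hS'2, hS'3⟩ := exists_factor_hom (p := p) (M := N) (N := K) inf_le_left hKN hR
  haveI := hSn
  haveI := hS'n
  refine ⟨(⨅ i, S i) ⊓ S', ?_, fun φ ψ => ⟨Subgroup.mem_iInf.2 fun i => hS1 i φ ψ, hS'1 φ ψ⟩,
    fun φ => ⟨Subgroup.mem_iInf.2 fun i => hS2 i φ, hS'2 φ⟩, fun φ hφ hco => ?_⟩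
  · haveI := Subgroup.normal_iInf_normal hSn
    exact Subgroup.normal_inf_normal _ _
  have hlow : ∀ i, ∀ x ∈ N ⊓ Subgroup.upperCentralSeries R i, φ x = x := by
    intro i
    induction i with
    | zero =>
      intro x hx
      rw [Subgroup.upperCentralSeries_zero, inf_bot_eq, Subgroup.mem_bot] at hx
      rw [hx, map_one]
    | succ i ih =>
      intro x hx
      have hd := hS3 i φ (Subgroup.mem_iInf.1 hφ.1 i) x hx
      exact fix_step hco ih hd hd.1.1.2
  haveI := hR.isNilpotent
  refine RankTwoAut.eq_one_of_fix_omega hp2 hR hH hco fun x hxH hxp => ?_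
  have hd := hS'3 φ hφ.2 x ⟨hxH, hxp⟩
  refine fix_step hco (fun y hy => hlow (Group.nilpotencyClass R) y ⟨hy, ?_⟩) hd hd.1.2
  rw [Subgroup.upperCentralSeries_nilpotencyClass]
  exact Subgroup.mem_top y

end Cfsg.Agent.OddOrder.NarrowAut
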