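/-
Groups of automorphisms of odd order of narrow p-groups (BG Theorem 5.5).
-/
import Cfsg.Agent.Lib.OddOrder.NarrowAut
import Cfsg.Agent.Lib.OddOrder.Blackburn
import Cfsg.Agent.Lib.Solvable.Fitting

set_option autoImplicit false
set_option linter.style.haveILetI false
set_option linter.unusedSectionVars false
open Cfsg

namespace Cfsg.Agent.OddOrder.NarrowGroup

open scoped commutatorElement

universe u

variable {p : ℕ} [hp : Fact p.Prime]

section Abs

variable {R : Type u} [Group R] [Finite R] {A : Type*} [Group A] [Finite A]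

/-- The derived group of an odd group of automorphisms of a narrow `p`-group consists of `p`-elements. -/
theorem derived_pgroup [Group.IsSolvable A] (hp2 : p ≠ 2) (hR : IsPGroup p R) (hn : IsNarrow p R)
    (hodd : Odd (Nat.card A)) (c : A →* MulAut R) (hc : Function.Injective c) :
    IsPGroup p (commutator A) := by
  rintro ⟨a, ha⟩
  by_cases hr : PRankLE p 2 R
  · obtain ⟨k, hk⟩ := RankTwoAut.aut_derived hp2 hR hr hodd c ha
    exact ⟨k, Subtype.ext (hc (by rw [SubgroupClass.coe_pow, map_pow, hk, OneMemClass.coe_one, map_one]))⟩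
  obtain ⟨S, -, hcomm, -, hfix⟩ := NarrowAut.exists_rep hp2 hR hn hr
  have hmem : c a ∈ S := by
    have : commutator A ≤ S.comap c := by
      rw [commutator_def, Subgroup.commutator_le]
      intro x _ y _
      rw [Subgroup.mem_comap, map_commutatorElement]
      exact hcomm _ _
    exact this ha
  obtain ⟨k, m, hm, hcard'⟩ := Nat.exists_eq_pow_mul_and_not_dvd (orderOf_pos (c a)).ne' p hp.out.ne_one
  refine ⟨k, Subtype.ext (hc ?_)⟩
  rw [SubgroupClass.coe_pow, map_pow, OneMemClass.coe_one, map_one]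
  refine hfix _ (pow_mem hmem _) ?_
  rw [orderOf_pow_of_dvd (pow_ne_zero k hp.out.ne_zero) (hcard' ▸ dvd_mul_right _ _), hcard',
    Nat.mul_div_cancel_left _ (pow_pos hp.out.pos k)]
  exact (hp.out.coprime_iff_not_dvd.2 hm).symm

/-- If the derived group is a `p`-group, the `p`-core contains it and has index prime to `p`. -/
theorem core_of_derived (h : IsPGroup p (commutator A)) :
    commutator A ≤ pCore p A ∧ (pCore p A).index.Coprime p := by
  have hle : commutator A ≤ pCore p A := FittingCores.le_pCore inferInstance h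
  haveI := FittingCores.pCore_normal (G := A) p
  refine ⟨hle, (hp.out.coprime_iff_not_dvd.2 fun hd => ?_).symm⟩
  rw [Subgroup.index_eq_card] at hd
  obtain ⟨x, hx⟩ := exists_prime_orderOf_dvd_card' p hd
  set π := QuotientGroup.mk' (pCore p A) with hπ
  set U := (Subgroup.zpowers x).comap π with hU
  have hUn : U.Normal := Subgroup.Normal.of_commutator_le (G := A) fun g hg => by
    have : π g = 1 := (QuotientGroup.eq_one_iff g).2 (hle hg)
    rw [hU, Subgroup.mem_comap, this]
    exact one_mem _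
  have hUp : IsPGroup p U := by
    rintro ⟨g, hg⟩
    obtain ⟨i, hi⟩ := hg
    have hgp : g ^ p ∈ pCore p A := by
      rw [← QuotientGroup.eq_one_iff]
      show π (g ^ p) = 1
      rw [map_pow, ← show x ^ i = π g from hi, ← zpow_natCast, ← zpow_mul, mul_comm, zpow_mul,
        zpow_natCast, show x ^ p = 1 from orderOf_dvd_iff_pow_eq_one.1 hx.dvd, one_zpow]
    obtain ⟨k, hk⟩ := FittingCores.pCore_isPGroup (G := A) p ⟨_, hgp⟩
    refine ⟨k + 1, Subtype.ext ?_⟩
    show g ^ p ^ (k + 1) = 1
    rw [pow_succ', pow_mul]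
    exact congrArg Subtype.val hk
  obtain ⟨g, rfl⟩ := QuotientGroup.mk'_surjective (pCore p A) x
  have h1 : π g = 1 := (QuotientGroup.eq_one_iff g).2
    (FittingCores.le_pCore hUn hUp (show g ∈ U from Subgroup.mem_zpowers _))
  rw [h1, orderOf_one] at hx
  exact hp.out.ne_one hx.symm

/-- In rank at least three the `p'`-elements have order dividing `p - 1`. -/
theorem orderOf_dvd (hp2 : p ≠ 2) (hR : IsPGroup p R) (hn : IsNarrow p R) (hr : ¬ PRankLE p 2 R)
    (c : A →* MulAut R) (hc : Function.Injective c) {a : A} (ha : (orderOf a).Coprime p) :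
    orderOf a ∣ p - 1 := by
  obtain ⟨S, -, -, hpow, hfix⟩ := NarrowAut.exists_rep hp2 hR hn hr
  refine orderOf_dvd_of_pow_eq_one (hc ?_)
  rw [map_pow, map_one]
  refine hfix _ (hpow _) ?_
  exact (ha.coprime_dvd_left (orderOf_map_dvd c a)).coprime_dvd_left (orderOf_pow_dvd (p - 1))

end Abs

section Conj

variable {G : Type u} [Group G] [Finite G]

theorem conjAct_injective (R A : Subgroup G) (hA : A ≤ Subgroup.normalizer (R : Set G))
    (hfaith : A ⊓ Subgroup.centralizer (R : Set G) = ⊥) :
    Function.Injective (Blackburn.conjAct R A hA) := by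
  refine (injective_iff_map_eq_one _).2 fun a ha => ?_
  have hmem : (a : G) ∈ A ⊓ Subgroup.centralizer (R : Set G) := by
    refine ⟨a.2, Subgroup.mem_centralizer_iff.2 fun r hr => ?_⟩
    have h := congrArg (fun φ : MulAut R => ((φ ⟨r, hr⟩ : R) : G)) ha
    exact (mul_inv_eq_iff_eq_mul.1 (show (a : G) * r * (a : G)⁻¹ = r from h)).symm
  rw [hfaith, Subgroup.mem_bot] at hmem
  exact Subtype.ext hmem

/-- An operator group of prime order not dividing `p (p - 1)`. -/
theorem card_eq_cube (hp2 : p ≠ 2) (R A : Subgroup G) (hR : IsPGroup p R) (hr : PRankLE p 2 R)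
    (hA : A ≤ Subgroup.normalizer (R : Set G)) (hodd : Odd (Nat.card A)) (hq : (Nat.card A).Prime)
    (hnd : ¬ Nat.card A ∣ p * (p - 1)) (hRA : ⁅R, A⁆ = R) (hnab : ¬ IsMulCommutative R) :
    Nat.card R = p ^ 3 := by
  have hR1 : R ≠ ⊥ := fun h => hnab (.of_setLike_mul_comm fun a ha b hb => by
    rw [h, Subgroup.mem_bot] at ha hb; rw [ha, hb])
  have hcop : (Nat.card A).Coprime p := (Nat.coprime_primes hq hp.out).2 fun h =>
    hnd (h ▸ dvd_mul_right _ _)
  obtain ⟨-, hcase⟩ := Blackburn.main hp2 R A hR hR1 hr hA hcop hodd hRA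
  obtain ⟨R₁, R₂, hmem, hcard, hsup, -, -, hcyc, -⟩ := hcase.resolve_left hnab
  haveI := hcyc
  haveI hn : R₁.Normal := ⟨fun x hx g => (hmem _).2 (by
    rw [conj_pow, (hmem x).1 hx, mul_one, mul_inv_cancel])⟩
  set π := QuotientGroup.mk' R₁ with hπ
  have hQc : IsCyclic (R ⧸ R₁) := by
    refine isCyclic_of_surjective (π.comp R₂.subtype) fun x => ?_
    obtain ⟨x, rfl⟩ := QuotientGroup.mk'_surjective R₁ x
    obtain ⟨a, ha, b, hb, rfl⟩ := Subgroup.mem_sup_of_normal_left.1 (hsup.symm ▸ Subgroup.mem_top x)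
    refine ⟨⟨b, hb⟩, ?_⟩
    rw [MonoidHom.comp_apply, map_mul, QuotientGroup.mk'_apply _ a, (QuotientGroup.eq_one_iff a).2 ha, one_mul]
    rfl
  haveI := hQc
  set α := Blackburn.conjAct R A hA with hα
  have hmap : ∀ φ : MulAut R, R₁.map φ.toMonoidHom = R₁ := by
    intro φ
    ext x
    constructor
    · rintro ⟨y, hy, rfl⟩
      refine (hmem _).2 ?_
      rw [← map_pow, (hmem y).1 hy, map_one]
    · intro hx
      refine ⟨φ.symm x, (hmem _).2 ?_, φ.apply_symm_apply x⟩
      rw [← map_pow, (hmem x).1 hx, map_one]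
  set β := (RankTwoAut.quotientAut R₁ hmap).comp α with hβ
  have htriv : ∀ a, β a = 1 := by
    intro a
    by_contra hne
    haveI := Fact.mk hq
    have ho : orderOf (β a) = Nat.card A := by
      rcases (Nat.dvd_prime hq).1 ((orderOf_map_dvd β a).trans (orderOf_dvd_natCard a)) with h | h
      · exact absurd (orderOf_eq_one_iff.1 h) hne
      · exact h
    have hd : Nat.card A ∣ (Nat.card (R ⧸ R₁)).totient := by
      rw [← IsCyclic.card_mulAut, ← ho]
      exact orderOf_dvd_natCard _
    obtain ⟨k, hk⟩ := IsPGroup.iff_card.1 (hR.to_quotient R₁)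
    rw [hk] at hd
    rcases Nat.eq_zero_or_pos k with rfl | hk0
    · rw [pow_zero, Nat.totient_one] at hd
      exact hq.ne_one (Nat.dvd_one.1 hd)
    rw [Nat.totient_prime_pow hp.out hk0] at hd
    rcases hq.dvd_mul.1 hd with h | h
    · exact hnd ((hq.dvd_of_dvd_pow h).trans (dvd_mul_right _ _))
    · exact hnd (h.trans (dvd_mul_left _ _))
  have htop : R₁ = ⊤ := by
    rw [eq_top_iff, ← Blackburn.closure_conjAct R A hA hRA, Subgroup.closure_le]
    rintro _ ⟨a, x, rfl⟩
    rw [SetLike.mem_coe, ← hα, ← QuotientGroup.eq_one_iff]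
    show π (x * (α a x)⁻¹) = 1
    have : π (α a x) = π x := DFunLike.congr_fun (htriv a) (π x)
    rw [map_mul, map_inv, this, mul_inv_cancel]
  rw [htop, Subgroup.card_top] at hcard
  exact hcard

end Conj

end Cfsg.Agent.OddOrder.NarrowGroup
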