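/-
Solvable groups of odd order with a narrow Sylow p-subgroup (BG Theorem 5.6).
-/
import Cfsg.Agent.Lib.OddOrder.NarrowGroup
import Cfsg.Agent.Lib.OddOrder.LocalFactor
import Cfsg.Agent.Lib.Solvable.PSeries

set_option autoImplicit false
set_option linter.style.haveILetI false
set_option linter.unusedSectionVars false
open Cfsg

namespace Cfsg.Agent.OddOrder.NarrowSolvable

universe u

variable {p : ℕ} [hp : Fact p.Prime]

theorem prankLE_of_equiv {R S : Type*} [Group R] [Group S] (e : R ≃* S) {k : ℕ} (h : PRankLE p k R) :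
    PRankLE p k S := by
  intro A hA hAp
  rw [← Subgroup.card_map_of_injective (K := A) (f := e.symm.toMonoidHom) e.symm.injective]
  haveI := hA
  refine h _ inferInstance ?_
  rintro _ ⟨a, ha, rfl⟩
  rw [← map_pow, hAp a ha, map_one]

theorem isNarrow_of_equiv {R S : Type u} [Group R] [Group S] (e : R ≃* S) (h : IsNarrow p R) :
    IsNarrow p S := by
  rcases h with h | ⟨R₀, R₁, h0, hc, hinf, hcomm, hsup⟩
  · exact Or.inl (prankLE_of_equiv e h)
  refine Or.inr ⟨R₀.map e.toMonoidHom, R₁.map e.toMonoidHom, ?_, ?_, ?_, ?_, ?_⟩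
  · rw [Subgroup.card_map_of_injective e.injective, h0]
  · haveI := hc
    exact isCyclic_of_surjective _ (R₁.equivMapOfInjective e.toMonoidHom e.injective).surjective
  · rw [← Subgroup.map_inf _ _ _ e.injective, hinf, Subgroup.map_bot]
  · rintro _ ⟨a, ha, rfl⟩ _ ⟨b, hb, rfl⟩
    rw [← map_mul, hcomm a ha b hb, map_mul]
  · rw [← Subgroup.map_sup, hsup]
    ext y
    obtain ⟨x, rfl⟩ := e.surjective y
    rw [Subgroup.mem_map_equiv, e.symm_apply_apply, Subgroup.mem_centralizer_iff, Subgroup.mem_centralizer_iff]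
    constructor
    · intro hx z hz
      obtain ⟨a, ha, rfl⟩ := hz
      show e a * e x = e x * e a
      rw [← map_mul, hx a ha, map_mul]
    · intro hx a ha
      have := hx (e a) ⟨a, ha, rfl⟩
      rw [← map_mul, ← map_mul] at this
      exact e.injective this

variable {G : Type u} [Group G] [Finite G] [Group.IsSolvable G]

/-- `O_{p'}(G) = 1`, narrow `O_p(G)`, Sylow of rank at least three. -/
theorem core_free (hodd : Odd (Nat.card G)) (hp2 : p ≠ 2) (hO : pPrimeCore p G = ⊥)
    (hn : IsNarrow p (pCore p G)) :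
    commutator G ≤ pCore p G ∧
      (¬ PRankLE p 2 (pCore p G) → ∀ q : ℕ, q.Prime → q ∣ Nat.card G → q ≠ p → q ∣ p - 1) := by
  haveI := FittingCores.pCore_normal (G := G) p
  have hP := FittingCores.pCore_isPGroup (G := G) p
  have hC := FittingCores.centralizer_pCore_le hp.out hO
  let c : G →* MulAut (pCore p G) := MulAut.conjNormal
  have hker : ∀ g : G, c g = 1 → g ∈ pCore p G := by
    intro g hg
    refine hC (Subgroup.mem_centralizer_iff.2 fun y hy => ?_)
    have h := congrArg (fun φ : MulAut (pCore p G) => ((φ ⟨y, hy⟩ : pCore p G) : G)) hg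
    have h' : g * y * g⁻¹ = y := by simpa [c] using h
    exact (mul_inv_eq_iff_eq_mul.1 h').symm
  have hsurj := c.rangeRestrict_surjective
  haveI : Group.IsSolvable c.range := Group.isSolvable_of_surjective hsurj
  have hoddr : Odd (Nat.card c.range) := hodd.of_dvd_nat (Subgroup.card_dvd_of_surjective _ hsurj)
  have hinj : Function.Injective (c.range.subtype) := c.range.subtype_injective
  refine ⟨FittingCores.le_pCore inferInstance ?_, fun hr q hq hd hqp => ?_⟩
  · rintro ⟨x, hx⟩
    have hu : c.rangeRestrict x ∈ commutator c.range := by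
      rw [commutator_def, ← Subgroup.map_top_of_surjective _ hsurj, ← Subgroup.map_commutator]
      exact ⟨x, hx, rfl⟩
    obtain ⟨k, hk⟩ := NarrowGroup.derived_pgroup hp2 hP hn hoddr c.range.subtype hinj ⟨_, hu⟩
    have hk' : c (x ^ p ^ k) = 1 := by
      rw [map_pow]
      exact congrArg (fun t : commutator c.range => ((t : c.range) : MulAut (pCore p G))) hk
    obtain ⟨l, hl⟩ := hP ⟨_, hker _ hk'⟩
    refine ⟨k + l, Subtype.ext ?_⟩
    show x ^ p ^ (k + l) = 1
    rw [pow_add, pow_mul]
    exact congrArg Subtype.val hl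
  · haveI := Fact.mk hq
    obtain ⟨g, hg⟩ := exists_prime_orderOf_dvd_card' q hd
    have hord : orderOf (c g) = q := by
      refine orderOf_eq_prime (by rw [← map_pow, ← hg, pow_orderOf_eq_one, map_one]) fun h => ?_
      obtain ⟨l, hl⟩ := IsPGroup.iff_orderOf.1 hP ⟨g, hker g h⟩
      rw [Subgroup.orderOf_mk, hg] at hl
      exact hqp ((Nat.prime_dvd_prime_iff_eq hq hp.out).1 (hq.dvd_of_dvd_pow (dvd_of_eq hl)))
    have := NarrowGroup.orderOf_dvd hp2 hP hn hr (MonoidHom.id (MulAut (pCore p G)))
      Function.injective_id (a := c g) (hord.symm ▸ (Nat.coprime_primes hq hp.out).2 hqp)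
    rwa [hord] at this

/-- BG Theorem 5.6. -/
theorem structure_narrow (hodd : Odd (Nat.card G)) (hp2 : p ≠ 2) (S : Sylow p G)
    (hS : IsNarrow p (S : Subgroup G)) (hpl : ¬ PRankLE p 2 (S : Subgroup G) → PLengthLE p 1 G) :
    commutator G ≤ pPrimePCore p G ∧ ((pPrimePCore p G).index).Coprime p ∧
      ∀ q : ℕ, q.Prime → q ∣ (pPrimeCore p G).index → q ≠ p → q < p := by
  classical
  by_cases hr : PRankLE p 2 (S : Subgroup G)
  · obtain ⟨h1, h2, h3⟩ := RankTwo.structure_general hodd hp2 (LocalFactor.prankLE_of_sylow S hr)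
    exact ⟨h1, h2, fun q hq hd hqp => (h3 q hq hd hqp).2⟩
  have h3top : PSeries.U p G 3 = ⊤ := (PSeries.pLengthLE_iff (k := 1)).1 (hpl hr)
  have hidx : (pPrimePCore p G).index.Coprime p := by
    have h := PSeries.relIndex_succ_even (p := p) (G := G) (n := 2) even_two
    rwa [PSeries.U_two, h3top, Subgroup.relIndex_top_right] at h
  haveI := FittingCores.pPrimeCore_normal (G := G) p
  set O := pPrimeCore p G with hO
  set π := QuotientGroup.mk' O with hπ
  have hsurj := QuotientGroup.mk'_surjective O
  haveI : Group.IsSolvable (G ⧸ O) := Group.isSolvable_of_surjective hsurj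
  have hoddq : Odd (Nat.card (G ⧸ O)) := hodd.of_dvd_nat (Subgroup.card_quotient_dvd_card O)
  set P := pCore p (G ⧸ O) with hP
  -- `P` is the image of `S`
  have hidxP : ¬ p ∣ P.index := by
    rw [pPrimePCore, Subgroup.index_comap_of_surjective _ hsurj] at hidx
    exact hp.out.coprime_iff_not_dvd.1 hidx.symm
  have hPeq : ((S : Subgroup G).map π) = P := by
    have hPp : IsPGroup p P := FittingCores.pCore_isPGroup p
    set Q := hPp.toSylow hidxP
    have hle : P ≤ ((S.mapSurjective hsurj : Sylow p (G ⧸ O)) : Subgroup (G ⧸ O)) :=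
      FittingCores.pCore_le_sylow _
    have := Q.3 (S.mapSurjective hsurj).isPGroup' hle
    rw [Sylow.coe_mapSurjective hsurj] at this
    exact this
  have hinjS : Function.Injective (π.comp (S : Subgroup G).subtype) := by
    refine (injective_iff_map_eq_one _).2 fun x hx => Subtype.ext ?_
    obtain ⟨n, hn⟩ := IsPGroup.iff_card.1 S.isPGroup'
    refine orderOf_eq_one_iff.1 (Nat.eq_one_of_dvd_coprimes ?_
      (Subgroup.orderOf_dvd_natCard (S : Subgroup G) x.2)
      (Subgroup.orderOf_dvd_natCard O ((QuotientGroup.eq_one_iff _).1 hx)))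
    rw [hn]
    exact Nat.Coprime.pow_left n (FittingCores.pPrimeCore_coprime p).symm
  have hrange : (π.comp (S : Subgroup G).subtype).range = P := by
    rw [MonoidHom.range_comp, Subgroup.range_subtype, hPeq]
  let e : (S : Subgroup G) ≃* P :=
    (MonoidHom.ofInjective hinjS).trans (MulEquiv.subgroupCongr hrange)
  have hPn : IsNarrow p P := isNarrow_of_equiv e hS
  have hPr : ¬ PRankLE p 2 P := fun h => hr (prankLE_of_equiv e.symm h)
  obtain ⟨h1, h2⟩ := core_free hoddq hp2 (FittingCores.pPrimeCore_quotient_eq_bot p _ rfl) hPn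
  refine ⟨?_, hidx, fun q hq hd hqp => ?_⟩
  · rw [pPrimePCore, ← Subgroup.map_le_iff_le_comap]
    refine le_trans ?_ h1
    rw [commutator_def, commutator_def, Subgroup.map_commutator]
    exact Subgroup.commutator_mono le_top le_top
  · rw [Subgroup.index_eq_card] at hd
    have h := Nat.le_of_dvd (by have := hp.out.two_le; omega) (h2 hPr q hq hd hqp)
    have := hp.out.two_le
    omega

end Cfsg.Agent.OddOrder.NarrowSolvable
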