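/-
Solvable groups of odd order whose Fitting subgroup has rank at most two: the derived subgroup is nilpotent
(Bender-Glauberman 4.20).
-/
import Cfsg.Agent.Lib.OddOrder.RankTwoAut
import Cfsg.Agent.Lib.OddOrder.RankTwoSolvable
import Cfsg.Agent.Lib.Solvable.Fitting
import Cfsg.Agent.Lib.Transfer.Basic

set_option autoImplicit false
set_option linter.style.haveILetI false

namespace Cfsg.Agent.OddOrder.DerivedNil

variable {G : Type*} [Group G] [Finite G]

theorem commutator_le_fitting [Group.IsSolvable G] (hodd : Odd (Nat.card G))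
    (h : ∀ r : ℕ, r.Prime → Cfsg.PRankLE r 2 ↥(Cfsg.fittingSubgroup G)) :
    commutator G ≤ Cfsg.fittingSubgroup G := by
  set F := Cfsg.fittingSubgroup G with hF
  have hC : ∀ r : ℕ, r.Prime → ∀ x ∈ commutator G, (orderOf x).Coprime r →
      x ∈ Subgroup.centralizer (Cfsg.pCore r G : Set G) := by
    intro r hr x hx hxr
    haveI := Fact.mk hr
    haveI := FittingCores.pCore_normal (G := G) r
    rcases eq_or_ne r 2 with rfl | hr2
    · have h1 : Cfsg.pCore 2 G = ⊥ := by
        obtain ⟨k, hk⟩ := IsPGroup.iff_card.1 (FittingCores.pCore_isPGroup (G := G) 2)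
        rcases Nat.eq_zero_or_pos k with rfl | hk0
        · exact Subgroup.card_eq_one.1 (by simpa using hk)
        · exact absurd (even_iff_two_dvd.2 ((hk ▸ dvd_pow_self 2 hk0.ne').trans
            (Cfsg.pCore 2 G).card_subgroup_dvd_card)) (Nat.not_even_iff_odd.2 hodd)
      rw [h1]
      exact Subgroup.mem_centralizer_iff.2 fun y hy => by rw [Subgroup.mem_bot.1 hy, one_mul, mul_one]
    set R := Cfsg.pCore r G with hR
    have hrk : Cfsg.PRankLE r 2 R := by
      have hle : R ≤ F := FittingCores.pCore_le_fitting hr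
      intro B hB hBp
      haveI := hB
      have := h r hr (B.map (Subgroup.inclusion hle)) inferInstance (by
        rintro _ ⟨b, hb, rfl⟩
        rw [← map_pow, hBp b hb, map_one])
      rwa [Subgroup.card_map_of_injective (Subgroup.inclusion_injective hle)] at this
    obtain ⟨k, hk⟩ := RankTwoAut.aut_derived hr2 (FittingCores.pCore_isPGroup r) hrk hodd
      (MulAut.conjNormal (H := R)) hx
    have h1 : MulAut.conjNormal (H := R) x = 1 := by
      refine orderOf_eq_one_iff.1 (Nat.eq_one_of_dvd_coprimes (Nat.Coprime.pow_right k hxr)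
        (orderOf_map_dvd _ x) (orderOf_dvd_of_pow_eq_one hk))
    refine Subgroup.mem_centralizer_iff.2 fun y hy => ?_
    have h2 := congrArg Subtype.val (DFunLike.congr_fun h1 ⟨y, hy⟩)
    rw [MulAut.conjNormal_apply, MulAut.one_apply] at h2
    calc y * x = x * y * x⁻¹ * x := by rw [h2]
      _ = x * y := inv_mul_cancel_right _ _
  haveI := FittingCores.fitting_normal (G := G)
  rw [← Subgroup.subgroupOf_eq_top]
  refine FittingCores.eq_top_of_forall_sylow_le fun s hs => ?_
  obtain ⟨T⟩ : Nonempty (Sylow s (commutator G)) := inferInstance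
  haveI := Fact.mk hs
  refine ⟨T, fun x hx => Subgroup.mem_subgroupOf.2 ?_⟩
  obtain ⟨j, hj⟩ := IsPGroup.iff_orderOf.1 T.isPGroup' ⟨x, hx⟩
  rw [Subgroup.orderOf_mk] at hj
  rw [← Subgroup.orderOf_coe] at hj
  -- the elements of `G'` centralizing every `O_r(G)` with `r ≠ s`
  set K := ⨆ (r : Nat.Primes) (_ : (r : ℕ) ≠ s), Cfsg.pCore r G with hK
  haveI : K.Normal := by
    have := fun r : Nat.Primes => FittingCores.pCore_normal (G := G) r
    exact Subgroup.iSup_normal _
  set N := commutator G ⊓ Subgroup.centralizer (K : Set G) with hN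
  haveI : N.Normal := inferInstance
  have hxN : (x : G) ∈ N := by
    refine ⟨x.2, ?_⟩
    have hle : K ≤ Subgroup.centralizer ({(x : G)} : Set G) := iSup₂_le fun r hne y hy =>
      Subgroup.mem_centralizer_singleton_iff.2
        (Subgroup.mem_centralizer_iff.1 (hC r r.2 x x.2
          (hj ▸ Nat.Coprime.pow_left j ((Nat.coprime_primes hs r.2).2 (Ne.symm hne)))) y hy)
    exact Subgroup.mem_centralizer_iff.2 fun y hy => Subgroup.mem_centralizer_singleton_iff.1 (hle hy)
  suffices hnil : Group.IsNilpotent N from FittingCores.le_fitting inferInstance hnil hxN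
  have hq : IsPGroup s (N ⧸ Subgroup.center N) := by
    intro n
    induction n using QuotientGroup.induction_on with | H n => ?_
    obtain ⟨u, v, huv, hu, hv, ⟨k, hk⟩, hvs⟩ := PBasic.exists_pPart_mul (p := s) (n : G)
    refine ⟨k, ?_⟩
    rw [← QuotientGroup.mk_pow, QuotientGroup.eq_one_iff, Subgroup.mem_center_iff]
    intro m
    have hvN : v ∈ N := (Subgroup.zpowers_le.2 n.2) hv
    have hvF : v ∈ F := by
      refine FittingCores.centralizer_fitting_le (Subgroup.mem_centralizer_iff.2 fun y hy => ?_)
      have hle : F ≤ Subgroup.centralizer ({v} : Set G) := by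
        rw [hF, FittingCores.fitting_eq_iSup_pCore]
        refine iSup_le fun r => fun y hy => Subgroup.mem_centralizer_singleton_iff.2 ?_
        by_cases hrs : (r : ℕ) = s
        · exact Subgroup.mem_centralizer_iff.1 (hC r r.2 v hvN.1 (hrs.symm ▸ hvs)) y hy
        · exact Subgroup.mem_centralizer_iff.1 hvN.2 y ((le_iSup₂_of_le r hrs le_rfl : _ ≤ K) hy)
      exact Subgroup.mem_centralizer_singleton_iff.1 (hle hy)
    have hsup : F ≤ Cfsg.pCore s G ⊔ Subgroup.centralizer (N : Set G) := by
      rw [hF, FittingCores.fitting_eq_iSup_pCore]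
      refine iSup_le fun r => ?_
      by_cases hrs : (r : ℕ) = s
      · rw [hrs]; exact le_sup_left
      · exact le_sup_of_le_right ((le_iSup₂_of_le r hrs le_rfl : _ ≤ K).trans
          (Subgroup.le_centralizer_iff.1 inf_le_right))
    have hvC : v ∈ Subgroup.centralizer (N : Set G) := by
      rw [← QuotientGroup.eq_one_iff]
      set f := QuotientGroup.mk' (Subgroup.centralizer (N : Set G)) with hf
      refine PBasic.eq_one_of_isPGroup_of_coprime ((FittingCores.pCore_isPGroup (G := G) s).map f) ?_
        (Nat.Coprime.coprime_dvd_left (orderOf_map_dvd f v) hvs)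
      have := Subgroup.mem_map_of_mem f (hsup hvF)
      rwa [Subgroup.map_sup, hf, QuotientGroup.map_mk'_self, sup_bot_eq] at this
    refine Subtype.ext ?_
    have hcomm : u * v = v * u := by
      obtain ⟨a, rfl⟩ := Subgroup.mem_zpowers_iff.1 hu
      obtain ⟨b, rfl⟩ := Subgroup.mem_zpowers_iff.1 hv
      exact zpow_mul_comm _ a b
    have hnk : (n : G) ^ s ^ k = v ^ s ^ k := by
      rw [← huv, Commute.mul_pow hcomm, ← hk, pow_orderOf_eq_one, one_mul]
    push_cast
    rw [hnk]
    exact Subgroup.mem_centralizer_iff.1 (pow_mem hvC _) m m.2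
  haveI := hq.isNilpotent
  exact Subgroup.isNilpotent_of_ker_le_center (QuotientGroup.mk' (Subgroup.center N))
    (by rw [QuotientGroup.ker_mk'])

theorem isNilpotent_commutator [Group.IsSolvable G] (hodd : Odd (Nat.card G))
    (h : ∀ r : ℕ, r.Prime → Cfsg.PRankLE r 2 ↥(Cfsg.fittingSubgroup G)) :
    Group.IsNilpotent ↥(commutator G) := by
  haveI := FittingCores.fitting_nilpotent (G := G)
  exact (Group.isNilpotent_congr (Subgroup.subgroupOfEquivOfLe (commutator_le_fitting hodd h))).1 inferInstance

end Cfsg.Agent.OddOrder.DerivedNil
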