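/-
The Fitting subgroup `F(M)` and the cores `O_p(M)` of a subgroup `M`, inside the ambient group.
-/
import Cfsg.Prelude.Def_OddOrderLocal
import Cfsg.Prelude.Def_Amalgam
import Cfsg.Agent.Lib.Solvable.Fitting
import Cfsg.Agent.Lib.CharP.AxB

set_option autoImplicit false

namespace Cfsg.Agent.OddOrder.FitOf

open Cfsg (fittingOf pCoreOf)

variable {G : Type*} [Group G] [Finite G]

theorem fittingOf_le (M : Subgroup G) : fittingOf M ≤ M := Subgroup.map_subtype_le _

theorem le_normalizer_fittingOf (M : Subgroup G) :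
    M ≤ Subgroup.normalizer (fittingOf M : Set G) :=
  AxB.le_normalizer_map_subtype FittingCores.fitting_normal

theorem fittingOf_nilpotent (M : Subgroup G) : Group.IsNilpotent ↥(fittingOf M) :=
  haveI := FittingCores.fitting_nilpotent (G := M)
  Group.nilpotent_of_mulEquiv
    ((Cfsg.fittingSubgroup M).equivMapOfInjective M.subtype M.subtype_injective)

theorem le_fittingOf {N M : Subgroup G} (hle : N ≤ M) (hn : M ≤ Subgroup.normalizer (N : Set G))
    [Group.IsNilpotent N] : N ≤ fittingOf M := by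
  have h : N.subgroupOf M ≤ Cfsg.fittingSubgroup M :=
    FittingCores.le_fitting (Subgroup.normal_subgroupOf_of_le_normalizer hn)
      (Group.nilpotent_of_mulEquiv (Subgroup.subgroupOfEquivOfLe hle).symm)
  intro x hx
  exact ⟨⟨x, hle hx⟩, h hx, rfl⟩

theorem pCoreOf_le (p : ℕ) (M : Subgroup G) : pCoreOf p M ≤ M := Subgroup.map_subtype_le _

theorem le_normalizer_pCoreOf (p : ℕ) (M : Subgroup G) :
    M ≤ Subgroup.normalizer (pCoreOf p M : Set G) :=
  AxB.le_normalizer_map_subtype (FittingCores.pCore_normal p)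

theorem isPGroup_pCoreOf (p : ℕ) (M : Subgroup G) : IsPGroup p (pCoreOf p M) :=
  (FittingCores.pCore_isPGroup p).map _

theorem pCoreOf_le_fittingOf {p : ℕ} (hp : p.Prime) (M : Subgroup G) :
    pCoreOf p M ≤ fittingOf M :=
  Subgroup.map_mono (FittingCores.pCore_le_fitting hp)

theorem fittingOf_eq_iSup (M : Subgroup G) :
    fittingOf M = ⨆ p : Nat.Primes, pCoreOf (p : ℕ) M := by
  unfold fittingOf pCoreOf
  rw [FittingCores.fitting_eq_iSup_pCore, Subgroup.map_iSup]

theorem fittingOf_le_iff {M X : Subgroup G} :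
    fittingOf M ≤ X ↔ ∀ p : ℕ, p.Prime → pCoreOf p M ≤ X := by
  rw [fittingOf_eq_iSup, iSup_le_iff]
  exact ⟨fun h p hp => h ⟨p, hp⟩, fun h p => h p p.2⟩

theorem pCoreOf_eq_bot_of_not_dvd {p : ℕ} (hp : p.Prime) {M : Subgroup G}
    (h : ¬ p ∣ Nat.card (fittingOf M)) : pCoreOf p M = ⊥ := by
  haveI := Fact.mk hp
  obtain ⟨n, hn⟩ := IsPGroup.iff_card.1 (isPGroup_pCoreOf p M)
  rcases Nat.eq_zero_or_pos n with rfl | h0
  · exact Subgroup.card_eq_one.1 (by simpa using hn)
  · exact absurd ((hn ▸ dvd_pow_self p h0.ne').trans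
      (Subgroup.card_dvd_of_le (pCoreOf_le_fittingOf hp M))) h

theorem pCoreOf_ne_bot_of_dvd {p : ℕ} (hp : p.Prime) {M : Subgroup G}
    (h : p ∣ Nat.card (fittingOf M)) : pCoreOf p M ≠ ⊥ := by
  haveI := Fact.mk hp
  haveI := FittingCores.fitting_nilpotent (G := M)
  intro hb
  have hb' : Cfsg.pCore p M = ⊥ :=
    (Subgroup.map_eq_bot_iff_of_injective _ M.subtype_injective).1 hb
  obtain ⟨P⟩ : Nonempty (Sylow p (Cfsg.fittingSubgroup M)) := inferInstance
  have hle := FittingCores.sylow_le_pCore_of_nilpotent (G := M) FittingCores.fitting_normal p P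
  rw [hb', le_bot_iff, Subgroup.map_eq_bot_iff_of_injective _ (Subgroup.subtype_injective _)] at hle
  unfold fittingOf at h
  rw [Subgroup.card_map_of_injective M.subtype_injective] at h
  exact P.ne_bot_of_dvd_card h hle

/-- The join of the cores `O_s(M)` for the primes `s ≠ p`. -/
def coreCompl (p : ℕ) (M : Subgroup G) : Subgroup G :=
  ⨆ s : Nat.Primes, ⨆ _ : (s : ℕ) ≠ p, pCoreOf (s : ℕ) M

theorem pCoreOf_le_coreCompl {p s : ℕ} (hs : s.Prime) (h : s ≠ p) (M : Subgroup G) :
    pCoreOf s M ≤ coreCompl p M :=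
  le_iSup₂_of_le (⟨s, hs⟩ : Nat.Primes) h le_rfl

theorem coreCompl_le_iff {p : ℕ} {M X : Subgroup G} :
    coreCompl p M ≤ X ↔ ∀ s : ℕ, s.Prime → s ≠ p → pCoreOf s M ≤ X := by
  simp only [coreCompl, iSup_le_iff]
  exact ⟨fun h s hs hne => h ⟨s, hs⟩ hne, fun h s hne => h s s.2 hne⟩

theorem coreCompl_le_fittingOf (p : ℕ) (M : Subgroup G) : coreCompl p M ≤ fittingOf M :=
  coreCompl_le_iff.2 fun _ hs _ => pCoreOf_le_fittingOf hs M

theorem pCoreOf_le_centralizer {p q : ℕ} (hp : p.Prime) (hq : q.Prime) (hne : p ≠ q)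
    (M : Subgroup G) : pCoreOf p M ≤ Subgroup.centralizer (pCoreOf q M : Set G) := by
  haveI := Fact.mk hp
  haveI := Fact.mk hq
  intro x hx
  refine Subgroup.mem_centralizer_iff.2 fun y hy => ?_
  exact (AxB.commute_of_coprime ((pCoreOf_le p M).trans (le_normalizer_pCoreOf q M))
    ((pCoreOf_le q M).trans (le_normalizer_pCoreOf p M))
    (IsPGroup.coprime_card_of_ne p q hne _ _ (isPGroup_pCoreOf p M) (isPGroup_pCoreOf q M)) hx hy).symm

theorem pCoreOf_le_centralizer_coreCompl {p : ℕ} (hp : p.Prime) (M : Subgroup G) :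
    pCoreOf p M ≤ Subgroup.centralizer (coreCompl p M : Set G) := by
  rw [Subgroup.le_centralizer_iff, coreCompl_le_iff]
  exact fun s hs hne => pCoreOf_le_centralizer hs hp hne M

theorem fittingOf_eq_sup {p : ℕ} (hp : p.Prime) (M : Subgroup G) :
    fittingOf M = pCoreOf p M ⊔ coreCompl p M := by
  refine le_antisymm (fittingOf_le_iff.2 fun s hs => ?_)
    (sup_le (pCoreOf_le_fittingOf hp M) (coreCompl_le_fittingOf p M))
  by_cases h : s = p
  · subst h; exact le_sup_left
  · exact le_sup_of_le_right (pCoreOf_le_coreCompl hs h M)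

theorem normalizer_le_normalizer_centralizer (Q : Subgroup G) :
    Subgroup.normalizer (Q : Set G) ≤
      Subgroup.normalizer (Subgroup.centralizer (Q : Set G) : Set G) :=
  (Subgroup.normal_subgroupOf_iff_le_normalizer (Subgroup.centralizer_le_normalizer _)).1
    inferInstance

theorem le_normalizer_inf {A X Y : Subgroup G} (hX : A ≤ Subgroup.normalizer (X : Set G))
    (hY : A ≤ Subgroup.normalizer (Y : Set G)) :
    A ≤ Subgroup.normalizer ((X ⊓ Y : Subgroup G) : Set G) :=
  (le_inf hX hY).trans Subgroup.inf_normalizer_le_normalizer_inf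

/-- `Z(O_p(M))`. -/
abbrev centreCore (p : ℕ) (M : Subgroup G) : Subgroup G :=
  pCoreOf p M ⊓ Subgroup.centralizer (pCoreOf p M : Set G)

theorem le_normalizer_centreCore (p : ℕ) (M : Subgroup G) :
    M ≤ Subgroup.normalizer (centreCore p M : Set G) :=
  le_normalizer_inf (le_normalizer_pCoreOf p M)
    ((le_normalizer_pCoreOf p M).trans (normalizer_le_normalizer_centralizer _))

theorem isMulCommutative_centreCore (p : ℕ) (M : Subgroup G) : IsMulCommutative (centreCore p M) :=
  .of_setLike_mul_comm fun _ ha _ hb => (Subgroup.mem_centralizer_iff.1 hb.2 _ ha.1)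

theorem centreCore_le {p : ℕ} (hp : p.Prime) (M : Subgroup G) :
    centreCore p M ≤ fittingOf M ⊓ Subgroup.centralizer (fittingOf M : Set G) := by
  refine le_inf (inf_le_left.trans (pCoreOf_le_fittingOf hp M)) ?_
  rw [Subgroup.le_centralizer_iff, fittingOf_le_iff]
  intro s hs
  by_cases h : s = p
  · subst h; exact Subgroup.le_centralizer_iff.1 inf_le_right
  · exact (pCoreOf_le_centralizer hs hp h M).trans (Subgroup.centralizer_le inf_le_left)

theorem centreCore_ne_bot {p : ℕ} (hp : p.Prime) {M : Subgroup G} (h : pCoreOf p M ≠ ⊥) :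
    centreCore p M ≠ ⊥ := by
  haveI := Fact.mk hp
  haveI := (Subgroup.nontrivial_iff_ne_bot _).2 h
  haveI := (isPGroup_pCoreOf p M).center_nontrivial
  obtain ⟨⟨z, hz⟩, hz1⟩ := exists_ne (1 : Subgroup.center (pCoreOf p M))
  intro hb
  refine hz1 (Subtype.ext (Subtype.ext ((Subgroup.eq_bot_iff_forall _).1 hb z ⟨z.2,
    Subgroup.mem_centralizer_iff.2 fun y hy =>
      congrArg Subtype.val (Subgroup.mem_center_iff.1 hz ⟨y, hy⟩)⟩)))

theorem inf_centralizer_fittingOf_le (M : Subgroup G) [Group.IsSolvable M] :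
    M ⊓ Subgroup.centralizer (fittingOf M : Set G) ≤ fittingOf M := by
  rintro x ⟨hx, hxc⟩
  exact ⟨⟨x, hx⟩, FittingCores.centralizer_fitting_le (Subgroup.mem_centralizer_iff.2 fun y hy =>
    Subtype.ext (Subgroup.mem_centralizer_iff.1 hxc _ ⟨y, hy, rfl⟩)), rfl⟩

theorem pCoreOf_mono {p : ℕ} {K M : Subgroup G} (hK : K ≤ M)
    (hn : M ≤ Subgroup.normalizer (K : Set G)) : pCoreOf p K ≤ pCoreOf p M := by
  have key : ∀ g ∈ M, (pCoreOf p K).map (MulAut.conj g).toMonoidHom ≤ pCoreOf p K := by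
    intro g hg
    have hX := Subgroup.mem_normalizer_iff_map_conj_eq.1 (hn hg)
    refine AxB.le_pCoreOf ((Subgroup.map_mono (pCoreOf_le p K)).trans hX.le) ?_
      ((isPGroup_pCoreOf p K).map _)
    calc K = K.map (MulAut.conj g).toMonoidHom := hX.symm
      _ ≤ (Subgroup.normalizer (pCoreOf p K : Set G)).map (MulAut.conj g).toMonoidHom :=
        Subgroup.map_mono (le_normalizer_pCoreOf p K)
      _ ≤ _ := Subgroup.le_normalizer_map _
  refine AxB.le_pCoreOf ((pCoreOf_le p K).trans hK) (fun g hg => ?_) (isPGroup_pCoreOf p K)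
  rw [Subgroup.mem_normalizer_iff]
  intro y
  exact ⟨fun hy => key g hg ⟨y, hy, rfl⟩, fun hy => by
    simpa [mul_assoc] using key g⁻¹ (inv_mem hg) ⟨_, hy, rfl⟩⟩

end Cfsg.Agent.OddOrder.FitOf
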