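/-
Bookkeeping for `invSubgroups`, `maxInvSubgroups` and `piCoreOf`.
-/
import Cfsg.Prelude.Def_OddOrderLocal
import Mathlib.GroupTheory.PGroup

set_option autoImplicit false

namespace Cfsg.Agent.OddOrder.Inv

variable {G : Type*} [Group G] [Finite G] {q : ℕ} [hq : Fact q.Prime]

theorem isPGroup_of_primes {Y : Subgroup G}
    (h : ∀ r : ℕ, r.Prime → r ∣ Nat.card Y → r ∈ ({q} : Set ℕ)) : IsPGroup q Y :=
  IsPGroup.of_card
    (Nat.eq_prime_pow_of_unique_prime_dvd Nat.card_pos.ne' fun hd hdvd => h _ hd hdvd)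

theorem primes_of_isPGroup {Y : Subgroup G} (hY : IsPGroup q Y) :
    ∀ r : ℕ, r.Prime → r ∣ Nat.card Y → r ∈ ({q} : Set ℕ) := by
  intro r hr hd
  obtain ⟨k, hk⟩ := IsPGroup.iff_card.1 hY
  rw [hk] at hd
  exact (Nat.prime_dvd_prime_iff_eq hr hq.out).1 (hr.dvd_of_dvd_pow hd)

theorem mem_inv_iff {A Y : Subgroup G} :
    Y ∈ Cfsg.invSubgroups ⊤ A {q} ↔ IsPGroup q Y ∧ A ≤ Subgroup.normalizer (Y : Set G) :=
  ⟨fun h => ⟨isPGroup_of_primes h.2.1, h.2.2⟩, fun h => ⟨le_top, primes_of_isPGroup h.1, h.2⟩⟩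

theorem mem_max_iff {A Q : Subgroup G} :
    Q ∈ Cfsg.maxInvSubgroups ⊤ A {q} ↔ IsPGroup q Q ∧ A ≤ Subgroup.normalizer (Q : Set G) ∧
      ∀ R : Subgroup G, IsPGroup q R → A ≤ Subgroup.normalizer (R : Set G) → Q ≤ R → R = Q := by
  constructor
  · exact fun h => ⟨(mem_inv_iff.1 h.1).1, (mem_inv_iff.1 h.1).2,
      fun R h1 h2 h3 => h.2 R (mem_inv_iff.2 ⟨h1, h2⟩) h3⟩
  · exact fun h => ⟨mem_inv_iff.2 ⟨h.1, h.2.1⟩,
      fun R hR h3 => h.2.2 R (mem_inv_iff.1 hR).1 (mem_inv_iff.1 hR).2 h3⟩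

/-- Every invariant subgroup lies in a maximal one. -/
theorem exists_max {G : Type*} [Group G] [Finite G] {H A Y : Subgroup G} {π : Set ℕ}
    (hY : Y ∈ Cfsg.invSubgroups H A π) : ∃ Q ∈ Cfsg.maxInvSubgroups H A π, Y ≤ Q := by
  obtain ⟨Q, hYQ, hQ⟩ := (Set.toFinite (Cfsg.invSubgroups H A π)).exists_le_maximal hY
  exact ⟨Q, ⟨hQ.1, fun R hR hQR => le_antisymm (hQ.2 hR hQR) hQR⟩, hYQ⟩

end Cfsg.Agent.OddOrder.Inv
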