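/-
Basic facts on minimal simple groups of odd order and on `piCoreOf`.
-/
import Cfsg.Prelude.Def_OddOrder
import Cfsg.Prelude.Def_OddOrderLocal
import Cfsg.Agent.Lib.OddOrder.InvSubgroups
import Cfsg.Agent.Lib.CharP.AxB

set_option autoImplicit false

namespace Cfsg.Agent.OddOrder.MinSimple

variable {G : Type*} [Group G] [Finite G]

theorem isSolvable (hG : Cfsg.IsMinSimpleOddOrder G) {X : Subgroup G} (hX : X ≠ ⊤) : Group.IsSolvable X :=
  hG.2.2.2 X hX

theorem center_eq_bot (hG : Cfsg.IsMinSimpleOddOrder G) : Subgroup.center G = ⊥ := by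
  haveI := hG.2.1
  rcases Subgroup.Normal.eq_bot_or_eq_top (inferInstance : (Subgroup.center G).Normal) with h | h
  · exact h
  · exact absurd ⟨⟨fun a b => (Subgroup.mem_center_iff.1 (h ▸ Subgroup.mem_top b)) a⟩⟩ hG.2.2.1

theorem not_isPGroup (hG : Cfsg.IsMinSimpleOddOrder G) (p : ℕ) [Fact p.Prime] : ¬ IsPGroup p G := by
  intro h
  haveI := hG.2.1
  haveI : Nontrivial G := IsSimpleGroup.toNontrivial
  exact (Subgroup.nontrivial_iff_ne_bot _).1 h.center_nontrivial (center_eq_bot hG)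

theorem normalizer_ne_top (hG : Cfsg.IsMinSimpleOddOrder G) {R : Subgroup G} (h1 : R ≠ ⊥) (h2 : R ≠ ⊤) :
    Subgroup.normalizer (R : Set G) ≠ ⊤ := by
  intro h
  haveI := hG.2.1
  rcases (Subgroup.normalizer_eq_top_iff.1 h).eq_bot_or_eq_top with h' | h'
  · exact h1 h'
  · exact h2 h'

theorem pSubgroup_ne_top (hG : Cfsg.IsMinSimpleOddOrder G) {p : ℕ} [Fact p.Prime] {R : Subgroup G}
    (hR : IsPGroup p R) : R ≠ ⊤ := by
  rintro rfl
  exact not_isPGroup hG p (hR.of_equiv Subgroup.topEquiv)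

theorem centralizer_singleton_ne_top (hG : Cfsg.IsMinSimpleOddOrder G) {b : G} (hb : b ≠ 1) :
    Subgroup.centralizer ({b} : Set G) ≠ ⊤ := by
  intro h
  refine hb (Subgroup.mem_bot.1 (center_eq_bot hG ▸ Subgroup.mem_center_iff.2 fun g => ?_))
  exact (Subgroup.mem_centralizer_singleton_iff.1 (h ▸ Subgroup.mem_top g))

/-- Every prime divisor of `n` lies in `π`. -/
abbrev IsPi (π : Set ℕ) (n : ℕ) : Prop := ∀ p : ℕ, p.Prime → p ∣ n → p ∈ π

theorem isPi_of_dvd {π : Set ℕ} {m n : ℕ} (h : m ∣ n) (hn : IsPi π n) : IsPi π m :=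
  fun p hp hd => hn p hp (hd.trans h)

theorem coprime_of_isPi {a n : ℕ} (h : IsPi (Cfsg.primesNotDvd a) n) : a.Coprime n :=
  Nat.coprime_of_dvd fun p hp hpa hpn => (h p hp hpn).2 hpa

theorem isPi_piCore (π : Set ℕ) (H : Type*) [Group H] [Finite H] :
    IsPi π (Nat.card (Cfsg.piCore π H)) := by
  have key : ∀ s : Finset (Subgroup H), (∀ N ∈ s, N.Normal ∧ IsPi π (Nat.card N)) →
      (s.sup id).Normal ∧ IsPi π (Nat.card (s.sup id : Subgroup H)) := by
    classical
    intro s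
    induction s using Finset.induction_on with
    | empty =>
      intro _
      simp only [Finset.sup_empty]
      refine ⟨inferInstance, fun p hp hd => absurd ?_ hp.ne_one⟩
      rw [Subgroup.card_bot] at hd
      exact Nat.dvd_one.1 hd
    | insert N s hN ih =>
      intro h
      obtain ⟨h1, h2⟩ := ih fun M hM => h M (Finset.mem_insert_of_mem hM)
      obtain ⟨h3, h4⟩ := h N (Finset.mem_insert_self N s)
      haveI := h1
      haveI := h3
      rw [Finset.sup_insert, id]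
      refine ⟨Subgroup.sup_normal N (s.sup id), fun p hp hd => ?_⟩
      exact (hp.dvd_mul.1 (hd.trans (AxB.card_sup_dvd N (s.sup id)))).elim (h4 p hp) (h2 p hp)
  have hfin := Set.toFinite {N : Subgroup H | N.Normal ∧ ∀ p : ℕ, p.Prime → p ∣ Nat.card N → p ∈ π}
  have := (key hfin.toFinset fun N hN => hfin.mem_toFinset.1 hN).2
  rwa [Finset.sup_id_eq_sSup, hfin.coe_toFinset] at this

variable {π : Set ℕ} {X : Subgroup G}

theorem piCoreOf_le : Cfsg.piCoreOf π X ≤ X := Subgroup.map_subtype_le _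

theorem isPi_piCoreOf : IsPi π (Nat.card (Cfsg.piCoreOf π X)) :=
  isPi_of_dvd (Subgroup.card_map_dvd _ _) (isPi_piCore π X)

theorem le_piCoreOf {N : Subgroup G} (hN : N ≤ X) (hn : X ≤ Subgroup.normalizer (N : Set G))
    (hπ : IsPi π (Nat.card N)) : N ≤ Cfsg.piCoreOf π X := by
  rw [← Subgroup.map_subgroupOf_eq_of_le hN]
  refine Subgroup.map_mono (le_sSup ⟨Subgroup.normal_subgroupOf_of_le_normalizer hn, ?_⟩)
  rw [Nat.card_congr (Subgroup.subgroupOfEquivOfLe hN).toEquiv]
  exact hπ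

theorem normalizer_le : Subgroup.normalizer (X : Set G) ≤ Subgroup.normalizer (Cfsg.piCoreOf π X : Set G) := by
  have key : ∀ g ∈ Subgroup.normalizer (X : Set G),
      (Cfsg.piCoreOf π X).map (MulAut.conj g).toMonoidHom ≤ Cfsg.piCoreOf π X := by
    intro g hg
    have hX := Subgroup.mem_normalizer_iff_map_conj_eq.1 hg
    have hn : X ≤ Subgroup.normalizer (Cfsg.piCoreOf π X : Set G) :=
      AxB.le_normalizer_map_subtype inferInstance
    refine le_piCoreOf ((Subgroup.map_mono piCoreOf_le).trans hX.le) ?_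
      (isPi_of_dvd (Subgroup.card_map_dvd _ _) isPi_piCoreOf)
    calc X = X.map (MulAut.conj g).toMonoidHom := hX.symm
      _ ≤ (Subgroup.normalizer (Cfsg.piCoreOf π X : Set G)).map (MulAut.conj g).toMonoidHom :=
        Subgroup.map_mono hn
      _ ≤ _ := Subgroup.le_normalizer_map _
  intro g hg
  rw [Subgroup.mem_normalizer_iff_map_conj_eq]
  refine le_antisymm (key g hg) fun x hx => ?_
  refine ⟨g⁻¹ * x * g, ?_, by simp [mul_assoc]⟩
  exact key g⁻¹ (inv_mem hg) ⟨x, hx, by simp⟩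

theorem piCoreOf_mem_inv {A : Subgroup G} (hAX : A ≤ X) :
    Cfsg.piCoreOf π X ∈ Cfsg.invSubgroups X A π :=
  ⟨piCoreOf_le, isPi_piCoreOf, hAX.trans (Subgroup.le_normalizer.trans normalizer_le)⟩

end Cfsg.Agent.OddOrder.MinSimple
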