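/-
Two maximal subgroups `M`, `H` of a minimal simple group of odd order whose Fitting subgroups involve
the same primes (Bender-Glauberman 8.1, last part).
-/
import Cfsg.Agent.Lib.OddOrder.FittingOf
import Cfsg.Agent.Lib.OddOrder.MinSimple
import Cfsg.Agent.Lib.OddOrder.PStable

set_option autoImplicit false
set_option linter.style.haveILetI false

namespace Cfsg.Agent.OddOrder.FitPair

open scoped commutatorElement
open Cfsg (fittingOf pCoreOf)
open FitOf

variable {G : Type*} [Group G] [Finite G]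

theorem maximal_ne_top {M : Subgroup G} (hM : IsCoatom M) : M ≠ ⊤ := hM.1

theorem normalizer_eq (hG : Cfsg.IsMinSimpleOddOrder G) {M X : Subgroup G} (hM : IsCoatom M)
    (hle : X ≤ M) (hn : M ≤ Subgroup.normalizer (X : Set G)) (h1 : X ≠ ⊥) :
    Subgroup.normalizer (X : Set G) = M :=
  (hM.le_iff.1 hn).resolve_left (MinSimple.normalizer_ne_top hG h1
    fun h => hM.1 (top_le_iff.1 (h ▸ hle)))

/-- A finite group whose elements of order prime to `r` are central is nilpotent. -/
theorem isNilpotent_of_central {W : Type*} [Group W] [Finite W] (r : ℕ) [hr : Fact r.Prime]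
    (h : ∀ x : W, (orderOf x).Coprime r → x ∈ Subgroup.center W) : Group.IsNilpotent W := by
  have hp : IsPGroup r (W ⧸ Subgroup.center W) := by
    intro g
    induction g using QuotientGroup.induction_on with | H g => ?_
    obtain ⟨a, m, hm, hcard⟩ := Nat.exists_eq_pow_mul_and_not_dvd (orderOf_pos g).ne' r hr.out.ne_one
    refine ⟨a, ?_⟩
    rw [← QuotientGroup.mk_pow, QuotientGroup.eq_one_iff]
    refine h _ ?_
    rw [orderOf_pow_of_dvd (pow_ne_zero a hr.out.ne_zero) (hcard ▸ dvd_mul_right _ _), hcard,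
      Nat.mul_div_cancel_left _ (pow_pos hr.out.pos a)]
    exact (hr.out.coprime_iff_not_dvd.2 hm).symm
  haveI := hp.isNilpotent
  exact Subgroup.isNilpotent_of_ker_le_center (QuotientGroup.mk' (Subgroup.center W))
    (QuotientGroup.ker_mk' _).le

/-- An `r`-element acting quadratically on `O_r(H)` and centralising the other cores lies in `O_r(H)`. -/
theorem mem_pCoreOf_of_quadratic {r : ℕ} [hr : Fact r.Prime] (H : Subgroup G) [Group.IsSolvable H]
    (hodd : Odd (Nat.card G)) (hr2 : r ≠ 2) (a : G) (haH : a ∈ H)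
    (ha : IsPGroup r (Subgroup.zpowers a))
    (hc : a ∈ Subgroup.centralizer (coreCompl r H : Set G))
    (hq : ∀ v ∈ pCoreOf r H, a * ⁅a, v⁆ = ⁅a, v⁆ * a) : a ∈ pCoreOf r H := by
  classical
  set K := H ⊓ Subgroup.centralizer (coreCompl r H : Set G) with hK
  set O := pCoreOf r H with hO
  have hOK : O ≤ K := le_inf (pCoreOf_le r H) (pCoreOf_le_centralizer_coreCompl hr.out H)
  have hKn : H ≤ Subgroup.normalizer (K : Set G) := by
    refine le_normalizer_inf Subgroup.le_normalizer (le_trans ?_ (normalizer_le_normalizer_centralizer _))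
    intro g hg
    rw [Subgroup.mem_normalizer_iff_map_conj_eq]
    simp only [coreCompl, Subgroup.map_iSup]
    refine iSup_congr fun s => iSup_congr fun _ => ?_
    exact Subgroup.mem_normalizer_iff_map_conj_eq.1 (le_normalizer_pCoreOf _ H hg)
  set B := O.subgroupOf K with hB
  haveI : B.Normal := Subgroup.normal_subgroupOf_of_le_normalizer
    (inf_le_left.trans (le_normalizer_pCoreOf r H))
  have hBp : IsPGroup r B := (isPGroup_pCoreOf r H).comap_subtype
  set C := Subgroup.centralizer (B : Set K) with hC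
  set a' : K := ⟨a, haH, hc⟩ with ha'
  have hzp : IsPGroup r (Subgroup.zpowers a') := by
    refine (ha.comap_subtype (K := K)).to_le ?_
    rw [Subgroup.zpowers_le, Subgroup.mem_comap]
    exact Subgroup.mem_zpowers a
  have hoddK : Odd (Nat.card K) := hodd.of_dvd_nat K.card_subgroup_dvd_card
  have hmem := PStable.mk_mem_pCore hoddK hr2 B a' hBp hzp fun v hv => Subtype.ext (hq v hv)
  set W := (Cfsg.pCore r (K ⧸ C)).comap (QuotientGroup.mk' C) with hW
  haveI hWn : W.Normal := (FittingCores.pCore_normal r).comap _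
  have hWr : IsPGroup r (W.map (QuotientGroup.mk' C)) :=
    (FittingCores.pCore_isPGroup r).to_le (Subgroup.map_comap_le _ _)
  -- elements of `W` of order prime to `r` are central
  have hcentral : ∀ x : W, (orderOf x).Coprime r → x ∈ Subgroup.center W := by
    intro x hx
    have hxC : (x : K) ∈ C := by
      rw [← QuotientGroup.eq_one_iff]
      have hy : QuotientGroup.mk' C (x : K) ∈ W.map (QuotientGroup.mk' C) := ⟨x, x.2, rfl⟩
      refine PBasic.eq_one_of_isPGroup_of_coprime hWr hy ?_
      exact Nat.Coprime.coprime_dvd_left ((orderOf_map_dvd (QuotientGroup.mk' C) (x : K)).trans (Subgroup.orderOf_coe x).dvd) hx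
    have hxO : ∀ v ∈ O, v * ((x : K) : G) = ((x : K) : G) * v := fun v hv =>
      congrArg Subtype.val (Subgroup.mem_centralizer_iff.1 hxC ⟨v, hOK hv⟩ hv)
    have hxF : ((x : K) : G) ∈ fittingOf H := by
      refine inf_centralizer_fittingOf_le H ⟨(x : K).2.1, ?_⟩
      suffices fittingOf H ≤ Subgroup.centralizer ({((x : K) : G)} : Set G) from
        Subgroup.mem_centralizer_iff.2 fun f hf => (Subgroup.mem_centralizer_singleton_iff.1 (this hf))
      rw [fittingOf_eq_sup hr.out, sup_le_iff]
      refine ⟨fun v hv => Subgroup.mem_centralizer_singleton_iff.2 (hxO v hv), fun v hv => ?_⟩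
      exact Subgroup.mem_centralizer_singleton_iff.2 (Subgroup.mem_centralizer_iff.1 (x : K).2.2 v hv)
    rw [Subgroup.mem_center_iff]
    intro y
    refine Subtype.ext (Subtype.ext ?_)
    show ((y : K) : G) * ((x : K) : G) = ((x : K) : G) * ((y : K) : G)
    obtain ⟨hyH, hyc⟩ := (y : K).2
    set g := ((y : K) : G)
    set t := ((x : K) : G) with ht
    rw [fittingOf_eq_sup hr.out, ← SetLike.mem_coe, Subgroup.coe_mul_of_right_le_normalizer_left _ _
      ((coreCompl_le_fittingOf r H).trans ((fittingOf_le H).trans (le_normalizer_pCoreOf r H)))] at hxF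
    obtain ⟨u, hu, e, he, hue⟩ := hxF
    have hd : t⁻¹ * (g * t * g⁻¹) ∈ O := by
      have h1 : g * e * g⁻¹ = e := mul_inv_eq_iff_eq_mul.2 (Subgroup.mem_centralizer_iff.1 hyc e he).symm
      have hu1 : t⁻¹ * (g * t * g⁻¹) = e⁻¹ * (u⁻¹ * (g * u * g⁻¹)) * e := by
        rw [show g * t * g⁻¹ = (g * u * g⁻¹) * (g * e * g⁻¹) by rw [← hue]; group, h1, ← hue]
        group
      rw [hu1]
      have h2 : u⁻¹ * (g * u * g⁻¹) ∈ O :=
        mul_mem (inv_mem hu) ((Subgroup.mem_normalizer_iff.1 (le_normalizer_pCoreOf r H hyH) u).1 hu)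
      simpa using (Subgroup.mem_normalizer_iff.1
        (le_normalizer_pCoreOf r H (fittingOf_le H (coreCompl_le_fittingOf r H (inv_mem he)))) _).1 h2
    set d := t⁻¹ * (g * t * g⁻¹) with hd'
    have htd : Commute t d := (hxO d hd).symm
    have e1 : g * t * g⁻¹ = t * d := by rw [hd']; group
    have h3 : d ^ orderOf t = 1 := by
      have := congrArg (fun z => z ^ orderOf t) e1
      simpa [conj_pow, htd.mul_pow, pow_orderOf_eq_one] using this.symm
    have ho : (orderOf t).Coprime r := by rwa [ht, Subgroup.orderOf_coe, Subgroup.orderOf_coe]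
    have hd1 : d = 1 := by
      refine PBasic.eq_one_of_isPGroup_of_coprime (isPGroup_pCoreOf r H) hd ?_
      exact Nat.Coprime.coprime_dvd_left (orderOf_dvd_of_pow_eq_one h3) ho
    rw [hd1, mul_one] at e1
    exact mul_inv_eq_iff_eq_mul.1 e1
  haveI := isNilpotent_of_central r hcentral
  have haW : a' ∈ W := hmem
  have hzW : IsPGroup r (Subgroup.zpowers (⟨a', haW⟩ : W)) := by
    refine (hzp.comap_subtype (K := W)).to_le ?_
    rw [Subgroup.zpowers_le, Subgroup.mem_comap]
    exact Subgroup.mem_zpowers a'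
  obtain ⟨P, hP⟩ := hzW.exists_le_sylow
  have hcore : a' ∈ Cfsg.pCore r K :=
    FittingCores.sylow_le_pCore_of_nilpotent hWn r P ⟨_, hP (Subgroup.mem_zpowers _), rfl⟩
  exact pCoreOf_mono inf_le_left hKn ⟨a', hcore, rfl⟩

variable {M H : Subgroup G}

section

variable (hG : Cfsg.IsMinSimpleOddOrder G) (hM : IsCoatom M) (hH : IsCoatom H)
  (hσ : ∀ q : ℕ, q.Prime → q ∣ Nat.card (fittingOf H) → q ∣ Nat.card (fittingOf M))
  (h2 : 2 ≤ (Nat.card (fittingOf M)).primeFactors.card)
  (hZ : fittingOf M ⊓ Subgroup.centralizer (fittingOf M : Set G) ≤ H)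

include hG hM hσ hZ

theorem pCoreOf_le_centralizer_centre {q r : ℕ} (hq : q.Prime) (hr : r.Prime) (hne : q ≠ r) :
    pCoreOf q H ≤ Subgroup.centralizer (centreCore r M : Set G) := by
  haveI := Fact.mk hq
  haveI := Fact.mk hr
  set P := pCoreOf q H with hP
  intro y hy
  refine Subgroup.mem_centralizer_iff.2 fun x hx => ?_
  by_cases hPb : P = ⊥
  · rw [(Subgroup.eq_bot_iff_forall _).1 hPb y hy, mul_one, one_mul]
  have hqσ : q ∣ Nat.card (fittingOf M) :=
    hσ q hq (not_not.1 fun h => hPb (pCoreOf_eq_bot_of_not_dvd hq h))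
  have hZq : centreCore q M ≠ ⊥ := centreCore_ne_bot hq (pCoreOf_ne_bot_of_dvd hq hqσ)
  have hNq : Subgroup.normalizer (centreCore q M : Set G) = M :=
    normalizer_eq hG hM (inf_le_left.trans (pCoreOf_le q M)) (le_normalizer_centreCore q M) hZq
  have hPH : H ≤ Subgroup.normalizer (P : Set G) := le_normalizer_pCoreOf q H
  have hxH : x ∈ H := hZ (centreCore_le hr M hx)
  refine AxB.thompson (n := orderOf x) (isPGroup_pCoreOf q H)
    ((isPGroup_pCoreOf q M).to_le inf_le_left : IsPGroup q (centreCore q M))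
    (((centreCore_le hq M).trans hZ).trans hPH)
    (fun z hz => (Subgroup.mem_normalizer_iff.1 (hPH hxH) z).1 hz) ?_ (pow_orderOf_eq_one x) ?_ ?_ y hy
  · intro a ha
    exact (Subgroup.mem_centralizer_iff.1 (centreCore_le hr M hx).2 a (centreCore_le hq M ha).1)
  · obtain ⟨k, hk⟩ := IsPGroup.iff_orderOf.1 (isPGroup_pCoreOf r M) ⟨x, hx.1⟩
    rw [Subgroup.orderOf_mk] at hk
    rw [hk]
    exact Nat.Coprime.pow_right k ((Nat.coprime_primes hq hr).2 hne)
  · intro z hz hzA
    have hzM : z ∈ M := hNq ▸ Subgroup.centralizer_le_normalizer _ (Subgroup.mem_centralizer_iff.2 hzA)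
    have hd1 : z⁻¹ * (x * z * x⁻¹) ∈ P :=
      mul_mem (inv_mem hz) ((Subgroup.mem_normalizer_iff.1 (hPH hxH) z).1 hz)
    have hd2 : z⁻¹ * (x * z * x⁻¹) ∈ centreCore r M := by
      have := (Subgroup.mem_normalizer_iff.1 (le_normalizer_centreCore r M (inv_mem hzM)) x).1 hx
      simpa [mul_assoc] using mul_mem this (inv_mem hx)
    have h1 : z⁻¹ * (x * z * x⁻¹) = 1 := (Subgroup.eq_bot_iff_forall _).1
      (IsPGroup.disjoint_of_ne q r hne P (centreCore r M) (isPGroup_pCoreOf q H)
        ((isPGroup_pCoreOf r M).to_le inf_le_left)).eq_bot _ ⟨hd1, hd2⟩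
    calc x * z = z * (z⁻¹ * (x * z * x⁻¹)) * x := by group
      _ = z * x := by rw [h1, mul_one]

include h2

theorem pCoreOf_le_left {q : ℕ} (hq : q.Prime) : pCoreOf q H ≤ M := by
  obtain ⟨r, hr, hrq⟩ := Finset.exists_mem_ne (by omega : 1 < (Nat.card (fittingOf M)).primeFactors.card) q
  have hrp := Nat.prime_of_mem_primeFactors hr
  refine (pCoreOf_le_centralizer_centre hG hM hσ hZ hq hrp hrq.symm).trans ?_
  exact (Subgroup.centralizer_le_normalizer _).trans (normalizer_eq hG hM
    (inf_le_left.trans (pCoreOf_le r M)) (le_normalizer_centreCore r M)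
    (centreCore_ne_bot hrp (pCoreOf_ne_bot_of_dvd hrp (Nat.dvd_of_mem_primeFactors hr)))).le

include hH

theorem centreCore_le_pCoreOf {r : ℕ} (hr : r.Prime) : centreCore r M ≤ pCoreOf r H := by
  haveI := Fact.mk hr
  intro a ha
  haveI := MinSimple.isSolvable hG hH.1
  have hodd := hG.1
  have ha1 : IsPGroup r (Subgroup.zpowers a) :=
    (isPGroup_pCoreOf r M).to_le (Subgroup.zpowers_le.2 ha.1)
  by_cases hr2 : r = 2
  · subst hr2
    have : a = 1 := by
      have hd : orderOf a ∣ Nat.card G := orderOf_dvd_natCard a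
      refine PBasic.eq_one_of_isPGroup_of_coprime (isPGroup_pCoreOf 2 M) ha.1 ?_
      exact (Nat.Coprime.coprime_dvd_left hd (Nat.coprime_two_right.2 hodd))
    rw [this]; exact one_mem _
  refine mem_pCoreOf_of_quadratic H hodd hr2 a (hZ (centreCore_le hr M ha)) ha1 ?_ ?_
  · refine (Subgroup.le_centralizer_iff.1 ?_) ha
    exact coreCompl_le_iff.2 fun s hs hne => pCoreOf_le_centralizer_centre hG hM hσ hZ hs hr hne
  · exact PStable.quadratic_of_abelian (isMulCommutative_centreCore r M)
      ((pCoreOf_le_left hG hM hσ h2 hZ hr).trans (le_normalizer_centreCore r M)) a ha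

end

/-- If the centre of `F(M)` lies in `H` and every prime of `F(H)` is a prime of `F(M)` then `H = M`. -/
theorem eq_of_centre_le (hG : Cfsg.IsMinSimpleOddOrder G) (hM : IsCoatom M) (hH : IsCoatom H)
    (hσ : ∀ q : ℕ, q.Prime → q ∣ Nat.card (fittingOf H) → q ∣ Nat.card (fittingOf M))
    (h2 : 2 ≤ (Nat.card (fittingOf M)).primeFactors.card)
    (hZ : fittingOf M ⊓ Subgroup.centralizer (fittingOf M : Set G) ≤ H) : H = M := by
  have hle := fun {q : ℕ} (hq : q.Prime) => pCoreOf_le_left hG hM hσ h2 hZ hq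
  have hcc := fun {r : ℕ} (hr : r.Prime) => centreCore_le_pCoreOf hG hM hH hσ h2 hZ hr
  have hσ' : ∀ q : ℕ, q.Prime → q ∣ Nat.card (fittingOf M) → q ∣ Nat.card (fittingOf H) := by
    intro q hq hd
    by_contra h
    exact centreCore_ne_bot hq (pCoreOf_ne_bot_of_dvd hq hd)
      (le_bot_iff.1 ((hcc hq).trans (pCoreOf_eq_bot_of_not_dvd hq h).le))
  have h2' : 2 ≤ (Nat.card (fittingOf H)).primeFactors.card := by
    refine h2.trans (Finset.card_le_card fun q hq => ?_)
    obtain ⟨hqp, hqd, -⟩ := Nat.mem_primeFactors.1 hq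
    exact Nat.mem_primeFactors.2 ⟨hqp, hσ' q hqp hqd, Nat.card_pos.ne'⟩
  have hZ' : fittingOf H ⊓ Subgroup.centralizer (fittingOf H : Set G) ≤ M :=
    inf_le_left.trans (fittingOf_le_iff.2 fun _ hq => hle hq)
  have hle' := fun {q : ℕ} (hq : q.Prime) => pCoreOf_le_left hG hH hσ' h2' hZ' hq
  have hcc' := fun {r : ℕ} (hr : r.Prime) => centreCore_le_pCoreOf hG hH hM hσ' h2' hZ' hr
  have key : ∀ {A B : Subgroup G}, IsCoatom B →
      2 ≤ (Nat.card (fittingOf B)).primeFactors.card →
      (∀ {q : ℕ}, q.Prime → pCoreOf q B ≤ A) → (∀ {q : ℕ}, q.Prime → pCoreOf q A ≤ B) →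
      (∀ {r : ℕ}, r.Prime → centreCore r B ≤ pCoreOf r A) →
      ∀ {q : ℕ}, q.Prime → pCoreOf q B ≤ pCoreOf q A := by
    intro A B hB hB2 hBA hAB hBc q hq
    haveI := Fact.mk hq
    obtain ⟨r, hr, hrq⟩ := Finset.exists_mem_ne (by omega : 1 < (Nat.card (fittingOf B)).primeFactors.card) q
    have hrp := Nat.prime_of_mem_primeFactors hr
    set K := A ⊓ Subgroup.centralizer (coreCompl q A : Set G) with hK
    have hKB : K ≤ B := by
      refine inf_le_right.trans ((Subgroup.centralizer_le ((hBc hrp).trans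
        (pCoreOf_le_coreCompl hrp hrq A))).trans ((Subgroup.centralizer_le_normalizer _).trans ?_))
      exact (normalizer_eq hG hB (inf_le_left.trans (pCoreOf_le r B)) (le_normalizer_centreCore r B)
        (centreCore_ne_bot hrp (pCoreOf_ne_bot_of_dvd hrp (Nat.dvd_of_mem_primeFactors hr)))).le
    have hqK : pCoreOf q B ≤ K := by
      refine le_inf (hBA hq) (Subgroup.le_centralizer_iff.1 (coreCompl_le_iff.2 fun s hs hne => ?_))
      intro x hx
      haveI := Fact.mk hs
      refine Subgroup.mem_centralizer_iff.2 fun y hy => ?_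
      exact (AxB.commute_of_coprime ((hAB hs).trans (le_normalizer_pCoreOf q B))
        ((hBA hq).trans (le_normalizer_pCoreOf s A))
        (IsPGroup.coprime_card_of_ne s q hne _ _ (isPGroup_pCoreOf s A) (isPGroup_pCoreOf q B)) hx hy).symm
    have h1 : pCoreOf q B ≤ pCoreOf q K :=
      AxB.le_pCoreOf hqK (hKB.trans (le_normalizer_pCoreOf q B)) (isPGroup_pCoreOf q B)
    refine h1.trans (pCoreOf_mono inf_le_left (le_normalizer_inf Subgroup.le_normalizer
      (le_trans ?_ (normalizer_le_normalizer_centralizer _))))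
    intro g hg
    rw [Subgroup.mem_normalizer_iff_map_conj_eq]
    simp only [coreCompl, Subgroup.map_iSup]
    refine iSup_congr fun s => iSup_congr fun _ => ?_
    exact Subgroup.mem_normalizer_iff_map_conj_eq.1 (le_normalizer_pCoreOf _ A hg)
  have heq : fittingOf H = fittingOf M := by
    rw [fittingOf_eq_iSup, fittingOf_eq_iSup]
    refine iSup_congr fun p => le_antisymm ?_ ?_
    · exact key hH h2' (fun hq => hle hq) (fun hq => hle' hq) (fun hr => hcc' hr) p.2
    · exact key hM h2 (fun hq => hle' hq) (fun hq => hle hq) (fun hr => hcc hr) p.2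
  have hne : fittingOf M ≠ ⊥ := by
    intro h
    rw [h] at h2
    simp at h2
  rw [← normalizer_eq hG hH (fittingOf_le H) (le_normalizer_fittingOf H) (heq ▸ hne), heq,
    normalizer_eq hG hM (fittingOf_le M) (le_normalizer_fittingOf M) hne]

end Cfsg.Agent.OddOrder.FitPair
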