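/-
Consequences of the transitivity hypothesis in a minimal simple group of odd order.
-/
import Cfsg.Agent.Lib.OddOrder.MinSimple
import Cfsg.Agent.Lib.Solvable.Coprime
import Cfsg.Agent.Lib.Classification.Transitivity

set_option autoImplicit false

namespace Cfsg.Agent.OddOrder.TransHyp

open MinSimple

variable {G : Type*} [Group G] [Finite G] {A : Subgroup G}

/-- Invariant subgroups of coprime order lie in the core. -/
theorem le_core (hA : Cfsg.TransitivityHypothesis A) {X Y : Subgroup G} (hX : X ≠ ⊤) (hAX : A ≤ X)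
    (hYX : Y ≤ X) (hY : IsPi (Cfsg.primesNotDvd (Nat.card A)) (Nat.card Y))
    (hAY : A ≤ Subgroup.normalizer (Y : Set G)) :
    Y ≤ Cfsg.piCoreOf (Cfsg.primesNotDvd (Nat.card A)) X :=
  hA.2.2 X hX hAX ▸ le_sSup ⟨hYX, hY, hAY⟩

theorem sup_centralizer_ne_top (hG : Cfsg.IsMinSimpleOddOrder G) (h1 : A ≠ ⊥) (h2 : A ≠ ⊤) :
    A ⊔ Subgroup.centralizer (A : Set G) ≠ ⊤ := fun h =>
  normalizer_ne_top hG h1 h2 (top_unique (h ▸ sup_le Subgroup.le_normalizer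
    (Subgroup.centralizer_le_normalizer _)))

/-- `O_{π(A)'}(C(A))` contains every subgroup of `C(A)` of order coprime to that of `A`. -/
theorem le_K (hG : Cfsg.IsMinSimpleOddOrder G) (hA : Cfsg.TransitivityHypothesis A) {Y : Subgroup G}
    (hYC : Y ≤ Subgroup.centralizer (A : Set G))
    (hY : IsPi (Cfsg.primesNotDvd (Nat.card A)) (Nat.card Y)) :
    Y ≤ Cfsg.piCoreOf (Cfsg.primesNotDvd (Nat.card A)) (Subgroup.centralizer (A : Set G)) := by
  set π := Cfsg.primesNotDvd (Nat.card A) with hπ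
  set X := A ⊔ Subgroup.centralizer (A : Set G) with hX
  have hAN : A ≤ Subgroup.normalizer (Y : Set G) := fun a ha => Subgroup.centralizer_le_normalizer _
    (Subgroup.mem_centralizer_iff.2 fun y hy => (Subgroup.mem_centralizer_iff.1 (hYC hy) a ha).symm)
  have hY' : Y ≤ Cfsg.piCoreOf π X :=
    le_core hA (sup_centralizer_ne_top hG hA.1 hA.2.1) le_sup_left (hYC.trans le_sup_right) hY hAN
  have hAL : A ≤ Subgroup.normalizer (Cfsg.piCoreOf π X : Set G) :=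
    (le_sup_left.trans Subgroup.le_normalizer).trans (normalizer_le (X := X))
  have hXA : X ≤ Subgroup.normalizer (A : Set G) :=
    sup_le Subgroup.le_normalizer (Subgroup.centralizer_le_normalizer _)
  have hLC : Cfsg.piCoreOf π X ≤ Subgroup.centralizer (A : Set G) := fun l hl =>
    Subgroup.mem_centralizer_iff.2 fun a ha => AxB.commute_of_coprime (piCoreOf_le.trans hXA) hAL
      (Nat.Coprime.symm (coprime_of_isPi isPi_piCoreOf)) hl ha |>.symm
  exact hY'.trans (le_piCoreOf hLC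
    ((le_sup_right.trans Subgroup.le_normalizer).trans (normalizer_le (X := X))) isPi_piCoreOf)

variable {q : ℕ} [hq : Fact q.Prime]

theorem isPi_of_isPGroup {n : ℕ} (hqn : ¬ q ∣ n) {Y : Subgroup G} (hY : IsPGroup q Y) :
    IsPi (Cfsg.primesNotDvd n) (Nat.card Y) := fun r hr hd => by
  have := Set.mem_singleton_iff.1 (Inv.primes_of_isPGroup hY r hr hd)
  exact ⟨hr, this ▸ hqn⟩

theorem map_conj_mem_max {k : G} (hk : k ∈ Subgroup.normalizer (A : Set G)) {Q : Subgroup G}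
    (hQ : Q ∈ Cfsg.maxInvSubgroups ⊤ A {q}) :
    Q.map (MulAut.conj k).toMonoidHom ∈ Cfsg.maxInvSubgroups ⊤ A {q} := by
  obtain ⟨h1, h2, h3⟩ := Inv.mem_max_iff.1 hQ
  have hA' : ∀ g ∈ Subgroup.normalizer (A : Set G), A.map (MulAut.conj g).toMonoidHom = A :=
    fun g hg => Subgroup.mem_normalizer_iff_map_conj_eq.1 hg
  refine Inv.mem_max_iff.2 ⟨h1.map _, ?_, fun R hR1 hR2 hR3 => ?_⟩
  · calc A = A.map (MulAut.conj k).toMonoidHom := (hA' k hk).symm
      _ ≤ (Subgroup.normalizer (Q : Set G)).map (MulAut.conj k).toMonoidHom := Subgroup.map_mono h2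
      _ ≤ _ := Subgroup.le_normalizer_map _
  · have h := h3 (R.map (MulAut.conj k⁻¹).toMonoidHom) (hR1.map _)
      (calc A = A.map (MulAut.conj k⁻¹).toMonoidHom := (hA' k⁻¹ (inv_mem hk)).symm
        _ ≤ (Subgroup.normalizer (R : Set G)).map (MulAut.conj k⁻¹).toMonoidHom := Subgroup.map_mono hR2
        _ ≤ _ := Subgroup.le_normalizer_map _)
      (fun x hx => ⟨k * x * k⁻¹, hR3 ⟨x, hx, by simp⟩, by simp [mul_assoc]⟩)
    rw [← h, Subgroup.map_map]
    ext x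
    simp [Subgroup.mem_map, mul_assoc]

/-- Maximal invariant `q`-subgroups meeting a proper overgroup of `A` are conjugate under `K`. -/
theorem conj_of_overgroup (hG : Cfsg.IsMinSimpleOddOrder G) (hA : Cfsg.TransitivityHypothesis A)
    (hqA : ¬ q ∣ Nat.card A) {Q₁ Q₂ : Subgroup G} (h₁ : Q₁ ∈ Cfsg.maxInvSubgroups ⊤ A {q})
    (h₂ : Q₂ ∈ Cfsg.maxInvSubgroups ⊤ A {q}) {H : Subgroup G} (hH : H ≠ ⊤) (hAH : A ≤ H)
    (hH₁ : H ⊓ Q₁ ≠ ⊥) (hH₂ : H ⊓ Q₂ ≠ ⊥) :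
    ∃ k ∈ Cfsg.piCoreOf (Cfsg.primesNotDvd (Nat.card A)) (Subgroup.centralizer (A : Set G)),
      Q₂ = Q₁.map (MulAut.conj k).toMonoidHom := by
  set π := Cfsg.primesNotDvd (Nat.card A) with hπ
  set K := Cfsg.piCoreOf π (Subgroup.centralizer (A : Set G)) with hK
  suffices key : ∀ n : ℕ, ∀ Q₁ Q₂ : Subgroup G, Q₁ ∈ Cfsg.maxInvSubgroups ⊤ A {q} →
      Q₂ ∈ Cfsg.maxInvSubgroups ⊤ A {q} → Nat.card G ≤ n + Nat.card (Q₁ ⊓ Q₂ : Subgroup G) →
      ∀ H : Subgroup G, H ≠ ⊤ → A ≤ H → H ⊓ Q₁ ≠ ⊥ → H ⊓ Q₂ ≠ ⊥ →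
      ∃ k ∈ K, Q₂ = Q₁.map (MulAut.conj k).toMonoidHom from
    key (Nat.card G) Q₁ Q₂ h₁ h₂ (by omega) H hH hAH hH₁ hH₂
  intro n
  induction n with
  | zero =>
    intro Q₁ Q₂ h₁ _ hn H hH _ _ _
    refine absurd ?_ (pSubgroup_ne_top hG (Inv.mem_max_iff.1 h₁).1)
    exact Subgroup.eq_top_of_le_card _ ((Nat.le_trans hn (by simp)).trans
      (Subgroup.card_le_of_le (inf_le_left : Q₁ ⊓ Q₂ ≤ Q₁)))
  | succ n ih =>
    intro Q₁ Q₂ h₁ h₂ hn H hH hAH hH₁ hH₂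
    obtain ⟨p₁, n₁, m₁⟩ := Inv.mem_max_iff.1 h₁
    obtain ⟨p₂, n₂, m₂⟩ := Inv.mem_max_iff.1 h₂
    by_cases heq : Q₁ = Q₂
    · exact ⟨1, one_mem _, by rw [← heq]; ext x; simp⟩
    set R := Q₁ ⊓ Q₂ with hR
    have hAR : A ≤ Subgroup.normalizer (R : Set G) :=
      (le_inf n₁ n₂).trans Subgroup.inf_normalizer_le_normalizer_inf
    have hR₁ : R < Q₁ := lt_of_le_of_ne inf_le_left fun h =>
      heq (m₁ Q₂ p₂ n₂ (h.ge.trans inf_le_right)).symm
    have hR₂ : R < Q₂ := lt_of_le_of_ne inf_le_right fun h =>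
      heq (m₂ Q₁ p₁ n₁ (h.ge.trans inf_le_left))
    -- replace `H` by the normalizer of `R` when `R` is nontrivial
    obtain ⟨H, hH, hAH, hRH, hH₁, hH₂⟩ : ∃ H : Subgroup G, H ≠ ⊤ ∧ A ≤ H ∧ R ≤ H ∧
        ¬ H ⊓ Q₁ ≤ R ∧ ¬ H ⊓ Q₂ ≤ R := by
      by_cases hR0 : R = ⊥
      · rw [hR0]
        exact ⟨H, hH, hAH, bot_le, fun h => hH₁ (le_bot_iff.1 h), fun h => hH₂ (le_bot_iff.1 h)⟩
      · have grow : ∀ Q : Subgroup G, IsPGroup q Q → R < Q →
            ¬ Subgroup.normalizer (R : Set G) ⊓ Q ≤ R := by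
          intro Q hQ hRQ hle
          have := hQ.isNilpotent
          have hlt : R.subgroupOf Q < ⊤ :=
            lt_top_iff_ne_top.2 fun h => hRQ.not_ge (Subgroup.subgroupOf_eq_top.1 h)
          obtain ⟨x, hx, hxR⟩ := SetLike.exists_of_lt (Group.normalizerCondition_of_isNilpotent _ hlt)
          refine hxR (hle (Subgroup.mem_inf.2 ⟨?_, x.2⟩))
          rw [Subgroup.mem_normalizer_iff]
          intro r
          constructor
          · intro hr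
            exact (Subgroup.mem_normalizer_iff.1 hx ⟨r, hRQ.le hr⟩).1 hr
          · intro hr
            have hrQ : r ∈ Q := by
              simpa [mul_assoc] using mul_mem (mul_mem (inv_mem x.2) (hRQ.le hr)) x.2
            exact (Subgroup.mem_normalizer_iff.1 hx ⟨r, hrQ⟩).2 hr
        exact ⟨Subgroup.normalizer (R : Set G), normalizer_ne_top hG hR0
          (pSubgroup_ne_top hG (p₁.to_le inf_le_left)), hAR,
          Subgroup.le_normalizer, grow Q₁ p₁ hR₁, grow Q₂ p₂ hR₂⟩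
    set L := Cfsg.piCoreOf π H with hL
    have hLA : A ≤ Subgroup.normalizer (L : Set G) :=
      hAH.trans (Subgroup.le_normalizer.trans (normalizer_le (X := H)))
    have hcop : (Nat.card A).Coprime (Nat.card L) := coprime_of_isPi isPi_piCoreOf
    have hsolv : Group.IsSolvable A ∨ Group.IsSolvable L := Or.inl (MinSimple.isSolvable hG hA.2.1)
    have hHA : A ≤ Subgroup.normalizer (H : Set G) := hAH.trans Subgroup.le_normalizer
    have mem : ∀ Q : Subgroup G, IsPGroup q Q → A ≤ Subgroup.normalizer (Q : Set G) →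
        ∃ S : Sylow q L, H ⊓ Q ≤ (S : Subgroup L).map L.subtype ∧
          A ≤ Subgroup.normalizer (((S : Subgroup L).map L.subtype : Subgroup G) : Set G) := by
      intro Q hQ hQA
      have hn : A ≤ Subgroup.normalizer ((H ⊓ Q : Subgroup G) : Set G) :=
        (le_inf hHA hQA).trans Subgroup.inf_normalizer_le_normalizer_inf
      exact CoprimeAct.exists_invariant_sylow_ge hLA hcop hsolv
        (le_core hA hH hAH inf_le_left (isPi_of_isPGroup hqA (hQ.to_le inf_le_right)) hn)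
        (hQ.to_le inf_le_right) hn
    obtain ⟨S₁, hS₁, hS₁A⟩ := mem Q₁ p₁ n₁
    obtain ⟨S₂, hS₂, hS₂A⟩ := mem Q₂ p₂ n₂
    obtain ⟨c, hc, hcS⟩ := CoprimeAct.invariant_sylow_conj hLA hcop hsolv S₁ S₂ hS₁A hS₂A
    have hcK : (c : G) ∈ K := le_K hG hA (inf_le_right : L ⊓ _ ≤ _)
      (isPi_of_dvd (Subgroup.card_dvd_of_le inf_le_left) isPi_piCoreOf) (Subgroup.mem_inf.2 ⟨c.2, hc⟩)
    have hcN : (c : G) ∈ Subgroup.normalizer (A : Set G) := Subgroup.centralizer_le_normalizer _ hc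
    set Q₁' := Q₁.map (MulAut.conj (c : G)).toMonoidHom with hQ₁'
    have hcH : (c : G) ∈ H := piCoreOf_le c.2
    have hconj : (H ⊓ Q₁).map (MulAut.conj (c : G)).toMonoidHom ≤ H ⊓ Q₁' :=
      le_inf ((Subgroup.map_mono inf_le_left).trans
        (Subgroup.mem_normalizer_iff_map_conj_eq.1 (Subgroup.le_normalizer hcH)).le)
        (Subgroup.map_mono inf_le_right)
    have hsub : (H ⊓ Q₁).map (MulAut.conj (c : G)).toMonoidHom ≤ (S₂ : Subgroup L).map L.subtype := by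
      refine (Subgroup.map_mono hS₁).trans ?_
      rw [← hcS]
      rintro _ ⟨_, ⟨y, hy, rfl⟩, rfl⟩
      exact ⟨MulAut.conj c y, Subgroup.smul_mem_pointwise_smul y _ (S₁ : Subgroup L) hy, rfl⟩
    obtain ⟨Q, hQ, hSQ⟩ := Inv.exists_max (H := ⊤) (A := A) (π := {q})
      (Inv.mem_inv_iff.2 ⟨S₂.isPGroup'.map L.subtype, hS₂A⟩)
    have hnot : ∀ T : Subgroup G, ¬ H ⊓ T ≤ R → H ⊓ T ≠ ⊥ := fun T h h0 => h (h0 ▸ bot_le)
    have big : ∀ T : Subgroup G, R ≤ T → ¬ H ⊓ T ≤ R → Nat.card R < Nat.card (H ⊓ T : Subgroup G) :=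
      fun T hRT hT => lt_of_le_of_ne (Subgroup.card_le_of_le (le_inf hRH hRT)) fun h =>
        hT (Subgroup.eq_of_le_of_card_ge (le_inf hRH hRT) h.ge).ge
    have hA2 : H ⊓ Q₂ ≤ Q ⊓ Q₂ := le_inf (hS₂.trans hSQ) inf_le_right
    have hA1 : (H ⊓ Q₁).map (MulAut.conj (c : G)).toMonoidHom ≤ Q₁' ⊓ Q :=
      le_inf (Subgroup.map_mono inf_le_right) (hsub.trans hSQ)
    have b1 : Nat.card R < Nat.card (Q₁' ⊓ Q : Subgroup G) := by
      refine lt_of_lt_of_le (big Q₁ inf_le_left hH₁) (le_of_eq_of_le ?_ (Subgroup.card_le_of_le hA1))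
      exact (Subgroup.card_map_of_injective (MulAut.conj (c : G)).injective).symm
    have b2 : Nat.card R < Nat.card (Q ⊓ Q₂ : Subgroup G) :=
      lt_of_lt_of_le (big Q₂ inf_le_right hH₂) (Subgroup.card_le_of_le hA2)
    have e1 : H ⊓ Q₁' ≠ ⊥ := fun h => hnot _ hH₁ (by
      have := hconj.trans h.le
      rwa [le_bot_iff, Subgroup.map_eq_bot_iff_of_injective _ (MulAut.conj (c : G)).injective] at this)
    have e2 : H ⊓ Q ≠ ⊥ := fun h => hnot _ hH₂
      (le_bot_iff.1 ((le_inf inf_le_left (hS₂.trans hSQ)).trans h.le))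
    obtain ⟨k₁, hk₁, hQk₁⟩ := ih Q₁' Q (map_conj_mem_max hcN h₁) hQ (by omega) H hH hAH e1 e2
    obtain ⟨k₂, hk₂, hQk₂⟩ := ih Q Q₂ hQ h₂ (by omega) H hH hAH e2 (hnot _ hH₂)
    refine ⟨k₂ * k₁ * c, mul_mem (mul_mem hk₂ hk₁) hcK, ?_⟩
    rw [hQk₂, hQk₁, hQ₁', Subgroup.map_map, Subgroup.map_map]
    congr 1
    ext x
    simp [mul_assoc]

/-- A noncyclic elementary abelian group fixes something in a nontrivial coprime group. -/
theorem exists_fixed {F Q : Subgroup G} [IsMulCommutative F] (hF : ¬ IsCyclic F)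
    (hFQ : F ≤ Subgroup.normalizer (Q : Set G)) (hcop : (Nat.card F).Coprime (Nat.card Q)) (hQ : Q ≠ ⊥) :
    ∃ f ∈ F, f ≠ 1 ∧ Q ⊓ Subgroup.centralizer {f} ≠ ⊥ := by
  by_contra hcon
  push Not at hcon
  refine hQ (le_bot_iff.1 ?_)
  rw [← CoprimeAct.generated_by_centralizers hF hFQ hcop]
  exact iSup₂_le fun f hf => (hcon f hf.1 hf.2).le

/-- Centres of large rank contain large elementary abelian subgroups. -/
theorem exists_elementary {A : Subgroup G} {k : ℕ}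
    (hZ : ¬ Cfsg.RankLE k ↥(A ⊓ Subgroup.centralizer (A : Set G))) :
    ∃ (r : ℕ) (B : Subgroup G), r.Prime ∧ IsMulCommutative B ∧ B ≤ A ∧
      B ≤ Subgroup.centralizer (A : Set G) ∧ (∀ b ∈ B, b ^ r = 1) ∧ r ^ (k + 1) ≤ Nat.card B := by
  simp only [Cfsg.RankLE, Cfsg.PRankLE, not_forall] at hZ
  obtain ⟨r, hr, B, hc, hexp, hcard⟩ := hZ
  haveI := hc
  haveI := Fact.mk hr
  refine ⟨r, B.map (A ⊓ Subgroup.centralizer (A : Set G)).subtype, hr, inferInstance,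
    (Subgroup.map_subtype_le B).trans inf_le_left, (Subgroup.map_subtype_le B).trans inf_le_right, ?_, ?_⟩
  · rintro _ ⟨b, hb, rfl⟩
    rw [← map_pow, hexp b hb, map_one]
  · rw [Subgroup.card_map_of_injective (Subgroup.subtype_injective _)]
    obtain ⟨j, hj⟩ := IsPGroup.iff_card.1 (show IsPGroup r B from fun x =>
      ⟨1, Subtype.ext (by simpa using hexp x x.2)⟩)
    rw [hj, Nat.not_le, Nat.pow_lt_pow_iff_right hr.one_lt] at hcard
    rw [hj]
    exact Nat.pow_le_pow_right hr.pos hcard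

/-- The trivial subgroup is maximal invariant only if it is the only invariant one. -/
theorem eq_of_bot_mem {Q₁ Q₂ : Subgroup G} (h₁ : Q₁ ∈ Cfsg.maxInvSubgroups ⊤ A {q})
    (h₂ : Q₂ ∈ Cfsg.maxInvSubgroups ⊤ A {q}) (h : Q₁ = ⊥) : Q₂ = Q₁ := by
  obtain ⟨p₂, n₂, -⟩ := Inv.mem_max_iff.1 h₂
  exact (Inv.mem_max_iff.1 h₁).2.2 Q₂ p₂ n₂ (h ▸ bot_le)

theorem coprime_of_isPGroup (hqA : ¬ q ∣ Nat.card A) {F Q : Subgroup G} (hF : F ≤ A) (hQ : IsPGroup q Q) :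
    (Nat.card F).Coprime (Nat.card Q) :=
  (coprime_of_isPi (isPi_of_isPGroup hqA hQ)).coprime_dvd_left (Subgroup.card_dvd_of_le hF)

theorem le_centralizer_central {B : Subgroup G} (hBC : B ≤ Subgroup.centralizer (A : Set G)) {b : G}
    (hb : b ∈ B) : A ≤ Subgroup.centralizer ({b} : Set G) := fun a ha =>
  Subgroup.mem_centralizer_singleton_iff.2 (Subgroup.mem_centralizer_iff.1 (hBC hb) a ha)

theorem conj_of_rank_three (hG : Cfsg.IsMinSimpleOddOrder G) (hA : Cfsg.TransitivityHypothesis A)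
    (hqA : ¬ q ∣ Nat.card A) (hZ : ¬ Cfsg.RankLE 2 ↥(A ⊓ Subgroup.centralizer (A : Set G)))
    {Q₁ Q₂ : Subgroup G} (h₁ : Q₁ ∈ Cfsg.maxInvSubgroups ⊤ A {q})
    (h₂ : Q₂ ∈ Cfsg.maxInvSubgroups ⊤ A {q}) :
    ∃ k ∈ Cfsg.piCoreOf (Cfsg.primesNotDvd (Nat.card A)) (Subgroup.centralizer (A : Set G)),
      Q₂ = Q₁.map (MulAut.conj k).toMonoidHom := by
  have triv : Q₂ = Q₁ → ∃ k ∈ Cfsg.piCoreOf (Cfsg.primesNotDvd (Nat.card A))
      (Subgroup.centralizer (A : Set G)), Q₂ = Q₁.map (MulAut.conj k).toMonoidHom := fun h =>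
    ⟨1, one_mem _, by rw [h]; ext x; simp⟩
  by_cases e1 : Q₁ = ⊥
  · exact triv (eq_of_bot_mem h₁ h₂ e1)
  by_cases e2 : Q₂ = ⊥
  · exact triv (eq_of_bot_mem h₂ h₁ e2).symm
  obtain ⟨r, B, hr, hBc, hBA, hBC, hexp, hB⟩ := exists_elementary hZ
  haveI := Fact.mk hr
  obtain ⟨p₁, n₁, -⟩ := Inv.mem_max_iff.1 h₁
  obtain ⟨p₂, n₂, -⟩ := Inv.mem_max_iff.1 h₂
  have hB2 : r ^ 2 ≤ Nat.card B := (Nat.pow_le_pow_right hr.pos (by norm_num)).trans hB
  obtain ⟨b₁, hb₁, hb₁1, hU⟩ := exists_fixed (CTransitivity.not_isCyclic_of_exp hexp hB2)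
    (hBA.trans n₁) (coprime_of_isPGroup hqA hBA p₁) e1
  set U := Q₁ ⊓ Subgroup.centralizer {b₁} with hUdef
  obtain ⟨F, hFB, hb₁F, hF⟩ := CTransitivity.exists_hyperplane hexp hB hb₁ hb₁1
  have hcomm : ∀ x ∈ B, ∀ y ∈ B, x * y = y * x := fun x hx y hy =>
    congrArg Subtype.val (mul_comm' (⟨x, hx⟩ : B) ⟨y, hy⟩)
  have hsub : ∀ F : Subgroup G, F ≤ B → IsMulCommutative F := fun F hF =>
    ⟨⟨fun a b => Subtype.ext (hcomm a (hF a.2) b (hF b.2))⟩⟩
  haveI := hsub F hFB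
  have hBU : B ≤ Subgroup.normalizer (U : Set G) :=
    (le_inf (hBA.trans n₁) ((hBA.trans (le_centralizer_central hBC hb₁)).trans
      Subgroup.le_normalizer)).trans Subgroup.inf_normalizer_le_normalizer_inf
  obtain ⟨b₂, hb₂, hb₂1, hU'⟩ := exists_fixed
    (CTransitivity.not_isCyclic_of_exp (fun x hx => hexp x (hFB hx)) hF) (hFB.trans hBU)
    (coprime_of_isPGroup hqA (hFB.trans hBA) (p₁.to_le inf_le_left)) hU
  set F' := Subgroup.zpowers b₁ ⊔ Subgroup.zpowers b₂ with hF'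
  have hF'B : F' ≤ B := sup_le (Subgroup.zpowers_le.2 hb₁) (Subgroup.zpowers_le.2 (hFB hb₂))
  haveI := hsub F' hF'B
  have hnc : ¬ IsCyclic F' := by
    refine CTransitivity.not_isCyclic_of_exp (fun x hx => hexp x (hF'B hx)) ?_
    have ho : ∀ b ∈ B, b ≠ 1 → orderOf b = r := fun b hb hb1 =>
      orderOf_eq_prime (hexp b hb) hb1
    obtain ⟨j, hj⟩ := IsPGroup.iff_card.1 (show IsPGroup r F' from fun x =>
      ⟨1, Subtype.ext (by simpa using hexp x (hF'B x.2))⟩)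
    rw [hj]
    refine Nat.pow_le_pow_right hr.pos ?_
    by_contra hlt
    have hle : Nat.card F' ≤ Nat.card (Subgroup.zpowers b₁) := by
      rw [hj, Nat.card_zpowers, ho b₁ hb₁ hb₁1]
      exact (Nat.pow_le_pow_right hr.pos (by omega : j ≤ 1)).trans (pow_one r).le
    have hmem : b₂ ∈ Subgroup.zpowers b₁ :=
      (Subgroup.eq_of_le_of_card_ge le_sup_left hle).symm ▸
        Subgroup.mem_sup_right (Subgroup.mem_zpowers b₂)
    refine hb₁F ((Subgroup.zpowers_le.2 hb₂) ?_)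
    rw [Subgroup.eq_of_le_of_card_ge (Subgroup.zpowers_le.2 hmem)
      (by rw [Nat.card_zpowers, Nat.card_zpowers, ho b₁ hb₁ hb₁1, ho b₂ (hFB hb₂) hb₂1])]
    exact Subgroup.mem_zpowers b₁
  obtain ⟨b, hb, hb1, hQ2⟩ := exists_fixed hnc ((hF'B.trans hBA).trans n₂)
    (coprime_of_isPGroup hqA (hF'B.trans hBA) p₂) e2
  refine conj_of_overgroup hG hA hqA h₁ h₂ (centralizer_singleton_ne_top hG hb1)
    (le_centralizer_central hBC (hF'B hb)) (fun h => hU' ?_) (by rwa [inf_comm])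
  refine le_bot_iff.1 (le_trans ?_ h.le)
  intro x hx
  obtain ⟨⟨hxQ, hx1⟩, hx2⟩ := hx
  refine Subgroup.mem_inf.2 ⟨?_, hxQ⟩
  have hle : F' ≤ Subgroup.centralizer ({x} : Set G) :=
    sup_le (Subgroup.zpowers_le.2 (Subgroup.mem_centralizer_singleton_iff.2
      (Subgroup.mem_centralizer_singleton_iff.1 hx1).symm))
      (Subgroup.zpowers_le.2 (Subgroup.mem_centralizer_singleton_iff.2
        (Subgroup.mem_centralizer_singleton_iff.1 hx2).symm))
  exact Subgroup.mem_centralizer_singleton_iff.2 (Subgroup.mem_centralizer_singleton_iff.1 (hle hb)).symm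

theorem conj_of_rank_two (hG : Cfsg.IsMinSimpleOddOrder G) (hA : Cfsg.TransitivityHypothesis A)
    (hqA : ¬ q ∣ Nat.card A) (hZ : ¬ Cfsg.RankLE 1 ↥(A ⊓ Subgroup.centralizer (A : Set G)))
    (hqC : q ∣ Nat.card (Subgroup.centralizer (A : Set G)))
    {Q₁ Q₂ : Subgroup G} (h₁ : Q₁ ∈ Cfsg.maxInvSubgroups ⊤ A {q})
    (h₂ : Q₂ ∈ Cfsg.maxInvSubgroups ⊤ A {q}) :
    ∃ k ∈ Cfsg.piCoreOf (Cfsg.primesNotDvd (Nat.card A)) (Subgroup.centralizer (A : Set G)),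
      Q₂ = Q₁.map (MulAut.conj k).toMonoidHom := by
  obtain ⟨r, B, hr, hBc, hBA, hBC, hexp, hB⟩ := exists_elementary hZ
  haveI := Fact.mk hr
  obtain ⟨x, hx⟩ := exists_prime_orderOf_dvd_card' q hqC
  set Y := Subgroup.zpowers (x : G) with hY
  have hYC : Y ≤ Subgroup.centralizer (A : Set G) := Subgroup.zpowers_le.2 x.2
  have hYne : Y ≠ ⊥ := fun h => hq.out.ne_one (by
    rw [Subgroup.zpowers_eq_bot] at h
    rw [← hx, orderOf_eq_one_iff]
    exact Subtype.ext h)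
  have hYp : IsPGroup q Y := IsPGroup.of_card (n := 1)
    (by rw [Nat.card_zpowers, Subgroup.orderOf_coe, hx, pow_one])
  have hAY : A ≤ Subgroup.normalizer (Y : Set G) :=
    (Subgroup.le_centralizer_iff.1 hYC).trans (Subgroup.centralizer_le_normalizer _)
  obtain ⟨Q, hQ, hYQ⟩ := Inv.exists_max (Inv.mem_inv_iff.2 ⟨hYp, hAY⟩)
  have key : ∀ Q' ∈ Cfsg.maxInvSubgroups ⊤ A {q},
      ∃ k ∈ Cfsg.piCoreOf (Cfsg.primesNotDvd (Nat.card A)) (Subgroup.centralizer (A : Set G)),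
        Q' = Q.map (MulAut.conj k).toMonoidHom := by
    intro Q' hQ'
    by_cases e : Q' = ⊥
    · exact absurd (le_bot_iff.1 (hYQ.trans (eq_of_bot_mem hQ' hQ e ▸ e.le))) hYne
    obtain ⟨p', n', -⟩ := Inv.mem_max_iff.1 hQ'
    obtain ⟨b, hb, hb1, hfix⟩ := exists_fixed (CTransitivity.not_isCyclic_of_exp hexp hB)
      (hBA.trans n') (coprime_of_isPGroup hqA hBA p') e
    refine conj_of_overgroup hG hA hqA hQ hQ' (centralizer_singleton_ne_top hG hb1)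
      (le_centralizer_central hBC hb) (fun h => hYne (le_bot_iff.1 (le_trans ?_ h.le))) (by rwa [inf_comm])
    exact le_inf (hYC.trans (Subgroup.centralizer_le (by simpa using hBA hb))) hYQ
  obtain ⟨k₁, hk₁, e₁⟩ := key Q₁ h₁
  obtain ⟨k₂, hk₂, e₂⟩ := key Q₂ h₂
  refine ⟨k₂ * k₁⁻¹, mul_mem hk₂ (inv_mem hk₁), ?_⟩
  rw [e₁, e₂, Subgroup.map_map]
  congr 1
  ext y
  simp [mul_assoc]

end Cfsg.Agent.OddOrder.TransHyp
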