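/-
Subgroups `A ≤ F(M)` of a maximal subgroup `M` satisfying the transitivity hypothesis
(Bender-Glauberman 8.1).
-/
import Cfsg.Agent.Lib.OddOrder.FittingPair
import Cfsg.Agent.Lib.OddOrder.TransHyp
import Cfsg.Agent.Lib.OddOrder.LocalFactor
import Cfsg.Agent.Lib.Solvable.Coprime
import Cfsg.Agent.S1395

set_option autoImplicit false
set_option linter.style.haveILetI false
set_option linter.unusedSectionVars false

namespace Cfsg.Agent.OddOrder.FitTrans

open scoped commutatorElement
open Cfsg (fittingOf pCoreOf primesNotDvd)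
open FitOf
open MinSimple (IsPi)

variable {G : Type*} [Group G] [Finite G]

theorem isSubnormal_of_nilpotent {F : Type*} [Group F] [Finite F] [Group.IsNilpotent F] :
    ∀ n : ℕ, ∀ H : Subgroup F, H.index ≤ n → H.IsSubnormal := by
  intro n
  induction n with
  | zero =>
    intro H hH
    exact absurd hH (Nat.not_le.2 (Nat.pos_of_ne_zero Subgroup.index_ne_zero_of_finite))
  | succ n ih =>
    intro H hH
    by_cases htop : H = ⊤
    · rw [htop]; exact Subgroup.IsSubnormal.top
    have hlt : H < Subgroup.normalizer (H : Set F) :=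
      Group.normalizerCondition_of_isNilpotent H (lt_top_iff_ne_top.2 htop)
    refine Subgroup.IsSubnormal.step H (Subgroup.normalizer (H : Set F)) hlt.le (ih _ ?_)
      (Subgroup.normal_subgroupOf_of_le_normalizer le_rfl)
    have := Subgroup.index_strictAnti hlt
    omega

theorem isSubnormal_subgroupOf {A F : Subgroup G} [Group.IsNilpotent F] :
    (A.subgroupOf F).IsSubnormal := isSubnormal_of_nilpotent _ _ le_rfl

/-- A fixed point in a coset of a normal subgroup of order prime to `q`. -/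
theorem fixed_lift {X : Type*} [Group X] [Finite X] (K : Subgroup X) [K.Normal] {q : ℕ} [Fact q.Prime]
    (hK : (Nat.card K).Coprime q) {A : Subgroup X} (hA : IsPGroup q A) {y : X}
    (h : ∀ a ∈ A, a * y * a⁻¹ * y⁻¹ ∈ K) : ∃ u ∈ Subgroup.centralizer (A : Set X), y⁻¹ * u ∈ K := by
  let S := {u : X // y⁻¹ * u ∈ K}
  letI act : MulAction A S :=
    { smul := fun a u => ⟨(a : X) * u * (a : X)⁻¹, by
        have e : y⁻¹ * ((a : X) * u * (a : X)⁻¹) =
            y⁻¹ * ((a : X) * y * (a : X)⁻¹ * y⁻¹) * y⁻¹⁻¹ * ((a : X) * (y⁻¹ * u) * (a : X)⁻¹) := by group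
        rw [e]
        exact mul_mem (‹K.Normal›.conj_mem _ (h a a.2) y⁻¹) (‹K.Normal›.conj_mem _ u.2 a)⟩
      one_smul := fun u => Subtype.ext (by
        show ((1 : A) : X) * (u : X) * ((1 : A) : X)⁻¹ = u
        simp)
      mul_smul := fun a b u => Subtype.ext (by
        show ((a * b : A) : X) * (u : X) * ((a * b : A) : X)⁻¹ =
          (a : X) * ((b : X) * u * (b : X)⁻¹) * (a : X)⁻¹
        simp [mul_assoc]) }
  have hScard : Nat.card S = Nat.card K :=
    Nat.card_congr (Equiv.subtypeEquiv (Equiv.mulLeft y⁻¹) fun u => Iff.rfl)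
  obtain ⟨u, hu⟩ := hA.nonempty_fixed_point_of_prime_not_dvd_card S (by
    rw [hScard]
    exact (Nat.Prime.coprime_iff_not_dvd (Fact.out : q.Prime)).1 hK.symm)
  exact ⟨u, Subgroup.mem_centralizer_iff.2 fun a ha =>
    mul_inv_eq_iff_eq_mul.1 (congrArg Subtype.val (hu ⟨a, ha⟩)), u.2⟩

variable {M A : Subgroup G}

theorem le_normalizer_inf_core (hAM : A ≤ M) (q : ℕ) :
    A ≤ Subgroup.normalizer ((A ⊓ pCoreOf q M : Subgroup G) : Set G) :=
  le_normalizer_inf Subgroup.le_normalizer (hAM.trans (le_normalizer_pCoreOf q M))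

/-- The key step: `A` satisfies the transitivity hypothesis. -/
theorem transHyp (hG : Cfsg.IsMinSimpleOddOrder G) (hM : IsCoatom M)
    (h2 : 2 ≤ (Nat.card (fittingOf M)).primeFactors.card) (hAF : A ≤ fittingOf M)
    (hπ : ∀ q : ℕ, q.Prime → q ∣ Nat.card (fittingOf M) → q ∣ Nat.card A)
    (hC : ∀ q : ℕ, q.Prime → q ∣ Nat.card (fittingOf M) →
      Subgroup.centralizer ((A ⊓ pCoreOf q M : Subgroup G) : Set G) ≤ M)
    (hinv : ∀ Y : Subgroup G, Y ≤ M → IsPi (primesNotDvd (Nat.card A)) (Nat.card Y) →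
      A ≤ Subgroup.normalizer (Y : Set G) → Y = ⊥) :
    Cfsg.TransitivityHypothesis A := by
  have hAM : A ≤ M := hAF.trans (fittingOf_le M)
  refine ⟨fun h => ?_, fun h => hM.1 (top_le_iff.1 (h ▸ hAM)), fun X hX hAX => ?_⟩
  · obtain ⟨q, hq, -⟩ := Finset.exists_mem_ne (by omega : 1 < (Nat.card (fittingOf M)).primeFactors.card) 1
    obtain ⟨hqp, hqd, -⟩ := Nat.mem_primeFactors.1 hq
    have := hπ q hqp hqd
    rw [h, Subgroup.card_bot] at this
    exact hqp.not_dvd_one this
  set π := primesNotDvd (Nat.card A) with hπdef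
  refine le_antisymm (sSup_le ?_) (le_sSup (MinSimple.piCoreOf_mem_inv hAX))
  rintro Y ⟨hYX, hYπ, hAY⟩
  haveI : Group.IsSolvable X := MinSimple.isSolvable hG hX
  set K := Cfsg.piCore π X with hKdef
  haveI : K.Normal := Cfsg.piCore_normal π X
  set f := QuotientGroup.mk' K with hf
  haveI : Group.IsSolvable (X ⧸ K) := Group.isSolvable_of_surjective (QuotientGroup.mk'_surjective K)
  set Y' := Y.subgroupOf X with hY'
  have hcopY : (Nat.card A).Coprime (Nat.card Y) := MinSimple.coprime_of_isPi hYπ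
  -- `O_q` of the quotient is trivial for `q ∈ π`
  have hTbot : ∀ q : ℕ, q.Prime → ¬ q ∣ Nat.card A → Cfsg.pCore q (X ⧸ K) = ⊥ := by
    intro q hq hqA
    haveI := Fact.mk hq
    set T := Cfsg.pCore q (X ⧸ K) with hT
    have hle : T.comap f ≤ K := by
      refine le_sSup ⟨(FittingCores.pCore_normal q).comap f, fun r hr hd => ?_⟩
      have hdvd : Nat.card (T.comap f) ∣ Nat.card K * Nat.card T := by
        have e1 := (T.comap f).card_mul_index
        rw [Subgroup.index_comap_of_surjective _ (QuotientGroup.mk'_surjective K)] at e1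
        have e2 := K.card_eq_card_quotient_mul_card_subgroup
        have e3 := T.card_mul_index
        refine dvd_of_eq (Nat.eq_of_mul_eq_mul_right
          (Nat.pos_of_ne_zero (Subgroup.index_ne_zero_of_finite (H := T))) ?_)
        rw [e1, e2, ← e3]
        ring
      rcases hr.dvd_mul.1 (hd.trans hdvd) with h | h
      · exact MinSimple.isPi_piCore π X r hr h
      · rw [Inv.primes_of_isPGroup (FittingCores.pCore_isPGroup q) r hr h]
        exact ⟨hq, hqA⟩
    rw [← Subgroup.map_comap_eq_self_of_surjective (QuotientGroup.mk'_surjective K) T, ← le_bot_iff,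
      ← QuotientGroup.map_mk'_self K]
    exact Subgroup.map_mono hle
  -- the image of `Y` centralizes every `O_q` of the quotient
  have hcent : ∀ q : ℕ, q.Prime →
      Y'.map f ≤ Subgroup.centralizer (Cfsg.pCore q (X ⧸ K) : Set (X ⧸ K)) := by
    intro q hq
    by_cases hqA : q ∣ Nat.card A
    swap
    · rw [hTbot q hq hqA]
      intro x _
      rw [Subgroup.mem_centralizer_iff]
      intro y hy
      rw [SetLike.mem_coe, Subgroup.mem_bot] at hy
      rw [hy, one_mul, mul_one]
    haveI := Fact.mk hq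
    set T := Cfsg.pCore q (X ⧸ K) with hT
    haveI : T.Normal := FittingCores.pCore_normal q
    have hqF : q ∣ Nat.card (fittingOf M) := hqA.trans (Subgroup.card_dvd_of_le hAF)
    obtain ⟨s, hs, hsq⟩ := Finset.exists_mem_ne (by omega : 1 < (Nat.card (fittingOf M)).primeFactors.card) q
    obtain ⟨hsp, hsd, -⟩ := Nat.mem_primeFactors.1 hs
    haveI := Fact.mk hsp
    set As := A ⊓ pCoreOf s M with hAs
    set Aq := A ⊓ pCoreOf q M with hAq
    have hAsX : As ≤ X := inf_le_left.trans hAX
    have hAqX : Aq ≤ X := inf_le_left.trans hAX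
    set Ds := (As.subgroupOf X).map f with hDs
    set Dq := (Aq.subgroupOf X).map f with hDq
    have hDsco : (Nat.card Ds).Coprime q := by
      obtain ⟨k, hk⟩ := IsPGroup.iff_card.1
        ((((isPGroup_pCoreOf s M).to_le inf_le_right : IsPGroup s As).comap_subtype (K := X)).map f)
      exact hk ▸ Nat.Coprime.pow_left k ((Nat.coprime_primes hsp hq).2 hsq)
    have hDqp : IsPGroup q Dq :=
      ((((isPGroup_pCoreOf q M).to_le inf_le_right : IsPGroup q Aq).comap_subtype (K := X)).map f)
    have hDqn : Dq ≤ Subgroup.normalizer (Ds : Set (X ⧸ K)) := by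
      refine (Subgroup.le_centralizer_iff.1 ?_).trans (Subgroup.centralizer_le_normalizer _)
      rintro _ ⟨a, ha, rfl⟩
      rw [Subgroup.mem_centralizer_iff]
      rintro _ ⟨b, hb, rfl⟩
      rw [← map_mul, ← map_mul]
      congr 1
      exact Subtype.ext (Subgroup.mem_centralizer_iff.1
        (pCoreOf_le_centralizer hsp hq hsq M ha.2) (b : G) hb.2)
    have hq2 : q ≠ 2 := by
      rintro rfl
      obtain ⟨k, hk⟩ := hG.1.of_dvd_nat (hqA.trans A.card_subgroup_dvd_card)
      omega
    have hKco : (Nat.card K).Coprime q :=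
      Nat.Coprime.symm ((hq.coprime_iff_not_dvd).2 fun hd => (MinSimple.isPi_piCore π X q hq hd).2 hqA)
    have hTD : T ≤ Subgroup.centralizer (Ds : Set (X ⧸ K)) := by
      refine CTransitivity.le_centralizer_of_fixed hq2 hDqp hDsco hDqn T (FittingCores.pCore_isPGroup q)
        Subgroup.le_normalizer_of_normal Subgroup.le_normalizer_of_normal ?_
      intro t ht
      obtain ⟨y, rfl⟩ := QuotientGroup.mk'_surjective K t
      obtain ⟨u, huA, huy⟩ := fixed_lift K hKco
        (((isPGroup_pCoreOf q M).to_le inf_le_right : IsPGroup q Aq).comap_subtype (K := X)) (y := y)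
        (fun a ha => by
          rw [← QuotientGroup.eq_one_iff]
          show f (a * y * a⁻¹ * y⁻¹) = 1
          rw [map_mul, map_mul, map_mul, map_inv, map_inv,
            Subgroup.mem_centralizer_iff.1 ht.2 (f a) ⟨a, ha, rfl⟩, mul_inv_cancel_right, mul_inv_cancel])
      have hfu : f u = f y := (QuotientGroup.eq.2 huy).symm
      have huM : (u : G) ∈ M := hC q hq hqF (Subgroup.mem_centralizer_iff.2 fun a ha =>
        congrArg Subtype.val (Subgroup.mem_centralizer_iff.1 huA ⟨a, hAqX ha⟩ ha))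
      rw [Subgroup.mem_centralizer_iff]
      rintro _ ⟨a, ha, rfl⟩
      have haS : (a : G) ∈ pCoreOf s M := ha.2
      set c := ⁅a, u⁆ with hc
      have hcS : ((c : X) : G) ∈ pCoreOf s M := by
        have e : ((c : X) : G) = (a : G) * ((u : G) * (a : G)⁻¹ * (u : G)⁻¹) := by
          rw [hc, commutatorElement_def]; simp [mul_assoc]
        rw [e]
        exact mul_mem haS ((Subgroup.mem_normalizer_iff.1 (le_normalizer_pCoreOf s M huM) _).1 (inv_mem haS))
      have hcT : f c ∈ T := by
        rw [hc, map_commutatorElement, commutatorElement_def, hfu]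
        exact mul_mem (‹T.Normal›.conj_mem _ ht.1 (f a)) (inv_mem ht.1)
      have hc1 : f c = 1 := by
        refine PBasic.eq_one_of_isPGroup_of_coprime (FittingCores.pCore_isPGroup q) hcT ?_
        refine Nat.Coprime.coprime_dvd_left (orderOf_map_dvd f c) ?_
        obtain ⟨k, hk⟩ := IsPGroup.iff_orderOf.1 (isPGroup_pCoreOf s M) ⟨_, hcS⟩
        rw [Subgroup.orderOf_mk, Subgroup.orderOf_coe] at hk
        exact hk ▸ Nat.Coprime.pow_left k ((Nat.coprime_primes hsp hq).2 hsq)
      rw [hc, map_commutatorElement, hfu, commutatorElement_eq_one_iff_mul_comm] at hc1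
      exact hc1
    -- `Y = [Y, As]`
    have hAsY : As ≤ Subgroup.normalizer (Y : Set G) := inf_le_left.trans hAY
    have hfix : Y ⊓ Subgroup.centralizer (As : Set G) = ⊥ := by
      refine hinv _ (inf_le_right.trans (hC s hsp hsd))
        (MinSimple.isPi_of_dvd (Subgroup.card_dvd_of_le inf_le_left) hYπ) ?_
      exact le_normalizer_inf hAY ((le_normalizer_inf_core hAM s).trans (normalizer_le_normalizer_centralizer _))
    have hY : ⁅Y, As⁆ = Y := by
      have h := CoprimeAct.commutator_sup_centralizer hAsY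
        (hcopY.coprime_dvd_left (Subgroup.card_dvd_of_le inf_le_left))
        (Or.inr (Group.isSolvable_of_isSolvable_injective (Subgroup.inclusion_injective hYX)))
      rwa [hfix, sup_bot_eq] at h
    have hle : ⁅Y, As⁆ ≤ ((Subgroup.centralizer (T : Set (X ⧸ K))).comap f).map X.subtype := by
      rw [Subgroup.commutator_le]
      intro y hy a ha
      refine ⟨⁅(⟨y, hYX hy⟩ : X), (⟨a, hAsX ha⟩ : X)⁆, ?_, by simp [commutatorElement_def]⟩
      rw [SetLike.mem_coe, Subgroup.mem_comap, map_commutatorElement, commutatorElement_def]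
      have hfa : f ⟨a, hAsX ha⟩ ∈ Subgroup.centralizer (T : Set (X ⧸ K)) :=
        Subgroup.le_centralizer_iff.1 hTD ⟨⟨a, hAsX ha⟩, ha, rfl⟩
      exact mul_mem ((inferInstance : (Subgroup.centralizer (T : Set (X ⧸ K))).Normal).conj_mem _ hfa _)
        (inv_mem hfa)
    rintro _ ⟨y, hy, rfl⟩
    have hy' : (y : G) ∈ ⁅Y, As⁆ := by rw [hY]; exact hy
    obtain ⟨z, hz, hzy⟩ := hle hy'
    rw [← Subtype.ext hzy]
    exact hz
  intro y hy
  refine ⟨⟨y, hYX hy⟩, ?_, rfl⟩
  rw [SetLike.mem_coe, ← QuotientGroup.eq_one_iff]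
  set w := f ⟨y, hYX hy⟩ with hw
  have hwC : w ∈ Subgroup.centralizer (Cfsg.fittingSubgroup (X ⧸ K) : Set (X ⧸ K)) := by
    have hle : Cfsg.fittingSubgroup (X ⧸ K) ≤ Subgroup.centralizer ({w} : Set (X ⧸ K)) := by
      rw [FittingCores.fitting_eq_iSup_pCore]
      exact iSup_le fun r x hx => Subgroup.mem_centralizer_singleton_iff.2
        (Subgroup.mem_centralizer_iff.1 (hcent r r.2 ⟨⟨y, hYX hy⟩, hy, rfl⟩) x hx)
    exact Subgroup.mem_centralizer_iff.2 fun x hx => Subgroup.mem_centralizer_singleton_iff.1 (hle hx)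
  have hwF := FittingCores.centralizer_fitting_le hwC
  show w = 1
  by_contra hne
  obtain ⟨r, hr, hrd⟩ := Nat.exists_prime_and_dvd (mt orderOf_eq_one_iff.1 hne : orderOf w ≠ 1)
  haveI := Fact.mk hr
  have hrA : ¬ r ∣ Nat.card A := by
    refine (hYπ r hr ?_).2
    refine hrd.trans ((orderOf_map_dvd f _).trans ?_)
    rw [Subgroup.orderOf_mk]
    exact Subgroup.orderOf_dvd_natCard Y hy
  haveI := FittingCores.fitting_nilpotent (G := X ⧸ K)
  obtain ⟨P⟩ : Nonempty (Sylow r (Cfsg.fittingSubgroup (X ⧸ K))) := inferInstance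
  have hle := FittingCores.sylow_le_pCore_of_nilpotent (G := X ⧸ K) FittingCores.fitting_normal r P
  rw [hTbot r hr hrA, le_bot_iff, Subgroup.map_eq_bot_iff_of_injective _ (Subgroup.subtype_injective _)] at hle
  exact P.ne_bot_of_dvd_card (hrd.trans (Subgroup.orderOf_dvd_natCard _ hwF)) hle

/-- Every invariant subgroup of coprime order is trivial. -/
theorem invariant_eq_bot (hG : Cfsg.IsMinSimpleOddOrder G) (hM : IsCoatom M)
    (hT : Cfsg.TransitivityHypothesis A) (hAF : A ≤ fittingOf M)
    (hπ : ∀ q : ℕ, q.Prime → q ∣ Nat.card (fittingOf M) → q ∣ Nat.card A)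
    (hZ : ¬ Cfsg.RankLE 2 ↥(A ⊓ Subgroup.centralizer (A : Set G)))
    {Y : Subgroup G} (hY : IsPi (primesNotDvd (Nat.card A)) (Nat.card Y))
    (hAY : A ≤ Subgroup.normalizer (Y : Set G)) : Y = ⊥ := by
  set F := fittingOf M with hF
  haveI := fittingOf_nilpotent M
  have hAne : A ≠ ⊥ := hT.1
  have hFne : F ≠ ⊥ := fun h => hAne (le_bot_iff.1 (h ▸ hAF))
  haveI : Group.IsSolvable M := MinSimple.isSolvable hG hM.1
  have hNF : Subgroup.normalizer (F : Set G) = M :=
    FitPair.normalizer_eq hG hM (fittingOf_le M) (le_normalizer_fittingOf M) hFne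
  have hKF : Cfsg.piCoreOf (primesNotDvd (Nat.card A)) (Subgroup.centralizer (F : Set G)) = ⊥ := by
    refine Subgroup.card_eq_one.1 (not_not.1 fun hne => ?_)
    obtain ⟨r, hr, hrd⟩ := Nat.exists_prime_and_dvd hne
    have hle : Subgroup.centralizer (F : Set G) ≤ F :=
      le_trans (le_inf ((Subgroup.centralizer_le_normalizer _).trans hNF.le) le_rfl)
        (inf_centralizer_fittingOf_le M)
    exact (MinSimple.isPi_piCoreOf r hr hrd).2
      (hπ r hr (hrd.trans (Subgroup.card_dvd_of_le (MinSimple.piCoreOf_le.trans hle))))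
  have key : ∀ q : ℕ, q.Prime → ¬ q ∣ Nat.card A → ∀ W : Subgroup G, IsPGroup q W →
      A ≤ Subgroup.normalizer (W : Set G) → W = ⊥ := by
    intro q hq hqA W hW hAW
    haveI := Fact.mk hq
    obtain ⟨-, htr, hsub, -⟩ := S1395.result hG A hT q hq hqA F
      (fun h => hM.1 (top_le_iff.1 (h ▸ fittingOf_le M))) hπ hAF isSubnormal_subgroupOf
      (fun Q h Q' h' => TransHyp.conj_of_rank_three hG hT hqA hZ h h')
    obtain ⟨Q, hQ, -⟩ := Inv.exists_max (H := ⊤) (A := F) (π := {q})
      (Inv.mem_inv_iff.2 ⟨IsPGroup.of_bot, fun a _ => Subgroup.mem_normalizer_iff.2 fun x => by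
        simp only [Subgroup.mem_bot]
        constructor
        · rintro rfl; group
        · intro h
          simpa using h⟩)
    obtain ⟨hQp, hFQ, -⟩ := Inv.mem_max_iff.1 hQ
    have hMQ : M ≤ Subgroup.normalizer (Q : Set G) := by
      intro m hm
      rw [Subgroup.mem_normalizer_iff_map_conj_eq]
      obtain ⟨k, hk, hQk⟩ := htr Q hQ _ (TransHyp.map_conj_mem_max (hNF.ge hm) hQ)
      rw [hKF, Subgroup.mem_bot] at hk
      show Q.map (MulAut.conj m).toMonoidHom = Q
      rw [hQk, hk]
      ext x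
      simp
    have hQ1 : Q = ⊥ := by
      by_contra hne
      have hN := (hM.le_iff.1 hMQ).resolve_left
        (MinSimple.normalizer_ne_top hG hne (MinSimple.pSubgroup_ne_top hG hQp))
      haveI := hQp.isNilpotent
      have hQF : Q ≤ F := le_fittingOf (hN ▸ Subgroup.le_normalizer) hMQ
      obtain ⟨k, hk, hk'⟩ := (haveI := (Subgroup.nontrivial_iff_ne_bot _).2 hne; hQp.nontrivial_iff_card.1 inferInstance)
      exact hqA (hπ q hq ((hk' ▸ dvd_pow_self q hk.ne').trans (Subgroup.card_dvd_of_le hQF)))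
    exact (Inv.mem_max_iff.1 (hsub hQ)).2.2 W hW hAW (hQ1 ▸ bot_le) |>.trans hQ1
  haveI : Group.IsSolvable A := MinSimple.isSolvable hG hT.2.1
  by_contra hne
  obtain ⟨q, hq, hqd⟩ := Nat.exists_prime_and_dvd (fun h => hne (Subgroup.card_eq_one.1 h))
  haveI := Fact.mk hq
  obtain ⟨T, -, hTA⟩ := CoprimeAct.exists_invariant_sylow_ge hAY (MinSimple.coprime_of_isPi hY)
    (Or.inl inferInstance) (U := ⊥) bot_le (IsPGroup.of_bot (p := q))
    (fun a _ => Subgroup.mem_normalizer_iff.2 fun x => by
      simp only [Subgroup.mem_bot]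
      constructor
      · rintro rfl; group
      · intro h
        simpa using h)
  have := key q hq (hY q hq hqd).2 _ (T.isPGroup'.map _) hTA
  exact T.ne_bot_of_dvd_card hqd ((Subgroup.map_eq_bot_iff_of_injective _ Y.subtype_injective).1 this)

end Cfsg.Agent.OddOrder.FitTrans
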