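/-
Invariant p'-subgroups of a solvable group of p-length one.
-/
import Cfsg.Agent.Lib.Classification.Transitivity
import Cfsg.Agent.Lib.LocalEven.OmegaOne
import Cfsg.Prelude.Def_Local

set_option autoImplicit false

namespace Cfsg.Agent.OddOrder.PLengthOne

open scoped commutatorElement

variable {G : Type*} [Group G] [Finite G] {p : ℕ} [hp : Fact p.Prime]

/-- If `G` has `p`-length at most one, a `p`-subgroup and a `p'`-subgroup normalized by it commute modulo
`O_{p'}`. -/
theorem commutator_mem (hl : Cfsg.PLengthLE p 1 G) {A D : Subgroup G} (hA : IsPGroup p A)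
    (hD : (Nat.card D).Coprime p) (hAD : A ≤ Subgroup.normalizer (D : Set G)) {a d : G} (ha : a ∈ A)
    (hd : d ∈ D) : ⁅a, d⁆ ∈ Cfsg.pPrimeCore p G := by
  have key : ∀ U₀ : {H : Subgroup G // H.Normal}, U₀.1 = ⊥ → ∀ (U₁ : Subgroup G) [U₁.Normal],
      (haveI := U₀.2; U₁ = (Cfsg.pPrimeCore p (G ⧸ U₀.1)).comap (QuotientGroup.mk' U₀.1)) →
      U₁ ≤ Cfsg.pPrimeCore p G := by
    rintro ⟨_, hn⟩ rfl U₁ _ rfl
    refine AxB.le_pPrimeCore inferInstance ?_
    have hinj : Function.Injective (QuotientGroup.mk' (⊥ : Subgroup G)) := by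
      rw [← MonoidHom.ker_eq_bot_iff, QuotientGroup.ker_mk']
    rw [← Subgroup.card_map_of_injective hinj,
      Subgroup.map_comap_eq_self_of_surjective (QuotientGroup.mk'_surjective _)]
    exact FittingCores.pPrimeCore_coprime p
  set U₁ := (Cfsg.upperPSeries p G 1).1 with hU₁
  set U₂ := (Cfsg.upperPSeries p G 2).1 with hU₂
  haveI n1 : U₁.Normal := (Cfsg.upperPSeries p G 1).2
  haveI n2 : U₂.Normal := (Cfsg.upperPSeries p G 2).2
  have e1 : U₁ ≤ Cfsg.pPrimeCore p G := key (Cfsg.upperPSeries p G 0) rfl U₁ rfl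
  have e2 : U₂ = (Cfsg.pCore p (G ⧸ U₁)).comap (QuotientGroup.mk' U₁) := rfl
  have e3 : (Cfsg.pPrimeCore p (G ⧸ U₂)).comap (QuotientGroup.mk' U₂) = ⊤ := hl
  have haU : a ∈ U₂ := by
    rw [← QuotientGroup.eq_one_iff]
    have hmem : QuotientGroup.mk' U₂ a ∈ Cfsg.pPrimeCore p (G ⧸ U₂) := by
      rw [← Subgroup.mem_comap, e3]; trivial
    exact PBasic.eq_one_of_isPGroup_of_coprime (p := p) (hA.map (QuotientGroup.mk' U₂)) ⟨a, ha, rfl⟩
      (PBasic.coprime_orderOf_of_mem (FittingCores.pPrimeCore_coprime p) hmem)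
  apply e1
  rw [← QuotientGroup.eq_one_iff]
  set c := ⁅a, d⁆ with hc
  have hcD : c ∈ D := by
    rw [hc, commutatorElement_def]
    exact mul_mem ((Subgroup.mem_normalizer_iff.1 (hAD ha) d).1 hd) (inv_mem hd)
  have hcU : c ∈ U₂ := by
    rw [hc, commutatorElement_def, mul_assoc, mul_assoc, ← mul_assoc d]
    exact mul_mem haU (n2.conj_mem _ (inv_mem haU) d)
  rw [e2] at hcU
  exact PBasic.eq_one_of_isPGroup_of_coprime (p := p) (FittingCores.pCore_isPGroup p)
    (Subgroup.mem_comap.1 hcU) (Nat.Coprime.coprime_dvd_left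
      ((orderOf_map_dvd (QuotientGroup.mk' U₁) c).trans (Subgroup.orderOf_dvd_natCard D hcD)) hD)

/-- In a solvable group of `p`-length one, if the elements of order dividing `p` which centralize the
`p`-group `A` lie in `A`, every `A`-invariant `p'`-subgroup lies in `O_{p'}`. -/
theorem le_pPrimeCore [Group.IsSolvable G] (hp2 : p ≠ 2) (hl : Cfsg.PLengthLE p 1 G) {A D : Subgroup G}
    (hA : IsPGroup p A) (hcent : ∀ y ∈ Subgroup.centralizer (A : Set G), y ^ p = 1 → y ∈ A)
    (hD : (Nat.card D).Coprime p) (hAD : A ≤ Subgroup.normalizer (D : Set G)) :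
    D ≤ Cfsg.pPrimeCore p G := by
  haveI hKn : (Cfsg.pPrimeCore p G).Normal := FittingCores.pPrimeCore_normal p
  set f := QuotientGroup.mk' (Cfsg.pPrimeCore p G) with hf
  set R := Cfsg.pCore p (G ⧸ Cfsg.pPrimeCore p G) with hR
  haveI hRn : R.Normal := FittingCores.pCore_normal p
  have hfx : ∀ g : G, f g = 1 ↔ g ∈ Cfsg.pPrimeCore p G := fun g => QuotientGroup.eq_one_iff g
  have hcomm : ∀ a ∈ A, ∀ d ∈ D, f a * f d = f d * f a := fun a ha d hd => by
    have h := (hfx _).2 (commutator_mem hl hA hD hAD ha hd)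
    rwa [map_commutatorElement, commutatorElement_eq_one_iff_mul_comm] at h
  have hfix : R ⊓ Subgroup.centralizer ((A.map f : Subgroup _) : Set _) ≤
      Subgroup.centralizer ((D.map f : Subgroup _) : Set _) := by
    set T := R ⊓ Subgroup.centralizer ((A.map f : Subgroup _) : Set _) with hT
    intro t₀ ht₀
    rw [Subgroup.mem_centralizer_iff]
    rintro _ ⟨d, hd, rfl⟩
    refine LEOmega.commute_of_omega hp2 (x := f d) (Nat.Coprime.coprime_dvd_left
      ((orderOf_map_dvd f d).trans (Subgroup.orderOf_dvd_natCard D hd)) hD) _ T le_rfl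
      ((FittingCores.pCore_isPGroup p).to_le inf_le_left) ?_ ?_ t₀ ht₀
    · refine Subgroup.inf_normalizer_le_normalizer_inf (Subgroup.mem_inf.2
        ⟨Subgroup.le_normalizer_of_normal (Subgroup.mem_top _), Subgroup.le_normalizer ?_⟩)
      rw [Subgroup.mem_centralizer_iff]
      rintro _ ⟨a, ha, rfl⟩
      exact hcomm a ha d hd
    intro q hq hqp
    obtain ⟨hqR, hqA⟩ := Subgroup.mem_inf.1 hq
    let S := {y : G // f y = q}
    letI act : MulAction A S :=
      { smul := fun a y => ⟨(a : G) * y * (a : G)⁻¹, by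
          rw [map_mul, map_mul, map_inv, y.2, Subgroup.mem_centralizer_iff.1 hqA (f a) ⟨a, a.2, rfl⟩,
            mul_inv_cancel_right]⟩
        one_smul := fun y => Subtype.ext (by
          show ((1 : A) : G) * (y : G) * ((1 : A) : G)⁻¹ = y
          simp)
        mul_smul := fun a b y => Subtype.ext (by
          show ((a * b : A) : G) * (y : G) * ((a * b : A) : G)⁻¹ =
            (a : G) * ((b : G) * y * (b : G)⁻¹) * (a : G)⁻¹
          simp [mul_assoc]) }
    obtain ⟨y₀, hy₀⟩ := QuotientGroup.mk'_surjective (Cfsg.pPrimeCore p G) q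
    have hScard : Nat.card S = Nat.card (Cfsg.pPrimeCore p G) :=
      Nat.card_congr (Equiv.subtypeEquiv (Equiv.mulLeft y₀⁻¹) fun y => by
        rw [Equiv.coe_mulLeft, ← hfx, map_mul, map_inv, inv_mul_eq_one, eq_comm]
        rw [hf, hy₀])
    obtain ⟨y, hy⟩ := hA.nonempty_fixed_point_of_prime_not_dvd_card S (by
      rw [hScard]
      exact (Nat.Prime.coprime_iff_not_dvd hp.out).1 (FittingCores.pPrimeCore_coprime p).symm)
    have hyC : (y : G) ∈ Subgroup.centralizer (A : Set G) := Subgroup.mem_centralizer_iff.2 fun a ha => by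
      have h := congrArg Subtype.val (hy ⟨a, ha⟩)
      exact mul_inv_eq_iff_eq_mul.1 h
    obtain ⟨u, v, huv, hu, hv, ⟨k, hk⟩, hvc⟩ := PBasic.exists_pPart_mul (p := p) (y : G)
    have huC : u ∈ Subgroup.centralizer (A : Set G) := Subgroup.zpowers_le.2 hyC hu
    have hvq : f v ∈ R := by
      obtain ⟨i, hi⟩ := Subgroup.mem_zpowers_iff.1 hv
      rw [← hi, map_zpow, y.2]
      exact R.zpow_mem hqR i
    have hv1 : f v = 1 := PBasic.eq_one_of_isPGroup_of_coprime (FittingCores.pCore_isPGroup p) hvq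
      (Nat.Coprime.coprime_dvd_left (orderOf_map_dvd f v) hvc)
    have hqu : q = f u := by rw [← y.2, ← huv, map_mul, hv1, mul_one]
    have hup : u ^ p = 1 := by
      have hm : u ^ p ∈ Cfsg.pPrimeCore p G := by rw [← hfx, map_pow, ← hqu, hqp]
      refine orderOf_eq_one_iff.1 (Nat.eq_one_of_dvd_coprimes
        (Nat.Coprime.pow_left k (PBasic.coprime_orderOf_of_mem (FittingCores.pPrimeCore_coprime p) hm).symm)
        ?_ dvd_rfl)
      exact hk ▸ orderOf_pow_dvd p
    rw [hqu]
    exact (hcomm u (hcent u huC hup) d hd).symm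
  have hDR : R ≤ Subgroup.centralizer ((D.map f : Subgroup _) : Set _) :=
    CTransitivity.le_centralizer_of_fixed hp2 (hA.map f)
      (Nat.Coprime.coprime_dvd_left (D.card_map_dvd f) hD)
      ((Subgroup.map_mono hAD).trans (Subgroup.le_normalizer_map f)) R (FittingCores.pCore_isPGroup p)
      Subgroup.le_normalizer_of_normal Subgroup.le_normalizer_of_normal hfix
  intro d hd
  rw [← hfx]
  have hdR : f d ∈ R := FittingCores.centralizer_pCore_le hp.out
    (FittingCores.pPrimeCore_quotient_eq_bot p _ rfl)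
    (Subgroup.mem_centralizer_iff.2 fun r hr =>
      (Subgroup.mem_centralizer_iff.1 (hDR hr) (f d) ⟨d, hd, rfl⟩).symm)
  exact PBasic.eq_one_of_isPGroup_of_coprime (FittingCores.pCore_isPGroup p) hdR
    (Nat.Coprime.coprime_dvd_left ((orderOf_map_dvd f d).trans (Subgroup.orderOf_dvd_natCard D hd)) hD)

/-- In a group of `p`-length one, `O_{p'}` times a Sylow `p`-subgroup is normal. -/
theorem sup_sylow_normal (hl : Cfsg.PLengthLE p 1 G) (S : Sylow p G) :
    (Cfsg.pPrimeCore p G ⊔ (S : Subgroup G)).Normal := by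
  set U₁ := (Cfsg.upperPSeries p G 1).1 with hU₁
  set U₂ := (Cfsg.upperPSeries p G 2).1 with hU₂
  haveI n1 : U₁.Normal := (Cfsg.upperPSeries p G 1).2
  haveI n2 : U₂.Normal := (Cfsg.upperPSeries p G 2).2
  haveI := FittingCores.pPrimeCore_normal (G := G) p
  have e1 : U₁ ≤ Cfsg.pPrimeCore p G := by
    refine AxB.le_pPrimeCore n1 ?_
    haveI : (Cfsg.upperPSeries p G 0).1.Normal := (Cfsg.upperPSeries p G 0).2
    have e0 : (Cfsg.upperPSeries p G 0).1 = ⊥ := rfl
    have hinj : Function.Injective (QuotientGroup.mk' (Cfsg.upperPSeries p G 0).1) := by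
      rw [← MonoidHom.ker_eq_bot_iff, QuotientGroup.ker_mk', e0]
    have e : U₁ = (Cfsg.pPrimeCore p (G ⧸ (Cfsg.upperPSeries p G 0).1)).comap
        (QuotientGroup.mk' (Cfsg.upperPSeries p G 0).1) := rfl
    rw [← Subgroup.card_map_of_injective hinj, e,
      Subgroup.map_comap_eq_self_of_surjective (QuotientGroup.mk'_surjective _)]
    exact FittingCores.pPrimeCore_coprime p
  have e2 : U₂ = (Cfsg.pCore p (G ⧸ U₁)).comap (QuotientGroup.mk' U₁) := rfl
  have e3 : (Cfsg.pPrimeCore p (G ⧸ U₂)).comap (QuotientGroup.mk' U₂) = ⊤ := hl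
  have hSU : (S : Subgroup G) ≤ U₂ := by
    intro a ha
    rw [← QuotientGroup.eq_one_iff]
    have hmem : QuotientGroup.mk' U₂ a ∈ Cfsg.pPrimeCore p (G ⧸ U₂) := by
      rw [← Subgroup.mem_comap, e3]; trivial
    exact PBasic.eq_one_of_isPGroup_of_coprime (p := p) (S.isPGroup'.map (QuotientGroup.mk' U₂))
      ⟨a, ha, rfl⟩ (PBasic.coprime_orderOf_of_mem (FittingCores.pPrimeCore_coprime p) hmem)
  have hUS : U₂ ≤ U₁ ⊔ (S : Subgroup G) := by
    rw [e2]
    refine (Subgroup.comap_mono (PBasic.pCore_le_sylow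
      (S.mapSurjective (QuotientGroup.mk'_surjective U₁)))).trans (le_of_eq ?_)
    rw [Sylow.coe_mapSurjective, Subgroup.comap_map_eq, QuotientGroup.ker_mk', sup_comm]
  have h : Cfsg.pPrimeCore p G ⊔ (S : Subgroup G) = Cfsg.pPrimeCore p G ⊔ U₂ :=
    le_antisymm (sup_le_sup_left hSU _)
      (sup_le le_sup_left (hUS.trans (sup_le_sup_right e1 _)))
  rw [h]
  exact Subgroup.sup_normal _ _

end Cfsg.Agent.OddOrder.PLengthOne
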