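/-
First part of the uniqueness theorem (Bender-Glauberman 9.1).
-/
import Cfsg.Agent.Lib.OddOrder.LocalFactor
import Cfsg.Agent.Lib.OddOrder.OmegaCentral
import Cfsg.Agent.Lib.OddOrder.MinSimple
import Cfsg.Agent.Lib.OddOrder.FittingOf
import Cfsg.Agent.Lib.OddOrder.TransHyp
import Cfsg.Agent.S1395
import Cfsg.Agent.S1396
import Cfsg.Agent.S1894

set_option autoImplicit false
set_option linter.style.haveILetI false
set_option linter.unusedSectionVars false

namespace Cfsg.Agent.OddOrder.Uniq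

open LocalFactor

variable {G : Type*} [Group G] [Finite G] {p : ℕ} [hp : Fact p.Prime]

theorem ne_two_of_dvd (hG : Cfsg.IsMinSimpleOddOrder G) {n : ℕ} (hn : n ∣ Nat.card G) : n ≠ 2 := by
  rintro rfl
  obtain ⟨k, hk⟩ := hG.1.of_dvd_nat hn
  omega

theorem exists_maximal_ge {X : Subgroup G} (hX : X ≠ ⊤) : ∃ L : Subgroup G, IsCoatom L ∧ X ≤ L :=
  (eq_top_or_exists_le_coatom X).resolve_left hX

theorem isSolvable_of_coatom (hG : Cfsg.IsMinSimpleOddOrder G) {M : Subgroup G} (hM : IsCoatom M) :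
    Group.IsSolvable M := MinSimple.isSolvable hG hM.1

/-- A Sylow subgroup of rank at least three has a self-centralizing normal abelian subgroup of rank at
least three. -/
theorem exists_scn_three (hp2 : p ≠ 2) (P : Sylow p G) (hr : ¬ Cfsg.PRankLE p 2 ↥(P : Subgroup G)) :
    ∃ A : Subgroup G, IsPGroup p A ∧ IsMulCommutative A ∧ Cfsg.IsSCN (P : Subgroup G) A ∧
      ¬ Cfsg.PRankLE p 2 A := by
  set S := (P : Subgroup G) with hS
  have hSp : IsPGroup p S := P.isPGroup'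
  unfold Cfsg.PRankLE at hr
  push Not at hr
  obtain ⟨F, hFc, hFp, hF⟩ := hr
  obtain ⟨A₀, hA₀n, hA₀e, -, hA₀3⟩ := OmegaCen.exists_normal_elementary_three hp2 hSp F hFc hFp hF ⊥
    ⟨inferInstance, fun a ha => by rw [Subgroup.mem_bot.1 ha, one_pow]⟩
  haveI := hA₀n
  obtain ⟨A, hAn, hA₀A, -, -, hAc⟩ := S1894.result hSp ⊤ A₀ le_top hA₀e.1
  rw [top_inf_eq] at hAc
  haveI := hAn
  have hAcomm : IsMulCommutative A := .of_setLike_mul_comm fun a ha b hb => by
    have hb' : b ∈ Subgroup.centralizer (A : Set S) := by rw [hAc]; exact hb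
    exact Subgroup.mem_centralizer_iff.1 hb' a ha
  refine ⟨A.map S.subtype, (hSp.to_subgroup A).map _, inferInstance,
    ⟨Subgroup.map_subtype_le _, AxB.le_normalizer_map_subtype hAn, ?_⟩, fun h => ?_⟩
  · refine le_antisymm ?_ (le_inf (Subgroup.map_subtype_le _) (Subgroup.le_centralizer _))
    rintro x ⟨hx, hxc⟩
    refine ⟨⟨x, hx⟩, ?_, rfl⟩
    rw [← hAc]
    exact Subgroup.mem_centralizer_iff.2 fun y hy =>
      Subtype.ext (Subgroup.mem_centralizer_iff.1 hxc _ ⟨y, hy, rfl⟩)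
  · have hle : A₀.map S.subtype ≤ A.map S.subtype := Subgroup.map_mono hA₀A
    haveI := hA₀e.1
    have := h ((A₀.map S.subtype).subgroupOf (A.map S.subtype)) inferInstance (by
      intro x hx
      obtain ⟨a, ha, hax⟩ := hx
      refine Subtype.ext ?_
      rw [SubmonoidClass.coe_pow, OneMemClass.coe_one]
      have hx' : (x : G) = S.subtype a := hax.symm
      rw [hx', ← map_pow, hA₀e.2 a ha, map_one])
    rw [Nat.card_congr (Subgroup.subgroupOfEquivOfLe hle).toEquiv,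
      Subgroup.card_map_of_injective S.subtype_injective] at this
    exact absurd ((Nat.pow_le_pow_iff_right hp.out.one_lt).1 (hA₀3.trans this)) (by omega)

theorem mem_primesNotDvd_iff {A : Subgroup G} (hA : IsPGroup p A) (hA1 : A ≠ ⊥) {q : ℕ} (hq : q.Prime) :
    ¬ q ∣ Nat.card A ↔ q ≠ p := by
  obtain ⟨n, hn⟩ := IsPGroup.iff_card.1 hA
  have hn0 : n ≠ 0 := fun h => hA1 (Subgroup.card_eq_one.1 (by simpa [h] using hn))
  rw [hn]
  constructor
  · rintro h rfl
    exact h (dvd_pow_self q hn0)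
  · exact fun h hd => h ((Nat.prime_dvd_prime_iff_eq hq hp.out).1 (hq.dvd_of_dvd_pow hd))

/-- For `A` in `SCN₃(P)`: a subgroup containing every `P`-invariant `p'`-subgroup contains every
`A`-invariant one. -/
theorem invariant_le_of_scn_three (hG : Cfsg.IsMinSimpleOddOrder G) (P : Sylow p G) {A K : Subgroup G}
    (hAp : IsPGroup p A) (hAc : IsMulCommutative A) (hscn : Cfsg.IsSCN (P : Subgroup G) A)
    (hA3 : ¬ Cfsg.PRankLE p 2 A)
    (hK : ∀ Y : Subgroup G, (Nat.card Y).Coprime p →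
      (P : Subgroup G) ≤ Subgroup.normalizer (Y : Set G) → Y ≤ K)
    {X : Subgroup G} (hX : (Nat.card X).Coprime p) (hAX : A ≤ Subgroup.normalizer (X : Set G)) : X ≤ K := by
  haveI := hAc
  obtain ⟨hAP, hPA, hcent⟩ := hscn
  have hA1 : A ≠ ⊥ := by
    rintro rfl
    refine hA3 fun B _ _ => ?_
    exact (Nat.le_of_dvd Nat.card_pos B.card_subgroup_dvd_card).trans
      ((Subgroup.card_bot (G := G)).le.trans (Nat.one_le_pow _ _ hp.out.pos))
  have hpG : p ∣ Nat.card G := by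
    obtain ⟨n, hn⟩ := IsPGroup.iff_card.1 hAp
    have hn0 : n ≠ 0 := fun h => hA1 (Subgroup.card_eq_one.1 (by simpa [h] using hn))
    exact (hn ▸ dvd_pow_self p hn0).trans A.card_subgroup_dvd_card
  have hA2 : ¬ Cfsg.PRankLE p 1 A := fun h => hA3 fun B hB hBp =>
    (h B hB hBp).trans (Nat.pow_le_pow_right hp.out.pos (by norm_num))
  have hT : Cfsg.TransitivityHypothesis A :=
    S1396.result hG p hpG A hAp hAc (Or.inr ⟨P, ⟨hAP, hPA, hcent⟩, hA2⟩)
  have hZ : ¬ Cfsg.RankLE 2 ↥(A ⊓ Subgroup.centralizer (A : Set G)) := by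
    rw [inf_eq_left.2 (Subgroup.le_centralizer A)]
    exact fun h => hA3 (h p hp.out)
  set π := Cfsg.primesNotDvd (Nat.card A) with hπ
  set D := Cfsg.piCoreOf π (Subgroup.centralizer (A : Set G)) with hD
  have hDK : D ≤ K := by
    refine hK D ?_ ((hPA.trans (FitOf.normalizer_le_normalizer_centralizer A)).trans MinSimple.normalizer_le)
    refine Nat.Coprime.symm (hp.out.coprime_iff_not_dvd.2 fun hd => ?_)
    exact (mem_primesNotDvd_iff hAp hA1 hp.out).1 (MinSimple.isPi_piCoreOf p hp.out hd).2 rfl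
  rw [← Subgroup.subgroupOf_eq_top]
  refine FittingCores.eq_top_of_forall_sylow_le fun q hq => ?_
  haveI := Fact.mk hq
  have hcop : (Nat.card A).Coprime (Nat.card X) := by
    obtain ⟨n, hn⟩ := IsPGroup.iff_card.1 hAp
    rw [hn]; exact Nat.Coprime.pow_left n hX.symm
  obtain ⟨T, -, hTA⟩ := CoprimeAct.exists_invariant_sylow_ge hAX hcop
    (Or.inl (Group.isSolvable_of_comm fun a b => mul_comm' a b)) (U := ⊥) bot_le
    (IsPGroup.of_bot (p := q))
    (fun a _ => Subgroup.mem_normalizer_iff.2 fun x => by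
      simp only [Subgroup.mem_bot]
      constructor
      · rintro rfl; group
      · intro h
        simpa using h)
  refine ⟨T, fun x hx => Subgroup.mem_subgroupOf.2 ?_⟩
  by_cases hqX : q ∣ Nat.card X
  swap
  · obtain ⟨k, hk⟩ := IsPGroup.iff_orderOf.1 T.isPGroup' ⟨x, hx⟩
    rw [Subgroup.orderOf_mk] at hk
    have h1 : orderOf x = 1 := by
      rcases Nat.eq_zero_or_pos k with rfl | h0
      · simpa using hk
      · exact absurd ((hk ▸ dvd_pow_self q h0.ne').trans (orderOf_dvd_natCard x)) hqX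
    rw [orderOf_eq_one_iff.1 h1]
    exact one_mem _
  have hqp : q ≠ p := by
    rintro rfl
    exact hp.out.not_dvd_one (hX ▸ Nat.dvd_gcd hqX dvd_rfl)
  have hqA : ¬ q ∣ Nat.card A := (mem_primesNotDvd_iff hAp hA1 hq).2 hqp
  set Y := (T : Subgroup X).map X.subtype with hY
  obtain ⟨Q₁, hQ₁, hYQ₁⟩ := Inv.exists_max (H := ⊤) (A := A) (π := {q})
    (Inv.mem_inv_iff.2 ⟨T.isPGroup'.map _, hTA⟩)
  obtain ⟨Q₀, hQ₀, -⟩ := Inv.exists_max (H := ⊤) (A := (P : Subgroup G)) (π := {q})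
    (Inv.mem_inv_iff.2 ⟨IsPGroup.of_bot, fun a _ => Subgroup.mem_normalizer_iff.2 fun x => by
      simp only [Subgroup.mem_bot]
      constructor
      · rintro rfl; group
      · intro h
        simpa using h⟩)
  have hPπ : ∀ r : ℕ, r.Prime → r ∣ Nat.card (P : Subgroup G) → r ∣ Nat.card A := by
    intro r hr hd
    by_contra h
    obtain ⟨n, hn⟩ := IsPGroup.iff_card.1 P.isPGroup'
    exact (mem_primesNotDvd_iff hAp hA1 hr).1 h
      ((Nat.prime_dvd_prime_iff_eq hr hp.out).1 (hr.dvd_of_dvd_pow (hn ▸ hd)))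
  have htr := fun Q h Q' h' => TransHyp.conj_of_rank_three (q := q) hG hT hqA hZ (Q₁ := Q) (Q₂ := Q') h h'
  obtain ⟨-, -, hsub, -⟩ := S1395.result hG A hT q hq hqA (P : Subgroup G)
    (MinSimple.pSubgroup_ne_top hG P.isPGroup') hPπ hAP
    (Subgroup.Normal.isSubnormal (Subgroup.normal_subgroupOf_of_le_normalizer hPA)) htr
  obtain ⟨k, hk, hQk⟩ := htr Q₀ (hsub hQ₀) Q₁ hQ₁
  obtain ⟨h₀p, h₀n, -⟩ := Inv.mem_max_iff.1 hQ₀
  have hQ₀K : Q₀ ≤ K := by
    refine hK Q₀ ?_ h₀n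
    obtain ⟨n, hn⟩ := IsPGroup.iff_card.1 h₀p
    rw [hn]; exact Nat.Coprime.pow_left n ((Nat.coprime_primes hq hp.out).2 hqp)
  have hxY : (x : G) ∈ Q₁ := hYQ₁ ⟨x, hx, rfl⟩
  rw [hQk] at hxY
  obtain ⟨z, hz, hzx⟩ := hxY
  rw [← hzx]
  exact mul_mem (mul_mem (hDK hk) (hQ₀K hz)) (inv_mem (hDK hk))

/-- The `C_G(b) ≤ M` hypothesis implies the invariant-subgroup hypothesis. -/
theorem invariant_of_centralizers {M B Y : Subgroup G} (hBe : Cfsg.IsElementaryAbelian p B)
    (hBnc : ¬ IsCyclic B) (h : ∀ b ∈ B, b ≠ 1 → Subgroup.centralizer ({b} : Set G) ≤ M)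
    (hY : (Nat.card Y).Coprime p) (hBY : B ≤ Subgroup.normalizer (Y : Set G)) : Y ≤ M := by
  haveI := hBe.1
  have hBp : IsPGroup p B := fun a => ⟨1, Subtype.ext (by simpa using hBe.2 a a.2)⟩
  have hcop : (Nat.card B).Coprime (Nat.card Y) := by
    obtain ⟨n, hn⟩ := IsPGroup.iff_card.1 hBp
    rw [hn]; exact Nat.Coprime.pow_left n hY.symm
  rw [← CoprimeAct.generated_by_centralizers hBnc hBY hcop]
  exact iSup₂_le fun b hb => inf_le_right.trans (h b hb.1 hb.2)

/-- Bender-Glauberman 9.1. -/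
theorem unique_of_invariant (hG : Cfsg.IsMinSimpleOddOrder G) {M B : Subgroup G} (hM : IsCoatom M)
    (hBM : B ≤ M) (hBp : IsPGroup p B) (hB1 : B ≠ ⊥)
    (hinv : ∀ Y : Subgroup G, (Nat.card Y).Coprime p → B ≤ Subgroup.normalizer (Y : Set G) → Y ≤ M) :
    Cfsg.InUniqueMaximal B := by
  classical
  refine ⟨M, ⟨hM, hBM⟩, fun H₀ hH₀ => ?_⟩
  by_contra hne₀
  obtain ⟨hH₀c, hBH₀⟩ := hH₀
  have hodd := hG.1
  have hp2 : p ≠ 2 := by
    obtain ⟨n, hn⟩ := IsPGroup.iff_card.1 hBp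
    have hn0 : n ≠ 0 := fun h => hB1 (Subgroup.card_eq_one.1 (by simpa [h] using hn))
    exact ne_two_of_dvd hG ((hn ▸ dvd_pow_self p hn0).trans B.card_subgroup_dvd_card)
  haveI := isSolvable_of_coatom hG hM
  obtain ⟨R, ⟨hBR, hRM, hRp, H, hH, hHM, hRH⟩, hmax⟩ := Set.exists_max_image
    {R : Subgroup G | B ≤ R ∧ R ≤ M ∧ IsPGroup p R ∧ ∃ H, IsCoatom H ∧ H ≠ M ∧ R ≤ H}
    (fun R => Nat.card R) (Set.toFinite _) ⟨B, le_rfl, hBM, hBp, H₀, hH₀c, hne₀, hBH₀⟩
  have hR1 : R ≠ ⊥ := fun h => hB1 (le_bot_iff.1 (h ▸ hBR))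
  have big : ∀ T L : Subgroup G, B ≤ T → T ≤ M → IsPGroup p T → Nat.card R < Nat.card T →
      IsCoatom L → T ≤ L → L = M := by
    intro T L hBT hTM hTp hlt hL hTL
    by_contra hne
    exact absurd (hmax T ⟨hBT, hTM, hTp, L, hL, hne, hTL⟩) (not_le.2 hlt)
  have hRsub : IsPGroup p (R.subgroupOf M) := hRp.comap_subtype
  obtain ⟨P₀, hP₀⟩ := hRsub.exists_le_sylow
  set P := (P₀ : Subgroup M).map M.subtype with hP
  have hRP : R ≤ P := fun r hr => ⟨⟨r, hRM hr⟩, hP₀ hr, rfl⟩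
  have hPM : P ≤ M := Subgroup.map_subtype_le _
  have hPp : IsPGroup p P := P₀.isPGroup'.map _
  have hP1 : P ≠ ⊥ := fun h => hR1 (le_bot_iff.1 (h ▸ hRP))
  have hPtop : ∀ T : Subgroup G, IsPGroup p T → T ≤ M → P ≤ T → T ≤ P := by
    intro T hT hTM hPT
    have : T.subgroupOf M = P₀ := P₀.3 hT.comap_subtype fun x hx => hPT ⟨x, hx, rfl⟩
    intro t ht
    exact ⟨⟨t, hTM ht⟩, this.le (show (⟨t, hTM ht⟩ : M) ∈ T.subgroupOf M from ht), rfl⟩
  set K := coreOf p M with hK
  have hinvK : ∀ Y : Subgroup G, (Nat.card Y).Coprime p → B ≤ Subgroup.normalizer (Y : Set G) →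
      P ≤ Subgroup.normalizer (Y : Set G) → Y ≤ K := fun Y hY hBY hPY =>
    invariant_le' inferInstance P₀ rfl (hinv Y hY hBY) hY hPY
  have hKn : M ≤ Subgroup.normalizer (K : Set G) := le_normalizer_coreOf M
  have hNK : K ≠ ⊥ → Subgroup.normalizer (K : Set G) = M := fun hK1 =>
    (hM.le_iff.1 hKn).resolve_left (MinSimple.normalizer_ne_top hG hK1
      fun h => hM.1 (top_le_iff.1 (h ▸ coreOf_le M)))
  have conjK : ∀ n : G, K.map (MulAut.conj n).toMonoidHom ≤ K → n ∈ Subgroup.normalizer (K : Set G) := by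
    intro n hn
    rw [Subgroup.mem_normalizer_iff_map_conj_eq]
    exact Subgroup.eq_of_le_of_card_ge hn
      (Subgroup.card_map_of_injective (MulAut.conj n).injective).ge
  have hKco : ∀ n : G, (Nat.card (K.map (MulAut.conj n).toMonoidHom : Subgroup G)).Coprime p := fun n => by
    rw [Subgroup.card_map_of_injective (MulAut.conj n).injective]
    exact coprime_coreOf M
  -- `N(P) ≤ M`
  have hNP : Subgroup.normalizer (P : Set G) ≤ M := by
    by_cases hK1 : K = ⊥
    · rcases (Subgroup.card_le_of_le hRP).lt_or_eq with hlt | heq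
      · obtain ⟨L, hL, hNL⟩ := exists_maximal_ge (MinSimple.normalizer_ne_top hG hP1
          (MinSimple.pSubgroup_ne_top hG hPp))
        exact (big P L (hBR.trans hRP) hPM hPp hlt hL (Subgroup.le_normalizer.trans hNL)) ▸ hNL
      · have h := factor_zL' (p := p) inferInstance hodd hp2 P₀ (rfl : (P₀ : Subgroup M).map M.subtype = P)
        rw [← hK, hK1, bot_sup_eq] at h
        have hN := (hM.le_iff.1 (h.trans inf_le_right)).resolve_left (MinSimple.normalizer_ne_top hG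
          (zL_ne_bot hPp hP1) (MinSimple.pSubgroup_ne_top hG (hPp.to_le (zL_le P))))
        exact (normalizer_le_zL P).trans hN.le
    · intro n hn
      rw [← hNK hK1]
      refine conjK n ?_
      have hPn : P ≤ Subgroup.normalizer ((K.map (MulAut.conj n).toMonoidHom : Subgroup G) : Set G) := by
        calc P = P.map (MulAut.conj n).toMonoidHom := (Subgroup.mem_normalizer_iff_map_conj_eq.1 hn).symm
          _ ≤ (Subgroup.normalizer (K : Set G)).map (MulAut.conj n).toMonoidHom :=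
            Subgroup.map_mono (hPM.trans hKn)
          _ ≤ _ := Subgroup.le_normalizer_map _
      exact hinvK _ (hKco n) ((hBR.trans hRP).trans hPn) hPn
  -- `P` is a Sylow subgroup of `G`
  obtain ⟨PG, hPPG⟩ := hPp.exists_le_sylow
  have hPG : P = (PG : Subgroup G) := by
    by_contra hne
    obtain ⟨x, hxT, hxN, hxP⟩ := exists_normalizing PG.isPGroup' (lt_of_le_of_ne hPPG hne)
    exact hxP ((hPtop (P ⊔ Subgroup.zpowers x)
      (PG.isPGroup'.to_le (sup_le hPPG (Subgroup.zpowers_le.2 hxT)))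
      (sup_le hPM (Subgroup.zpowers_le.2 (hNP hxN))) le_sup_left)
      (Subgroup.mem_sup_right (Subgroup.mem_zpowers x)))
  -- `N(R) ≤ M`
  have grow : R ≠ P → ∃ T : Subgroup G, B ≤ T ∧ T ≤ M ∧ IsPGroup p T ∧ Nat.card R < Nat.card T ∧
      T ≤ Subgroup.normalizer (R : Set G) := by
    intro hne
    obtain ⟨x, hxP, hxN, hxR⟩ := exists_normalizing hPp (lt_of_le_of_ne hRP hne)
    have hTP : R ⊔ Subgroup.zpowers x ≤ P := sup_le hRP (Subgroup.zpowers_le.2 hxP)
    refine ⟨R ⊔ Subgroup.zpowers x, hBR.trans le_sup_left, hTP.trans hPM, hPp.to_le hTP,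
      lt_of_le_of_ne (Subgroup.card_le_of_le le_sup_left) fun h => hxR ?_,
      sup_le Subgroup.le_normalizer (Subgroup.zpowers_le.2 hxN)⟩
    rw [Subgroup.eq_of_le_of_card_ge le_sup_left h.ge]
    exact Subgroup.mem_sup_right (Subgroup.mem_zpowers x)
  have hNR : Subgroup.normalizer (R : Set G) ≤ M := by
    by_cases hRP' : R = P
    · rw [hRP']; exact hNP
    · obtain ⟨T, hBT, hTM, hTp, hlt, hTN⟩ := grow hRP'
      obtain ⟨L, hL, hNL⟩ := exists_maximal_ge (MinSimple.normalizer_ne_top hG hR1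
        (MinSimple.pSubgroup_ne_top hG hRp))
      exact (big T L hBT hTM hTp hlt hL (hTN.trans hNL)) ▸ hNL
  -- `R` is a Sylow subgroup of `H`
  obtain ⟨S, hS⟩ := (hRp.comap_subtype : IsPGroup p (R.subgroupOf H)).exists_le_sylow
  have hSR : (S : Subgroup H).map H.subtype = R := by
    set T := (S : Subgroup H).map H.subtype with hT
    have hRT : R ≤ T := fun r hr => ⟨⟨r, hRH hr⟩, hS hr, rfl⟩
    by_contra hne
    obtain ⟨x, hxT, hxN, hxR⟩ := exists_normalizing (S.isPGroup'.map _) (lt_of_le_of_ne hRT (Ne.symm hne))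
    have hT' : R ⊔ Subgroup.zpowers x ≤ T := sup_le hRT (Subgroup.zpowers_le.2 hxT)
    refine hHM (big (R ⊔ Subgroup.zpowers x) H (hBR.trans le_sup_left)
      (sup_le hRM (Subgroup.zpowers_le.2 (hNR hxN))) ((S.isPGroup'.map _).to_le hT') ?_ hH
      (hT'.trans (Subgroup.map_subtype_le _)))
    refine lt_of_le_of_ne (Subgroup.card_le_of_le le_sup_left) fun h => hxR ?_
    rw [Subgroup.eq_of_le_of_card_ge le_sup_left h.ge]
    exact Subgroup.mem_sup_right (Subgroup.mem_zpowers x)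
  haveI hHs := isSolvable_of_coatom hG hH
  have hOH : coreOf p H ≤ M := hinv _ (coprime_coreOf H) ((hBR.trans hRH).trans (le_normalizer_coreOf H))
  suffices hle : H ≤ M from hHM ((hH.le_iff.1 hle).resolve_left hM.1).symm
  by_cases hRP' : R = P
  swap
  · obtain ⟨T, hBT, hTM, hTp, hlt, hTN⟩ := grow hRP'
    obtain ⟨L, hL, hNL⟩ := exists_maximal_ge (MinSimple.normalizer_ne_top hG (zL_ne_bot hRp hR1)
      (MinSimple.pSubgroup_ne_top hG (hRp.to_le (zL_le R))))
    have hLM := big T L hBT hTM hTp hlt hL ((hTN.trans (normalizer_le_zL R)).trans hNL)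
    exact (factor_zL' hHs hodd hp2 S hSR).trans (sup_le hOH (inf_le_right.trans (hLM ▸ hNL)))
  subst hRP'
  by_cases hK1 : K = ⊥
  · have h := factor_zL' (p := p) inferInstance hodd hp2 P₀ (rfl : (P₀ : Subgroup M).map M.subtype = P)
    rw [← hK, hK1, bot_sup_eq] at h
    have hN := (hM.le_iff.1 (h.trans inf_le_right)).resolve_left (MinSimple.normalizer_ne_top hG
      (zL_ne_bot hPp hP1) (MinSimple.pSubgroup_ne_top hG (hPp.to_le (zL_le P))))
    exact (factor_zL' hHs hodd hp2 S hSR).trans (sup_le hOH (inf_le_right.trans hN.le))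
  obtain ⟨Q, hQP, hfac, hab, hrk⟩ := exists_core_part hHs hodd hp2 S hSR
  refine hfac.trans (sup_le hOH (inf_le_right.trans fun n hn => ?_))
  rw [← hNK hK1]
  refine conjK n ?_
  have hQn : Q ≤ Subgroup.normalizer ((K.map (MulAut.conj n).toMonoidHom : Subgroup G) : Set G) := by
    calc Q = Q.map (MulAut.conj n).toMonoidHom := (Subgroup.mem_normalizer_iff_map_conj_eq.1 hn).symm
      _ ≤ (Subgroup.normalizer (K : Set G)).map (MulAut.conj n).toMonoidHom :=
        Subgroup.map_mono ((hQP.trans hPM).trans hKn)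
      _ ≤ _ := Subgroup.le_normalizer_map _
  have hPK : ∀ Y : Subgroup G, (Nat.card Y).Coprime p →
      (PG : Subgroup G) ≤ Subgroup.normalizer (Y : Set G) → Y ≤ K := fun Y hY hn' =>
    hinvK Y hY (hBR.trans (hPG.le.trans hn')) (hPG.le.trans hn')
  by_cases hr : Cfsg.PRankLE p 2 ↥(PG : Subgroup G)
  · rw [hrk (RankTwo.prankLE_mono (prankLE_of_sylow PG hr))] at hQn
    exact hinvK _ (hKco n) (hBR.trans hQn) hQn
  · obtain ⟨A, hAp, hAc, hscn, hA3⟩ := exists_scn_three hp2 PG hr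
    have hAQ : A ≤ Q := hab A (hPG.symm ▸ hscn.1) hAc (hPG.le.trans hscn.2.1)
    exact invariant_le_of_scn_three hG PG hAp hAc hscn hA3 hPK (hKco n) (hAQ.trans hQn)

end Cfsg.Agent.OddOrder.Uniq
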