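/-
Propagation of uniqueness among subgroups of rank at least two (Bender-Glauberman 9.2, 9.3).
-/
import Cfsg.Agent.Lib.OddOrder.Uniqueness
import Cfsg.Agent.S1399
import Cfsg.Agent.S0126

set_option autoImplicit false
set_option linter.style.haveILetI false
set_option linter.unusedSectionVars false

namespace Cfsg.Agent.OddOrder.UniqProp

open scoped Pointwise

variable {G : Type*} [Group G] [Finite G]

theorem not_rankLE {p : ℕ} [hp : Fact p.Prime] {K B : Subgroup G} (hBK : B ≤ K)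
    (hBe : Cfsg.IsElementaryAbelian p B) {k : ℕ} (hB : p ^ k < Nat.card B) : ¬ Cfsg.PRankLE p k K := by
  intro h
  haveI := hBe.1
  have := h (B.subgroupOf K) inferInstance fun a ha => Subtype.ext (by simpa using hBe.2 a ha)
  rw [Nat.card_congr (Subgroup.subgroupOfEquivOfLe hBK).toEquiv] at this
  exact absurd this (not_le.2 hB)

/-- `K ∈ 𝒰` when `K` centralizes a member of `𝒰` and contains an elementary abelian group of order `p²`. -/
theorem pass (hG : Cfsg.IsMinSimpleOddOrder G) {p : ℕ} [hp : Fact p.Prime] {L K B : Subgroup G}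
    (hL : Cfsg.InUniqueMaximal L) (hK : K ≤ Subgroup.centralizer (L : Set G)) (hBK : B ≤ K)
    (hBe : Cfsg.IsElementaryAbelian p B) (hB : p < Nat.card B) : Cfsg.InUniqueMaximal K :=
  S1399.result hG L K hL hK fun h => not_rankLE hBK hBe (k := 1) (by rwa [pow_one]) (h p hp.out)

theorem mono {X Y : Subgroup G} (hX : Cfsg.InUniqueMaximal X) (hXY : X ≤ Y) (hY : Y ≠ ⊤) :
    Cfsg.InUniqueMaximal Y := by
  obtain ⟨M, -, hu⟩ := hX
  obtain ⟨N, hN, hYN⟩ := Uniq.exists_maximal_ge hY
  exact ⟨N, ⟨hN, hYN⟩, fun L hL => (hu L ⟨hL.1, hXY.trans hL.2⟩).trans (hu N ⟨hN, hXY.trans hYN⟩).symm⟩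

theorem conj {X : Subgroup G} (hX : Cfsg.InUniqueMaximal X) (g : G) :
    Cfsg.InUniqueMaximal (X.map (MulAut.conj g).toMonoidHom) := by
  have key : ∀ (Y : Subgroup G) (h : G), (Y.map (MulAut.conj h).toMonoidHom).map (MulAut.conj h⁻¹).toMonoidHom = Y :=
    fun Y h => by
      rw [Subgroup.map_map]
      convert Subgroup.map_id Y
      ext x
      simp [mul_assoc]
  obtain ⟨M, ⟨hM, hXM⟩, hu⟩ := hX
  have hcoat : ∀ (N : Subgroup G) (h : G), IsCoatom N → IsCoatom (N.map (MulAut.conj h).toMonoidHom) :=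
    fun N h hN => by
      have := (OrderIso.isCoatom_iff (MulEquiv.mapSubgroup (MulAut.conj h)) N).2 hN
      exact this
  refine ⟨M.map (MulAut.conj g).toMonoidHom, ⟨hcoat M g hM, Subgroup.map_mono hXM⟩, fun N hN => ?_⟩
  have h1 := hu (N.map (MulAut.conj g⁻¹).toMonoidHom)
    ⟨hcoat N g⁻¹ hN.1, key X g ▸ Subgroup.map_mono hN.2⟩
  have h2 := key N g⁻¹
  rw [h1, inv_inv] at h2
  exact h2.symm

/-- Every elementary abelian `p`-subgroup of order at least `p³` lies in a unique maximal subgroup. -/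
def AllUniq (p : ℕ) (G : Type*) [Group G] : Prop :=
  ∀ E : Subgroup G, Cfsg.IsElementaryAbelian p E → p ^ 3 ≤ Nat.card E → Cfsg.InUniqueMaximal E

variable {p : ℕ} [hp : Fact p.Prime]

theorem p_ne_two (hG : Cfsg.IsMinSimpleOddOrder G) {E : Subgroup G} (hE : Cfsg.IsElementaryAbelian p E)
    (hcard : p < Nat.card E) : p ≠ 2 := by
  obtain ⟨k, hk⟩ := IsPGroup.iff_card.1 (show IsPGroup p E from fun a =>
    ⟨1, Subtype.ext (by simpa using hE.2 a a.2)⟩)
  have hk0 : k ≠ 0 := by
    rintro rfl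
    rw [hk, pow_zero] at hcard
    exact absurd hcard (not_lt.2 hp.out.one_le)
  exact Uniq.ne_two_of_dvd hG ((hk ▸ dvd_pow_self p hk0).trans E.card_subgroup_dvd_card)

theorem isPGroup_of_elementary {E : Subgroup G} (hE : Cfsg.IsElementaryAbelian p E) : IsPGroup p E :=
  fun a => ⟨1, Subtype.ext (by simpa using hE.2 a a.2)⟩

/-- Two elementary abelian subgroups linked through a normal `E_{p²}` of a common Sylow subgroup. -/
theorem link (hG : Cfsg.IsMinSimpleOddOrder G) {P E W : Subgroup G} (hP : IsPGroup p P) (hEP : E ≤ P)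
    (hE : Cfsg.IsElementaryAbelian p E) (hE3 : p ^ 3 ≤ Nat.card E) (hWP : W ≤ P)
    (hPW : P ≤ Subgroup.normalizer (W : Set G)) (hW : Cfsg.IsElementaryAbelian p W)
    (hW2 : Nat.card W = p ^ 2) :
    Cfsg.InUniqueMaximal E ↔ Cfsg.InUniqueMaximal W := by
  set X := E ⊓ Subgroup.centralizer (W : Set G) with hX
  haveI := hE.1
  haveI := hW.1
  haveI : (W.subgroupOf P).Normal := Subgroup.normal_subgroupOf_of_le_normalizer hPW
  have hp1 := hp.out.one_lt
  have hXcard : p < Nat.card X := by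
    have h := OmegaCen.card_le_mul_inf_centralizer hP (W.subgroupOf P)
      (by rw [Nat.card_congr (Subgroup.subgroupOfEquivOfLe hWP).toEquiv, hW2]) inferInstance (E.subgroupOf P)
    rw [Nat.card_congr (Subgroup.subgroupOfEquivOfLe hEP).toEquiv] at h
    have hle : Nat.card (E.subgroupOf P ⊓ Subgroup.centralizer (W.subgroupOf P : Set P) : Subgroup P) ≤
        Nat.card X := by
      rw [← Subgroup.card_map_of_injective
        (K := E.subgroupOf P ⊓ Subgroup.centralizer (W.subgroupOf P : Set P)) P.subtype_injective]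
      refine Subgroup.card_le_of_le ?_
      rintro _ ⟨x, hx, rfl⟩
      exact ⟨hx.1, Subgroup.mem_centralizer_iff.2 fun w hw =>
        congrArg Subtype.val (Subgroup.mem_centralizer_iff.1 hx.2 ⟨w, hWP hw⟩ hw)⟩
    have h2 : p ^ 3 ≤ p * Nat.card X := hE3.trans (h.trans (Nat.mul_le_mul_left p hle))
    rw [pow_succ'] at h2
    exact lt_of_lt_of_le (by rw [pow_two]; exact lt_mul_of_one_lt_left hp.out.pos hp1)
      (Nat.le_of_mul_le_mul_left h2 hp.out.pos)
  have hXe : Cfsg.IsElementaryAbelian p X :=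
    ⟨.of_setLike_mul_comm fun a ha b hb =>
      congrArg Subtype.val (mul_comm' (⟨a, ha.1⟩ : E) ⟨b, hb.1⟩), fun a ha => hE.2 a ha.1⟩
  have hW1 : p < Nat.card W := by rw [hW2, pow_two]; exact lt_mul_of_one_lt_left hp.out.pos hp1
  have hE1 : p < Nat.card E := hXcard.trans_le (Subgroup.card_le_of_le inf_le_left)
  have hXW : X ≤ Subgroup.centralizer (W : Set G) := inf_le_right
  have hWX : W ≤ Subgroup.centralizer (X : Set G) := Subgroup.le_centralizer_iff.1 hXW
  have hXE : X ≤ Subgroup.centralizer (E : Set G) := inf_le_left.trans (Subgroup.le_centralizer E)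
  have hEX : E ≤ Subgroup.centralizer (X : Set G) := Subgroup.le_centralizer_iff.1 hXE
  exact ⟨fun h => pass hG (pass hG h hXE le_rfl hXe hXcard) hWX le_rfl hW hW1,
    fun h => pass hG (pass hG h hXW le_rfl hXe hXcard) hEX le_rfl hE hE1⟩

theorem allUniq_of (hG : Cfsg.IsMinSimpleOddOrder G) {E₁ : Subgroup G}
    (h₁e : Cfsg.IsElementaryAbelian p E₁) (h₁3 : p ^ 3 ≤ Nat.card E₁) (hU : Cfsg.InUniqueMaximal E₁) :
    AllUniq p G := by
  intro E hE hE3
  have hlt : p < p ^ 3 := lt_self_pow₀ hp.out.one_lt (by norm_num)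
  have hp2 := p_ne_two hG h₁e (hlt.trans_le h₁3)
  obtain ⟨T, hT⟩ := (isPGroup_of_elementary hE).exists_le_sylow
  obtain ⟨S, hS⟩ := (isPGroup_of_elementary h₁e).exists_le_sylow
  obtain ⟨g, hg⟩ := MulAction.exists_smul_eq G S T
  set E' := E₁.map (MulAut.conj g).toMonoidHom with hE'
  have hE'T : E' ≤ (T : Subgroup G) := by
    rintro _ ⟨a, ha, rfl⟩
    rw [← hg]
    exact Subgroup.smul_mem_pointwise_smul a (MulAut.conj g) (S : Subgroup G) (hS ha)
  have hE'e : Cfsg.IsElementaryAbelian p E' := ⟨haveI := h₁e.1; inferInstance, by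
    rintro _ ⟨a, ha, rfl⟩
    rw [← map_pow, h₁e.2 a ha, map_one]⟩
  have hE'3 : p ^ 3 ≤ Nat.card E' := by
    rwa [hE', Subgroup.card_map_of_injective (MulAut.conj g).injective]
  have hnc : ¬ IsCyclic (T : Subgroup G) := fun hc => by
    haveI := hc
    haveI : IsCyclic E := isCyclic_of_injective (Subgroup.inclusion hT) (Subgroup.inclusion_injective _)
    have := Nat.le_of_dvd hp.out.pos ((IsCyclic.exponent_eq_card (α := E)).symm ▸
      Monoid.exponent_dvd_of_forall_pow_eq_one fun a => Subtype.ext (by simpa using hE.2 a a.2))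
    exact absurd (hlt.trans_le hE3) (not_lt.2 this)
  obtain ⟨W, hWn, hWe, hW2⟩ := S0126.result hp2 T.isPGroup' hnc
  set W' := W.map (T : Subgroup G).subtype with hW'
  haveI := hWe.1
  have hW'e : Cfsg.IsElementaryAbelian p W' := ⟨inferInstance, by
    rintro _ ⟨a, ha, rfl⟩
    rw [← map_pow, hWe.2 a ha, map_one]⟩
  have hW'2 : Nat.card W' = p ^ 2 := by
    rw [hW', Subgroup.card_map_of_injective (Subgroup.subtype_injective _), hW2]
  have hn : (T : Subgroup G) ≤ Subgroup.normalizer (W' : Set G) := AxB.le_normalizer_map_subtype hWn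
  rw [link hG T.isPGroup' hT hE hE3 (Subgroup.map_subtype_le _) hn hW'e hW'2,
    ← link hG T.isPGroup' hE'T hE'e hE'3 (Subgroup.map_subtype_le _) hn hW'e hW'2]
  exact conj hU g

/-- An elementary abelian subgroup of order at least `p³` inside a subgroup of `p`-rank at least three. -/
theorem exists_elementary {K : Subgroup G} (h : ¬ Cfsg.PRankLE p 2 K) :
    ∃ E : Subgroup G, E ≤ K ∧ Cfsg.IsElementaryAbelian p E ∧ p ^ 3 ≤ Nat.card E := by
  unfold Cfsg.PRankLE at h
  push Not at h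
  obtain ⟨E, hEc, hEp, hE⟩ := h
  haveI := hEc
  refine ⟨E.map K.subtype, Subgroup.map_subtype_le _, ⟨inferInstance, by
    rintro _ ⟨a, ha, rfl⟩
    rw [← map_pow, hEp a ha, map_one]⟩, ?_⟩
  rw [Subgroup.card_map_of_injective K.subtype_injective]
  obtain ⟨j, hj⟩ := IsPGroup.iff_card.1 (show IsPGroup p E from fun x =>
    ⟨1, Subtype.ext (by simpa using hEp x x.2)⟩)
  rw [hj] at hE ⊢
  exact Nat.pow_le_pow_right hp.out.pos ((Nat.pow_lt_pow_iff_right hp.out.one_lt).1 hE)

/-- An abelian subgroup of `p`-rank at least three in `𝒰` gives `AllUniq`. -/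
theorem allUniq_of_abelian (hG : Cfsg.IsMinSimpleOddOrder G) {A : Subgroup G} (hAc : IsMulCommutative A)
    (hA3 : ¬ Cfsg.PRankLE p 2 A) (hU : Cfsg.InUniqueMaximal A) : AllUniq p G := by
  obtain ⟨E, hEA, hEe, hE3⟩ := exists_elementary hA3
  haveI := hAc
  exact allUniq_of hG hEe hE3 (pass hG hU (hEA.trans (Subgroup.le_centralizer A)) le_rfl hEe
    ((lt_self_pow₀ hp.out.one_lt (by norm_num)).trans_le hE3))

/-- Noncyclic `p`-groups centralizing an `E_{p³}`. -/
theorem uniq_of_allUniq (hG : Cfsg.IsMinSimpleOddOrder G) (h : AllUniq p G) {B : Subgroup G}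
    (hBp : IsPGroup p B) (hBnc : ¬ IsCyclic B)
    (hB3 : ¬ Cfsg.PRankLE p 2 ↥(Subgroup.centralizer (B : Set G))) : Cfsg.InUniqueMaximal B := by
  obtain ⟨E, hEC, hEe, hE3⟩ := exists_elementary hB3
  have hp2 := p_ne_two hG hEe ((lt_self_pow₀ hp.out.one_lt (by norm_num)).trans_le hE3)
  obtain ⟨W, -, hWe, hW2⟩ := S0126.result hp2 hBp hBnc
  haveI := hWe.1
  refine pass (p := p) hG (h E hEe hE3) (Subgroup.le_centralizer_iff.1 hEC)
    (Subgroup.map_subtype_le W) ⟨inferInstance, ?_⟩ ?_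
  · rintro _ ⟨a, ha, rfl⟩
    rw [← map_pow, hWe.2 a ha, map_one]
  · rw [Subgroup.card_map_of_injective B.subtype_injective, hW2, pow_two]
    exact lt_mul_of_one_lt_left hp.out.pos hp.out.one_lt

end Cfsg.Agent.OddOrder.UniqProp
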