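/-
Uniqueness subgroups inside the Fitting subgroup of a maximal subgroup (Bender-Glauberman 8.1, 9.4).
-/
import Cfsg.Agent.Lib.OddOrder.FittingTrans
import Cfsg.Agent.Lib.OddOrder.UniqPropagate

set_option autoImplicit false
set_option linter.style.haveILetI false
set_option linter.unusedSectionVars false

namespace Cfsg.Agent.OddOrder.FitUniq

open scoped commutatorElement
open Cfsg (fittingOf pCoreOf primesNotDvd)
open FitOf
open MinSimple (IsPi)

variable {G : Type*} [Group G] [Finite G] {p : ℕ} [hp : Fact p.Prime]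

theorem le_pCoreOf_of_le_fittingOf {M B : Subgroup G} (hB : B ≤ fittingOf M) (hBp : IsPGroup p B) :
    B ≤ pCoreOf p M := by
  have hBM : B ≤ M := hB.trans (fittingOf_le M)
  haveI := FittingCores.fitting_nilpotent (G := M)
  set F := Cfsg.fittingSubgroup M with hF
  obtain ⟨P, hP⟩ :=
    ((hBp.comap_subtype (K := M)).comap_subtype (K := F) : IsPGroup p ((B.subgroupOf M).subgroupOf F)).exists_le_sylow
  intro b hb
  obtain ⟨z, hz, hzb⟩ := hB hb
  refine ⟨z, FittingCores.sylow_le_pCore_of_nilpotent FittingCores.fitting_normal p P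
    ⟨⟨z, hz⟩, hP ?_, rfl⟩, hzb⟩
  show (z : G) ∈ B
  exact (show (z : G) = b from hzb) ▸ hb

/-- Bender-Glauberman 8.1(a). -/
theorem uniq_not_pGroup (hG : Cfsg.IsMinSimpleOddOrder G) {M A₀ : Subgroup G} (hM : IsCoatom M)
    (hA₀ : A₀ ≤ fittingOf M) (hA₀e : Cfsg.IsElementaryAbelian p A₀) (hA₀3 : p ^ 3 ≤ Nat.card A₀)
    (hA₀max : ∀ B : Subgroup G, B ≤ fittingOf M → Cfsg.IsElementaryAbelian p B → A₀ ≤ B → B = A₀)
    (hF : ¬ IsPGroup p ↥(fittingOf M)) :
    Cfsg.InUniqueMaximal (fittingOf M ⊓ Subgroup.centralizer (A₀ : Set G)) := by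
  haveI := hA₀e.1
  haveI : Group.IsSolvable M := MinSimple.isSolvable hG hM.1
  set F := fittingOf M with hFdef
  set A := F ⊓ Subgroup.centralizer (A₀ : Set G) with hA
  have hA₀p := UniqProp.isPGroup_of_elementary hA₀e
  have hA₀O : A₀ ≤ pCoreOf p M := le_pCoreOf_of_le_fittingOf hA₀ hA₀p
  have hA₀A : A₀ ≤ A := le_inf hA₀ (Subgroup.le_centralizer A₀)
  have hp1 := hp.out.one_lt
  have hpA₀ : p ∣ Nat.card A₀ := by
    obtain ⟨k, hk⟩ := IsPGroup.iff_card.1 hA₀p
    have hk0 : k ≠ 0 := by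
      rintro rfl
      rw [hk, pow_zero] at hA₀3
      exact absurd hA₀3 (not_le.2 (Nat.one_lt_pow (by norm_num) hp1))
    exact hk ▸ dvd_pow_self p hk0
  have hpF : p ∣ Nat.card F := hpA₀.trans (Subgroup.card_dvd_of_le hA₀)
  have hOA : ∀ q : ℕ, q.Prime → q ≠ p → pCoreOf q M ≤ A := fun q hq hne =>
    le_inf (pCoreOf_le_fittingOf hq M)
      ((pCoreOf_le_centralizer hq hp.out hne M).trans (Subgroup.centralizer_le hA₀O))
  have hZA : ∀ q : ℕ, q.Prime → centreCore q M ≤ A := fun q hq =>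
    le_inf ((centreCore_le hq M).trans inf_le_left)
      ((centreCore_le hq M).trans (inf_le_right.trans (Subgroup.centralizer_le hA₀)))
  have hπ : ∀ q : ℕ, q.Prime → q ∣ Nat.card F → q ∣ Nat.card A := by
    intro q hq hqd
    by_cases hqp : q = p
    · subst hqp; exact hpA₀.trans (Subgroup.card_dvd_of_le hA₀A)
    · haveI := Fact.mk hq
      haveI := (Subgroup.nontrivial_iff_ne_bot _).2 (pCoreOf_ne_bot_of_dvd hq hqd)
      obtain ⟨k, hk, hk'⟩ := (isPGroup_pCoreOf q M).nontrivial_iff_card.1 inferInstance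
      exact (hk' ▸ dvd_pow_self q hk.ne').trans (Subgroup.card_dvd_of_le (hOA q hq hqp))
  have h2 : 2 ≤ (Nat.card F).primeFactors.card := by
    by_contra h
    apply hF
    refine IsPGroup.of_card (n := (Nat.card F).primeFactorsList.length)
      (Nat.eq_prime_pow_of_unique_prime_dvd Nat.card_pos.ne' fun {q} hq hd => ?_)
    exact Finset.card_le_one.1 (by omega) q (Nat.mem_primeFactors.2 ⟨hq, hd, Nat.card_pos.ne'⟩) p
      (Nat.mem_primeFactors.2 ⟨hp.out, hpF, Nat.card_pos.ne'⟩)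
  have hAM : A ≤ M := inf_le_left.trans (fittingOf_le M)
  have hC : ∀ q : ℕ, q.Prime → q ∣ Nat.card F →
      Subgroup.centralizer ((A ⊓ pCoreOf q M : Subgroup G) : Set G) ≤ M := by
    intro q hq hqd
    refine (Subgroup.centralizer_le (le_inf (hZA q hq) inf_le_left : centreCore q M ≤ A ⊓ pCoreOf q M)).trans
      ((Subgroup.centralizer_le_normalizer _).trans ?_)
    exact (FitPair.normalizer_eq hG hM (inf_le_left.trans (pCoreOf_le q M)) (le_normalizer_centreCore q M)
      (centreCore_ne_bot hq (pCoreOf_ne_bot_of_dvd hq hqd))).le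
  have hinv : ∀ Y : Subgroup G, Y ≤ M → IsPi (primesNotDvd (Nat.card A)) (Nat.card Y) →
      A ≤ Subgroup.normalizer (Y : Set G) → Y = ⊥ := by
    intro Y hYM hY hAY
    rw [Subgroup.eq_bot_iff_forall]
    intro y hy
    have hcop : (Nat.card A).Coprime (Nat.card Y) := MinSimple.coprime_of_isPi hY
    have hcomm : ∀ s : ℕ, s.Prime → ∀ a ∈ A ⊓ pCoreOf s M, a * y = y * a := by
      intro s hs a ha
      have hd1 : ⁅a, y⁆ ∈ Y := by
        rw [commutatorElement_def]
        exact mul_mem ((Subgroup.mem_normalizer_iff.1 (hAY ha.1) y).1 hy) (inv_mem hy)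
      have hd2 : ⁅a, y⁆ ∈ pCoreOf s M := by
        rw [commutatorElement_def, mul_assoc, mul_assoc, ← mul_assoc y]
        exact mul_mem ha.2 ((Subgroup.mem_normalizer_iff.1 (le_normalizer_pCoreOf s M (hYM hy)) _).1 (inv_mem ha.2))
      haveI := Fact.mk hs
      refine commutatorElement_eq_one_iff_mul_comm.1 ?_
      by_cases hsA : s ∣ Nat.card A
      · exact PBasic.eq_one_of_isPGroup_of_coprime (isPGroup_pCoreOf s M) hd2
          (Nat.Coprime.coprime_dvd_left (Subgroup.orderOf_dvd_natCard Y hd1)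
            (Nat.Coprime.coprime_dvd_right hsA hcop.symm))
      · have ha1 : a = 1 := by
          refine PBasic.eq_one_of_isPGroup_of_coprime (isPGroup_pCoreOf s M) ha.2 ?_
          exact Nat.Coprime.coprime_dvd_left (Subgroup.orderOf_dvd_natCard A ha.1)
            ((hs.coprime_iff_not_dvd.2 hsA).symm)
        rw [ha1, commutatorElement_one_left]
    have hyC : y ∈ Subgroup.centralizer (F : Set G) := by
      suffices hle : F ≤ Subgroup.centralizer ({y} : Set G) from
        Subgroup.mem_centralizer_iff.2 fun x hx => Subgroup.mem_centralizer_singleton_iff.1 (hle hx)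
      refine fittingOf_le_iff.2 fun s hs x hx => Subgroup.mem_centralizer_singleton_iff.2 ?_
      by_cases hsp : s = p
      · subst hsp
        refine (AxB.thompson (n := orderOf y) (isPGroup_pCoreOf s M)
          ((isPGroup_pCoreOf s M).to_le (inf_le_right : A ⊓ pCoreOf s M ≤ _))
          ((inf_le_left.trans hAM).trans (le_normalizer_pCoreOf s M))
          (fun z hz => (Subgroup.mem_normalizer_iff.1 (le_normalizer_pCoreOf s M (hYM hy)) z).1 hz)
          (hcomm s hs) (pow_orderOf_eq_one y) ?_ ?_ x hx).symm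
        · exact Nat.Coprime.coprime_dvd_right (Subgroup.orderOf_dvd_natCard Y hy)
            (Nat.Coprime.coprime_dvd_left (hpA₀.trans (Subgroup.card_dvd_of_le hA₀A)) hcop)
        · intro z hz hzA
          refine (hcomm s hs z ⟨⟨pCoreOf_le_fittingOf hs M hz, Subgroup.mem_centralizer_iff.2 fun e he => ?_⟩, hz⟩).symm
          exact hzA e ⟨hA₀A he, hA₀O he⟩
      · exact hcomm s hs x ⟨hOA s hs hsp hx, hx⟩
    have hyF : y ∈ F := inf_centralizer_fittingOf_le M ⟨hYM hy, hyC⟩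
    refine orderOf_eq_one_iff.1 (not_not.1 fun hne => ?_)
    obtain ⟨r, hr, hrd⟩ := Nat.exists_prime_and_dvd hne
    exact (hY r hr (hrd.trans (Subgroup.orderOf_dvd_natCard Y hy))).2
      (hπ r hr (hrd.trans (Subgroup.orderOf_dvd_natCard F hyF)))
  have hT := FitTrans.transHyp hG hM h2 inf_le_left hπ hC hinv
  have hA₀Z : A₀ ≤ A ⊓ Subgroup.centralizer (A : Set G) :=
    le_inf hA₀A (Subgroup.le_centralizer_iff.1 inf_le_right)
  have hZ : ¬ Cfsg.RankLE 2 ↥(A ⊓ Subgroup.centralizer (A : Set G)) := fun h =>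
    UniqProp.not_rankLE hA₀Z hA₀e (k := 2)
      (lt_of_lt_of_le (Nat.pow_lt_pow_right hp1 (by norm_num)) hA₀3) (h p hp.out)
  refine ⟨M, ⟨hM, hAM⟩, fun L hL => ?_⟩
  have hZF : F ⊓ Subgroup.centralizer (F : Set G) ≤ L :=
    (le_inf inf_le_left (inf_le_right.trans (Subgroup.centralizer_le hA₀))).trans hL.2
  refine FitPair.eq_of_centre_le hG hM hL.1 (fun q hq hd => ?_) h2 hZF
  by_contra hqF
  haveI := Fact.mk hq
  refine pCoreOf_ne_bot_of_dvd hq hd (FitTrans.invariant_eq_bot hG hM hT inf_le_left hπ hZ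
    (fun r hr hrd => ?_) (hL.2.trans (le_normalizer_pCoreOf q L)))
  rw [Inv.primes_of_isPGroup (isPGroup_pCoreOf q L) r hr hrd]
  exact ⟨hq, fun h => hqF (h.trans (Subgroup.card_dvd_of_le inf_le_left))⟩

theorem pPrimePCore_le_pCore {X : Type*} [Group X] [Finite X] (hO : Cfsg.pPrimeCore p X = ⊥) :
    Cfsg.pPrimePCore p X ≤ Cfsg.pCore p X := by
  haveI := FittingCores.pPrimeCore_normal (G := X) p
  refine FittingCores.le_pCore ((FittingCores.pCore_normal p).comap _)
    (IsPGroup.comap_of_ker_isPGroup (FittingCores.pCore_isPGroup p) _ ?_)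
  rw [QuotientGroup.ker_mk', hO]
  exact IsPGroup.of_bot

theorem pPrimeCore_eq_bot {M : Subgroup G} [Group.IsSolvable M] (hF : IsPGroup p ↥(fittingOf M)) :
    Cfsg.pPrimeCore p M = ⊥ := by
  by_contra hne
  obtain ⟨N, r, hr, hNn, hN, hNO, -, -, hNr, -⟩ :=
    SolvBasic.exists_minimal_normal_abelian (N := Cfsg.pPrimeCore p M) (FittingCores.pPrimeCore_normal p) hne
  haveI := Fact.mk hr
  haveI := (Subgroup.nontrivial_iff_ne_bot _).2 hN
  obtain ⟨k, hk, hk'⟩ := hNr.nontrivial_iff_card.1 inferInstance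
  haveI := hNr.isNilpotent
  have hNF : N ≤ Cfsg.fittingSubgroup M := FittingCores.le_fitting hNn inferInstance
  have hd : r ∣ Nat.card N := hk' ▸ dvd_pow_self r hk.ne'
  have hrp : r = p := by
    refine Inv.primes_of_isPGroup hF r hr (hd.trans ((Subgroup.card_dvd_of_le hNF).trans ?_))
    unfold Cfsg.fittingOf
    rw [Subgroup.card_map_of_injective M.subtype_injective]
  subst hrp
  exact hr.not_dvd_one (FittingCores.pPrimeCore_coprime (G := M) r ▸
    Nat.dvd_gcd (hd.trans (Subgroup.card_dvd_of_le hNO)) dvd_rfl)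

/-- Bender-Glauberman 8.1(b). -/
theorem uniq_pGroup (hG : Cfsg.IsMinSimpleOddOrder G) {M : Subgroup G} (hM : IsCoatom M)
    (hp2 : p ≠ 2) (hpF : p ∣ Nat.card (fittingOf M)) (hF : IsPGroup p ↥(fittingOf M)) (P : Sylow p M) :
    ∃ PG : Sylow p G, (P : Subgroup M).map M.subtype = (PG : Subgroup G) ∧
      ∀ A : Subgroup G, Cfsg.IsSCN (PG : Subgroup G) A → ¬ Cfsg.PRankLE p 2 ↥A →
        A ≤ fittingOf M ∧ Cfsg.InUniqueMaximal A := by
  haveI : Group.IsSolvable M := MinSimple.isSolvable hG hM.1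
  have hO := pPrimeCore_eq_bot (p := p) hF
  have hcore : LocalFactor.coreOf p M = ⊥ := by
    rw [LocalFactor.coreOf, hO, Subgroup.map_bot]
  set S := (P : Subgroup M).map M.subtype with hS
  have hSM : S ≤ M := Subgroup.map_subtype_le _
  have hSp : IsPGroup p S := P.isPGroup'.map _
  have hS1 : S ≠ ⊥ := by
    intro h
    have hle : pCoreOf p M ≤ S := Subgroup.map_mono (FittingCores.pCore_le_sylow P)
    exact pCoreOf_ne_bot_of_dvd hp.out hpF (le_bot_iff.1 (h ▸ hle))
  have hfac := LocalFactor.factor_zL' (p := p) inferInstance hG.1 hp2 P hS.symm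
  rw [hcore, bot_sup_eq] at hfac
  have hN := (hM.le_iff.1 (hfac.trans inf_le_right)).resolve_left (MinSimple.normalizer_ne_top hG
    (LocalFactor.zL_ne_bot hSp hS1) (MinSimple.pSubgroup_ne_top hG (hSp.to_le (LocalFactor.zL_le S))))
  have hNS : Subgroup.normalizer (S : Set G) ≤ M := (LocalFactor.normalizer_le_zL S).trans hN.le
  obtain ⟨PG, hPG⟩ := hSp.exists_le_sylow
  have heq : S = (PG : Subgroup G) := by
    by_contra hne
    obtain ⟨x, hxT, hxN, hxS⟩ := LocalFactor.exists_normalizing PG.isPGroup' (lt_of_le_of_ne hPG hne)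
    set T := S ⊔ Subgroup.zpowers x with hT
    have hTM : T ≤ M := sup_le hSM (Subgroup.zpowers_le.2 (hNS hxN))
    have hTp : IsPGroup p T := PG.isPGroup'.to_le (sup_le hPG (Subgroup.zpowers_le.2 hxT))
    have h := P.3 (hTp.comap_subtype (K := M)) fun y hy =>
      (show (y : G) ∈ T from Subgroup.mem_sup_left ⟨y, hy, rfl⟩)
    exact hxS ⟨⟨x, hNS hxN⟩, h.le (show x ∈ T from Subgroup.mem_sup_right (Subgroup.mem_zpowers x)), rfl⟩
  refine ⟨PG, heq, fun A hscn hA3 => ?_⟩
  obtain ⟨hAP, hPA, hcent⟩ := hscn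
  have hAp : IsPGroup p A := PG.isPGroup'.to_le hAP
  have hAc : IsMulCommutative A := .of_setLike_mul_comm fun a ha b hb =>
    Subgroup.mem_centralizer_iff.1 (hcent.ge hb).2 a ha
  have hAM : A ≤ M := (heq ▸ hAP).trans hSM
  have hAS : A.subgroupOf M ≤ (P : Subgroup M) := fun a ha => by
    obtain ⟨b, hb, hba⟩ := (heq.symm ▸ hAP ha : (a : G) ∈ S)
    rwa [← Subtype.ext hba]
  have hAF : A ≤ fittingOf M := by
    haveI := hAc
    have h : A.subgroupOf M ≤ Cfsg.pCore p M :=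
      (LocalFactor.abelian_le (hG.1.of_dvd_nat M.card_subgroup_dvd_card) hp2 P hAS inferInstance
        fun s hs => by
          rw [Subgroup.mem_normalizer_iff]
          intro y
          exact Subgroup.mem_normalizer_iff.1 (hPA (heq ▸ ⟨s, hs, rfl⟩ : (s : G) ∈ (PG : Subgroup G))) y).trans
        (pPrimePCore_le_pCore hO)
    intro a ha
    exact pCoreOf_le_fittingOf hp.out M ⟨⟨a, hAM ha⟩, h ha, rfl⟩
  refine ⟨hAF, ?_⟩
  have hA1 : A ≠ ⊥ := by
    rintro rfl
    refine hA3 fun B _ _ => ?_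
    exact (Nat.le_of_dvd Nat.card_pos B.card_subgroup_dvd_card).trans
      ((Subgroup.card_bot (G := G)).le.trans (Nat.one_le_pow _ _ hp.out.pos))
  have hA2 : ¬ Cfsg.PRankLE p 1 A := fun h => hA3 fun B hB hBp =>
    (h B hB hBp).trans (Nat.pow_le_pow_right hp.out.pos (by norm_num))
  have hT : Cfsg.TransitivityHypothesis A := S1396.result hG p
    (hpF.trans (fittingOf M).card_subgroup_dvd_card) A hAp hAc (Or.inr ⟨PG, ⟨hAP, hPA, hcent⟩, hA2⟩)
  haveI := hAc
  have hZ : ¬ Cfsg.RankLE 2 ↥(A ⊓ Subgroup.centralizer (A : Set G)) := by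
    rw [inf_eq_left.2 (Subgroup.le_centralizer A)]
    exact fun h => hA3 (h p hp.out)
  have hpA : p ∣ Nat.card A := by
    obtain ⟨n, hn⟩ := IsPGroup.iff_card.1 hAp
    have hn0 : n ≠ 0 := fun h => hA1 (Subgroup.card_eq_one.1 (by simpa [h] using hn))
    exact hn ▸ dvd_pow_self p hn0
  refine Uniq.unique_of_invariant hG hM hAM hAp hA1 fun Y hY hAY => ?_
  rw [FitTrans.invariant_eq_bot hG hM hT hAF
    (fun q hq hd => (Inv.primes_of_isPGroup hF q hq hd : q = p) ▸ hpA) hZ (fun r hr hd => ?_) hAY]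
  · exact bot_le
  · refine ⟨hr, fun hrA => ?_⟩
    have hrp : r = p := by
      obtain ⟨n, hn⟩ := IsPGroup.iff_card.1 hAp
      exact (Nat.prime_dvd_prime_iff_eq hr hp.out).1 (hr.dvd_of_dvd_pow (hn ▸ hrA))
    subst hrp
    exact hr.not_dvd_one (hY ▸ Nat.dvd_gcd hd dvd_rfl)

/-- Bender-Glauberman 9.4. -/
theorem allUniq_of_fitting (hG : Cfsg.IsMinSimpleOddOrder G) {M : Subgroup G} (hM : IsCoatom M)
    (hF : ¬ Cfsg.PRankLE p 2 ↥(fittingOf M)) : UniqProp.AllUniq p G := by
  obtain ⟨E, hEF, hEe, hE3⟩ := UniqProp.exists_elementary hF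
  obtain ⟨A₀, hEA, hA₀⟩ := Finite.exists_le_maximal (a := E)
    (p := fun A : Subgroup G => A ≤ fittingOf M ∧ Cfsg.IsElementaryAbelian p A) ⟨hEF, hEe⟩
  obtain ⟨⟨hA₀F, hA₀e⟩, hmax⟩ := hA₀
  have hA₀3 : p ^ 3 ≤ Nat.card A₀ := hE3.trans (Subgroup.card_le_of_le hEA)
  have hlt : p < Nat.card A₀ := (lt_self_pow₀ hp.out.one_lt (by norm_num)).trans_le hA₀3
  by_cases hFp : IsPGroup p ↥(fittingOf M)
  · have hp2 := UniqProp.p_ne_two hG hA₀e hlt
    have hpF : p ∣ Nat.card (fittingOf M) := by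
      obtain ⟨n, hn⟩ := IsPGroup.iff_card.1 hFp
      have hn0 : n ≠ 0 := by
        rintro rfl
        have := hA₀3.trans (Subgroup.card_le_of_le hA₀F)
        rw [hn, pow_zero] at this
        exact absurd this (not_le.2 (Nat.one_lt_pow (by norm_num) hp.out.one_lt))
      exact hn ▸ dvd_pow_self p hn0
    obtain ⟨P⟩ : Nonempty (Sylow p M) := inferInstance
    obtain ⟨PG, heq, hall⟩ := uniq_pGroup hG hM hp2 hpF hFp P
    have hr : ¬ Cfsg.PRankLE p 2 ↥(PG : Subgroup G) := by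
      refine UniqProp.not_rankLE (B := A₀) ?_ hA₀e
        (lt_of_lt_of_le (Nat.pow_lt_pow_right hp.out.one_lt (by norm_num)) hA₀3)
      rw [← heq]
      exact (le_pCoreOf_of_le_fittingOf hA₀F (UniqProp.isPGroup_of_elementary hA₀e)).trans
        (Subgroup.map_mono (FittingCores.pCore_le_sylow P))
    obtain ⟨A, -, hAc, hscn, hA3⟩ := Uniq.exists_scn_three hp2 PG hr
    exact UniqProp.allUniq_of_abelian hG hAc hA3 (hall A hscn hA3).2
  · have h := uniq_not_pGroup hG hM hA₀F hA₀e hA₀3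
      (fun B hB hBe hAB => le_antisymm (hmax ⟨hB, hBe⟩ hAB) hAB) hFp
    exact UniqProp.allUniq_of hG hA₀e hA₀3
      (UniqProp.pass hG h (Subgroup.le_centralizer_iff.1 inf_le_right) le_rfl hA₀e hlt)

end Cfsg.Agent.OddOrder.FitUniq
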