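/-
Auxiliary facts for the uniqueness of `SCN₃` subgroups (Bender-Glauberman 9.5).
-/
import Cfsg.Agent.Lib.OddOrder.FittingUniq
import Cfsg.Agent.Lib.OddOrder.DerivedNilpotent
import Cfsg.Agent.Lib.Functors.ClosedZJ
import Cfsg.Agent.Lib.Transfer.Fusion
import Cfsg.Agent.Lib.Classification.TI
import Cfsg.Agent.Lib.LocalEven.OmegaOne
import Cfsg.Agent.Lib.Solvable.Structure

set_option autoImplicit false
set_option linter.style.haveILetI false
set_option linter.unusedSectionVars false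

namespace Cfsg.Agent.OddOrder.ScnBasics

open scoped commutatorElement
open Cfsg (fittingOf pCoreOf)
open FitOf

universe u

variable {G : Type u} [Group G] [Finite G] {p : ℕ} [hp : Fact p.Prime]

theorem le_of_uniq {U M Y : Subgroup G} (hU : Cfsg.InUniqueMaximal U) (hM : IsCoatom M) (hUM : U ≤ M)
    (hUY : U ≤ Y) (hY : Y ≠ ⊤) : Y ≤ M := by
  obtain ⟨N, -, hu⟩ := hU
  obtain ⟨L, hL, hYL⟩ := Uniq.exists_maximal_ge hY
  rw [hu M ⟨hM, hUM⟩, ← hu L ⟨hL, hUY.trans hYL⟩]
  exact hYL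

theorem eq_of_uniq {U M L : Subgroup G} (hU : Cfsg.InUniqueMaximal U) (hM : IsCoatom M) (hL : IsCoatom L)
    (hUM : U ≤ M) (hUL : U ≤ L) : L = M := by
  obtain ⟨N, -, hu⟩ := hU
  rw [hu L ⟨hL, hUL⟩, hu M ⟨hM, hUM⟩]

theorem not_rankLE_core {M : Subgroup G} (h : ¬ Cfsg.PRankLE p 2 ↥(fittingOf M)) :
    ¬ Cfsg.PRankLE p 2 ↥(pCoreOf p M) := by
  obtain ⟨E, hEF, hEe, hE3⟩ := UniqProp.exists_elementary h
  exact UniqProp.not_rankLE (FitUniq.le_pCoreOf_of_le_fittingOf hEF (UniqProp.isPGroup_of_elementary hEe))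
    hEe (k := 2) (lt_of_lt_of_le (Nat.pow_lt_pow_right hp.out.one_lt (by norm_num)) hE3)

theorem uniq_of_rank (hG : Cfsg.IsMinSimpleOddOrder G) (hall : UniqProp.AllUniq p G) {R : Subgroup G}
    (hR : IsPGroup p R) (h : ¬ Cfsg.PRankLE p 2 R) : Cfsg.InUniqueMaximal R := by
  obtain ⟨E, hER, hEe, hE3⟩ := UniqProp.exists_elementary h
  exact UniqProp.mono (hall E hEe hE3) hER (MinSimple.pSubgroup_ne_top hG hR)

/-- Subgroups with Fitting subgroup of rank at most two have their derived subgroup inside it. -/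
theorem commutator_le_fittingOf (hG : Cfsg.IsMinSimpleOddOrder G) {X : Subgroup G} (hX : X ≠ ⊤)
    (h : ∀ r : ℕ, r.Prime → Cfsg.PRankLE r 2 ↥(fittingOf X)) : ⁅X, X⁆ ≤ fittingOf X := by
  haveI : Group.IsSolvable X := MinSimple.isSolvable hG hX
  have h1 : commutator X ≤ Cfsg.fittingSubgroup X := by
    refine DerivedNil.commutator_le_fitting (hG.1.of_dvd_nat X.card_subgroup_dvd_card) fun r hr => ?_
    haveI := Fact.mk hr
    by_contra hcon
    obtain ⟨E, hEF, hEe, hE3⟩ := UniqProp.exists_elementary (G := X) hcon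
    refine UniqProp.not_rankLE (K := fittingOf X) (B := E.map X.subtype) (Subgroup.map_mono hEF) ?_ (k := 2)
      ?_ (h r hr)
    · haveI := hEe.1
      refine ⟨inferInstance, ?_⟩
      rintro _ ⟨a, ha, rfl⟩
      rw [← map_pow, hEe.2 a ha, map_one]
    · rw [Subgroup.card_map_of_injective X.subtype_injective]
      exact lt_of_lt_of_le (Nat.pow_lt_pow_right hr.one_lt (by norm_num)) hE3
  rw [← Subgroup.map_subtype_commutator]
  exact Subgroup.map_mono h1

theorem two_dvd_qd (hp2 : p ≠ 2) : 2 ∣ Nat.card ↥(Cfsg.qd p) := by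
  let m : Matrix.SpecialLinearGroup (Fin 3) (ZMod p) :=
    ⟨Matrix.diagonal ![-1, -1, 1], by simp [Matrix.det_diagonal, Fin.prod_univ_three]⟩
  have hm : m ∈ Cfsg.qd p :=
    Subgroup.subset_closure ⟨by simp [m], by simp [m], by simp [m]⟩
  have h1 : m ≠ 1 := fun h => by
    have := congrArg (fun M : Matrix.SpecialLinearGroup (Fin 3) (ZMod p) =>
      (M : Matrix (Fin 3) (Fin 3) (ZMod p)) 0 0) h
    simp [m] at this
    exact PStable.two_ne_zero' (F := ZMod p) hp2 (by linear_combination -this)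
  have h2 : m ^ 2 = 1 := by
    refine Subtype.ext ?_
    rw [pow_two, Matrix.SpecialLinearGroup.coe_mul]
    simp only [m, Matrix.diagonal_mul_diagonal, Matrix.SpecialLinearGroup.coe_one]
    ext i j
    fin_cases i <;> fin_cases j <;> simp
  exact orderOf_eq_prime h2 h1 ▸ Subgroup.orderOf_dvd_natCard _ hm

theorem not_involves_qd (hodd : Odd (Nat.card G)) (hp2 : p ≠ 2) : ¬ Cfsg.Involves ↥(Cfsg.qd p) G := by
  intro h
  obtain ⟨K, ψ, hψ⟩ := PStable.exists_surjective_of_involves h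
  exact Nat.not_even_iff_odd.2 hodd (even_iff_two_dvd.2 ((two_dvd_qd hp2).trans
    ((Subgroup.card_dvd_of_surjective ψ hψ).trans (Subgroup.card_subgroup_dvd_card K))))

/-- A Sylow subgroup lies in the derived subgroup of a maximal subgroup. -/
theorem exists_maximal_focal (hG : Cfsg.IsMinSimpleOddOrder G) (hp2 : p ≠ 2) (P : Sylow p G)
    (hP1 : (P : Subgroup G) ≠ ⊥) : ∃ M : Subgroup G, IsCoatom M ∧ (P : Subgroup G) ≤ ⁅M, M⁆ := by
  have hclosed : Cfsg.IsStronglyClosed (P : Subgroup G) (P : Subgroup G) := ⟨le_rfl, fun _ _ _ h => h⟩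
  set N := Subgroup.normalizer (ZJ.zCore p False (P : Subgroup G) : Set G) with hN
  have hPN : (P : Subgroup G) ≤ N := ClosedZJ.sylow_le hclosed
  have hctl := ClosedZJ.ctl_of_not_involves (e := False) hp2 (not_involves_qd hG.1 hp2) P (P : Subgroup G) hclosed
  have hfoc := Fusion.commutator_inf_eq_of_controlsFusion P N hPN fun x hx g hg => by
    obtain ⟨-, -, n, hn, hna⟩ := hctl {x} g (Set.singleton_subset_iff.2 hx) (by
      rintro _ ⟨a, ha, rfl⟩
      rw [Set.mem_singleton_iff.1 ha]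
      exact hg)
    exact ⟨n, hn, hna x rfl⟩
  haveI := hG.2.1
  have htop : commutator G = ⊤ := by
    rcases (inferInstance : (commutator G).Normal).eq_bot_or_eq_top with h | h
    · exfalso
      refine hG.2.2.1 ⟨⟨fun a b => ?_⟩⟩
      exact commutatorElement_eq_one_iff_mul_comm.1 (Subgroup.mem_bot.1
        (h ▸ Subgroup.commutator_mem_commutator (Subgroup.mem_top a) (Subgroup.mem_top b) :
          ⁅a, b⁆ ∈ (⊥ : Subgroup G)))
    · exact h
  rw [htop, top_inf_eq] at hfoc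
  obtain ⟨M, hM, hNM⟩ := Uniq.exists_maximal_ge (MinSimple.normalizer_ne_top hG
    (ZJ.zCore_ne_bot P.isPGroup' hP1)
    (MinSimple.pSubgroup_ne_top hG (P.isPGroup'.to_le (ClosedZJ.zCore_le (e := False) (P : Subgroup G)))))
  exact ⟨M, hM, (hfoc.le.trans inf_le_left).trans (Subgroup.commutator_mono hNM hNM)⟩

theorem not_isCyclic_of_elementary {B : Subgroup G} (hBe : Cfsg.IsElementaryAbelian p B)
    (hB : p < Nat.card B) : ¬ IsCyclic B := fun hc => by
  haveI := hc
  have := Nat.le_of_dvd hp.out.pos ((IsCyclic.exponent_eq_card (α := B)).symm ▸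
    Monoid.exponent_dvd_of_forall_pow_eq_one fun a => Subtype.ext (by simpa using hBe.2 a a.2))
  exact absurd this (not_le.2 hB)

theorem elementary_of_le {B C : Subgroup G} (hC : Cfsg.IsElementaryAbelian p C) (h : B ≤ C) :
    Cfsg.IsElementaryAbelian p B :=
  haveI := hC.1
  ⟨.of_setLike_mul_comm fun a ha b hb => congrArg Subtype.val (mul_comm' (⟨a, h ha⟩ : C) ⟨b, h hb⟩),
    fun a ha => hC.2 a (h ha)⟩

theorem exists_fixed_not_le {F V Z : Subgroup G} (hF : Cfsg.IsElementaryAbelian p F) (hcard : p < Nat.card F)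
    (hFV : F ≤ Subgroup.normalizer (V : Set G)) (hcop : (Nat.card V).Coprime p) (hVZ : ¬ V ≤ Z) :
    ∃ f ∈ F, f ≠ 1 ∧ ¬ V ⊓ Subgroup.centralizer ({f} : Set G) ≤ Z := by
  by_contra hcon
  push Not at hcon
  haveI := hF.1
  refine hVZ ?_
  obtain ⟨k, hk⟩ := IsPGroup.iff_card.1 (UniqProp.isPGroup_of_elementary hF)
  rw [← CoprimeAct.generated_by_centralizers (not_isCyclic_of_elementary hF hcard) hFV
    (hk ▸ Nat.Coprime.pow_left k hcop.symm)]
  exact iSup₂_le fun f hf => hcon f hf.1 hf.2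

/-- A noncyclic subgroup of an elementary group of order `p³` fixing something outside `Z`. -/
theorem exists_plane {E V Z : Subgroup G} (hE : Cfsg.IsElementaryAbelian p E) (h3 : p ^ 3 ≤ Nat.card E)
    (hEV : E ≤ Subgroup.normalizer (V : Set G)) (hcop : (Nat.card V).Coprime p) (hVZ : ¬ V ≤ Z) :
    ∃ F : Subgroup G, F ≤ E ∧ p < Nat.card F ∧ ¬ V ⊓ Subgroup.centralizer (F : Set G) ≤ Z := by
  haveI := hE.1
  have hp3 : p < p ^ 3 := lt_self_pow₀ hp.out.one_lt (by norm_num)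
  obtain ⟨e₁, he₁, he₁1, hV₁⟩ := exists_fixed_not_le hE (hp3.trans_le h3) hEV hcop hVZ
  obtain ⟨H, -, ⟨hHE, hHe₁⟩, hmax⟩ := Finite.exists_le_maximal (a := (⊥ : Subgroup G))
    (p := fun H : Subgroup G => H ≤ E ∧ e₁ ∉ H) ⟨bot_le, fun h => he₁1 (Subgroup.mem_bot.1 h)⟩
  have hord : Nat.card (Subgroup.zpowers e₁) = p := by
    rw [Nat.card_zpowers, orderOf_eq_prime (hE.2 e₁ he₁) he₁1]
  have hEH : E ≤ Subgroup.zpowers e₁ ⊔ H := by
    intro f hf
    by_contra hfn
    have hfH : f ∉ H := fun h => hfn (Subgroup.mem_sup_right h)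
    have he : e₁ ∈ Subgroup.zpowers f ⊔ H := by
      by_contra hne
      exact hfH (hmax (y := Subgroup.zpowers f ⊔ H) ⟨sup_le (Subgroup.zpowers_le.2 hf) hHE, hne⟩ le_sup_right
        (Subgroup.mem_sup_left (Subgroup.mem_zpowers f)))
    have hn : Subgroup.zpowers f ≤ Subgroup.normalizer (H : Set G) := (Subgroup.zpowers_le.2 hf).trans
      (((Subgroup.le_centralizer E).trans (Subgroup.centralizer_le hHE)).trans (Subgroup.centralizer_le_normalizer _))
    rw [← SetLike.mem_coe, Subgroup.coe_mul_of_left_le_normalizer_right _ _ hn] at he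
    obtain ⟨x, hx, h, hh, hxh⟩ := he
    have hxh' : x = e₁ * h⁻¹ := eq_mul_inv_of_mul_eq hxh
    have hx1 : x ≠ 1 := fun h1 => hHe₁ (by simp only [h1, one_mul] at hxh; exact hxh ▸ hh)
    have hfx : f ∈ Subgroup.zpowers x := by
      have hfo : orderOf f = p := orderOf_eq_prime (hE.2 f hf) fun h1 => hfH (h1 ▸ one_mem H)
      have hxo : orderOf x = p := orderOf_eq_prime
        (hE.2 x ((Subgroup.zpowers_le.2 hf) hx)) hx1
      have : Subgroup.zpowers x = Subgroup.zpowers f :=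
        Subgroup.eq_of_le_of_card_ge (Subgroup.zpowers_le.2 hx)
          (by rw [Nat.card_zpowers, Nat.card_zpowers, hfo, hxo])
      exact this ▸ Subgroup.mem_zpowers f
    refine hfn ((Subgroup.zpowers_le.2 ?_) hfx)
    rw [hxh']
    exact mul_mem (Subgroup.mem_sup_left (Subgroup.mem_zpowers e₁)) (Subgroup.mem_sup_right (inv_mem hh))
  have hH2 : p < Nat.card H := by
    have h1 : p ^ 3 ≤ p * Nat.card H := by
      refine h3.trans ((Subgroup.card_le_of_le hEH).trans ?_)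
      rw [← hord]
      exact TI.card_sup_le_of_le_normalizer ((Subgroup.zpowers_le.2 he₁).trans
        (((Subgroup.le_centralizer E).trans (Subgroup.centralizer_le hHE)).trans (Subgroup.centralizer_le_normalizer _)))
    rw [pow_succ'] at h1
    exact lt_of_lt_of_le (by rw [pow_two]; exact lt_mul_of_one_lt_left hp.out.pos hp.out.one_lt)
      (Nat.le_of_mul_le_mul_left h1 hp.out.pos)
  have hEC : E ≤ Subgroup.normalizer ((Subgroup.centralizer ({e₁} : Set G) : Subgroup G) : Set G) :=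
    le_trans (fun e he => Subgroup.mem_centralizer_singleton_iff.2
      (congrArg Subtype.val (mul_comm' (⟨e, he⟩ : E) ⟨e₁, he₁⟩))) Subgroup.le_normalizer
  obtain ⟨e₂, he₂, he₂1, hV₂⟩ := exists_fixed_not_le (V := V ⊓ Subgroup.centralizer ({e₁} : Set G))
    (elementary_of_le hE hHE) hH2 (hHE.trans (le_normalizer_inf hEV hEC))
    (Nat.Coprime.coprime_dvd_left (Subgroup.card_dvd_of_le inf_le_left) hcop) hV₁
  refine ⟨Subgroup.zpowers e₁ ⊔ Subgroup.zpowers e₂,
    sup_le (Subgroup.zpowers_le.2 he₁) (Subgroup.zpowers_le.2 (hHE he₂)), ?_, fun h => hV₂ (le_trans ?_ h)⟩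
  · refine hord ▸ lt_of_le_of_ne (Subgroup.card_le_of_le le_sup_left) fun h => ?_
    have he : e₂ ∈ Subgroup.zpowers e₁ := (Subgroup.eq_of_le_of_card_ge le_sup_left h.ge).ge
      (Subgroup.mem_sup_right (Subgroup.mem_zpowers e₂))
    have : Subgroup.zpowers e₂ = Subgroup.zpowers e₁ :=
      Subgroup.eq_of_le_of_card_ge (Subgroup.zpowers_le.2 he)
        (by rw [hord, Nat.card_zpowers, orderOf_eq_prime (hE.2 _ (hHE he₂)) he₂1])
    exact hHe₁ ((this ▸ Subgroup.zpowers_le.2 he₂ : Subgroup.zpowers e₁ ≤ H) (Subgroup.mem_zpowers e₁))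
  · rintro v ⟨⟨hv, hv₁⟩, hv₂⟩
    refine ⟨hv, Subgroup.mem_centralizer_iff.2 fun x hx => ?_⟩
    have hle : Subgroup.zpowers e₁ ⊔ Subgroup.zpowers e₂ ≤ Subgroup.centralizer ({v} : Set G) :=
      sup_le (Subgroup.zpowers_le.2 (Subgroup.mem_centralizer_singleton_iff.2
          (Subgroup.mem_centralizer_singleton_iff.1 hv₁).symm))
        (Subgroup.zpowers_le.2 (Subgroup.mem_centralizer_singleton_iff.2
          (Subgroup.mem_centralizer_singleton_iff.1 hv₂).symm))
    exact Subgroup.mem_centralizer_singleton_iff.1 (hle hx)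

/-- The elements `x` of `V` with `x ^ n = 1`, for commutative `V`. -/
def omega (n : ℕ) (V : Subgroup G) (hV : IsMulCommutative V) : Subgroup G where
  carrier := {x | x ∈ V ∧ x ^ n = 1}
  one_mem' := ⟨one_mem V, one_pow n⟩
  mul_mem' := fun {a b} ha hb => ⟨mul_mem ha.1 hb.1, by
    have hc : Commute a b := haveI := hV; congrArg Subtype.val (mul_comm' (⟨a, ha.1⟩ : V) ⟨b, hb.1⟩)
    rw [hc.mul_pow, ha.2, hb.2, mul_one]⟩
  inv_mem' := fun {a} ha => ⟨inv_mem ha.1, by rw [inv_pow, ha.2, inv_one]⟩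

theorem omega_le (n : ℕ) (V : Subgroup G) (hV : IsMulCommutative V) : omega n V hV ≤ V := fun _ h => h.1

theorem omega_elementary (V : Subgroup G) (hV : IsMulCommutative V) :
    Cfsg.IsElementaryAbelian p (omega p V hV) :=
  ⟨.of_setLike_mul_comm fun a ha b hb =>
    haveI := hV; congrArg Subtype.val (mul_comm' (⟨a, ha.1⟩ : V) ⟨b, hb.1⟩), fun _ ha => ha.2⟩

theorem normalizer_le_omega (n : ℕ) (V : Subgroup G) (hV : IsMulCommutative V) :
    Subgroup.normalizer (V : Set G) ≤ Subgroup.normalizer (omega n V hV : Set G) := fun g hg =>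
  Subgroup.mem_normalizer_iff.2 fun x => by
    show (x ∈ V ∧ x ^ n = 1) ↔ (g * x * g⁻¹ ∈ V ∧ (g * x * g⁻¹) ^ n = 1)
    rw [conj_pow, conj_eq_one_iff, ← Subgroup.mem_normalizer_iff.1 hg x]

/-- The centre of a subgroup, as a subgroup of the ambient group. -/
theorem comm_inf_centralizer (V : Subgroup G) :
    IsMulCommutative (V ⊓ Subgroup.centralizer (V : Set G) : Subgroup G) :=
  .of_setLike_mul_comm fun _ ha _ hb => Subgroup.mem_centralizer_iff.1 hb.2 _ ha.1

theorem le_normalizer_centre {X V : Subgroup G} (h : X ≤ Subgroup.normalizer (V : Set G)) :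
    X ≤ Subgroup.normalizer ((V ⊓ Subgroup.centralizer (V : Set G) : Subgroup G) : Set G) :=
  le_normalizer_inf h (h.trans (normalizer_le_normalizer_centralizer _))

/-- A normal elementary subgroup of order `q²` fixed by a noncyclic part of `E`. -/
theorem exists_fixed_pair {q : ℕ} [hq : Fact q.Prime] (hq2 : q ≠ 2) (hqp : q ≠ p) {Q E : Subgroup G}
    (hE : Cfsg.IsElementaryAbelian p E) (h3 : p ^ 3 ≤ Nat.card E) (hQ : IsPGroup q Q)
    (hQnc : ¬ IsCyclic Q) (hEQ : E ≤ Subgroup.normalizer (Q : Set G)) {z : G} (hz : z ∈ Q) (hz1 : z ≠ 1)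
    (hzq : z ^ q = 1) (hQz : ∀ g ∈ Q, g * z = z * g) (hEz : ∀ e ∈ E, e * z = z * e) :
    ∃ F W : Subgroup G, F ≤ E ∧ p < Nat.card F ∧ W ≤ Q ∧ Q ≤ Subgroup.normalizer (W : Set G) ∧
      Cfsg.IsElementaryAbelian q W ∧ Nat.card W = q ^ 2 ∧ F ≤ Subgroup.centralizer (W : Set G) := by
  set Z := Subgroup.zpowers z with hZ
  have hQZ : ∀ g ∈ Q, ∀ c ∈ Z, g * c = c * g := by
    rintro g hg c ⟨i, rfl⟩
    exact ((show Commute g z from hQz g hg).zpow_right i).eq
  have hEZ : ∀ g ∈ E, ∀ c ∈ Z, g * c = c * g := by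
    rintro g hg c ⟨i, rfl⟩
    exact ((show Commute g z from hEz g hg).zpow_right i).eq
  have hZQ : Z ≤ Q := Subgroup.zpowers_le.2 hz
  have hzord : orderOf z = q := orderOf_eq_prime hzq hz1
  have hZcard : Nat.card Z = q := by rw [hZ, Nat.card_zpowers, hzord]
  have hZq : ∀ c ∈ Z, c ^ q = 1 := by
    rintro c ⟨i, rfl⟩
    rw [← zpow_natCast, ← zpow_mul, mul_comm, zpow_mul, zpow_natCast, hzq, one_zpow]
  have hinv : ∀ x ∈ Q, (∀ g ∈ Q, ⁅g, x⁆ ∈ Z) → ∀ g ∈ Q, ⁅g, x⁻¹⁆ ∈ Z := by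
    intro x hx h g hg
    rw [show ⁅g, x⁻¹⁆ = x⁻¹ * ⁅g, x⁆⁻¹ * x by simp only [commutatorElement_def]; group,
      ← hQZ x⁻¹ (inv_mem hx) _ (inv_mem (h g hg)) |>.symm, inv_mul_cancel_right]
    exact inv_mem (h g hg)
  let X : Subgroup G :=
    { carrier := {x | x ∈ Q ∧ x ^ q = 1 ∧ ∀ g ∈ Q, ⁅g, x⁆ ∈ Z}
      one_mem' := ⟨one_mem Q, one_pow q, fun g _ => by rw [commutatorElement_one_right]; exact one_mem Z⟩
      mul_mem' := fun {a b} ha hb => by
        obtain ⟨haQ, haq, haZ⟩ := ha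
        obtain ⟨hbQ, hbq, hbZ⟩ := hb
        refine ⟨mul_mem haQ hbQ, ?_, fun g hg => ?_⟩
        · have hc : ⁅b⁻¹, a⁻¹⁆ ∈ Z := hinv a haQ haZ b⁻¹ (inv_mem hbQ)
          rw [LEOmega.mul_pow_class_two (z := ⁅b⁻¹, a⁻¹⁆) (by simp only [commutatorElement_def]; group)
            (hQZ a haQ _ hc).symm (hQZ b hbQ _ hc).symm, haq, hbq, one_mul, one_mul]
          obtain ⟨m, hm⟩ := hq.out.dvd_choose_self (k := 2) two_ne_zero
            (lt_of_le_of_ne hq.out.two_le (Ne.symm hq2))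
          rw [hm, pow_mul, hZq _ hc, one_pow]
        · rw [show ⁅g, a * b⁆ = ⁅g, a⁆ * (a * ⁅g, b⁆ * a⁻¹) by simp only [commutatorElement_def]; group,
            hQZ a haQ _ (hbZ g hg), mul_inv_cancel_right]
          exact mul_mem (haZ g hg) (hbZ g hg)
      inv_mem' := fun {a} ha => ⟨inv_mem ha.1, by rw [inv_pow, ha.2.1, inv_one], hinv a ha.1 ha.2.2⟩ }
  have hXQ : X ≤ Q := fun x hx => hx.1
  have hEX : E ≤ Subgroup.normalizer (X : Set G) := by
    have key : ∀ e ∈ E, ∀ x ∈ X, e * x * e⁻¹ ∈ X := by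
      intro e he x hx
      obtain ⟨hxQ, hxq, hxZ⟩ := hx
      refine ⟨(Subgroup.mem_normalizer_iff.1 (hEQ he) x).1 hxQ, by rw [conj_pow, hxq, mul_one, mul_inv_cancel], fun g hg => ?_⟩
      have hg' : e⁻¹ * g * e ∈ Q := by
        simpa using (Subgroup.mem_normalizer_iff.1 (hEQ (inv_mem he)) g).1 hg
      rw [show ⁅g, e * x * e⁻¹⁆ = e * ⁅e⁻¹ * g * e, x⁆ * e⁻¹ by simp only [commutatorElement_def]; group,
        hEZ e he _ (hxZ _ hg'), mul_inv_cancel_right]
      exact hxZ _ hg'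
    intro e he
    refine Subgroup.mem_normalizer_iff.2 fun x => ⟨key e he x, fun h => ?_⟩
    simpa [mul_assoc] using key e⁻¹ (inv_mem he) _ h
  have hXZ : ¬ X ≤ Z := by
    obtain ⟨W, hWn, hWe, hW2⟩ := S0126.result hq2 hQ hQnc
    haveI := hWn
    set Z' : Subgroup Q := Z.subgroupOf Q with hZ'
    haveI : Z'.Normal := ⟨fun c hc g => by
      rw [hZ', Subgroup.mem_subgroupOf] at hc ⊢
      push_cast
      rw [hQZ g g.2 _ hc, mul_inv_cancel_right]
      exact hc⟩
    set f := QuotientGroup.mk' Z' with hf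
    haveI : (W.map f).Normal := hWn.map f (QuotientGroup.mk'_surjective _)
    haveI : Group.IsNilpotent (Q ⧸ Z') := (hQ.to_quotient Z').isNilpotent
    have hne : W.map f ≠ ⊥ := by
      intro h
      rw [Subgroup.map_eq_bot_iff, hf, QuotientGroup.ker_mk'] at h
      have h1 := Subgroup.card_le_of_le h
      rw [hW2, hZ', Nat.card_congr (Subgroup.subgroupOfEquivOfLe hZQ).toEquiv, hZcard, pow_two] at h1
      exact absurd h1 (not_le.2 (lt_mul_of_one_lt_left hq.out.pos hq.out.one_lt))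
    obtain ⟨y, hy, hy1⟩ := ((W.map f ⊓ Subgroup.center _).bot_or_exists_ne_one).resolve_left
      (SolvStruct.inf_center_ne_bot hne)
    obtain ⟨⟨x, hx, rfl⟩, hyc⟩ := hy
    intro hle
    refine hy1 ((QuotientGroup.eq_one_iff x).2 (hle ⟨x.2, congrArg Subtype.val (hWe.2 x hx), fun g hg => ?_⟩))
    have h2 : f ⁅(⟨g, hg⟩ : Q), x⁆ = 1 := by
      rw [map_commutatorElement, commutatorElement_eq_one_iff_mul_comm]
      exact Subgroup.mem_center_iff.1 hyc _
    exact ((QuotientGroup.eq_one_iff ⁅(⟨g, hg⟩ : Q), x⁆).1 h2 :)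
  have hXcop : (Nat.card X).Coprime p := by
    obtain ⟨k, hk⟩ := IsPGroup.iff_card.1 (hQ.to_le hXQ)
    rw [hk]; exact Nat.Coprime.pow_left k ((Nat.coprime_primes hq.out hp.out).2 hqp)
  obtain ⟨F, hFE, hFcard, hF⟩ := exists_plane hE h3 hEX hXcop hXZ
  obtain ⟨x, ⟨hxX, hxF⟩, hxZ⟩ := SetLike.not_le_iff_exists.1 hF
  obtain ⟨hxQ, hxq, hxcomm⟩ := hxX
  set W := Z ⊔ Subgroup.zpowers x with hW
  have hzxc : Z ≤ Subgroup.centralizer (W : Set G) := Subgroup.le_centralizer_iff.1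
    (sup_le (fun c hc => Subgroup.mem_centralizer_iff.2 fun d hd => (hQZ c (hZQ hc) d hd).symm)
      (Subgroup.zpowers_le.2 (Subgroup.mem_centralizer_iff.2 fun d hd => (hQZ x hxQ d hd).symm)))
  have hxc : Subgroup.zpowers x ≤ Subgroup.centralizer (W : Set G) := Subgroup.le_centralizer_iff.1
    (sup_le (fun c hc => Subgroup.mem_centralizer_iff.2 fun d hd => by
      have hdQ : d ∈ Q := (Subgroup.zpowers_le.2 hxQ) hd
      exact hQZ d hdQ c hc) (Subgroup.le_centralizer _))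
  have hWX : W ≤ X := sup_le (fun c hc => ⟨hZQ hc, hZq c hc, fun g hg => by
    rw [commutatorElement_eq_one_iff_mul_comm.2 (hQZ g hg c hc)]; exact one_mem Z⟩)
    (Subgroup.zpowers_le.2 ⟨hxQ, hxq, hxcomm⟩)
  have hWc : IsMulCommutative W := .of_setLike_mul_comm fun a ha b hb =>
    Subgroup.mem_centralizer_iff.1 ((sup_le hzxc hxc : W ≤ _) hb) a ha
  have hWe : Cfsg.IsElementaryAbelian q W := ⟨hWc, fun a ha => (hWX ha).2.1⟩
  have hle2 : Nat.card W ≤ q * q := by
    refine (TI.card_sup_le_of_le_normalizer (hzxc.trans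
      ((Subgroup.centralizer_le (le_sup_right : Subgroup.zpowers x ≤ W)).trans (Subgroup.centralizer_le_normalizer _)))).trans ?_
    rw [hZcard, Nat.card_zpowers, orderOf_eq_prime hxq fun h => hxZ (h ▸ one_mem Z)]
  have hlt : q < Nat.card W := hZcard ▸ lt_of_le_of_ne (Subgroup.card_le_of_le le_sup_left) fun h =>
    hxZ ((Subgroup.eq_of_le_of_card_ge le_sup_left h.ge).ge (Subgroup.mem_sup_right (Subgroup.mem_zpowers x)))
  obtain ⟨k, hk⟩ := IsPGroup.iff_card.1 (hQ.to_le (hWX.trans hXQ))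
  have hk2 : k = 2 := by
    rw [hk] at hlt hle2
    rw [← pow_two] at hle2
    have h1 := (Nat.pow_le_pow_iff_right hq.out.one_lt).1 hle2
    have h2 : 1 < k := (Nat.pow_lt_pow_iff_right hq.out.one_lt).1 (by rwa [pow_one])
    omega
  refine ⟨F, W, hFE, hFcard, hWX.trans hXQ, ?_, hWe, hk2 ▸ hk, ?_⟩
  · have key : ∀ g ∈ Q, ∀ w ∈ W, g * w * g⁻¹ ∈ W := by
      intro g hg w hw
      rw [show g * w * g⁻¹ = ⁅g, w⁆ * w by simp only [commutatorElement_def]; group]
      exact mul_mem (Subgroup.mem_sup_left ((hWX hw).2.2 g hg)) hw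
    intro g hg
    refine Subgroup.mem_normalizer_iff.2 fun w => ⟨key g hg w, fun h => ?_⟩
    simpa [mul_assoc] using key g⁻¹ (inv_mem hg) _ h
  · rw [Subgroup.le_centralizer_iff]
    exact sup_le (fun c hc => Subgroup.mem_centralizer_iff.2 fun e he => hEZ e (hFE he) c hc)
      (Subgroup.zpowers_le.2 hxF)

/-- Elements of a derived subgroup centralize every normalized cyclic subgroup. -/
theorem commutator_le_centralizer {H : Subgroup G} {z : G}
    (hH : H ≤ Subgroup.normalizer (Subgroup.zpowers z : Set G)) :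
    ⁅H, H⁆ ≤ Subgroup.centralizer ({z} : Set G) := by
  rw [Subgroup.commutator_le]
  intro a ha b hb
  have key : ∀ g ∈ H, ∃ i : ℤ, ∀ n : ℤ, g * z ^ n * g⁻¹ = z ^ (i * n) := fun g hg => by
    obtain ⟨i, hi⟩ := (Subgroup.mem_normalizer_iff.1 (hH hg) z).1 (Subgroup.mem_zpowers z)
    exact ⟨i, fun n => by rw [← conj_zpow, ← (show z ^ i = g * z * g⁻¹ from hi), zpow_mul]⟩
  obtain ⟨i, hi⟩ := key a ha
  obtain ⟨j, hj⟩ := key b hb
  obtain ⟨k, hk⟩ := (Subgroup.mem_normalizer_iff.1 (hH (inv_mem (mul_mem hb ha))) z).1 (Subgroup.mem_zpowers z)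
  have hzk : z = (b * a) * z ^ k * (b * a)⁻¹ := by
    rw [show z ^ k = (b * a)⁻¹ * z * (b * a)⁻¹⁻¹ from hk]; group
  have heq : (a * b) * z ^ k * (a * b)⁻¹ = (b * a) * z ^ k * (b * a)⁻¹ := by
    calc (a * b) * z ^ k * (a * b)⁻¹ = a * (b * z ^ k * b⁻¹) * a⁻¹ := by group
      _ = z ^ (j * (i * k)) := by rw [hj, hi, mul_left_comm]
      _ = b * (a * z ^ k * a⁻¹) * b⁻¹ := by rw [hi, hj]
      _ = (b * a) * z ^ k * (b * a)⁻¹ := by group
  refine Subgroup.mem_centralizer_singleton_iff.2 ?_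
  calc ⁅a, b⁆ * z = ⁅a, b⁆ * ((b * a) * z ^ k * (b * a)⁻¹) := by rw [← hzk]
    _ = (a * b) * z ^ k * (a * b)⁻¹ * ⁅a, b⁆ := by simp only [commutatorElement_def]; group
    _ = z * ⁅a, b⁆ := by rw [heq, ← hzk]

/-- The factorisation `M = O_{p'}(M) N_M(T)` puts the Sylow subgroup in the derived subgroup of `N_M(T)`. -/
theorem exists_core_focal {M P : Subgroup G} (hsolv : Group.IsSolvable M) (hodd : Odd (Nat.card G))
    (hp2 : p ≠ 2) (S : Sylow p M) (hS : (S : Subgroup M).map M.subtype = P) (hfoc : P ≤ ⁅M, M⁆) :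
    ∃ T : Subgroup G, T ≤ P ∧ P ≤ ⁅M ⊓ Subgroup.normalizer (T : Set G), M ⊓ Subgroup.normalizer (T : Set G)⁆ ∧
      ∀ A : Subgroup G, A ≤ P → IsMulCommutative A → P ≤ Subgroup.normalizer (A : Set G) → A ≤ T := by
  have hodd' : Odd (Nat.card M) := hodd.of_dvd_nat M.card_subgroup_dvd_card
  haveI := FittingCores.pPrimeCore_normal (G := M) p
  set T₀ := (S : Subgroup M) ⊓ Cfsg.pPrimePCore p M with hT₀
  set H := Subgroup.normalizer (T₀ : Set M) with hH
  have hSH : (S : Subgroup M) ≤ H := by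
    haveI := FittingCores.pCore_normal (G := M ⧸ Cfsg.pPrimeCore p M) p
    haveI : (Cfsg.pPrimePCore p M).Normal := Subgroup.Normal.comap inferInstance _
    exact le_normalizer_inf Subgroup.le_normalizer Subgroup.le_normalizer_of_normal
  set f := QuotientGroup.mk' (Cfsg.pPrimeCore p M) with hf
  have hHtop : H.map f = ⊤ := by
    have h := congrArg (Subgroup.map f) (LocalFactor.factor_core S)
    rwa [Subgroup.map_sup, hf, QuotientGroup.map_mk'_self, bot_sup_eq,
      Subgroup.map_top_of_surjective _ (QuotientGroup.mk'_surjective _)] at h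
  have hder : (S : Subgroup M) ≤ ⁅H, H⁆ := by
    intro x hx
    have hxM : x ∈ commutator M := by
      have h1 : (x : G) ∈ (commutator M).map M.subtype := by
        rw [Subgroup.map_subtype_commutator]
        exact hfoc (hS ▸ ⟨x, hx, rfl⟩)
      obtain ⟨y, hy, hyx⟩ := h1
      rwa [← Subtype.ext hyx]
    have h2 : f x ∈ (⁅H, H⁆).map f := by
      rw [Subgroup.map_commutator, hHtop]
      exact Subgroup.map_commutator (⊤ : Subgroup M) ⊤ f ▸ Subgroup.mem_map_of_mem f hxM |> fun h => by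
        rwa [Subgroup.map_top_of_surjective _ (QuotientGroup.mk'_surjective _)] at h
    obtain ⟨h, hh, hhx⟩ := h2
    have hHH : ⁅H, H⁆ ≤ H := Subgroup.commutator_le_self H
    have hkO : h⁻¹ * x ∈ Cfsg.pPrimeCore p M := QuotientGroup.eq.1 hhx
    set k : H := ⟨h⁻¹ * x, mul_mem (inv_mem (hHH hh)) (hSH hx)⟩ with hk
    set x' : H := ⟨x, hSH hx⟩ with hx'
    have hhc : (⟨h, hHH hh⟩ : H) ∈ commutator H := by
      have h3 : h ∈ (commutator H).map H.subtype := by rw [Subgroup.map_subtype_commutator]; exact hh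
      obtain ⟨y, hy, hyh⟩ := h3
      exact (show (⟨h, hHH hh⟩ : H) = y from Subtype.ext hyh.symm) ▸ hy
    have heq : Abelianization.of x' = Abelianization.of k := by
      rw [show x' = ⟨h, hHH hh⟩ * k from Subtype.ext (by simp [hx', hk]), map_mul,
        show Abelianization.of (⟨h, hHH hh⟩ : H) = 1 by
          rw [← MonoidHom.mem_ker, Abelianization.ker_of]; exact hhc, one_mul]
    have hox : ∃ j, orderOf x' = p ^ j := by
      obtain ⟨j, hj⟩ := IsPGroup.iff_orderOf.1 S.isPGroup' ⟨x, hx⟩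
      exact ⟨j, by rw [Subgroup.orderOf_mk] at hj ⊢; exact hj⟩
    obtain ⟨j, hj⟩ := hox
    have hok : (orderOf k).Coprime p := by
      rw [hk, Subgroup.orderOf_mk]
      exact PBasic.coprime_orderOf_of_mem (FittingCores.pPrimeCore_coprime p) hkO
    have h1 : Abelianization.of x' = 1 := by
      refine orderOf_eq_one_iff.1 (Nat.eq_one_of_dvd_coprimes (Nat.Coprime.pow_left j hok.symm)
        (hj ▸ orderOf_map_dvd _ x') (heq ▸ orderOf_map_dvd _ k))
    rw [← MonoidHom.mem_ker, Abelianization.ker_of] at h1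
    rw [← Subgroup.map_subtype_commutator]
    exact ⟨x', h1, rfl⟩
  refine ⟨T₀.map M.subtype, hS ▸ Subgroup.map_mono inf_le_left, ?_, fun A hA hAc hn => ?_⟩
  · rw [← hS]
    refine (Subgroup.map_mono hder).trans ?_
    rw [Subgroup.map_commutator]
    exact Subgroup.commutator_mono (le_inf (Subgroup.map_subtype_le _) (Subgroup.le_normalizer_map _))
      (le_inf (Subgroup.map_subtype_le _) (Subgroup.le_normalizer_map _))
  · have hPM : P ≤ M := hS ▸ Subgroup.map_subtype_le _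
    have hAS : A.subgroupOf M ≤ (S : Subgroup M) := fun a ha => by
      obtain ⟨b, hb, hab⟩ := (hS.symm ▸ hA ha : (a : G) ∈ (S : Subgroup M).map M.subtype)
      rwa [← Subtype.ext hab]
    haveI := hAc
    have hle : A.subgroupOf M ≤ Cfsg.pPrimePCore p M := by
      refine LocalFactor.abelian_le hodd' hp2 S hAS inferInstance fun s hs => ?_
      rw [Subgroup.mem_normalizer_iff]
      intro y
      exact Subgroup.mem_normalizer_iff.1 (hn (hS ▸ ⟨s, hs, rfl⟩ : (s : G) ∈ P)) y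
    intro a ha
    exact ⟨⟨a, hPM (hA ha)⟩, ⟨hAS ha, hle ha⟩, rfl⟩

end Cfsg.Agent.OddOrder.ScnBasics
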