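/-
Subgroups in `SCN₃` lie in a unique maximal subgroup (Bender-Glauberman 9.5).
-/
import Cfsg.Agent.Lib.OddOrder.ScnBasics

set_option autoImplicit false
set_option linter.style.haveILetI false
set_option linter.unusedSectionVars false

namespace Cfsg.Agent.OddOrder.ScnUniq

open scoped commutatorElement
open Cfsg (fittingOf pCoreOf)
open FitOf ScnBasics

universe u

variable {G : Type u} [Group G] [Finite G] {p : ℕ} [hp : Fact p.Prime]

/-- The standing data: `A ∈ SCN₃(P)` with its consequences. -/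
structure Data (P : Sylow p G) (A : Subgroup G) : Prop where
  hG : Cfsg.IsMinSimpleOddOrder G
  hAp : IsPGroup p A
  hAc : IsMulCommutative A
  hscn : Cfsg.IsSCN (P : Subgroup G) A
  hA3 : ¬ Cfsg.PRankLE p 2 A
  hT : Cfsg.TransitivityHypothesis A
  hpA : p ∣ Nat.card A

variable {P : Sylow p G} {A : Subgroup G}

theorem data_of (hG : Cfsg.IsMinSimpleOddOrder G) (hscn : Cfsg.IsSCN (P : Subgroup G) A)
    (hA3 : ¬ Cfsg.PRankLE p 2 A) : Data P A := by
  have hAp : IsPGroup p A := P.isPGroup'.to_le hscn.1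
  have hAc : IsMulCommutative A := .of_setLike_mul_comm fun a ha b hb =>
    Subgroup.mem_centralizer_iff.1 (hscn.2.2.ge hb).2 a ha
  obtain ⟨E, hEA, hEe, hE3⟩ := UniqProp.exists_elementary hA3
  have hpA : p ∣ Nat.card A := by
    obtain ⟨k, hk⟩ := IsPGroup.iff_card.1 hAp
    have hk0 : k ≠ 0 := by
      rintro rfl
      have := hE3.trans (Subgroup.card_le_of_le hEA)
      rw [hk, pow_zero] at this
      exact absurd this (not_le.2 (Nat.one_lt_pow (by norm_num) hp.out.one_lt))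
    exact hk ▸ dvd_pow_self p hk0
  have hA2 : ¬ Cfsg.PRankLE p 1 A := fun h => hA3 fun B hB hBp =>
    (h B hB hBp).trans (Nat.pow_le_pow_right hp.out.pos (by norm_num))
  exact ⟨hG, hAp, hAc, hscn, hA3,
    S1396.result hG p (hpA.trans A.card_subgroup_dvd_card) A hAp hAc (Or.inr ⟨P, hscn, hA2⟩), hpA⟩

variable (d : Data P A)

include d

theorem not_dvd {r : ℕ} (hr : r.Prime) (hrp : r ≠ p) : ¬ r ∣ Nat.card A := by
  intro h
  obtain ⟨k, hk⟩ := IsPGroup.iff_card.1 d.hAp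
  exact hrp ((Nat.prime_dvd_prime_iff_eq hr hp.out).1 (hr.dvd_of_dvd_pow (hk ▸ h)))

theorem trans_conj {r : ℕ} [hr : Fact r.Prime] (hrp : r ≠ p) :
    ∀ Q₁ ∈ Cfsg.maxInvSubgroups ⊤ A {r}, ∀ Q₂ ∈ Cfsg.maxInvSubgroups ⊤ A {r},
      ∃ k ∈ Cfsg.piCoreOf (Cfsg.primesNotDvd (Nat.card A)) (Subgroup.centralizer (A : Set G)),
        Q₂ = Q₁.map (MulAut.conj k).toMonoidHom := fun Q₁ h₁ Q₂ h₂ =>
  TransHyp.conj_of_rank_three d.hG d.hT (not_dvd d hr.out hrp) (by
    haveI := d.hAc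
    rw [inf_eq_left.2 (Subgroup.le_centralizer A)]
    exact fun h => d.hA3 (h p hp.out)) h₁ h₂

theorem data_P {r : ℕ} [hr : Fact r.Prime] (hrp : r ≠ p) {S : Subgroup G} (hAS : A ≤ S)
    (hSP : S ≤ (P : Subgroup G)) :
    Cfsg.piCoreOf (Cfsg.primesNotDvd (Nat.card A)) (Subgroup.centralizer (A : Set G)) ⊓ Subgroup.centralizer (S : Set G) =
        Cfsg.piCoreOf (Cfsg.primesNotDvd (Nat.card A)) (Subgroup.centralizer (S : Set G)) ∧
      (∀ Q₁ ∈ Cfsg.maxInvSubgroups ⊤ S {r}, ∀ Q₂ ∈ Cfsg.maxInvSubgroups ⊤ S {r},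
        ∃ k ∈ Cfsg.piCoreOf (Cfsg.primesNotDvd (Nat.card A)) (Subgroup.centralizer (S : Set G)),
          Q₂ = Q₁.map (MulAut.conj k).toMonoidHom) ∧
      Cfsg.maxInvSubgroups ⊤ S {r} ⊆ Cfsg.maxInvSubgroups ⊤ A {r} ∧
      ∀ Q ∈ Cfsg.maxInvSubgroups ⊤ S {r},
        S ⊓ ⁅Subgroup.normalizer (S : Set G), Subgroup.normalizer (S : Set G)⁆ ≤
          ⁅Subgroup.normalizer (Q : Set G), Subgroup.normalizer (Q : Set G)⁆ ∧
        Subgroup.normalizer (S : Set G) =
          Cfsg.piCoreOf (Cfsg.primesNotDvd (Nat.card A)) (Subgroup.centralizer (S : Set G)) ⊔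
            (Subgroup.normalizer (S : Set G) ⊓ Subgroup.normalizer (Q : Set G)) :=
  S1395.result d.hG A d.hT r hr.out (not_dvd d hr.out hrp) S
    (MinSimple.pSubgroup_ne_top d.hG (P.isPGroup'.to_le hSP))
    (fun s hs hd => by
      obtain ⟨k, hk⟩ := IsPGroup.iff_card.1 (P.isPGroup'.to_le hSP)
      exact ((Nat.prime_dvd_prime_iff_eq hs hp.out).1 (hs.dvd_of_dvd_pow (hk ▸ hd))).symm ▸ d.hpA)
    hAS (Subgroup.Normal.isSubnormal (Subgroup.normal_subgroupOf_of_le_normalizer (hSP.trans d.hscn.2.1)))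
    (trans_conj d hrp)

/-- An invariant subgroup normalized by the core of `C(A)` lies in every maximal invariant one. -/
theorem le_max {r : ℕ} [Fact r.Prime] (hrp : r ≠ p) {X Y T : Subgroup G}
    (hYr : IsPGroup r Y) (hAY : A ≤ Subgroup.normalizer (Y : Set G))
    (hT : T ∈ Cfsg.maxInvSubgroups ⊤ A {r}) (hXY : X ≤ Subgroup.normalizer (Y : Set G))
    (hDX : Cfsg.piCoreOf (Cfsg.primesNotDvd (Nat.card A)) (Subgroup.centralizer (A : Set G)) ≤ X) :
    Y ≤ T := by
  obtain ⟨T', hT', hYT'⟩ := Inv.exists_max (H := ⊤) (A := A) (π := {r}) (Inv.mem_inv_iff.2 ⟨hYr, hAY⟩)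
  obtain ⟨k, hk, hTk⟩ := trans_conj d hrp T hT T' hT'
  intro y hy
  have hky : k * y * k⁻¹ ∈ Y := (Subgroup.mem_normalizer_iff.1 (hXY (hDX hk)) y).1 hy
  have h := hYT' hky
  rw [hTk] at h
  obtain ⟨t, ht, hte⟩ := h
  have hty : t = y := by simpa using hte
  exact hty ▸ ht

/-- The heart of the argument: centralizers of elements fixing `z` lie in `M`. -/
theorem centralizer_le (hnoF : ∀ L : Subgroup G, IsCoatom L → Cfsg.PRankLE p 2 ↥(fittingOf L))
    {M : Subgroup G} (hM : IsCoatom M) (hfoc : (P : Subgroup G) ≤ ⁅M, M⁆)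
    {q : ℕ} [hq : Fact q.Prime] (hqp : q ≠ p) (hall : UniqProp.AllUniq q G)
    (hq0 : ¬ Cfsg.PRankLE q 2 ↥(pCoreOf q M))
    {Qs : Subgroup G} (hQs : Qs ∈ Cfsg.maxInvSubgroups ⊤ (P : Subgroup G) {q})
    (hQ0 : pCoreOf q M ≤ Qs) (hQsM : Qs ≤ M) {z : G} (hz1 : z ≠ 1) (hzq : z ^ q = 1)
    (hz0 : z ∈ pCoreOf q M) (hzC : z ∈ Subgroup.centralizer (Qs : Set G))
    (hAz : A ≤ Subgroup.normalizer (Subgroup.zpowers z : Set G)) {a : G} (ha : a ∈ A)
    (hane : a * z ≠ z * a) {b : G} (hbA : b ∈ A) (hb1 : b ≠ 1) (hzb : z * b = b * z) :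
    Subgroup.centralizer ({b} : Set G) ≤ M := by
  classical
  haveI := d.hAc
  have hG := d.hG
  obtain ⟨hAP, hPA, hcent⟩ := d.hscn
  have hPM : (P : Subgroup G) ≤ M := hfoc.trans (Subgroup.commutator_le_self M)
  have hAM : A ≤ M := hAP.trans hPM
  have hp2 : p ≠ 2 := Uniq.ne_two_of_dvd hG (d.hpA.trans A.card_subgroup_dvd_card)
  set Q0 := pCoreOf q M with hQ0def
  set D := Cfsg.piCoreOf (Cfsg.primesNotDvd (Nat.card A)) (Subgroup.centralizer (A : Set G)) with hD
  have hQsq : IsPGroup q Qs := (Inv.mem_max_iff.1 hQs).1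
  have hQsU : Cfsg.InUniqueMaximal Qs :=
    UniqProp.mono (uniq_of_rank hG hall (isPGroup_pCoreOf q M) hq0) hQ0 (MinSimple.pSubgroup_ne_top hG hQsq)
  have hzord : orderOf z = q := orderOf_eq_prime hzq hz1
  have hzcard : Nat.card (Subgroup.zpowers z) = q := by rw [Nat.card_zpowers, hzord]
  have hz_ne : Subgroup.zpowers z ≠ ⊥ := fun h => hz1 (Subgroup.mem_bot.1 (h ▸ Subgroup.mem_zpowers z))
  have hzpq : IsPGroup q (Subgroup.zpowers z) := IsPGroup.of_card (n := 1) (by rw [hzcard, pow_one])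
  have hNzM : Subgroup.normalizer (Subgroup.zpowers z : Set G) ≤ M := by
    refine le_of_uniq hQsU hM hQsM (fun x hx => Subgroup.centralizer_le_normalizer _ ?_)
      (MinSimple.normalizer_ne_top hG hz_ne (MinSimple.pSubgroup_ne_top hG hzpq))
    refine Subgroup.mem_centralizer_iff.2 ?_
    rintro c ⟨i, rfl⟩
    exact ((show Commute x z from Subgroup.mem_centralizer_iff.1 hzC x hx).zpow_right i).eq.symm
  obtain ⟨X, hX, hbX⟩ := Uniq.exists_maximal_ge (MinSimple.centralizer_singleton_ne_top hG hb1)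
  suffices hXM : X = M from hXM ▸ hbX
  by_contra hne
  have hAb : A ≤ Subgroup.centralizer ({b} : Set G) := fun x hx =>
    Subgroup.mem_centralizer_singleton_iff.2 (congrArg Subtype.val (mul_comm' (⟨x, hx⟩ : A) ⟨b, hbA⟩))
  have hAX : A ≤ X := hAb.trans hbX
  have hDX : D ≤ X := fun k hk => hbX (Subgroup.mem_centralizer_singleton_iff.2
    (Subgroup.mem_centralizer_iff.1 (MinSimple.piCoreOf_le hk) b hbA).symm)
  have hzX : z ∈ X := hbX (Subgroup.mem_centralizer_singleton_iff.2 hzb)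
  have hne' : ∀ {U : Subgroup G}, Cfsg.InUniqueMaximal U → U ≤ M → U ≤ X → False :=
    fun hU h1 h2 => hne (eq_of_uniq hU hM hX h1 h2)
  obtain ⟨-, -, hsub, -⟩ := data_P d hqp (S := (P : Subgroup G)) hAP le_rfl
  have hQsA : Qs ∈ Cfsg.maxInvSubgroups ⊤ A {q} := hsub hQs
  have hOqX : pCoreOf q X ≤ Qs := le_max d hqp (isPGroup_pCoreOf q X)
    (hAX.trans (le_normalizer_pCoreOf q X)) hQsA (le_normalizer_pCoreOf q X) hDX
  by_cases hbig : ∀ r : ℕ, r.Prime → Cfsg.PRankLE r 2 ↥(fittingOf X)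
  · -- `X'` is nilpotent
    have hX'F := commutator_le_fittingOf hG hX.1 hbig
    have hcZ : ⁅a, z⁆ ∈ Subgroup.zpowers z := by
      rw [commutatorElement_def]
      exact mul_mem ((Subgroup.mem_normalizer_iff.1 (hAz ha) z).1 (Subgroup.mem_zpowers z))
        (inv_mem (Subgroup.mem_zpowers z))
    have hc1 : ⁅a, z⁆ ≠ 1 := fun h => hane (commutatorElement_eq_one_iff_mul_comm.1 h)
    have hcF : ⁅a, z⁆ ∈ fittingOf X := hX'F (Subgroup.commutator_mem_commutator (hAX ha) hzX)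
    have hceq : Subgroup.zpowers ⁅a, z⁆ = Subgroup.zpowers z := by
      refine Subgroup.eq_of_le_of_card_ge (Subgroup.zpowers_le.2 hcZ) (le_of_eq ?_)
      rw [hzcard, Nat.card_zpowers]
      refine (orderOf_eq_prime ?_ hc1).symm
      obtain ⟨i, hi⟩ := hcZ
      rw [← hi, ← zpow_natCast, ← zpow_mul, mul_comm, zpow_mul, zpow_natCast, hzq, one_zpow]
    have hzO : z ∈ pCoreOf q X := by
      refine FitUniq.le_pCoreOf_of_le_fittingOf (Subgroup.zpowers_le.2 hcF) ?_ ?_
      · rw [hceq]; exact hzpq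
      · rw [hceq]; exact Subgroup.mem_zpowers z
    set OX := pCoreOf q X with hOX
    have hVc := comm_inf_centralizer OX
    set U := omega q (centreCore q X) hVc with hU
    have hzU : z ∈ U := ⟨⟨hzO, Subgroup.mem_centralizer_iff.2 fun y hy =>
      Subgroup.mem_centralizer_iff.1 hzC y (hOqX hy)⟩, hzq⟩
    have hXU : X ≤ Subgroup.normalizer (U : Set G) :=
      (le_normalizer_centreCore q X).trans (normalizer_le_omega _ _ _)
    have hUQ : U ≤ Qs := ((omega_le _ _ hVc).trans inf_le_left).trans hOqX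
    have hUX : U ≤ X := ((omega_le _ _ hVc).trans inf_le_left).trans (pCoreOf_le q X)
    have hFU : ⁅X, X⁆ ≤ Subgroup.centralizer (U : Set G) := hX'F.trans (Subgroup.le_centralizer_iff.1
      ((omega_le _ _ hVc).trans ((centreCore_le hq.out X).trans inf_le_right)))
    set S := Qs ⊓ X with hS
    set U₁ := U ⊓ Subgroup.centralizer (S : Set G) with hU₁
    have hzU₁ : z ∈ U₁ := ⟨hzU, Subgroup.mem_centralizer_iff.2 fun y hy =>
      Subgroup.mem_centralizer_iff.1 hzC y hy.1⟩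
    have hXU₁ : X ≤ Subgroup.normalizer (U₁ : Set G) := by
      have key : ∀ g ∈ X, ∀ u ∈ U₁, g * u * g⁻¹ ∈ U₁ := by
        intro g hg u hu
        refine ⟨(Subgroup.mem_normalizer_iff.1 (hXU hg) u).1 hu.1, Subgroup.mem_centralizer_iff.2 fun s hs => ?_⟩
        have hc : ⁅g⁻¹, s⁆ * u = u * ⁅g⁻¹, s⁆ :=
          (Subgroup.mem_centralizer_iff.1 (hFU (Subgroup.commutator_mem_commutator (inv_mem hg) hs.2)) u hu.1).symm
        have hsu : s * u = u * s := Subgroup.mem_centralizer_iff.1 hu.2 s hs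
        calc s * (g * u * g⁻¹) = g * (⁅g⁻¹, s⁆ * (s * u)) * g⁻¹ := by
              simp only [commutatorElement_def]; group
          _ = g * (u * (⁅g⁻¹, s⁆ * s)) * g⁻¹ := by rw [hsu, ← mul_assoc ⁅g⁻¹, s⁆ u s, hc, mul_assoc u]
          _ = g * u * g⁻¹ * s := by simp only [commutatorElement_def]; group
      intro g hg
      refine Subgroup.mem_normalizer_iff.2 fun u => ⟨key g hg u, fun h => ?_⟩
      simpa [mul_assoc] using key g⁻¹ (inv_mem hg) _ h
    by_cases hU₁q : Nat.card U₁ ≤ q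
    · have hU₁z : U₁ = Subgroup.zpowers z :=
        (Subgroup.eq_of_le_of_card_ge (Subgroup.zpowers_le.2 hzU₁) (hzcard.symm ▸ hU₁q)).symm
      exact hne ((hX.le_iff.1 ((hU₁z ▸ hXU₁).trans hNzM)).resolve_left hM.1).symm
    rw [not_le] at hU₁q
    have hU₁e : Cfsg.IsElementaryAbelian q U₁ :=
      elementary_of_le (omega_elementary _ hVc) inf_le_left
    have hU₁Q : U₁ ≤ Qs := inf_le_left.trans hUQ
    have hU₁X : U₁ ≤ X := inf_le_left.trans hUX
    have hrkS : Cfsg.PRankLE q 2 S := by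
      by_contra hcon
      obtain ⟨E', hE'S, hE'e, hE'3⟩ := UniqProp.exists_elementary hcon
      exact hne' (UniqProp.pass hG (hall E' hE'e hE'3)
        (inf_le_right.trans (Subgroup.centralizer_le hE'S)) le_rfl hU₁e hU₁q) (hU₁Q.trans hQsM) hU₁X
    have hSq : IsPGroup q S := hQsq.to_le inf_le_left
    set W := omega q (S ⊓ Subgroup.centralizer (S : Set G)) (comm_inf_centralizer S) with hW
    have hU₁W : U₁ ≤ W := fun u hu => ⟨⟨⟨hU₁Q hu, hU₁X hu⟩, hu.2⟩, hu.1.2⟩
    have hWeq : U₁ = W := by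
      refine Subgroup.eq_of_le_of_card_ge hU₁W ?_
      have hWS : W ≤ S := (omega_le _ _ _).trans inf_le_left
      have h1 : Nat.card W ≤ q ^ 2 := by
        by_contra hcon
        exact UniqProp.not_rankLE hWS (omega_elementary _ _) (k := 2) (not_le.1 hcon) hrkS
      obtain ⟨j, hj⟩ := IsPGroup.iff_card.1 (hSq.to_le (hU₁W.trans hWS))
      refine h1.trans ?_
      rw [hj] at hU₁q ⊢
      exact Nat.pow_le_pow_right hq.out.pos ((Nat.pow_lt_pow_iff_right hq.out.one_lt).1 (by rwa [pow_one] : q ^ 1 < q ^ j))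
    have hU₁ne : U₁ ≠ ⊥ := fun h => hz1 (Subgroup.mem_bot.1 (h ▸ hzU₁))
    have hNU₁ : Subgroup.normalizer (U₁ : Set G) = X :=
      (hX.le_iff.1 hXU₁).resolve_left (MinSimple.normalizer_ne_top hG hU₁ne
        (MinSimple.pSubgroup_ne_top hG (hQsq.to_le hU₁Q)))
    by_cases hSQ : S = Qs
    · exact hne' hQsU hQsM (hSQ ▸ inf_le_right)
    · obtain ⟨x, hxQ, hxN, hxS⟩ := LocalFactor.exists_normalizing hQsq (lt_of_le_of_ne inf_le_left hSQ)
      refine hxS ⟨hxQ, hNU₁ ▸ ?_⟩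
      rw [hWeq]
      exact normalizer_le_omega _ _ _ (le_normalizer_centre le_rfl hxN)
  · -- some Fitting component of `X` is large
    simp only [not_forall] at hbig
    obtain ⟨r, hr, hrX⟩ := hbig
    haveI := Fact.mk hr
    have hrp : r ≠ p := by rintro rfl; exact hrX (hnoF X hX)
    set T₀ := pCoreOf r X with hT₀
    have hT₀r : ¬ Cfsg.PRankLE r 2 T₀ := not_rankLE_core hrX
    have hT₀U : Cfsg.InUniqueMaximal T₀ :=
      uniq_of_rank hG (FitUniq.allUniq_of_fitting hG hX hrX) (isPGroup_pCoreOf r X) hT₀r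
    have hT₀ne : T₀ ≠ ⊥ := by
      intro h
      refine hT₀r fun B _ _ => ?_
      refine (Nat.le_of_dvd Nat.card_pos B.card_subgroup_dvd_card).trans ?_
      rw [h, Subgroup.card_bot]
      exact Nat.one_le_pow _ _ hr.pos
    have hT₀X : T₀ ≤ X := pCoreOf_le r X
    -- normalizers of invariant subgroups containing `T₀`
    have hNT : ∀ T : Subgroup G, IsPGroup r T → T₀ ≤ T → Subgroup.normalizer (T : Set G) ≤ X :=
      fun T hT h => le_of_uniq hT₀U hX hT₀X (h.trans Subgroup.le_normalizer)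
        (MinSimple.normalizer_ne_top hG (fun hb => hT₀ne (le_bot_iff.1 (hb ▸ h)))
          (MinSimple.pSubgroup_ne_top hG hT))
    have hPX : (P : Subgroup G) ≤ X := by
      obtain ⟨T, hT, -⟩ := Inv.exists_max (H := ⊤) (A := (P : Subgroup G)) (π := {r})
        (Inv.mem_inv_iff.2 ⟨IsPGroup.of_bot, fun x _ => Subgroup.mem_normalizer_iff.2 fun y => by simp⟩)
      obtain ⟨-, -, hsub', -⟩ := data_P d hrp (S := (P : Subgroup G)) hAP le_rfl
      have hle : T₀ ≤ T := le_max d hrp (isPGroup_pCoreOf r X) (hAX.trans (le_normalizer_pCoreOf r X))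
        (hsub' hT) (le_normalizer_pCoreOf r X) hDX
      exact (Inv.mem_max_iff.1 hT).2.1.trans (hNT T (Inv.mem_max_iff.1 hT).1 hle)
    have hNS : ∀ S : Subgroup G, A ≤ S → S ≤ (P : Subgroup G) → Subgroup.normalizer (S : Set G) ≤ X := by
      intro S hAS hSP
      obtain ⟨T, hT, hT₀T⟩ := Inv.exists_max (H := ⊤) (A := S) (π := {r})
        (Inv.mem_inv_iff.2 ⟨isPGroup_pCoreOf r X, (hSP.trans hPX).trans (le_normalizer_pCoreOf r X)⟩)
      obtain ⟨hK, -, -, hd⟩ := data_P d hrp hAS hSP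
      rw [(hd T hT).2, ← hK]
      exact sup_le (inf_le_left.trans hDX) (inf_le_right.trans (hNT T (Inv.mem_max_iff.1 hT).1 hT₀T))
    obtain ⟨S, hSP, hPS, hab⟩ := exists_core_focal (P := (P : Subgroup G))
      (MinSimple.isSolvable hG hM.1) hG.1 hp2 (P.subtype hPM)
      (by rw [Sylow.coe_subtype, Subgroup.map_subgroupOf_eq_of_le hPM]) hfoc
    have hNX : M ⊓ Subgroup.normalizer (S : Set G) ≤ M ⊓ X :=
      le_inf inf_le_left (inf_le_right.trans (hNS S (hab A hAP d.hAc hPA) hSP))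
    have hPd : (P : Subgroup G) ≤ ⁅M ⊓ X, M ⊓ X⁆ := hPS.trans (Subgroup.commutator_mono hNX hNX)
    set U := omega q (centreCore q M) (comm_inf_centralizer Q0) ⊓ X with hU
    have hzU : z ∈ U := ⟨⟨⟨hz0, Subgroup.mem_centralizer_iff.2 fun y hy =>
      Subgroup.mem_centralizer_iff.1 hzC y (hQ0 hy)⟩, hzq⟩, hzX⟩
    have hUc : U ≤ Subgroup.centralizer (Q0 : Set G) :=
      (inf_le_left.trans (omega_le _ _ _)).trans inf_le_right
    have hUM : U ≤ M := (inf_le_left.trans (omega_le _ _ _)).trans (inf_le_left.trans (pCoreOf_le q M))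
    have hUz : U = Subgroup.zpowers z := by
      refine (Subgroup.eq_of_le_of_card_ge (Subgroup.zpowers_le.2 hzU) ?_).symm
      rw [hzcard]
      by_contra hlt
      exact hne' (UniqProp.pass hG (uniq_of_rank hG hall (isPGroup_pCoreOf q M) hq0) hUc le_rfl
        (elementary_of_le (omega_elementary _ _) inf_le_left) (not_le.1 hlt)) hUM inf_le_right
    have hMXU : M ⊓ X ≤ Subgroup.normalizer (U : Set G) := le_normalizer_inf
      ((inf_le_left.trans (le_normalizer_centreCore q M)).trans (normalizer_le_omega _ _ _))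
      (inf_le_right.trans Subgroup.le_normalizer)
    exact hane (Subgroup.mem_centralizer_singleton_iff.1
      (commutator_le_centralizer (hUz ▸ hMXU) (hPd (hAP ha))))

/-- Bender-Glauberman 9.5. -/
theorem scn_three_uniq : Cfsg.InUniqueMaximal A := by
  classical
  haveI := d.hAc
  have hG := d.hG
  by_contra hAU
  obtain ⟨hAP, hPA, hcent⟩ := d.hscn
  obtain ⟨E, hEA, hEe, hE3⟩ := UniqProp.exists_elementary d.hA3
  have hp1 := hp.out.one_lt
  have hp2 : p ≠ 2 := Uniq.ne_two_of_dvd hG (d.hpA.trans A.card_subgroup_dvd_card)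
  have hAtop : A ≠ ⊤ := MinSimple.pSubgroup_ne_top hG d.hAp
  have hnE : ∀ B : Subgroup G, B ≤ E → ¬ Cfsg.InUniqueMaximal B := fun B hB h =>
    hAU (UniqProp.mono h (hB.trans hEA) hAtop)
  have hnoF : ∀ L : Subgroup G, IsCoatom L → Cfsg.PRankLE p 2 ↥(fittingOf L) := fun L hL => by
    by_contra hcon
    exact hnE E le_rfl (FitUniq.allUniq_of_fitting hG hL hcon E hEe hE3)
  have hP1 : (P : Subgroup G) ≠ ⊥ := fun h => by
    have h1 : p ∣ 1 := by
      have := d.hpA.trans (Subgroup.card_dvd_of_le hAP)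
      rwa [h, Subgroup.card_bot] at this
    exact hp.out.not_dvd_one h1
  obtain ⟨M, hM, hfoc⟩ := exists_maximal_focal hG hp2 P hP1
  have hPM : (P : Subgroup G) ≤ M := hfoc.trans (Subgroup.commutator_le_self M)
  obtain ⟨q, hq, hqM⟩ : ∃ q : ℕ, q.Prime ∧ ¬ Cfsg.PRankLE q 2 ↥(fittingOf M) := by
    by_contra hcon
    push Not at hcon
    have hle := hfoc.trans (commutator_le_fittingOf hG hM.1 hcon)
    exact UniqProp.not_rankLE ((hEA.trans hAP).trans hle) hEe (k := 2)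
      (lt_of_lt_of_le (Nat.pow_lt_pow_right hp1 (by norm_num)) hE3) (hnoF M hM)
  haveI := Fact.mk hq
  have hqp : q ≠ p := by rintro rfl; exact hqM (hnoF M hM)
  have hall := FitUniq.allUniq_of_fitting hG hM hqM
  set Q0 := pCoreOf q M with hQ0
  have hq0 : ¬ Cfsg.PRankLE q 2 Q0 := not_rankLE_core hqM
  have hQ0U := uniq_of_rank hG hall (isPGroup_pCoreOf q M) hq0
  obtain ⟨E₃, hE₃Q, hE₃e, hE₃3⟩ := UniqProp.exists_elementary hq0
  have hq3 : q < q ^ 3 := lt_self_pow₀ hq.one_lt (by norm_num)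
  have hq2 : q ≠ 2 := UniqProp.p_ne_two hG hE₃e (hq3.trans_le hE₃3)
  obtain ⟨Qs, hQs, hQ0Qs⟩ := Inv.exists_max (H := ⊤) (A := (P : Subgroup G)) (π := {q})
    (Inv.mem_inv_iff.2 ⟨isPGroup_pCoreOf q M, hPM.trans (le_normalizer_pCoreOf q M)⟩)
  have hQsq := (Inv.mem_max_iff.1 hQs).1
  have hAQs : A ≤ Subgroup.normalizer (Qs : Set G) := hAP.trans (Inv.mem_max_iff.1 hQs).2.1
  have hQsM : Qs ≤ M := le_of_uniq hQ0U hM (pCoreOf_le q M) hQ0Qs (MinSimple.pSubgroup_ne_top hG hQsq)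
  have hQsU : Cfsg.InUniqueMaximal Qs := UniqProp.mono hQ0U hQ0Qs (MinSimple.pSubgroup_ne_top hG hQsq)
  -- the fixed line
  have hVc : IsMulCommutative (Q0 ⊓ Subgroup.centralizer (Qs : Set G) : Subgroup G) :=
    .of_setLike_mul_comm fun a ha b hb => Subgroup.mem_centralizer_iff.1 hb.2 a (hQ0Qs ha.1)
  set V := omega q (Q0 ⊓ Subgroup.centralizer (Qs : Set G)) hVc with hV
  have hVQs : V ≤ Qs := ((omega_le _ _ _).trans inf_le_left).trans hQ0Qs
  have hAV : A ≤ Subgroup.normalizer (V : Set G) :=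
    (le_normalizer_inf ((hAP.trans hPM).trans (le_normalizer_pCoreOf q M))
      (hAQs.trans (normalizer_le_normalizer_centralizer _))).trans (normalizer_le_omega _ _ _)
  have hV1 : ¬ V ≤ ⊥ := by
    intro hV1
    haveI : (Q0.subgroupOf Qs).Normal :=
      Subgroup.normal_subgroupOf_of_le_normalizer (hQsM.trans (le_normalizer_pCoreOf q M))
    haveI : Group.IsNilpotent Qs := hQsq.isNilpotent
    have hne : Q0.subgroupOf Qs ≠ ⊥ := by
      rw [Ne, Subgroup.subgroupOf_eq_bot]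
      intro h
      refine hq0 fun B _ _ => ?_
      refine (Nat.le_of_dvd Nat.card_pos B.card_subgroup_dvd_card).trans ?_
      rw [show Q0 = ⊥ from disjoint_self.1 (h.mono_right hQ0Qs), Subgroup.card_bot]
      exact Nat.one_le_pow _ _ hq.pos
    obtain ⟨y, hy, hy1⟩ := ((Q0.subgroupOf Qs ⊓ Subgroup.center _).bot_or_exists_ne_one).resolve_left
      (SolvStruct.inf_center_ne_bot hne)
    obtain ⟨j, hj⟩ := IsPGroup.iff_orderOf.1 hQsq y
    have hj0 : j ≠ 0 := fun h => hy1 (orderOf_eq_one_iff.1 (by rw [hj, h, pow_zero]))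
    obtain ⟨i, rfl⟩ := Nat.exists_eq_succ_of_ne_zero hj0
    set w := y ^ q ^ i with hw
    have hwV : (w : G) ∈ V := by
      refine ⟨⟨Subgroup.mem_subgroupOf.1 (pow_mem hy.1 _), Subgroup.mem_centralizer_iff.2 fun c hc =>
        congrArg Subtype.val (Subgroup.mem_center_iff.1 (pow_mem hy.2 _) ⟨c, hc⟩)⟩, ?_⟩
      rw [← Subgroup.coe_pow, hw, ← pow_mul, ← pow_succ, ← hj, pow_orderOf_eq_one, Subgroup.coe_one]
    have hw1 : w = 1 := Subtype.ext (Subgroup.mem_bot.1 (hV1 hwV))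
    have := Nat.le_of_dvd (pow_pos hq.pos i) (hj ▸ orderOf_dvd_of_pow_eq_one hw1)
    exact absurd this (not_le.2 (Nat.pow_lt_pow_right hq.one_lt (Nat.lt_succ_self i)))
  have hVcop : (Nat.card V).Coprime p := by
    obtain ⟨k, hk⟩ := IsPGroup.iff_card.1 (hQsq.to_le hVQs)
    rw [hk]; exact Nat.Coprime.pow_left k ((Nat.coprime_primes hq hp.out).2 hqp)
  obtain ⟨F, hFE, hFcard, hF⟩ := exists_plane hEe hE3 (hEA.trans hAV) hVcop hV1
  have hFe := elementary_of_le hEe hFE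
  set U := V ⊓ Subgroup.centralizer (F : Set G) with hU
  have hUe : Cfsg.IsElementaryAbelian q U := elementary_of_le (omega_elementary _ _) inf_le_left
  have hUq : Nat.card U ≤ q := by
    by_contra hcon
    rw [not_le] at hcon
    have hUQ : U ≤ Subgroup.centralizer (Qs : Set G) :=
      (inf_le_left.trans (omega_le _ _ _)).trans inf_le_right
    exact hnE F hFE (UniqProp.pass hG (UniqProp.pass hG hQsU hUQ le_rfl hUe hcon)
      (Subgroup.le_centralizer_iff.1 inf_le_right) le_rfl hFe hFcard)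
  obtain ⟨z, hzU, hz1⟩ := U.bot_or_exists_ne_one.resolve_left fun h => hF h.le
  have hzq : z ^ q = 1 := hUe.2 z hzU
  have hUz : Subgroup.zpowers z = U := Subgroup.eq_of_le_of_card_ge (Subgroup.zpowers_le.2 hzU)
    (by rwa [Nat.card_zpowers, orderOf_eq_prime hzq hz1])
  have hAz : A ≤ Subgroup.normalizer (Subgroup.zpowers z : Set G) := by
    rw [hUz]
    exact le_normalizer_inf hAV ((((Subgroup.le_centralizer A).trans
      (Subgroup.centralizer_le (hFE.trans hEA))).trans (Subgroup.centralizer_le_normalizer _)).trans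
      (normalizer_le_normalizer_centralizer _))
  have hz0 : z ∈ Q0 := hzU.1.1.1
  have hzC : z ∈ Subgroup.centralizer (Qs : Set G) := hzU.1.1.2
  by_cases hEz : ∀ e ∈ E, e * z = z * e
  · have hQ0nc : ¬ IsCyclic Q0 := fun hc => by
      haveI := hc
      haveI : IsCyclic E₃ := isCyclic_of_injective (Subgroup.inclusion hE₃Q) (Subgroup.inclusion_injective _)
      exact not_isCyclic_of_elementary hE₃e (hq3.trans_le hE₃3) inferInstance
    obtain ⟨F', W, hF'E, hF'card, hWQ, hQW, hWe, hW2, hF'W⟩ := exists_fixed_pair hq2 hqp hEe hE3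
      (isPGroup_pCoreOf q M) hQ0nc ((hEA.trans hAP).trans (hPM.trans (le_normalizer_pCoreOf q M))) hz0 hz1 hzq
      (fun g hg => Subgroup.mem_centralizer_iff.1 hzC g (hQ0Qs hg)) hEz
    exact hnE F' hF'E (UniqProp.pass hG
      ((UniqProp.link hG (isPGroup_pCoreOf q M) hE₃Q hE₃e hE₃3 hWQ hQW hWe hW2).1 (hall E₃ hE₃e hE₃3))
      hF'W le_rfl (elementary_of_le hEe hF'E) hF'card)
  · push Not at hEz
    obtain ⟨a, haE, hane⟩ := hEz
    have hcen : ∀ b ∈ F, b ≠ 1 → Subgroup.centralizer ({b} : Set G) ≤ M := fun b hb hb1 =>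
      centralizer_le d hnoF hM hfoc hqp hall hq0 hQs hQ0Qs hQsM hz1 hzq hz0 hzC hAz (hEA haE) hane
        (hEA (hFE hb)) hb1 (Subgroup.mem_centralizer_iff.1 hzU.2 b hb).symm
    refine hnE F hFE (Uniq.unique_of_invariant hG hM ((hFE.trans hEA).trans (hAP.trans hPM))
      (UniqProp.isPGroup_of_elementary hFe) (fun h => ?_)
      fun Y hY hFY => Uniq.invariant_of_centralizers hFe (not_isCyclic_of_elementary hFe hFcard) hcen hY hFY)
    rw [h, Subgroup.card_bot] at hFcard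
    exact absurd hFcard (not_lt.2 hp.out.one_le)

omit d

/-- Every prime of rank at least three gives `AllUniq`. -/
theorem allUniq_of_rank (hG : Cfsg.IsMinSimpleOddOrder G) {E : Subgroup G}
    (hE : Cfsg.IsElementaryAbelian p E) (hE3 : p ^ 3 ≤ Nat.card E) : UniqProp.AllUniq p G := by
  have hlt : p < p ^ 3 := lt_self_pow₀ hp.out.one_lt (by norm_num)
  have hp2 := UniqProp.p_ne_two hG hE (hlt.trans_le hE3)
  obtain ⟨P, hP⟩ := (UniqProp.isPGroup_of_elementary hE).exists_le_sylow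
  have hr : ¬ Cfsg.PRankLE p 2 ↥(P : Subgroup G) := UniqProp.not_rankLE hP hE (k := 2)
    (lt_of_lt_of_le (Nat.pow_lt_pow_right hp.out.one_lt (by norm_num)) hE3)
  obtain ⟨A, -, hAc, hscn, hA3⟩ := Uniq.exists_scn_three hp2 P hr
  exact UniqProp.allUniq_of_abelian hG hAc hA3 (scn_three_uniq (data_of hG hscn hA3))

end Cfsg.Agent.OddOrder.ScnUniq
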