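/-
The sets `σ(M)`, `α(M)` and their cores (Bender-Glauberman 10.1, 10.2).
-/
import Cfsg.Agent.Lib.OddOrder.ScnUniq

set_option autoImplicit false
set_option linter.style.haveILetI false
set_option linter.unusedSectionVars false

namespace Cfsg.Agent.OddOrder.Sigma

open scoped commutatorElement
open FitOf ScnBasics

universe u

variable {G : Type u} [Group G] [Finite G] {p : ℕ} [hp : Fact p.Prime] {M : Subgroup G}

theorem sylow_map_eq {S : Sylow p M} {T : Subgroup G} (hT : IsPGroup p T) (hTM : T ≤ M)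
    (hle : (S : Subgroup M).map M.subtype ≤ T) : T = (S : Subgroup M).map M.subtype := by
  refine le_antisymm (fun t ht => ?_) hle
  have h := S.3 (hT.comap_subtype (K := M)) fun x hx => (hle ⟨x, hx, rfl⟩ : (x : G) ∈ T)
  exact ⟨⟨t, hTM ht⟩, h.le (show (⟨t, hTM ht⟩ : M) ∈ T.subgroupOf M from ht), rfl⟩

theorem map_conj_map (X : Subgroup G) (a b : G) :
    (X.map (MulAut.conj a).toMonoidHom).map (MulAut.conj b).toMonoidHom =
      X.map (MulAut.conj (b * a)).toMonoidHom := by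
  rw [Subgroup.map_map]
  congr 1
  ext x
  simp [mul_assoc]

theorem map_conj_one (X : Subgroup G) : X.map (MulAut.conj (1 : G)).toMonoidHom = X := by
  convert Subgroup.map_id X
  ext x
  simp

theorem exists_sylow_conj (S T : Sylow p M) :
    ∃ m ∈ M, (T : Subgroup M).map M.subtype =
      ((S : Subgroup M).map M.subtype).map (MulAut.conj m).toMonoidHom := by
  obtain ⟨⟨m, hm⟩, hmT⟩ := MulAction.exists_smul_eq M S T
  refine ⟨m, hm, ?_⟩
  rw [← hmT]
  ext x
  constructor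
  · rintro ⟨_, ⟨s, hs, rfl⟩, rfl⟩
    exact ⟨s, ⟨s, hs, rfl⟩, rfl⟩
  · rintro ⟨_, ⟨s, hs, rfl⟩, rfl⟩
    exact ⟨_, Subgroup.smul_mem_pointwise_smul s (MulAut.conj (⟨m, hm⟩ : M)) _ hs, rfl⟩

theorem sigma_normalizer (hp' : p ∈ Cfsg.sigma M) (S : Sylow p M) :
    Subgroup.normalizer ((S : Subgroup M).map M.subtype : Set G) ≤ M := by
  obtain ⟨-, -, T, hT⟩ := hp'
  obtain ⟨m, hm, he⟩ := exists_sylow_conj T S
  intro n hn
  have h : m⁻¹ * n * m ∈ Subgroup.normalizer ((T : Subgroup M).map M.subtype : Set G) := by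
    have hn' : ((S : Subgroup M).map M.subtype).map (MulAut.conj n).toMonoidHom = (S : Subgroup M).map M.subtype :=
      Subgroup.mem_normalizer_iff_map_conj_eq.1 hn
    rw [he, map_conj_map] at hn'
    rw [Subgroup.mem_normalizer_iff_map_conj_eq]
    have h2 := congrArg (fun K => Subgroup.map (MulAut.conj m⁻¹).toMonoidHom K) hn'
    simp only [map_conj_map, inv_mul_cancel, map_conj_one, ← mul_assoc] at h2
    exact h2
  have := mul_mem (mul_mem hm (hT h)) (inv_mem hm)
  simpa [mul_assoc] using this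

theorem sigma_sylow (hp' : p ∈ Cfsg.sigma M) (S : Sylow p M) :
    ∃ PG : Sylow p G, (PG : Subgroup G) = (S : Subgroup M).map M.subtype := by
  obtain ⟨PG, hPG⟩ := (S.isPGroup'.map M.subtype).exists_le_sylow
  refine ⟨PG, ?_⟩
  by_contra hne
  obtain ⟨x, hx, hxN, hxS⟩ := LocalFactor.exists_normalizing PG.isPGroup' (lt_of_le_of_ne hPG (Ne.symm hne))
  have hxM := sigma_normalizer hp' S hxN
  have h := sylow_map_eq (S := S) (T := (S : Subgroup M).map M.subtype ⊔ Subgroup.zpowers x)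
    (PG.isPGroup'.to_le (sup_le hPG (Subgroup.zpowers_le.2 hx)))
    (sup_le (Subgroup.map_subtype_le _) (Subgroup.zpowers_le.2 hxM)) le_sup_left
  exact hxS (h.le (Subgroup.mem_sup_right (Subgroup.mem_zpowers x)))

/-- Every `p`-subgroup is conjugate into `M` when `p ∈ σ(M)`. -/
theorem exists_conj_le (hp' : p ∈ Cfsg.sigma M) {X : Subgroup G} (hX : IsPGroup p X) :
    ∃ g : G, X.map (MulAut.conj g).toMonoidHom ≤ M := by
  obtain ⟨S⟩ : Nonempty (Sylow p M) := inferInstance
  obtain ⟨PG, hPG⟩ := sigma_sylow hp' S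
  obtain ⟨Q, hQ⟩ := hX.exists_le_sylow
  obtain ⟨g, hg⟩ := MulAction.exists_smul_eq G Q PG
  refine ⟨g, ?_⟩
  rintro _ ⟨x, hx, rfl⟩
  have : MulAut.conj g x ∈ (PG : Subgroup G) := by
    rw [← hg]
    exact Subgroup.smul_mem_pointwise_smul x (MulAut.conj g) (Q : Subgroup G) (hQ hx)
  rw [hPG] at this
  exact Subgroup.map_subtype_le _ this

theorem not_rankLE_of_alpha (hα : p ∈ Cfsg.alpha M) (S : Sylow p M) :
    ¬ Cfsg.PRankLE p 2 ↥((S : Subgroup M).map M.subtype) := by
  intro h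
  refine hα.2 (LocalFactor.prankLE_of_sylow S fun B hB hBp => ?_)
  haveI := hB
  set e := (S : Subgroup M).equivMapOfInjective M.subtype M.subtype_injective
  have := h (B.map e.toMonoidHom) inferInstance (by
    rintro _ ⟨b, hb, rfl⟩
    rw [← map_pow, hBp b hb, map_one])
  rwa [Subgroup.card_map_of_injective e.injective] at this

/-- A proper subgroup containing an elementary abelian subgroup of order `p³` in `M` lies in `M`. -/
theorem le_of_rank (hG : Cfsg.IsMinSimpleOddOrder G) (hM : IsCoatom M) {E Y : Subgroup G}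
    (hE : Cfsg.IsElementaryAbelian p E) (hE3 : p ^ 3 ≤ Nat.card E) (hEM : E ≤ M) (hEY : E ≤ Y)
    (hY : Y ≠ ⊤) : Y ≤ M :=
  le_of_uniq (ScnUniq.allUniq_of_rank hG hE hE3 E hE hE3) hM hEM hEY hY

theorem alpha_subset_sigma (hG : Cfsg.IsMinSimpleOddOrder G) (hM : IsCoatom M) {q : ℕ}
    (hq : q ∈ Cfsg.alpha M) : q ∈ Cfsg.sigma M := by
  haveI := Fact.mk hq.1
  obtain ⟨S⟩ : Nonempty (Sylow q M) := inferInstance
  obtain ⟨E, hES, hEe, hE3⟩ := UniqProp.exists_elementary (not_rankLE_of_alpha hq S)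
  have hEM : E ≤ M := hES.trans (Subgroup.map_subtype_le _)
  have hq3 : 1 < Nat.card E := (Nat.one_lt_pow (by norm_num) hq.1.one_lt).trans_le hE3
  refine ⟨hq.1, ?_, S, le_of_rank hG hM hEe hE3 hEM (hES.trans Subgroup.le_normalizer)
    (MinSimple.normalizer_ne_top hG (fun h => ?_) (MinSimple.pSubgroup_ne_top hG (S.isPGroup'.map _)))⟩
  · obtain ⟨k, hk⟩ := IsPGroup.iff_card.1 (UniqProp.isPGroup_of_elementary hEe)
    have hk0 : k ≠ 0 := fun h => by rw [hk, h, pow_zero] at hq3; omega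
    exact (hk ▸ dvd_pow_self q hk0).trans (Subgroup.card_dvd_of_le hEM)
  · rw [h, le_bot_iff] at hES
    rw [hES, Subgroup.card_bot] at hq3
    omega

theorem conj_of_maximal {N T R : Subgroup G} (hT : IsPGroup p T) (hTN : T ≤ N) (hR : IsPGroup p R)
    (hRN : R ≤ N) (hTmax : ∀ U : Subgroup G, IsPGroup p U → U ≤ N → T ≤ U → U = T)
    (hRmax : ∀ U : Subgroup G, IsPGroup p U → U ≤ N → R ≤ U → U = R) :
    ∃ n ∈ N, R = T.map (MulAut.conj n).toMonoidHom := by
  have mk : ∀ {U : Subgroup G}, IsPGroup p U → U ≤ N →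
      (∀ V : Subgroup G, IsPGroup p V → V ≤ N → U ≤ V → V = U) →
      ∃ S : Sylow p N, (S : Subgroup N).map N.subtype = U := by
    intro U hU hUN hmax
    obtain ⟨S, hS⟩ := (hU.comap_subtype (K := N)).exists_le_sylow
    exact ⟨S, hmax _ (S.isPGroup'.map _) (Subgroup.map_subtype_le _) fun u hu => ⟨⟨u, hUN hu⟩, hS hu, rfl⟩⟩
  obtain ⟨S, rfl⟩ := mk hT hTN hTmax
  obtain ⟨S', rfl⟩ := mk hR hRN hRmax
  exact exists_sylow_conj S S'

theorem exists_maximal_p {X N : Subgroup G} (hX : IsPGroup p X) (hXN : X ≤ N) :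
    ∃ T : Subgroup G, X ≤ T ∧ IsPGroup p T ∧ T ≤ N ∧
      ∀ U : Subgroup G, IsPGroup p U → U ≤ N → T ≤ U → U = T := by
  obtain ⟨T, hXT, hT⟩ := Finite.exists_le_maximal (a := X)
    (p := fun U : Subgroup G => IsPGroup p U ∧ U ≤ N) ⟨hX, hXN⟩
  exact ⟨T, hXT, hT.1.1, hT.1.2, fun U hU hUN hTU => le_antisymm (hT.2 ⟨hU, hUN⟩ hTU) hTU⟩

/-- Bender-Glauberman 10.1. -/
theorem trans (hG : Cfsg.IsMinSimpleOddOrder G) (hM : IsCoatom M) (hp' : p ∈ Cfsg.sigma M) :
    ∀ (X : Subgroup G), IsPGroup p X → X ≠ ⊥ → X ≤ M → ∀ g : G, X.map (MulAut.conj g).toMonoidHom ≤ M →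
      ∃ m ∈ M, ∃ c ∈ Subgroup.centralizer (X : Set G), g = m * c := by
  suffices key : ∀ (n : ℕ) (X : Subgroup G), Nat.card G - Nat.card X ≤ n → IsPGroup p X → X ≠ ⊥ → X ≤ M →
      ∀ g : G, X.map (MulAut.conj g).toMonoidHom ≤ M →
      ∃ m ∈ M, ∃ c ∈ Subgroup.centralizer (X : Set G), g = m * c from fun X => key _ X le_rfl
  intro n
  induction n with
  | zero =>
    intro X hn hX _ _ g _
    exact absurd (Subgroup.eq_top_of_le_card X (by omega)) (MinSimple.pSubgroup_ne_top hG hX)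
  | succ n ih =>
  intro X hn hX hX1 hXM g hg
  by_cases hSyl : ∀ U : Subgroup G, IsPGroup p U → U ≤ M → X ≤ U → U = X
  · obtain ⟨S, hS⟩ := (hX.comap_subtype (K := M)).exists_le_sylow
    have hXS : X = (S : Subgroup M).map M.subtype := (hSyl _ (S.isPGroup'.map _) (Subgroup.map_subtype_le _)
      fun u hu => ⟨⟨u, hXM hu⟩, hS hu, rfl⟩).symm
    set Y := X.map (MulAut.conj g).toMonoidHom with hY
    have hYcard : Nat.card Y = Nat.card X := Subgroup.card_map_of_injective (MulAut.conj g).injective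
    obtain ⟨m, hm, hXY⟩ := conj_of_maximal hX hXM (hX.map (MulAut.conj g).toMonoidHom) hg hSyl (fun U hU hUM hYU => by
      obtain ⟨S', hS'⟩ := (hU.comap_subtype (K := M)).exists_le_sylow
      obtain ⟨a, -, hSS'⟩ := exists_sylow_conj S S'
      have hle : U ≤ (S' : Subgroup M).map M.subtype := fun u hu => ⟨⟨u, hUM hu⟩, hS' hu, rfl⟩
      refine (Subgroup.eq_of_le_of_card_ge hYU ?_).symm
      rw [hYcard, hXS]
      refine (Subgroup.card_le_of_le hle).trans_eq ?_
      rw [hSS', Subgroup.card_map_of_injective (MulAut.conj a).injective])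
    refine ⟨g, ?_, 1, one_mem _, (mul_one g).symm⟩
    have hN : m⁻¹ * g ∈ Subgroup.normalizer (X : Set G) := by
      rw [Subgroup.mem_normalizer_iff_map_conj_eq]
      show X.map (MulAut.conj (m⁻¹ * g)).toMonoidHom = X
      rw [← map_conj_map, hXY, map_conj_map, inv_mul_cancel, map_conj_one]
    have := mul_mem hm (sigma_normalizer hp' S (hXS ▸ hN))
    rwa [mul_inv_cancel_left] at this
  -- `X` is not Sylow in `M`
  have grow : ∀ Y : Subgroup G, IsPGroup p Y → Y ≤ M → Nat.card Y = Nat.card X →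
      ∀ T : Subgroup G, IsPGroup p T → T ≤ M ⊓ Subgroup.normalizer (Y : Set G) → Y ≤ T →
      (∀ U : Subgroup G, IsPGroup p U → U ≤ M ⊓ Subgroup.normalizer (Y : Set G) → T ≤ U → U = T) →
      Nat.card X < Nat.card T := by
    intro Y hY hYM hcard T hT hTN hYT hmax
    rw [← hcard]
    refine lt_of_le_of_ne (Subgroup.card_le_of_le hYT) fun h => hSyl ?_
    have hYT' : Y = T := Subgroup.eq_of_le_of_card_ge hYT h.ge
    intro U hU hUM hXU
    obtain ⟨S, hS⟩ := (hY.comap_subtype (K := M)).exists_le_sylow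
    obtain ⟨S', hS'⟩ := (hU.comap_subtype (K := M)).exists_le_sylow
    obtain ⟨a, -, hSS'⟩ := exists_sylow_conj S S'
    have hle : U ≤ (S' : Subgroup M).map M.subtype := fun u hu => ⟨⟨u, hUM hu⟩, hS' hu, rfl⟩
    have hYS : Y = (S : Subgroup M).map M.subtype := by
      by_contra hne
      obtain ⟨x, hx, hxN, hxY⟩ := LocalFactor.exists_normalizing (S.isPGroup'.map M.subtype)
        (lt_of_le_of_ne (fun u hu => ⟨⟨u, hYM hu⟩, hS hu, rfl⟩ : Y ≤ (S : Subgroup M).map M.subtype) hne)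
      have hU' := hmax (Y ⊔ Subgroup.zpowers x)
        ((S.isPGroup'.map M.subtype).to_le (sup_le (fun u hu => ⟨⟨u, hYM hu⟩, hS hu, rfl⟩) (Subgroup.zpowers_le.2 hx)))
        (sup_le (le_inf hYM Subgroup.le_normalizer)
          (Subgroup.zpowers_le.2 ⟨Subgroup.map_subtype_le _ hx, hxN⟩)) (hYT' ▸ le_sup_left)
      exact hxY (hYT' ▸ hU'.le (Subgroup.mem_sup_right (Subgroup.mem_zpowers x)))
    refine (Subgroup.eq_of_le_of_card_ge hXU ?_).symm
    rw [← hcard, hYS]
    refine (Subgroup.card_le_of_le hle).trans_eq ?_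
    rw [hSS', Subgroup.card_map_of_injective (MulAut.conj a).injective]
  -- maximal `p`-subgroups of `M ∩ N(Y)` are Sylow in `N(Y)`
  have syl : ∀ Y : Subgroup G, IsPGroup p Y → Y ≠ ⊥ → Y ≤ M → Nat.card Y = Nat.card X →
      ∀ T : Subgroup G, IsPGroup p T → T ≤ M ⊓ Subgroup.normalizer (Y : Set G) → Y ≤ T →
      (∀ U : Subgroup G, IsPGroup p U → U ≤ M ⊓ Subgroup.normalizer (Y : Set G) → T ≤ U → U = T) →
      ∀ U : Subgroup G, IsPGroup p U → U ≤ Subgroup.normalizer (Y : Set G) → T ≤ U → U = T := by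
    intro Y hY hY1 hYM hcard T hT hTN hYT hmax U hU hUN hTU
    have hlt := grow Y hY hYM hcard T hT hTN hYT hmax
    obtain ⟨h, hh⟩ := exists_conj_le hp' hU
    obtain ⟨m, hm, c, hc, hmc⟩ := ih T (by have := T.card_le_card_group; omega) hT
      (fun h1 => hY1 (le_bot_iff.1 (h1 ▸ hYT))) (hTN.trans inf_le_left) h ((Subgroup.map_mono hTU).trans hh)
    have hcN : c ∈ Subgroup.normalizer (Y : Set G) :=
      Subgroup.centralizer_le_normalizer _ (Subgroup.centralizer_le hYT hc)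
    have hU' := hmax (U.map (MulAut.conj c).toMonoidHom) (hU.map _)
      (by
        rintro _ ⟨u, hu, rfl⟩
        refine Subgroup.mem_inf.2 ⟨?_, Subgroup.mul_mem _ (Subgroup.mul_mem _ hcN (hUN hu)) (Subgroup.inv_mem _ hcN)⟩
        have h1 : h * u * h⁻¹ ∈ M := hh ⟨u, hu, rfl⟩
        have := mul_mem (mul_mem (inv_mem hm) h1) hm
        rw [hmc] at this
        simpa [mul_assoc] using this)
      (fun t ht => ⟨t, hTU ht, by
        simp [(Subgroup.mem_centralizer_iff.1 hc t ht).symm]⟩)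
    refine (Subgroup.eq_of_le_of_card_ge hTU ?_).symm
    rw [← Subgroup.card_map_of_injective (K := U) (f := (MulAut.conj c).toMonoidHom) (MulAut.conj c).injective, hU']
  obtain ⟨T, hXT, hT, hTN, hTmax⟩ := exists_maximal_p hX (le_inf hXM (Subgroup.le_normalizer (H := X)))
  have hTtop := syl X hX hX1 hXM rfl T hT hTN hXT hTmax
  have hTlt := grow X hX hXM rfl T hT hTN hXT hTmax
  set N := Subgroup.normalizer (X : Set G) with hN
  -- `N(X) = N_M(X) C(X)`
  have hNfac : ∀ n ∈ N, ∃ m ∈ M ⊓ N, ∃ c ∈ Subgroup.centralizer (X : Set G), n = m * c := by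
    intro n' hn'
    have hNtop : N ≠ ⊤ := MinSimple.normalizer_ne_top hG hX1 (MinSimple.pSubgroup_ne_top hG hX)
    by_cases hr : Cfsg.PRankLE p 2 T
    swap
    · obtain ⟨E, hET, hEe, hE3⟩ := UniqProp.exists_elementary hr
      exact ⟨n', ⟨le_of_rank hG hM hEe hE3 ((hET.trans hTN).trans inf_le_left)
        ((hET.trans hTN).trans inf_le_right) hNtop hn', hn'⟩, 1, one_mem _, (mul_one n').symm⟩
    obtain ⟨S, hS⟩ := (hT.comap_subtype (K := N)).exists_le_sylow
    have hST : (S : Subgroup N).map N.subtype = T := hTtop _ (S.isPGroup'.map _) (Subgroup.map_subtype_le _)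
      fun t ht => ⟨⟨t, (hTN ht).2⟩, hS ht, rfl⟩
    have hrN : Cfsg.PRankLE p 2 N := by
      refine LocalFactor.prankLE_of_sylow S fun B hB hBp => ?_
      haveI := hB
      set e := (S : Subgroup N).equivMapOfInjective N.subtype N.subtype_injective
      have h1 : Cfsg.PRankLE p 2 ↥((S : Subgroup N).map N.subtype) := by rw [hST]; exact hr
      have := h1 (B.map e.toMonoidHom) inferInstance (by
        rintro _ ⟨b, hb, rfl⟩
        rw [← map_pow, hBp b hb, map_one])
      rwa [Subgroup.card_map_of_injective e.injective] at this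
    have hp2 : p ≠ 2 := by
      obtain ⟨k, hk⟩ := IsPGroup.iff_card.1 hX
      have hk0 : k ≠ 0 := fun h => hX1 (Subgroup.card_eq_one.1 (by rw [hk, h, pow_zero]))
      exact Uniq.ne_two_of_dvd hG ((hk ▸ dvd_pow_self p hk0).trans X.card_subgroup_dvd_card)
    obtain ⟨Q, -, hfac, -, hQ⟩ :=
      LocalFactor.exists_core_part (MinSimple.isSolvable hG hNtop) hG.1 hp2 S hST
    rw [hQ hrN] at hfac
    have hK : LocalFactor.coreOf p N ≤ Subgroup.centralizer (X : Set G) := fun k hk =>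
      Subgroup.mem_centralizer_iff.2 fun x hx => AxB.commute_of_coprime
        (H := X) (K := LocalFactor.coreOf p N) (Subgroup.le_normalizer.trans (LocalFactor.le_normalizer_coreOf N))
        (LocalFactor.coreOf_le N)
        (by
          obtain ⟨j, hj⟩ := IsPGroup.iff_card.1 hX
          rw [hj]; exact Nat.Coprime.pow_left j (LocalFactor.coprime_coreOf N).symm) hx hk
    have hNT : N ⊓ Subgroup.normalizer (T : Set G) ≤ (M ⊓ N) ⊔ Subgroup.centralizer (X : Set G) := by
      rintro a ⟨haN, haT⟩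
      obtain ⟨m, hm, c, hc, rfl⟩ := ih T (by have := T.card_le_card_group; omega) hT
        (fun h1 => hX1 (le_bot_iff.1 (h1 ▸ hXT))) (hTN.trans inf_le_left) a
        ((Subgroup.mem_normalizer_iff_map_conj_eq.1 haT).le.trans (hTN.trans inf_le_left))
      have hcX := Subgroup.centralizer_le hXT hc
      refine mul_mem (Subgroup.mem_sup_left ⟨hm, ?_⟩) (Subgroup.mem_sup_right hcX)
      have := Subgroup.mul_mem _ haN (Subgroup.inv_mem _ (Subgroup.centralizer_le_normalizer _ hcX))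
      rwa [mul_inv_cancel_right] at this
    have h := (hfac.trans (sup_le (hK.trans le_sup_right) hNT)) hn'
    rw [← SetLike.mem_coe, Subgroup.coe_mul_of_left_le_normalizer_right _ _
      (inf_le_right.trans (normalizer_le_normalizer_centralizer X))] at h
    obtain ⟨m, hm, c, hc, rfl⟩ := h
    exact ⟨m, hm, c, hc, rfl⟩
  set Y := X.map (MulAut.conj g).toMonoidHom with hY
  have hY' : IsPGroup p Y := hX.map _
  have hY1 : Y ≠ ⊥ := fun h => hX1 ((Subgroup.map_eq_bot_iff_of_injective _ (MulAut.conj g).injective).1 h)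
  have hYcard : Nat.card Y = Nat.card X := Subgroup.card_map_of_injective (MulAut.conj g).injective
  obtain ⟨T', hYT', hT', hT'N, hT'max⟩ := exists_maximal_p hY' (le_inf hg (Subgroup.le_normalizer (H := Y)))
  have hT'top := syl Y hY' hY1 hg hYcard T' hT' hT'N hYT' hT'max
  have hconjN : ∀ U : Subgroup G, U ≤ Subgroup.normalizer (Y : Set G) → U.map (MulAut.conj g⁻¹).toMonoidHom ≤ N := by
    intro U hU
    refine (Subgroup.map_mono hU).trans ((Subgroup.le_normalizer_map _).trans (le_of_eq ?_))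
    rw [hY, map_conj_map, inv_mul_cancel, map_conj_one]
  obtain ⟨n', hn', hRT⟩ := conj_of_maximal hT (hTN.trans inf_le_right) (hT'.map (MulAut.conj g⁻¹).toMonoidHom)
    (hconjN T' (hT'N.trans inf_le_right)) hTtop (fun U hU hUN hle => by
      have h1 : U.map (MulAut.conj g).toMonoidHom ≤ Subgroup.normalizer (Y : Set G) := by
        refine (Subgroup.map_mono hUN).trans ((Subgroup.le_normalizer_map _).trans (le_of_eq ?_))
        rw [hY]
      have h2 := hT'top _ (hU.map _) h1 (by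
        have := Subgroup.map_mono (f := (MulAut.conj g).toMonoidHom) hle
        rwa [map_conj_map, mul_inv_cancel, map_conj_one] at this)
      rw [← h2, map_conj_map, inv_mul_cancel, map_conj_one])
  obtain ⟨m, hm, c, hc, rfl⟩ := hNfac n' hn'
  set c' := m * c * m⁻¹ with hc'
  have hc'C : c' ∈ Subgroup.centralizer (X : Set G) :=
    (Subgroup.mem_normalizer_iff.1 (normalizer_le_normalizer_centralizer X hm.2) c).1 hc
  set T₁ := T.map (MulAut.conj m).toMonoidHom with hT₁
  have hXT₁ : X ≤ T₁ := by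
    rw [← Subgroup.mem_normalizer_iff_map_conj_eq.1 hm.2]
    exact Subgroup.map_mono hXT
  have hT₁M : T₁ ≤ M := by
    rintro _ ⟨t, ht, rfl⟩
    exact mul_mem (mul_mem hm.1 (hTN ht).1) (inv_mem hm.1)
  have hT₁card : Nat.card T₁ = Nat.card T := Subgroup.card_map_of_injective (MulAut.conj m).injective
  have himg : T₁.map (MulAut.conj (g * c')).toMonoidHom = T' := by
    have h1 := congrArg (Subgroup.map (MulAut.conj g).toMonoidHom) hRT
    rw [map_conj_map, mul_inv_cancel, map_conj_one, map_conj_map] at h1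
    rw [h1, hT₁, map_conj_map, hc']
    congr 2
    simp [mul_assoc]
  obtain ⟨m₂, hm₂, c₂, hc₂, hgc⟩ := ih T₁ (by have := T.card_le_card_group; omega) (hT.map _)
    (fun h => hX1 (le_bot_iff.1 (h ▸ hXT₁))) hT₁M (g * c') (himg ▸ hT'N.trans inf_le_left)
  refine ⟨m₂, hm₂, c₂ * c'⁻¹, mul_mem (Subgroup.centralizer_le hXT₁ hc₂) (inv_mem hc'C), ?_⟩
  rw [← mul_assoc, ← hgc, mul_inv_cancel_right]

theorem normalizer_eq (hG : Cfsg.IsMinSimpleOddOrder G) (hM : IsCoatom M) (hp' : p ∈ Cfsg.sigma M)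
    {X : Subgroup G} (hX : IsPGroup p X) (hX1 : X ≠ ⊥) (hXM : X ≤ M) :
    Subgroup.normalizer (X : Set G) =
      (M ⊓ Subgroup.normalizer (X : Set G)) ⊔ Subgroup.centralizer (X : Set G) := by
  refine le_antisymm (fun n hn => ?_) (sup_le inf_le_right (Subgroup.centralizer_le_normalizer _))
  obtain ⟨m, hm, c, hc, rfl⟩ := trans hG hM hp' X hX hX1 hXM n
    ((Subgroup.mem_normalizer_iff_map_conj_eq.1 hn).le.trans hXM)
  refine mul_mem (Subgroup.mem_sup_left ⟨hm, ?_⟩) (Subgroup.mem_sup_right hc)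
  have := mul_mem hn (inv_mem (Subgroup.centralizer_le_normalizer _ hc))
  rwa [mul_inv_cancel_right] at this

theorem sylow_le_derived (hG : Cfsg.IsMinSimpleOddOrder G) (hM : IsCoatom M) (hp' : p ∈ Cfsg.sigma M)
    (S : Sylow p M) : (S : Subgroup M).map M.subtype ≤ ⁅M, M⁆ := by
  obtain ⟨PG, hPG⟩ := sigma_sylow hp' S
  have hPM : (PG : Subgroup G) ≤ M := hPG ▸ Subgroup.map_subtype_le _
  have hfoc := Fusion.commutator_inf_eq_of_controlsFusion PG M hPM fun x hx g hg => by
    by_cases hx1 : x = 1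
    · exact ⟨1, one_mem M, by simp [hx1]⟩
    obtain ⟨m, hm, c, hc, rfl⟩ := trans hG hM hp' (Subgroup.zpowers x)
      (PG.isPGroup'.to_le (Subgroup.zpowers_le.2 hx))
      (fun h => hx1 (Subgroup.mem_bot.1 (h ▸ Subgroup.mem_zpowers x)))
      (Subgroup.zpowers_le.2 (hPM hx)) g (by
        rw [MonoidHom.map_zpowers]
        exact Subgroup.zpowers_le.2 (hPM hg))
    refine ⟨m, hm, ?_⟩
    have h1 := Subgroup.mem_centralizer_iff.1 hc x (Subgroup.mem_zpowers x)
    calc m * x * m⁻¹ = m * (c * x * c⁻¹) * m⁻¹ := by rw [← h1, mul_inv_cancel_right]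
      _ = m * c * x * (m * c)⁻¹ := by group
  haveI := hG.2.1
  have htop : commutator G = ⊤ := by
    rcases (inferInstance : (commutator G).Normal).eq_bot_or_eq_top with h | h
    · exfalso
      refine hG.2.2.1 ⟨⟨fun a b => ?_⟩⟩
      exact commutatorElement_eq_one_iff_mul_comm.1 (Subgroup.mem_bot.1
        (h ▸ Subgroup.commutator_mem_commutator (Subgroup.mem_top a) (Subgroup.mem_top b) :
          ⁅a, b⁆ ∈ (⊥ : Subgroup G)))
    · exact h
  rw [htop, top_inf_eq, hPG] at hfoc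
  exact hfoc.le.trans inf_le_left

section Quotient

theorem isPi_alpha (M : Subgroup G) : MinSimple.IsPi (Cfsg.alpha M) (Nat.card (Cfsg.piCore (Cfsg.alpha M) M)) :=
  MinSimple.isPi_piCore _ _

theorem rank_quotient_of_not_alpha {q : ℕ} (hq : q.Prime) (hα : q ∉ Cfsg.alpha M) :
    Cfsg.PRankLE q 2 (M ⧸ Cfsg.piCore (Cfsg.alpha M) M) := by
  haveI := Fact.mk hq
  refine RankTwo.prankLE_quotient _ (Nat.Coprime.symm (hq.coprime_iff_not_dvd.2 fun h => hα (isPi_alpha M q hq h))) ?_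
  by_contra h
  exact hα ⟨hq, h⟩

/-- The Fitting subgroup of `M / M_α` involves no prime of `α(M)`. -/
theorem not_dvd_fitting_quotient {q : ℕ} (hq : q ∈ Cfsg.alpha M) :
    ¬ q ∣ Nat.card (Cfsg.fittingSubgroup (M ⧸ Cfsg.piCore (Cfsg.alpha M) M)) := by
  intro hd
  haveI := Fact.mk hq.1
  set A := Cfsg.piCore (Cfsg.alpha M) M with hA
  haveI : A.Normal := Cfsg.piCore_normal _ _
  haveI := FittingCores.fitting_nilpotent (G := M ⧸ A)
  obtain ⟨S⟩ : Nonempty (Sylow q (Cfsg.fittingSubgroup (M ⧸ A))) := inferInstance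
  have hle := FittingCores.sylow_le_pCore_of_nilpotent FittingCores.fitting_normal q S
  haveI := FittingCores.pCore_normal (G := M ⧸ A) q
  have hne : Cfsg.pCore q (M ⧸ A) ≠ ⊥ := by
    intro h
    obtain ⟨x, hx⟩ := exists_prime_orderOf_dvd_card' q hd
    obtain ⟨g, hg⟩ := IsPGroup.exists_le_sylow (p := q) (P := Subgroup.zpowers x)
      (IsPGroup.of_card (n := 1) (by rw [Nat.card_zpowers, hx, pow_one]))
    have hmem : ((x : M ⧸ A)) ∈ Cfsg.pCore q (M ⧸ A) :=
      FittingCores.sylow_le_pCore_of_nilpotent FittingCores.fitting_normal q g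
        ⟨x, hg (Subgroup.mem_zpowers x), rfl⟩
    rw [h, Subgroup.mem_bot] at hmem
    rw [show x = 1 from Subtype.ext hmem, orderOf_one] at hx
    exact hq.1.one_lt.ne hx
  set N := (Cfsg.pCore q (M ⧸ A)).comap (QuotientGroup.mk' A) with hN
  have hNle : N ≤ A := by
    refine le_sSup ⟨Subgroup.Normal.comap inferInstance _, fun r hr hrd => ?_⟩
    set f := (QuotientGroup.mk' A).comp N.subtype with hf
    have h1 : Nat.card N = Nat.card (f.range) * Nat.card f.ker := by
      rw [← Subgroup.index_ker, mul_comm, Subgroup.card_mul_index]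
    have hk : Nat.card f.ker ∣ Nat.card A := by
      have hle : f.ker.map N.subtype ≤ A := by
        rintro _ ⟨n, hn, rfl⟩
        exact (QuotientGroup.eq_one_iff _).1 hn
      rw [← Subgroup.card_map_of_injective (K := f.ker) N.subtype_injective]
      exact Subgroup.card_dvd_of_le hle
    rw [h1] at hrd
    rcases hr.dvd_mul.1 hrd with h | h
    · have hR : IsPGroup q f.range := (FittingCores.pCore_isPGroup (G := M ⧸ A) q).to_le (by
        rintro _ ⟨n, rfl⟩; exact n.2)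
      obtain ⟨k, hk⟩ := IsPGroup.iff_card.1 hR
      exact ((Nat.prime_dvd_prime_iff_eq hr hq.1).1 (hr.dvd_of_dvd_pow (hk ▸ h))).symm ▸ hq
    · exact isPi_alpha M r hr (h.trans hk)
  refine hne ?_
  have h2 := Subgroup.map_comap_eq_self_of_surjective (QuotientGroup.mk'_surjective A) (Cfsg.pCore q (M ⧸ A))
  rw [← h2, ← le_bot_iff, ← QuotientGroup.map_mk'_self A]
  exact Subgroup.map_mono hNle

theorem commutator_le_fitting_quotient (hG : Cfsg.IsMinSimpleOddOrder G) (hM : IsCoatom M) :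
    commutator (M ⧸ Cfsg.piCore (Cfsg.alpha M) M) ≤
      Cfsg.fittingSubgroup (M ⧸ Cfsg.piCore (Cfsg.alpha M) M) := by
  haveI : Group.IsSolvable M := MinSimple.isSolvable hG hM.1
  haveI : Group.IsSolvable (M ⧸ Cfsg.piCore (Cfsg.alpha M) M) :=
    Group.isSolvable_of_surjective (QuotientGroup.mk'_surjective _)
  refine DerivedNil.commutator_le_fitting ((hG.1.of_dvd_nat M.card_subgroup_dvd_card).of_dvd_nat
    (Subgroup.card_quotient_dvd_card _)) fun q hq => ?_
  haveI := Fact.mk hq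
  by_cases hα : q ∈ Cfsg.alpha M
  · intro B hB hBp
    have hnd := not_dvd_fitting_quotient hα
    obtain ⟨k, hk⟩ := IsPGroup.iff_card.1 (show IsPGroup q B from fun x => ⟨1, Subtype.ext (by simpa using hBp x x.2)⟩)
    rcases Nat.eq_zero_or_pos k with rfl | hk0
    · rw [hk, pow_zero]; exact Nat.one_le_pow _ _ hq.pos
    · exact absurd ((hk ▸ dvd_pow_self q hk0.ne').trans B.card_subgroup_dvd_card) hnd
  · exact RankTwo.prankLE_mono (rank_quotient_of_not_alpha hq hα)

/-- Sylow subgroups for primes of `σ(M) ∩ π` lie in `O_π(M)` whenever `α(M) ⊆ π`. -/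
theorem sylow_le_piCore (hG : Cfsg.IsMinSimpleOddOrder G) (hM : IsCoatom M) (hp' : p ∈ Cfsg.sigma M)
    {π : Set ℕ} (hαπ : Cfsg.alpha M ⊆ π) (hpπ : p ∈ π) (S : Sylow p M) :
    (S : Subgroup M) ≤ Cfsg.piCore π M := by
  set A := Cfsg.piCore (Cfsg.alpha M) M with hA
  haveI : A.Normal := Cfsg.piCore_normal _ _
  set f := QuotientGroup.mk' A with hf
  have hSd : (S : Subgroup M) ≤ commutator M := by
    intro x hx
    have h1 : (x : G) ∈ (commutator M).map M.subtype := by
      rw [Subgroup.map_subtype_commutator]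
      exact sylow_le_derived hG hM hp' S ⟨x, hx, rfl⟩
    obtain ⟨y, hy, hyx⟩ := h1
    rwa [← Subtype.ext hyx]
  have hSF : (S : Subgroup M).map f ≤ Cfsg.pCore p (M ⧸ A) := by
    haveI := FittingCores.fitting_nilpotent (G := M ⧸ A)
    obtain ⟨W, hW⟩ := (IsPGroup.comap_subtype (K := Cfsg.fittingSubgroup (M ⧸ A))
      (S.isPGroup'.map f)).exists_le_sylow
    rintro _ ⟨x, hx, rfl⟩
    have hmap : (commutator M).map f ≤ commutator (M ⧸ A) := by
      rw [commutator_def, Subgroup.map_commutator]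
      exact Subgroup.commutator_mono le_top le_top
    have hxF : f x ∈ Cfsg.fittingSubgroup (M ⧸ A) :=
      commutator_le_fitting_quotient hG hM (hmap (Subgroup.mem_map_of_mem f (hSd hx)))
    exact FittingCores.sylow_le_pCore_of_nilpotent FittingCores.fitting_normal p W
      ⟨⟨f x, hxF⟩, hW ⟨x, hx, rfl⟩, rfl⟩
  haveI := FittingCores.pCore_normal (G := M ⧸ A) p
  intro x hx
  refine (le_sSup ⟨Subgroup.Normal.comap inferInstance f, fun r hr hrd => ?_⟩ :
    (Cfsg.pCore p (M ⧸ A)).comap f ≤ Cfsg.piCore π M) (hSF ⟨x, hx, rfl⟩)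
  set N := (Cfsg.pCore p (M ⧸ A)).comap f with hN
  set g := f.comp N.subtype with hg
  have h1 : Nat.card N = Nat.card (g.range) * Nat.card g.ker := by
    rw [← Subgroup.index_ker, mul_comm, Subgroup.card_mul_index]
  rw [h1] at hrd
  rcases hr.dvd_mul.1 hrd with h | h
  · have hR : IsPGroup p g.range := (FittingCores.pCore_isPGroup (G := M ⧸ A) p).to_le (by
      rintro _ ⟨n, rfl⟩; exact n.2)
    obtain ⟨k, hk⟩ := IsPGroup.iff_card.1 hR
    exact ((Nat.prime_dvd_prime_iff_eq hr hp.out).1 (hr.dvd_of_dvd_pow (hk ▸ h))).symm ▸ hpπ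
  · refine hαπ (isPi_alpha M r hr (h.trans ?_))
    have hle : g.ker.map N.subtype ≤ A := by
      rintro _ ⟨n, hn, rfl⟩
      exact (QuotientGroup.eq_one_iff _).1 hn
    rw [← Subgroup.card_map_of_injective (K := g.ker) N.subtype_injective]
    exact Subgroup.card_dvd_of_le hle

end Quotient

/-- `O_π(M)` is a Hall `π`-subgroup of `M` and of `G` when `α(M) ⊆ π ⊆ σ(M)`. -/
theorem hall (hG : Cfsg.IsMinSimpleOddOrder G) (hM : IsCoatom M) {π : Set ℕ}
    (hαπ : Cfsg.alpha M ⊆ π) (hπσ : π ⊆ Cfsg.sigma M) :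
    Cfsg.IsPiHallOf π (Cfsg.piCoreOf π M) M ∧ Cfsg.IsPiHall π (Cfsg.piCoreOf π M) := by
  refine ⟨⟨MinSimple.piCoreOf_le, MinSimple.isPi_piCoreOf, fun q hq hqπ hd => ?_⟩,
    MinSimple.isPi_piCoreOf, fun q hq hqπ hd => ?_⟩
  all_goals haveI := Fact.mk hq
  all_goals obtain ⟨S⟩ : Nonempty (Sylow q M) := inferInstance
  all_goals have hle := Subgroup.map_mono (f := M.subtype) (sylow_le_piCore hG hM (hπσ hqπ) hαπ hqπ S)
  · refine S.not_dvd_index (hd.trans ?_)
    rw [show (Cfsg.piCoreOf π M).relIndex M = ((Cfsg.piCoreOf π M).subgroupOf M).index from rfl,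
      Cfsg.piCoreOf, Subgroup.subgroupOf, Subgroup.comap_map_eq_self_of_injective M.subtype_injective]
    exact Subgroup.index_dvd_of_le (sylow_le_piCore hG hM (hπσ hqπ) hαπ hqπ S)
  · obtain ⟨PG, hPG⟩ := sigma_sylow (hπσ hqπ) S
    exact PG.not_dvd_index (hd.trans (Subgroup.index_dvd_of_le (hPG ▸ hle)))

theorem piCoreOf_le_derived (hG : Cfsg.IsMinSimpleOddOrder G) (hM : IsCoatom M) {π : Set ℕ}
    (hπσ : π ⊆ Cfsg.sigma M) : Cfsg.piCoreOf π M ≤ ⁅M, M⁆ := by
  rw [← Subgroup.subgroupOf_eq_top]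
  refine FittingCores.eq_top_of_forall_sylow_le fun q hq => ?_
  haveI := Fact.mk hq
  obtain ⟨T⟩ : Nonempty (Sylow q (Cfsg.piCoreOf π M)) := inferInstance
  refine ⟨T, fun x hx => Subgroup.mem_subgroupOf.2 ?_⟩
  by_cases h1 : x = 1
  · rw [h1]; exact one_mem _
  obtain ⟨S, hS⟩ := ((T.isPGroup'.map _).comap_subtype (K := M)).exists_le_sylow
  obtain ⟨k, hk⟩ := IsPGroup.iff_orderOf.1 T.isPGroup' ⟨x, hx⟩
  rw [Subgroup.orderOf_mk] at hk
  have hk0 : k ≠ 0 := fun h => h1 (orderOf_eq_one_iff.1 (by rw [hk, h, pow_zero]))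
  have hqπ : q ∈ π := MinSimple.isPi_piCoreOf q hq ((hk ▸ dvd_pow_self q hk0).trans (orderOf_dvd_natCard x))
  exact sylow_le_derived hG hM (hπσ hqπ) S ⟨⟨x, MinSimple.piCoreOf_le x.2⟩, hS (Subgroup.mem_comap.2 (Subgroup.mem_map_of_mem (Cfsg.piCoreOf π M).subtype hx)), rfl⟩

end Cfsg.Agent.OddOrder.Sigma
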