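/-
Centralizers in `M_α` (Bender-Glauberman 10.3).
-/
import Cfsg.Agent.Lib.OddOrder.Sigma

set_option autoImplicit false
set_option linter.style.haveILetI false
set_option linter.unusedSectionVars false

namespace Cfsg.Agent.OddOrder.Sigma

open scoped commutatorElement
open FitOf ScnBasics

universe u

variable {G : Type u} [Group G] [Finite G] {M : Subgroup G}

/-- Bender-Glauberman 10.3. -/
theorem alphaCore_centralizer_uniq (hG : Cfsg.IsMinSimpleOddOrder G) (hM : IsCoatom M) {X : Subgroup G}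
    (hXM : X ≤ M) (hXα : ∀ p : ℕ, p.Prime → p ∣ Nat.card X → p ∉ Cfsg.alpha M)
    (hr : ¬ Cfsg.RankLE 1 ↥(Cfsg.alphaCore M ⊓ Subgroup.centralizer (X : Set G))) :
    Cfsg.InUniqueMaximal (M ⊓ Subgroup.centralizer (X : Set G)) := by
  classical
  set Ma := Cfsg.alphaCore M with hMa
  simp only [Cfsg.RankLE, Cfsg.PRankLE, not_forall] at hr
  obtain ⟨p, hp, B₀, hBc, hBp, hBcard⟩ := hr
  haveI := Fact.mk hp
  haveI := hBc
  rw [pow_one, not_le] at hBcard
  set B := B₀.map (Ma ⊓ Subgroup.centralizer (X : Set G)).subtype with hB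
  have hBMa : B ≤ Ma := (Subgroup.map_subtype_le _).trans inf_le_left
  have hBX : B ≤ Subgroup.centralizer (X : Set G) := (Subgroup.map_subtype_le _).trans inf_le_right
  have hBe : Cfsg.IsElementaryAbelian p B := ⟨inferInstance, by
    rintro _ ⟨b, hb, rfl⟩
    rw [← map_pow, hBp b hb, map_one]⟩
  have hBc' : p < Nat.card B := by
    rw [hB, Subgroup.card_map_of_injective (Subgroup.subtype_injective _)]; exact hBcard
  have hMaM : Ma ≤ M := MinSimple.piCoreOf_le
  have hpM : p ∣ Nat.card Ma := by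
    obtain ⟨k, hk⟩ := IsPGroup.iff_card.1 (UniqProp.isPGroup_of_elementary hBe)
    have hk0 : k ≠ 0 := by
      intro h
      rw [hk, h, pow_zero] at hBc'
      exact absurd hBc' (not_lt.2 hp.one_le)
    exact (hk ▸ dvd_pow_self p hk0).trans (Subgroup.card_dvd_of_le hBMa)
  have hpα : p ∈ Cfsg.alpha M := MinSimple.isPi_piCoreOf p hp hpM
  have hp2 : p ≠ 2 := Uniq.ne_two_of_dvd hG (hpM.trans Ma.card_subgroup_dvd_card)
  have hXtop : M ⊓ Subgroup.centralizer (X : Set G) ≠ ⊤ := fun h => hM.1 (top_le_iff.1 (h.ge.trans inf_le_left))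
  have hcop : (Nat.card X).Coprime (Nat.card Ma) :=
    Nat.coprime_of_dvd fun r hr h1 h2 => hXα r hr h1 (MinSimple.isPi_piCoreOf r hr h2)
  have hXMa : X ≤ Subgroup.normalizer (Ma : Set G) :=
    hXM.trans (Subgroup.le_normalizer.trans MinSimple.normalizer_le)
  obtain ⟨T, hBT, hXT⟩ := CoprimeAct.exists_invariant_sylow_ge hXMa hcop
    (Or.inr (MinSimple.isSolvable hG fun h => hM.1 (top_le_iff.1 (h ▸ hMaM)))) hBMa
    (UniqProp.isPGroup_of_elementary hBe)
    ((Subgroup.le_centralizer_iff.1 hBX).trans (Subgroup.centralizer_le_normalizer _))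
  set P := (T : Subgroup Ma).map Ma.subtype with hP
  have hPp : IsPGroup p P := T.isPGroup'.map _
  have hPM : P ≤ M := (Subgroup.map_subtype_le _).trans hMaM
  have hP3 : ¬ Cfsg.PRankLE p 2 P := by
    intro h
    obtain ⟨S⟩ : Nonempty (Sylow p M) := inferInstance
    refine not_rankLE_of_alpha hpα S ?_
    have hle : (S : Subgroup M).map M.subtype ≤ Ma :=
      Subgroup.map_mono (sylow_le_piCore hG hM (alpha_subset_sigma hG hM hpα) subset_rfl hpα S)
    have hMa2 : Cfsg.PRankLE p 2 Ma := LocalFactor.prankLE_of_sylow T fun C hC hCp => by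
      haveI := hC
      set e := (T : Subgroup Ma).equivMapOfInjective Ma.subtype Ma.subtype_injective
      have := h (C.map e.toMonoidHom) inferInstance (by
        rintro _ ⟨b, hb, rfl⟩
        rw [← map_pow, hCp b hb, map_one])
      rwa [Subgroup.card_map_of_injective e.injective] at this
    intro C hC hCp
    haveI := hC
    have := hMa2 (C.map (Subgroup.inclusion hle)) inferInstance (by
      rintro _ ⟨b, hb, rfl⟩
      rw [← map_pow, hCp b hb, map_one])
    rwa [Subgroup.card_map_of_injective (Subgroup.inclusion_injective hle)] at this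
  set C := P ⊓ Subgroup.centralizer (B : Set G) with hC
  by_cases hC3 : Cfsg.PRankLE p 2 C
  swap
  · obtain ⟨E, hEC, hEe, hE3⟩ := UniqProp.exists_elementary hC3
    exact UniqProp.mono (UniqProp.pass hG (ScnUniq.allUniq_of_rank hG hEe hE3 E hEe hE3)
      (Subgroup.le_centralizer_iff.1 (hEC.trans inf_le_right)) le_rfl hBe hBc')
      (le_inf (hBMa.trans hMaM) hBX) hXtop
  obtain ⟨E, hEP, hEe, hE3⟩ := UniqProp.exists_elementary hP3
  refine UniqProp.mono (ScnUniq.allUniq_of_rank hG hEe hE3 E hEe hE3) ?_ hXtop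
  refine le_inf (hEP.trans hPM) (le_trans hEP ?_)
  rw [Subgroup.le_centralizer_iff]
  intro x hx
  rw [Subgroup.mem_centralizer_iff]
  have hxcop : (orderOf x).Coprime p := Nat.Coprime.coprime_dvd_left (Subgroup.orderOf_dvd_natCard X hx)
    (Nat.Coprime.coprime_dvd_right hpM hcop)
  have hxB : ∀ b ∈ B, b * x = x * b := fun b hb => (Subgroup.mem_centralizer_iff.1 (hBX hb) x hx).symm
  have hxC : x ∈ Subgroup.normalizer (C : Set G) := (le_normalizer_inf hXT
    (((Subgroup.le_centralizer_iff.1 hBX).trans (Subgroup.centralizer_le_normalizer _)).trans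
      (normalizer_le_normalizer_centralizer _))) hx
  have hBC : B ≤ C := le_inf hBT (haveI := hBe.1; Subgroup.le_centralizer B)
  have hfix : ∀ a ∈ C, a ^ p = 1 → x * a = a * x := by
    intro a ha hap
    suffices haB : a ∈ B from (hxB a haB).symm
    set W := B ⊔ Subgroup.zpowers a with hW
    have hWC : W ≤ C := sup_le hBC (Subgroup.zpowers_le.2 ha)
    have hcomm : W ≤ Subgroup.centralizer (W : Set G) := by
      have h1 : Subgroup.zpowers a ≤ Subgroup.centralizer (B : Set G) := Subgroup.zpowers_le.2 ha.2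
      haveI := hBe.1
      exact sup_le (Subgroup.le_centralizer_iff.1 (sup_le (Subgroup.le_centralizer B) h1))
        (Subgroup.le_centralizer_iff.1 (sup_le (Subgroup.le_centralizer_iff.1 h1) (Subgroup.le_centralizer _)))
    have hWe : Cfsg.IsElementaryAbelian p W := by
      refine ⟨.of_setLike_mul_comm fun u hu v hv => Subgroup.mem_centralizer_iff.1 (hcomm hv) u hu, fun u hu => ?_⟩
      have hle : W ≤ omega p W (.of_setLike_mul_comm fun u hu v hv =>
          Subgroup.mem_centralizer_iff.1 (hcomm hv) u hu) :=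
        sup_le (fun b hb => ⟨Subgroup.mem_sup_left hb, hBe.2 b hb⟩)
          (Subgroup.zpowers_le.2 ⟨Subgroup.mem_sup_right (Subgroup.mem_zpowers a), hap⟩)
      exact (hle hu).2
    have h2 : Nat.card W ≤ p ^ 2 := by
      by_contra hcon
      exact UniqProp.not_rankLE hWC hWe (k := 2) (not_le.1 hcon) hC3
    obtain ⟨j, hj⟩ := IsPGroup.iff_card.1 (UniqProp.isPGroup_of_elementary hBe)
    have hge : p ^ 2 ≤ Nat.card B := by
      rw [hj] at hBc' ⊢
      exact Nat.pow_le_pow_right hp.pos ((Nat.pow_lt_pow_iff_right hp.one_lt).1 (by rwa [pow_one] : p ^ 1 < p ^ j))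
    exact (Subgroup.eq_of_le_of_card_ge le_sup_left (h2.trans hge)).ge
      (Subgroup.mem_sup_right (Subgroup.mem_zpowers a))
  have hcentC : ∀ a ∈ C, x * a = a * x :=
    LEOmega.commute_of_omega hp2 hxcop _ C le_rfl (hPp.to_le inf_le_left) hxC hfix
  intro y hy
  exact (AxB.thompson (n := orderOf x) hPp (hPp.to_le inf_le_left : IsPGroup p C)
    ((inf_le_left : C ≤ P).trans Subgroup.le_normalizer)
    (fun z hz => (Subgroup.mem_normalizer_iff.1 (hXT hx) z).1 hz)
    (fun a ha => (hcentC a ha).symm) (pow_orderOf_eq_one x) hxcop.symm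
    (fun z hz hzC => hcentC z ⟨hz, Subgroup.mem_centralizer_iff.2 fun b hb => hzC b (hBC hb)⟩) y hy).symm

end Cfsg.Agent.OddOrder.Sigma
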