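import Cfsg.Agent.Lib.OddOrder.ComplPLength
import Cfsg.Agent.Lib.OddOrder.RankTwoSolvable
import Cfsg.Agent.S1407
import Cfsg.Agent.S1459

/-!
Proper subgroups of a minimal simple group of odd order have `p`-length one.
-/

set_option autoImplicit false
open scoped Pointwise commutatorElement

universe u

namespace Cfsg.Agent.OddOrder.ProperPLength

variable {G : Type u} [Group G] [Finite G] {p : ℕ} [hp : Fact p.Prime]

theorem U_characteristic (n : ℕ) : (PSeries.U p G n).Characteristic :=
  Subgroup.characteristic_iff_map_le.2 fun e =>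
    PSeries.map_U_le (f := e.toMonoidHom) e.surjective n

/-- A normal subgroup of index prime to `p` determines the `p`-length. -/
theorem of_normal_index (N : Subgroup G) [hN : N.Normal] (h : Cfsg.PLengthLE p 1 N)
    (hidx : N.index.Coprime p) : Cfsg.PLengthLE p 1 G := by
  rw [PSeries.pLengthLE_iff] at h ⊢
  haveI hn : ∀ i, ((PSeries.U p N i).map N.subtype).Normal := fun i =>
    FittingCores.normal_map_of_characteristic hN (U_characteristic i)
  have hle : ∀ i, (PSeries.U p N i).map N.subtype ≤ PSeries.U p G (0 + i) := by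
    refine PSeries.le_U_of_chain (fun i => (PSeries.U p N i).map N.subtype) 0 ⟨0, rfl⟩ ?_ hn fun i => ?_
    · simp [PSeries.U_zero]
    · rw [Subgroup.relIndex_map_map_of_injective _ _ N.subtype_injective]
      exact PSeries.step_U i
  have h2 := hle 2
  rw [zero_add] at h2
  show PSeries.U p G 3 = ⊤
  refine top_le_iff.1 (PSeries.le_succ_even (n := 2) even_two (X := ⊤) ?_)
  have h3 : N ≤ PSeries.U p G 3 := by
    have := hle 3
    rwa [zero_add, show PSeries.U p N 3 = ⊤ from h, ← MonoidHom.range_eq_map, Subgroup.range_subtype] at this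
  rw [← Subgroup.relIndex_mul_relIndex (PSeries.U p G 2) (PSeries.U p G 3) ⊤ (PSeries.U_le_succ 2) le_top]
  refine Nat.Coprime.mul_left (PSeries.relIndex_succ_even even_two) ?_
  rw [Subgroup.relIndex_top_right]
  exact hidx.coprime_dvd_left (Subgroup.index_dvd_of_le h3)

/-- The case of small rank. -/
theorem of_rankLE [Group.IsSolvable G] (hodd : Odd (Nat.card G)) (hp2 : p ≠ 2) (hr : Cfsg.PRankLE p 2 G) :
    Cfsg.PLengthLE p 1 G := by
  obtain ⟨-, h, -⟩ := RankTwo.structure_general hodd hp2 hr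
  rw [PSeries.pLengthLE_iff]
  refine top_le_iff.1 (PSeries.le_succ_even (n := 2) even_two (X := ⊤) ?_)
  rwa [Subgroup.relIndex_top_right, PSeries.U_two]

/-- Maximal subgroups have `p`-length one. -/
theorem of_maximal (hG : Cfsg.IsMinSimpleOddOrder G) {M : Subgroup G} (hM : IsCoatom M) :
    Cfsg.PLengthLE p 1 M := by
  classical
  haveI := MinSimple.isSolvable hG hM.1
  have hoddG : Odd (Nat.card G) := hG.1
  have hoddM : Odd (Nat.card M) := hoddG.of_dvd_nat (Subgroup.card_subgroup_dvd_card M)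
  by_cases hp2 : p = 2
  · subst hp2
    refine PSeries.pLengthLE_mono (Nat.zero_le 1) (PSeries.pLengthLE_zero_iff.2 ?_)
    exact Nat.coprime_two_right.2 hoddM
  by_cases hr : Cfsg.PRankLE p 2 M
  · exact of_rankLE hoddM hp2 hr
  have hpα : p ∈ Cfsg.alpha M := ⟨hp.out, hr⟩
  have hασ : Cfsg.alpha M ⊆ Cfsg.sigma M := fun q hq => by
    haveI := Fact.mk hq.1
    exact Sigma.alpha_subset_sigma hG hM hq
  obtain ⟨⟨-, hπ, hidx⟩, -⟩ := Sigma.hall hG hM (le_refl (Cfsg.alpha M)) hασ
  have hHleM : Cfsg.piCoreOf (Cfsg.alpha M) M ≤ M := MinSimple.piCoreOf_le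
  set H : Subgroup M := Cfsg.piCore (Cfsg.alpha M) M with hHdef
  have hHidx : ∀ q : ℕ, q.Prime → q ∈ Cfsg.alpha M → ¬ q ∣ H.index := fun q hq hqα hd => by
    refine hidx q hq hqα ?_
    rwa [show (Cfsg.piCoreOf (Cfsg.alpha M) M).relIndex M = ((Cfsg.piCoreOf (Cfsg.alpha M) M).subgroupOf M).index from rfl,
      Cfsg.piCoreOf, Subgroup.subgroupOf, Subgroup.comap_map_eq_self_of_injective M.subtype_injective]
  have hcop : (Nat.card H).Coprime H.index := Nat.coprime_of_dvd fun q hq hd hd' =>
    hHidx q hq (Sigma.isPi_alpha M q hq hd) hd'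
  have hder : H ≤ commutator M := by
    intro x hx
    have := Sigma.piCoreOf_le_derived hG hM hασ ⟨x, hx, rfl⟩
    rw [← Subgroup.map_subtype_commutator] at this
    obtain ⟨y, hy, hyx⟩ := this
    rwa [← Subtype.ext hyx]
  have hpH : (Cfsg.PLengthLE p 1 H) := by
    -- a prime outside `σ`
    have hlt : commutator M ≠ ⊤ := by
      haveI : Nontrivial M := by
        rw [Subgroup.nontrivial_iff_ne_bot]
        intro h
        subst h
        exact hr fun E _ _ => by
          have hE : E = ⊥ := Subsingleton.elim _ _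
          rw [hE, Subgroup.card_bot]
          exact Nat.one_le_pow _ _ hp.out.pos
      exact (Group.IsSolvable.commutator_lt_top_of_nontrivial M).ne
    obtain ⟨s, hs, hsd⟩ := Nat.exists_prime_and_dvd (n := (commutator M).index) fun h =>
      hlt (Subgroup.index_eq_one.1 h)
    haveI := Fact.mk hs
    have hsM : s ∣ Nat.card M := hsd.trans (Subgroup.index_dvd_card _)
    have hsσ : s ∉ Cfsg.sigma M := fun hσ => by
      obtain ⟨S⟩ : Nonempty (Sylow s M) := inferInstance
      refine S.not_dvd_index (hsd.trans (Subgroup.index_dvd_of_le fun x hx => ?_))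
      have := Sigma.sylow_le_derived hG hM hσ S ⟨x, hx, rfl⟩
      rw [← Subgroup.map_subtype_commutator] at this
      obtain ⟨y, hy, hyx⟩ := this
      rwa [← Subtype.ext hyx]
    have hαne : Cfsg.alphaCore M ≠ ⊥ := by
      intro h
      have hbot : H = ⊥ := (Subgroup.map_eq_bot_iff_of_injective _ M.subtype_injective).1 h
      refine hHidx p hp.out hpα ?_
      rw [hbot, Subgroup.index_bot]
      by_contra hnd
      refine hr fun E _ hE => ?_
      have h1 : E = ⊥ := (Subgroup.eq_bot_iff_forall E).2 fun e he => by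
        by_contra he1
        exact hnd ((orderOf_eq_prime (hE e he) he1) ▸ orderOf_dvd_natCard e)
      rw [h1, Subgroup.card_bot]
      exact Nat.one_le_pow _ _ hp.out.pos
    obtain ⟨S⟩ : Nonempty (Sylow s M) := inferInstance
    obtain ⟨x, hxZ, hxo, hxZg, -⟩ := S1407.result hG M hM hαne s hsM hsσ S
    have hxM : x ∈ M := Subgroup.map_subtype_le _ hxZ
    -- a complement containing `x`
    obtain ⟨R₁, hR₁⟩ := Subgroup.exists_right_complement'_of_coprime hcop
    obtain ⟨T, hT⟩ := (IsPGroup.of_card (p := s) (n := 1) (G := Subgroup.zpowers (⟨x, hxM⟩ : M))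
      (by rw [Nat.card_zpowers, ← Subgroup.orderOf_coe, hxo, pow_one])).exists_le_sylow
    have hsα : s ∉ Cfsg.alpha M := fun h => hsσ (hασ h)
    have hsH : ¬ s ∣ Nat.card H := fun h => hsα (Sigma.isPi_alpha M s hs h)
    obtain ⟨T₁⟩ : Nonempty (Sylow s R₁) := inferInstance
    obtain ⟨T₂, hT₂⟩ := (T₁.isPGroup'.map R₁.subtype).exists_le_sylow
    have hT₂eq : (T₁ : Subgroup R₁).map R₁.subtype = (T₂ : Subgroup M) := by
      refine Subgroup.eq_of_le_of_card_ge hT₂ ?_
      rw [Subgroup.card_map_of_injective R₁.subtype_injective, Sylow.card_eq_multiplicity,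
        Sylow.card_eq_multiplicity]
      refine Nat.pow_le_pow_right hs.pos ?_
      rw [← hR₁.card_mul_card, Nat.factorization_mul Nat.card_pos.ne' Nat.card_pos.ne', Finsupp.add_apply,
        Nat.factorization_eq_zero_of_not_dvd hsH, zero_add]
    obtain ⟨g, hg⟩ := MulAction.exists_smul_eq M T₂ T
    set R : Subgroup M := MulAut.conj g • R₁ with hR
    have hxR : (⟨x, hxM⟩ : M) ∈ R := by
      have h1 : (⟨x, hxM⟩ : M) ∈ MulAut.conj g • (T₂ : Subgroup M) := by
        rw [← Sylow.coe_subgroup_smul, hg]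
        exact hT (Subgroup.mem_zpowers _)
      exact Subgroup.pointwise_smul_le_pointwise_smul_iff.2
        (hT₂eq ▸ Subgroup.map_subtype_le _) h1
    have hHn : H.Normal := inferInstance
    have hcR : (Nat.card R).Coprime (Nat.card H) := by
      rw [SolvBasic.card_conjSmul, ← hR₁.symm.index_eq_card]
      exact hcop.symm
    have hRc : Subgroup.IsComplement' H R := by
      refine Subgroup.isComplement'_of_coprime ?_ hcR.symm
      rw [SolvBasic.card_conjSmul, hR₁.card_mul_card]
    have hHR := (S1459.partA H R hHn hcop hRc hder).1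
    rw [hHR]
    refine ComplPLength.main (r := s) _ H R (Subgroup.zpowers ⟨x, hxM⟩) rfl
      ⟨hoddM, inferInstance, hHn, hcR, hRc.sup_eq_top, Subgroup.zpowers_le.2 hxR, ?_, hs, ?_⟩
    · rw [Nat.card_zpowers, ← Subgroup.orderOf_coe, hxo]
    · haveI := hxZg
      have hm : ∀ y : ↥(H ⊓ Subgroup.centralizer ((Subgroup.zpowers (⟨x, hxM⟩ : M) : Subgroup M) : Set M)),
          ((y : M) : G) ∈ Cfsg.alphaCore M ⊓ Subgroup.centralizer ({x} : Set G) := fun y =>
        ⟨⟨(y : M), y.2.1, rfl⟩, Subgroup.mem_centralizer_singleton_iff.2 (congrArg Subtype.val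
          (Subgroup.mem_centralizer_iff.1 y.2.2 ⟨x, hxM⟩ (Subgroup.mem_zpowers _)).symm)⟩
      exact IsZGroup.of_injective (f := MonoidHom.mk'
        (fun y => (⟨((y : M) : G), hm y⟩ : ↥(Cfsg.alphaCore M ⊓ Subgroup.centralizer ({x} : Set G))))
        (fun a b => rfl)) (fun a b h => Subtype.ext (Subtype.ext (congrArg Subtype.val h :)))
  refine of_normal_index H hpH ?_
  exact ((Nat.Prime.coprime_iff_not_dvd hp.out).2 (hHidx p hp.out hpα)).symm

/-- Proper subgroups have `p`-length one. -/
theorem of_proper (hG : Cfsg.IsMinSimpleOddOrder G) {H : Subgroup G} (hH : H ≠ ⊤) :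
    Cfsg.PLengthLE p 1 H := by
  obtain ⟨M, hM, hHM⟩ := (eq_top_or_exists_le_coatom H).resolve_left hH
  refine PSeries.pLengthLE_of_ker_coprime (Subgroup.inclusion hHM) ?_ (of_maximal hG hM)
  rw [(MonoidHom.ker_eq_bot_iff _).2 (Subgroup.inclusion_injective hHM), Subgroup.card_bot]
  exact Nat.coprime_one_left p

end Cfsg.Agent.OddOrder.ProperPLength
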