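/-
The set `β(M)` and the normal `p`-complements for the other primes (BG 10.6, 10.8).
-/
import Cfsg.Agent.Lib.OddOrder.NarrowConverse
import Cfsg.Agent.Lib.OddOrder.Sigma
import Cfsg.Agent.Lib.OddOrder.ProperPLength
import Cfsg.Agent.Lib.OddOrder.NarrowSolvable
import Cfsg.Agent.S1455
import Mathlib.GroupTheory.SchurZassenhaus

set_option autoImplicit false
set_option linter.style.haveILetI false
open Cfsg

namespace Cfsg.Agent.OddOrder.BetaCore

universe u

variable {G : Type u} [Group G] [Finite G]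

theorem beta_subset_sigma (hG : IsMinSimpleOddOrder G) {M : Subgroup G} (hM : IsCoatom M) :
    beta M ⊆ sigma M := fun q hq => by
  haveI := Fact.mk hq.1.1
  exact Sigma.alpha_subset_sigma hG hM hq.1

variable {p : ℕ} [hp : Fact p.Prime]

/-- The Sylow subgroups of `M` for primes outside `β(M)` are narrow. -/
theorem isNarrow_sylow (hG : IsMinSimpleOddOrder G) {M : Subgroup G} (hM : IsCoatom M) (hp2 : p ≠ 2)
    (hβ : p ∉ beta M) (S : Sylow p M) : IsNarrow p ↥(S : Subgroup M) := by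
  by_cases hα : p ∈ alpha M
  swap
  · refine Or.inl (RankTwo.prankLE_mono ?_)
    by_contra h
    exact hα ⟨hp.out, h⟩
  have hid : ¬ IsIdealPrime p G := fun h => hβ ⟨hα, h⟩
  rw [IsIdealPrime] at hid
  push Not at hid
  obtain ⟨P, A, hAP, hA, hA2, hmax⟩ :=
    hid hp.out fun h => hα.2 (RankTwo.prankLE_mono h)
  have hAc := hA.1
  -- in the Sylow subgroup of `G`
  have hA' : IsElementaryAbelian p (A.subgroupOf (P : Subgroup G)) :=
    ⟨.of_setLike_mul_comm fun a ha b hb => Subtype.ext (by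
        have h : (a : G) * b = b * a := congrArg Subtype.val (mul_comm' (⟨a, ha⟩ : A) ⟨b, hb⟩)
        exact h),
      fun a ha => Subtype.ext (by simpa using hA.2 a ha)⟩
  have hn : IsNarrow p ↥(P : Subgroup G) := by
    refine NarrowBasics.isNarrow_of_maximal_pair hp2 P.isPGroup' hA' ?_ fun B hB hAB => ?_
    · rw [Nat.card_congr (Subgroup.subgroupOfEquivOfLe hAP).toEquiv, hA2]
    · have hle : A ≤ B.map (P : Subgroup G).subtype := fun a ha => ⟨⟨a, hAP ha⟩, hAB ha, rfl⟩
      have hBc := hB.1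
      have hBe : IsElementaryAbelian p (B.map (P : Subgroup G).subtype) := by
        refine ⟨inferInstance, ?_⟩
        rintro _ ⟨b, hb, rfl⟩
        rw [← map_pow, hB.2 b hb, map_one]
      have heq : A = B.map (P : Subgroup G).subtype :=
        hle.eq_of_not_lt (hmax _ (Subgroup.map_subtype_le _) hBe)
      refine le_antisymm (fun b hb => ?_) hAB
      rw [Subgroup.mem_subgroupOf, heq]
      exact ⟨b, hb, rfl⟩
  obtain ⟨PG, hPG⟩ := Sigma.sigma_sylow (Sigma.alpha_subset_sigma hG hM hα) S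
  refine NarrowSolvable.isNarrow_of_equiv ?_ hn
  exact (P.equiv PG).trans ((MulEquiv.subgroupCongr hPG).trans
    ((S : Subgroup M).equivMapOfInjective M.subtype M.subtype_injective).symm)

omit hp in
theorem le_commutator {M X : Subgroup G} (hX : X ≤ ⁅M, M⁆) {x : M} (hx : (x : G) ∈ X) :
    x ∈ commutator M := by
  have h1 : (x : G) ∈ (commutator M).map M.subtype := by
    rw [Subgroup.map_subtype_commutator]
    exact hX hx
  obtain ⟨y, hy, hyx⟩ := h1
  rwa [← Subtype.ext hyx]

variable (hG : IsMinSimpleOddOrder G) {M : Subgroup G} (hM : IsCoatom M)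
include hG hM

/-- The consequences of narrowness. -/
theorem structure_notBeta (hpM : p ∣ Nat.card M) (hβ : p ∉ beta M) :
    (∀ q : ℕ, q.Prime → q ∣ (pPrimeCore p M).index → q ≤ p) ∧ commutator M ≤ pPrimePCore p M := by
  haveI := MinSimple.isSolvable hG hM.1
  have hp2 : p ≠ 2 := Uniq.ne_two_of_dvd hG (hpM.trans M.card_subgroup_dvd_card)
  obtain ⟨S⟩ : Nonempty (Sylow p M) := inferInstance
  obtain ⟨h1, -, -, -, h5, -⟩ := S1455.result (hG.1.of_dvd_nat M.card_subgroup_dvd_card) p hpM S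
    (isNarrow_sylow hG hM hp2 hβ S) fun _ => ProperPLength.of_maximal hG hM
  exact ⟨h1, h5⟩

/-- Below `M'` the `p'`-core leaves a `p`-group. -/
theorem exists_pow_mem (hpM : p ∣ Nat.card M) (hβ : p ∉ beta M) {x : M} (hx : x ∈ commutator M) :
    ∃ k : ℕ, x ^ p ^ k ∈ pPrimeCore p M := by
  haveI := FittingCores.pPrimeCore_normal (G := ↥M) p
  have h := (structure_notBeta hG hM hpM hβ).2 hx
  obtain ⟨k, hk⟩ := FittingCores.pCore_isPGroup (G := M ⧸ pPrimeCore p M) p ⟨_, h⟩
  refine ⟨k, ?_⟩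
  rw [← QuotientGroup.eq_one_iff, QuotientGroup.mk_pow]
  have := congrArg Subtype.val hk
  simpa using this

/-- The `p'`-part of a subgroup of `M'`. -/
theorem complement_data (hpM : p ∣ Nat.card M) (hβ : p ∉ beta M) {X : Subgroup G} (hX : X ≤ ⁅M, M⁆)
    (hXM : X ≤ M) :
    ∃ N : Subgroup X, N.Normal ∧ (Nat.card N).Coprime p ∧ ∀ x : X, ∃ k : ℕ, x ^ p ^ k ∈ N := by
  haveI := FittingCores.pPrimeCore_normal (G := ↥M) p
  refine ⟨(pPrimeCore p M).comap (Subgroup.inclusion hXM), Subgroup.Normal.comap inferInstance _,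
    Nat.Coprime.coprime_dvd_left
      (Subgroup.card_comap_dvd_of_injective _ _ (Subgroup.inclusion_injective hXM))
      (FittingCores.pPrimeCore_coprime p), fun x => ?_⟩
  obtain ⟨k, hk⟩ := exists_pow_mem hG hM hpM hβ (x := Subgroup.inclusion hXM x) (le_commutator hX x.2)
  exact ⟨k, by rw [Subgroup.mem_comap, map_pow]; exact hk⟩

theorem hasNormalPComplement (hpM : p ∣ Nat.card M) (hβ : p ∉ beta M) {X : Subgroup G} (hX : X ≤ ⁅M, M⁆)
    (hXM : X ≤ M) : HasNormalPComplement p X := by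
  obtain ⟨N, hN, hNc, hpow⟩ := complement_data hG hM hpM hβ hX hXM
  refine RankTwo.hasNormalPComplement_of N hNc fun x => ?_
  induction x using QuotientGroup.induction_on with | H x => ?_
  obtain ⟨k, hk⟩ := hpow x
  exact ⟨k, by rw [← QuotientGroup.mk_pow, QuotientGroup.eq_one_iff]; exact hk⟩

omit hp

/-- A subgroup of `M'` whose order involves no prime of `β(M)` is nilpotent. -/
theorem isNilpotent {X : Subgroup G} (hX : X ≤ ⁅M, M⁆) (hXM : X ≤ M)
    (hβ : ∀ q : ℕ, q.Prime → q ∣ Nat.card X → q ∉ beta M) : Group.IsNilpotent X := by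
  classical
  refine (Group.isNilpotent_of_finite_tfae (G := ↥X)).out 0 3 |>.2 fun q hq S => ?_
  haveI := hq
  have hdata : ∀ r : ℕ, r.Prime → r ∣ Nat.card X →
      ∃ N : Subgroup X, N.Normal ∧ (Nat.card N).Coprime r ∧ ∀ x : X, ∃ k : ℕ, x ^ r ^ k ∈ N := fun r hr hd => by
    haveI := Fact.mk hr
    exact complement_data hG hM (hd.trans (Subgroup.card_dvd_of_le hXM)) (hβ r hr hd) hX hXM
  choose N hN hNc hpow using hdata
  set K : Subgroup X := ⨅ (r : ℕ) (hr : r.Prime) (hd : r ∣ Nat.card X) (_ : r ≠ q), N r hr hd with hK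
  have hKn : K.Normal := by
    refine ⟨fun a ha g => ?_⟩
    simp only [hK, Subgroup.mem_iInf] at ha ⊢
    exact fun r hr hd hrq => (hN r hr hd).conj_mem a (ha r hr hd hrq) g
  have hSK : (S : Subgroup X) ≤ K := by
    intro x hx
    simp only [hK, Subgroup.mem_iInf]
    intro r hr hd hrq
    obtain ⟨k, hk⟩ := hpow r hr hd x
    obtain ⟨j, hj⟩ := S.isPGroup' ⟨x, hx⟩
    have hj' : x ^ q ^ j = 1 := congrArg Subtype.val hj
    haveI := hN r hr hd
    rw [← QuotientGroup.eq_one_iff]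
    have h1 : (x : X ⧸ N r hr hd) ^ r ^ k = 1 := by
      rw [← QuotientGroup.mk_pow, QuotientGroup.eq_one_iff]; exact hk
    have h2 : (x : X ⧸ N r hr hd) ^ q ^ j = 1 := by
      rw [← QuotientGroup.mk_pow, hj', QuotientGroup.mk_one]
    have h3 := pow_gcd_eq_one.2 ⟨h1, h2⟩
    rwa [(Nat.Coprime.pow k j ((Nat.coprime_primes hr hq.out).2 hrq)).gcd_eq_one, pow_one] at h3
  have hKq : IsPGroup q K := by
    refine IsPGroup.of_card (n := (Nat.card K).primeFactorsList.length)
      (Nat.eq_prime_pow_of_unique_prime_dvd Nat.card_pos.ne' fun {r} hr hd => ?_)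
    by_contra hrq
    have hrX := hd.trans K.card_subgroup_dvd_card
    have hle : K ≤ N r hr hrX := fun a ha => by
      simp only [hK, Subgroup.mem_iInf] at ha
      exact ha r hr hrX hrq
    exact hr.ne_one (Nat.eq_one_of_dvd_coprimes (hNc r hr hrX) (hd.trans (Subgroup.card_dvd_of_le hle)) dvd_rfl)
  rw [← S.is_maximal' hKq hSK]
  exact hKn

/-- Sylow subgroups for `β(M)` lie in the `β`-core. -/
theorem sylow_le_piCore {q : ℕ} [hq : Fact q.Prime] (hqβ : q ∈ beta M) (S : Sylow q M) :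
    (S : Subgroup M) ≤ piCore (beta M) M := by
  classical
  have hder : ∀ x ∈ (S : Subgroup M), x ∈ commutator M := fun x hx =>
    le_commutator (Sigma.sylow_le_derived hG hM (beta_subset_sigma hG hM hqβ) S) ⟨x, hx, rfl⟩
  set K : Subgroup M := ⨅ (r : ℕ) (_ : r.Prime) (_ : r ∣ Nat.card M) (_ : r ∉ beta M), pPrimeCore r M with hK
  have hKn : K.Normal := by
    refine ⟨fun a ha g => ?_⟩
    simp only [hK, Subgroup.mem_iInf] at ha ⊢
    intro r hr hd hrβ
    haveI := Fact.mk hr
    exact (FittingCores.pPrimeCore_normal (G := ↥M) r).conj_mem a (ha r hr hd hrβ) g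
  intro x hx
  refine (le_sSup ⟨hKn, fun r hr hd => ?_⟩ : K ≤ piCore (beta M) M) ?_
  · by_contra hrβ
    haveI := Fact.mk hr
    have hle : K ≤ pPrimeCore r M := fun a ha => by
      simp only [hK, Subgroup.mem_iInf] at ha
      exact ha r hr (hd.trans K.card_subgroup_dvd_card) hrβ
    exact hr.ne_one (Nat.eq_one_of_dvd_coprimes (FittingCores.pPrimeCore_coprime (G := ↥M) r)
      (hd.trans (Subgroup.card_dvd_of_le hle)) dvd_rfl)
  simp only [hK, Subgroup.mem_iInf]
  intro r hr hd hrβ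
  haveI := Fact.mk hr
  obtain ⟨k, hk⟩ := exists_pow_mem hG hM hd hrβ (hder x hx)
  obtain ⟨j, hj⟩ := S.isPGroup' ⟨x, hx⟩
  have hj' : x ^ q ^ j = 1 := congrArg Subtype.val hj
  haveI := FittingCores.pPrimeCore_normal (G := ↥M) r
  rw [← QuotientGroup.eq_one_iff]
  have h1 : (x : M ⧸ pPrimeCore r M) ^ r ^ k = 1 := by
    rw [← QuotientGroup.mk_pow, QuotientGroup.eq_one_iff]; exact hk
  have h2 : (x : M ⧸ pPrimeCore r M) ^ q ^ j = 1 := by
    rw [← QuotientGroup.mk_pow, hj', QuotientGroup.mk_one]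
  have h3 := pow_gcd_eq_one.2 ⟨h1, h2⟩
  have hrq : r ≠ q := fun h => hrβ (h ▸ hqβ)
  rwa [(Nat.Coprime.pow k j ((Nat.coprime_primes hr hq.out).2 hrq)).gcd_eq_one, pow_one] at h3

/-- `M_β` is a Hall `β(M)`-subgroup of `M` and of `G`. -/
theorem hall : IsPiHallOf (beta M) (piCoreOf (beta M) M) M ∧ IsPiHall (beta M) (piCoreOf (beta M) M) := by
  refine ⟨⟨MinSimple.piCoreOf_le, MinSimple.isPi_piCoreOf, fun q hq hqβ hd => ?_⟩,
    MinSimple.isPi_piCoreOf, fun q hq hqβ hd => ?_⟩
  all_goals haveI := Fact.mk hq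
  all_goals obtain ⟨S⟩ : Nonempty (Sylow q M) := inferInstance
  all_goals have hle := sylow_le_piCore hG hM hqβ S
  · refine S.not_dvd_index (hd.trans ?_)
    rw [show (piCoreOf (beta M) M).relIndex M = ((piCoreOf (beta M) M).subgroupOf M).index from rfl,
      piCoreOf, Subgroup.subgroupOf, Subgroup.comap_map_eq_self_of_injective M.subtype_injective]
    exact Subgroup.index_dvd_of_le hle
  · obtain ⟨PG, hPG⟩ := Sigma.sigma_sylow (beta_subset_sigma hG hM hqβ) S
    exact PG.not_dvd_index (hd.trans (Subgroup.index_dvd_of_le (hPG ▸ Subgroup.map_mono hle)))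

/-- Subgroups between `M_β` and `M'` have a nilpotent Hall `β(M)'`-subgroup. -/
theorem exists_nilpotent_hall {X : Subgroup G} (hβX : piCoreOf (beta M) M ≤ X) (hX : X ≤ ⁅M, M⁆) :
    ∃ H : Subgroup G, IsPiHallOf {q | q.Prime ∧ q ∉ beta M} H X ∧ Group.IsNilpotent H := by
  classical
  have hXM : X ≤ M := hX.trans (Subgroup.commutator_le.2 fun a ha b hb => by
    rw [commutatorElement_def]
    exact M.mul_mem (M.mul_mem (M.mul_mem ha hb) (M.inv_mem ha)) (M.inv_mem hb))
  set B := piCoreOf (beta M) M with hB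
  have hBn : M ≤ Subgroup.normalizer (B : Set G) :=
    Subgroup.le_normalizer.trans MinSimple.normalizer_le
  set B' := B.subgroupOf X with hB'
  haveI : B'.Normal := ⟨fun a ha g => by
    rw [Subgroup.mem_subgroupOf] at ha ⊢
    exact (Subgroup.mem_normalizer_iff.1 (hBn (hXM g.2)) a).1 ha⟩
  have hcardB : Nat.card B' = Nat.card B := Nat.card_congr (Subgroup.subgroupOfEquivOfLe hβX).toEquiv
  have hidx : ∀ r : ℕ, r.Prime → r ∣ B'.index → r ∉ beta M := fun r hr hd hrβ =>
    (hall hG hM).1.2.2 r hr hrβ (hd.trans ⟨_, (Subgroup.relIndex_mul_relIndex B X M hβX hXM).symm⟩)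
  have hcop : (Nat.card B').Coprime B'.index := by
    refine Nat.coprime_of_dvd fun r hr h1 h2 => ?_
    exact hidx r hr h2 ((hall hG hM).1.2.1 r hr (hcardB ▸ h1))
  obtain ⟨K, hK⟩ := Subgroup.exists_right_complement'_of_coprime hcop
  have hKc : Nat.card K = B'.index := hK.symm.index_eq_card.symm
  refine ⟨K.map X.subtype, ⟨Subgroup.map_subtype_le _, fun r hr hd => ?_, fun r hr hrπ hd => ?_⟩, ?_⟩
  · rw [Subgroup.card_map_of_injective X.subtype_injective, hKc] at hd
    exact ⟨hr, hidx r hr hd⟩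
  · rw [Subgroup.relIndex, Subgroup.subgroupOf, Subgroup.comap_map_eq_self_of_injective X.subtype_injective,
      hK.index_eq_card, hcardB] at hd
    exact hrπ.2 ((hall hG hM).1.2.1 r hr hd)
  · refine isNilpotent hG hM ((Subgroup.map_subtype_le _).trans hX) ((Subgroup.map_subtype_le _).trans hXM)
      fun r hr hd => ?_
    rw [Subgroup.card_map_of_injective X.subtype_injective, hKc] at hd
    exact hidx r hr hd

end Cfsg.Agent.OddOrder.BetaCore
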