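import Cfsg.Agent.Lib.OddOrder.ProperPLength
import Cfsg.Agent.Lib.OddOrder.PLengthOne
import Cfsg.Agent.Lib.Transfer.Alperin

/-!
In a minimal simple group of odd order the normalizer of a Sylow subgroup controls fusion.
-/

set_option autoImplicit false
open scoped Pointwise commutatorElement

namespace Cfsg.Agent.OddOrder.PLengthFusion

variable {G : Type*} [Group G] [Finite G] {p : ℕ} [hp : Fact p.Prime]

/-- In a group of `p`-length one an element is a product from `O_{p'}` and the normalizer of a Sylow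
subgroup. -/
theorem exists_core_mul {X : Type*} [Group X] [Finite X] (hl : Cfsg.PLengthLE p 1 X) (S : Sylow p X)
    (x : X) : ∃ o ∈ Cfsg.pPrimeCore p X, ∃ n ∈ Subgroup.normalizer ((S : Subgroup X) : Set X), x = o * n := by
  haveI := FittingCores.pPrimeCore_normal (G := X) p
  haveI := PLengthOne.sup_sylow_normal hl S
  set N := Cfsg.pPrimeCore p X ⊔ (S : Subgroup X)
  have htop : Subgroup.normalizer ((S : Subgroup X) : Set X) ⊔ N = ⊤ := by
    have h := Sylow.normalizer_sup_eq_top (N := N) (S.subtype le_sup_right)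
    rwa [Sylow.coe_subtype, Subgroup.map_subgroupOf_eq_of_le le_sup_right] at h
  have hle : (⊤ : Subgroup X) ≤ Cfsg.pPrimeCore p X ⊔ Subgroup.normalizer ((S : Subgroup X) : Set X) :=
    htop ▸ sup_le le_sup_right (sup_le le_sup_left (Subgroup.le_normalizer.trans le_sup_right))
  obtain ⟨o, ho, n, hn, h⟩ := Subgroup.mem_sup_of_normal_left.1 (hle (Subgroup.mem_top x))
  exact ⟨o, ho, n, hn, h.symm⟩

/-- Along a chain with large intersections. -/
theorem of_chain {P : Sylow p G} {k : ℕ}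
    (hk : ∀ (Q : Sylow p G) (x : G), Alperin.Tame P Q →
      x ∈ Subgroup.normalizer ((((P : Subgroup G) ⊓ (Q : Subgroup G)) : Subgroup G) : Set G) →
      k ≤ Nat.card ↥((P : Subgroup G) ⊓ (Q : Subgroup G)) →
      ∃ y ∈ Subgroup.normalizer ((P : Subgroup G) : Set G), ∀ a ∈ (P : Subgroup G) ⊓ (Q : Subgroup G),
        x⁻¹ * a * x = y⁻¹ * a * y)
    {A : Set G} {g : G} (h : Alperin.Chain P A g) (hA : k ≤ A.ncard) :
    ∃ y ∈ Subgroup.normalizer ((P : Subgroup G) : Set G), ∀ a ∈ A, g⁻¹ * a * g = y⁻¹ * a * y := by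
  induction h with
  | nil => exact ⟨1, one_mem _, fun a _ => rfl⟩
  | @cons A x g Q hQ hx hAs _ ih =>
    obtain ⟨y, hy, hya⟩ := hk Q x hQ hx (hA.trans ((Set.ncard_le_ncard hAs (Set.toFinite _)).trans
      (le_of_eq (Nat.card_coe_set_eq _).symm)))
    obtain ⟨z, hz, hza⟩ := ih (by
      rw [Alperin.cjs, Set.ncard_image_of_injective _ (fun a b h => mul_left_cancel (mul_right_cancel h))]
      exact hA)
    refine ⟨y * z, mul_mem hy hz, fun a ha => ?_⟩
    calc (x * g)⁻¹ * a * (x * g) = g⁻¹ * (x⁻¹ * a * x) * g := by group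
      _ = z⁻¹ * (x⁻¹ * a * x) * z := hza _ ⟨a, ha, rfl⟩
      _ = (y * z)⁻¹ * a * (y * z) := by rw [hya a (hAs ha)]; group

/-- The normalizer of a Sylow subgroup controls fusion elementwise. -/
theorem eq_on (hG : Cfsg.IsMinSimpleOddOrder G) (P : Sylow p G) {A : Set G} {g : G}
    (hA : A ⊆ (P : Set G)) (hAg : Alperin.cjs g A ⊆ (P : Set G)) :
    ∃ y ∈ Subgroup.normalizer ((P : Subgroup G) : Set G), ∀ a ∈ A, g⁻¹ * a * g = y⁻¹ * a * y := by
  refine of_chain (k := 0) (fun Q x hQ hx _ => ?_) (Alperin.chain_of_conj P A g hA hAg) (Nat.zero_le _)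
  -- the steps, by induction on the size of the intersection
  obtain ⟨n, hn⟩ : ∃ n, n = Nat.card (P : Subgroup G) - Nat.card ↥((P : Subgroup G) ⊓ (Q : Subgroup G)) :=
    ⟨_, rfl⟩
  induction n using Nat.strong_induction_on generalizing Q x with
  | _ n ih =>
  set D := (P : Subgroup G) ⊓ (Q : Subgroup G) with hD
  by_cases hDP : D = (P : Subgroup G)
  · exact ⟨x, hDP ▸ hx, fun a _ => rfl⟩
  by_cases hD1 : D = ⊥
  · refine ⟨1, one_mem _, fun a ha => ?_⟩
    rw [hD1, Subgroup.mem_bot] at ha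
    subst ha
    group
  set L := Subgroup.normalizer (D : Set G) with hL
  have hDp : IsPGroup p D := P.isPGroup'.to_le inf_le_left
  have hLne : L ≠ ⊤ := MinSimple.normalizer_ne_top hG hD1 (MinSimple.pSubgroup_ne_top hG hDp)
  set T := (P : Subgroup G) ⊓ L with hT
  have hTp : IsPGroup p (T.subgroupOf L) :=
    (P.isPGroup'.to_le inf_le_left).comap_of_injective L.subtype L.subtype_injective
  set S : Sylow p L := hTp.toSylow (fun hd => hQ.1 hd) with hS
  have hl : Cfsg.PLengthLE p 1 L := ProperPLength.of_proper hG hLne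
  obtain ⟨o, ho, m, hm, hxom⟩ := exists_core_mul hl S ⟨x, hx⟩
  have hoD : ∀ a ∈ D, (o : G) * a = a * o := by
    intro a ha
    have haL : a ∈ L := Subgroup.le_normalizer ha
    haveI := FittingCores.pPrimeCore_normal (G := L) p
    have h1 : ⁅(⟨a, haL⟩ : L), o⁆ ∈ Cfsg.pPrimeCore p L := by
      rw [commutatorElement_def]
      exact mul_mem (Subgroup.Normal.conj_mem inferInstance _ ho _) (inv_mem ho)
    have h2 : a * o * a⁻¹ * (o : G)⁻¹ ∈ D := by
      rw [show a * o * a⁻¹ * (o : G)⁻¹ = a * (o * a⁻¹ * (o : G)⁻¹) by group]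
      exact mul_mem ha ((Subgroup.mem_normalizer_iff.1 o.2 _).1 (inv_mem ha))
    have h3 : orderOf ⁅(⟨a, haL⟩ : L), o⁆ = 1 := by
      obtain ⟨j, hj⟩ := IsPGroup.iff_orderOf.1 hDp ⟨_, h2⟩
      refine Nat.eq_one_of_dvd_coprimes ((FittingCores.pPrimeCore_coprime (G := L) p).pow_right j)
        (Subgroup.orderOf_dvd_natCard _ h1) (dvd_of_eq ?_)
      rw [← hj, Subgroup.orderOf_mk, ← Subgroup.orderOf_coe]
      rfl
    exact (commutatorElement_eq_one_iff_mul_comm.1 (congrArg Subtype.val (orderOf_eq_one_iff.1 h3) :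
      ⁅a, (o : G)⁆ = 1)).symm
  -- `m` normalizes `N_P(D)`
  have hmT : (m : G) ∈ Subgroup.normalizer (T : Set G) := by
    refine ComplAbelian.mem_normalizer_of_map_le fun t ht => ?_
    have h1 : m * ⟨t, ht.2⟩ * m⁻¹ ∈ (S : Subgroup L) :=
      (Subgroup.mem_normalizer_iff.1 hm ⟨t, ht.2⟩).1 ht
    exact h1
  have hlt : Nat.card D < Nat.card T := by
    refine lt_of_le_of_ne (Subgroup.card_le_of_le (le_inf inf_le_left Subgroup.le_normalizer)) fun he => ?_
    have hTD : D = T := Subgroup.eq_of_le_of_card_ge (le_inf inf_le_left Subgroup.le_normalizer) he.ge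
    haveI : Group.IsNilpotent (P : Subgroup G) := P.isPGroup'.isNilpotent
    have hnc := (Group.normalizerCondition_of_isNilpotent (G := (P : Subgroup G))) (D.subgroupOf P)
      (lt_top_iff_ne_top.2 fun h => hDP (le_antisymm inf_le_left (Subgroup.subgroupOf_eq_top.1 h)))
    refine hnc.not_ge fun y hy => ?_
    show (y : G) ∈ D
    rw [hTD]
    refine ⟨y.2, ComplAbelian.mem_normalizer_of_map_le fun a ha => ?_⟩
    exact (Subgroup.mem_normalizer_iff.1 hy ⟨a, (inf_le_left : D ≤ _) ha⟩).1 ha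
  have hTg : Alperin.cjs (m : G) (T : Set G) ⊆ (P : Set G) := by
    rintro _ ⟨t, ht, rfl⟩
    exact ((Subgroup.mem_normalizer_iff''.1 hmT t).1 ht).1
  obtain ⟨y, hy, hyT⟩ := of_chain (k := Nat.card T) (fun Q' x' hQ' hx' hcard => ih _ (by
      have h1 := Subgroup.card_le_of_le (inf_le_left : T ≤ (P : Subgroup G))
      have h2 := Subgroup.card_le_of_le (inf_le_left : (P : Subgroup G) ⊓ (Q' : Subgroup G) ≤ (P : Subgroup G))
      omega) Q' x' hQ' hx' (Nat.zero_le _) rfl)
    (Alperin.chain_of_conj P (T : Set G) m (fun t ht => ht.1) hTg) (le_of_eq (Nat.card_coe_set_eq _))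
  refine ⟨y, hy, fun a ha => ?_⟩
  have hx' : x = (o : G) * m := congrArg Subtype.val hxom
  calc x⁻¹ * a * x = (m : G)⁻¹ * ((o : G)⁻¹ * (a * o)) * m := by rw [hx']; group
    _ = (m : G)⁻¹ * a * m := by rw [← hoD a ha, inv_mul_cancel_left]
    _ = y⁻¹ * a * y := hyT a ⟨ha.1, Subgroup.le_normalizer ha⟩

/-- Conjugates inside `P` come from the normalizer. -/
theorem exists_conj_eq (hG : Cfsg.IsMinSimpleOddOrder G) (P : Sylow p G) {Q : Subgroup G} {x : G}
    (hQ : Q ≤ (P : Subgroup G)) (hQx : Q.map (MulAut.conj x).toMonoidHom ≤ (P : Subgroup G)) :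
    ∃ y ∈ Subgroup.normalizer ((P : Subgroup G) : Set G),
      Q.map (MulAut.conj x).toMonoidHom = Q.map (MulAut.conj y).toMonoidHom := by
  obtain ⟨y, hy, h⟩ := eq_on hG P (A := (Q : Set G)) (g := x⁻¹) hQ (by
    rintro _ ⟨a, ha, rfl⟩
    exact hQx ⟨a, ha, by simp⟩)
  refine ⟨y⁻¹, inv_mem hy, ?_⟩
  ext z
  refine exists_congr fun a => and_congr_right fun ha => ?_
  have := h a ha
  simp only [MulEquiv.coe_toMonoidHom, MulAut.conj_apply, inv_inv] at this ⊢
  rw [this]

/-- A Sylow subgroup lies in the derived subgroup of its normalizer. -/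
theorem sylow_le_derived (hG : Cfsg.IsMinSimpleOddOrder G) (P : Sylow p G) :
    (P : Subgroup G) ≤ ⁅Subgroup.normalizer ((P : Subgroup G) : Set G),
      Subgroup.normalizer ((P : Subgroup G) : Set G)⁆ := by
  set N := Subgroup.normalizer ((P : Subgroup G) : Set G) with hN
  rcases eq_or_ne (P : Subgroup G) ⊥ with h | hP1
  · rw [h]; exact bot_le
  haveI := hG.2.1
  have htop : commutator G = ⊤ := by
    rcases (inferInstance : (commutator G).Normal).eq_bot_or_eq_top with h | h
    · exfalso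
      refine hG.2.2.1 ⟨⟨fun a b => ?_⟩⟩
      exact commutatorElement_eq_one_iff_mul_comm.1 (Subgroup.mem_bot.1
        (h ▸ Subgroup.commutator_mem_commutator (Subgroup.mem_top a) (Subgroup.mem_top b) :
          ⁅a, b⁆ ∈ (⊥ : Subgroup G)))
    · exact h
  have hfoc := Fusion.commutator_inf_eq_of_controlsFusion P N Subgroup.le_normalizer fun x hx g hg => by
    obtain ⟨y, hy, h⟩ := eq_on hG P (A := {x}) (g := g⁻¹) (Set.singleton_subset_iff.2 hx) (by
      rintro _ ⟨a, rfl, rfl⟩
      simpa using hg)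
    refine ⟨y⁻¹, inv_mem hy, ?_⟩
    have := h x rfl
    simp only [inv_inv] at this ⊢
    exact this.symm
  rw [htop, top_inf_eq] at hfoc
  exact hfoc.le.trans inf_le_left

end Cfsg.Agent.OddOrder.PLengthFusion
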