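/-
Maximal elementary abelian subgroups of order p² of a minimal simple group of odd order (BG 12.3).
-/
import Cfsg.Agent.Lib.OddOrder.BetaCore
import Cfsg.Agent.Lib.OddOrder.PLengthFusion
import Cfsg.Agent.Lib.PLocal.FixedPointFree
import Cfsg.Agent.S1394
import Cfsg.Agent.S1395
import Cfsg.Agent.S1396
import Cfsg.Agent.S1410

set_option autoImplicit false
set_option linter.style.haveILetI false
set_option linter.unusedSectionVars false

namespace Cfsg.Agent.OddOrder.Plane

open scoped commutatorElement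

universe u

/-- In a finite nilpotent group every subgroup is subnormal. -/
theorem isSubnormal_of_nilpotent {X : Type u} [Group X] [Finite X] [Group.IsNilpotent X] :
    ∀ H : Subgroup X, H.IsSubnormal := by
  suffices h : ∀ (n : ℕ) (H : Subgroup X), H.index = n → H.IsSubnormal from fun H => h _ H rfl
  intro n
  induction n using Nat.strong_induction_on with
  | _ n ih =>
    intro H hn
    by_cases hH : H = ⊤
    · rw [hH]; exact Subgroup.IsSubnormal.top
    · have hlt := normalizerCondition_of_isNilpotent H (lt_top_iff_ne_top.2 hH)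
      refine Subgroup.IsSubnormal.step H _ hlt.le ?_ (Subgroup.normal_subgroupOf_of_le_normalizer le_rfl)
      refine ih _ ?_ _ rfl
      rw [← hn]
      exact Subgroup.index_strictAnti hlt

variable {G : Type u} [Group G] [Finite G] {p : ℕ} [hp : Fact p.Prime]

/-- An elementary abelian subgroup of order `p²` that is maximal elementary abelian in `G`. -/
structure Maximal (p : ℕ) (A : Subgroup G) : Prop where
  elem : Cfsg.IsElementaryAbelian p A
  card : Nat.card A = p ^ 2
  max : ∀ B : Subgroup G, Cfsg.IsElementaryAbelian p B → A ≤ B → B = A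

section
variable {A : Subgroup G}

theorem isPGroup (hA : Nat.card A = p ^ 2) : IsPGroup p A := IsPGroup.of_card hA

theorem ne_bot (hA : Nat.card A = p ^ 2) : A ≠ ⊥ := fun h => by
  rw [h, Subgroup.card_bot] at hA
  exact (Nat.one_lt_pow two_ne_zero hp.out.one_lt).ne hA

theorem not_isCyclic (hAe : Cfsg.IsElementaryAbelian p A) (hA : Nat.card A = p ^ 2) : ¬ IsCyclic A :=
  ScnBasics.not_isCyclic_of_elementary hAe (by
    rw [hA, pow_two]
    exact lt_mul_of_one_lt_left hp.out.pos hp.out.one_lt)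

theorem not_dvd_card {q : ℕ} (hq : q.Prime) (hqp : q ≠ p) (hA : Nat.card A = p ^ 2) : ¬ q ∣ Nat.card A :=
  fun h => hqp ((Nat.prime_dvd_prime_iff_eq hq hp.out).1 (hq.dvd_of_dvd_pow (hA ▸ h)))

theorem coprime_card {q : ℕ} [hq : Fact q.Prime] (hqp : q ≠ p) (hA : Nat.card A = p ^ 2)
    {D : Subgroup G} (hD : IsPGroup q D) : (Nat.card A).Coprime (Nat.card D) := by
  obtain ⟨k, hk⟩ := hD.exists_card_eq
  rw [hA, hk]
  exact Nat.coprime_pow_primes 2 k hp.out hq.out hqp.symm

theorem dvd_card_group (hA : Nat.card A = p ^ 2) : p ∣ Nat.card G :=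
  (hA ▸ dvd_pow_self p two_ne_zero).trans A.card_subgroup_dvd_card

theorem p_ne_two (hG : Cfsg.IsMinSimpleOddOrder G) (hA : Nat.card A = p ^ 2) : p ≠ 2 :=
  Uniq.ne_two_of_dvd hG (dvd_card_group hA)

theorem isSolvable (hAe : Cfsg.IsElementaryAbelian p A) : Group.IsSolvable A :=
  haveI := hAe.1
  Group.isSolvable_of_comm fun a b => mul_comm' a b

/-- Members of the `p`-subgroups, generated by fixed points of the lines. -/
theorem le_of_fixed (hAe : Cfsg.IsElementaryAbelian p A) (hA : Nat.card A = p ^ 2) {K X : Subgroup G}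
    (hAK : A ≤ Subgroup.normalizer (K : Set G)) (hcop : (Nat.card A).Coprime (Nat.card K))
    (h : ∀ a ∈ A, a ≠ 1 → K ⊓ Subgroup.centralizer ({a} : Set G) ≤ X) : K ≤ X := by
  haveI := hAe.1
  calc K = ⨆ a ∈ {a : G | a ∈ A ∧ a ≠ 1}, K ⊓ Subgroup.centralizer {a} :=
        (CoprimeAct.generated_by_centralizers (not_isCyclic hAe hA) hAK hcop).symm
    _ ≤ X := iSup₂_le fun a ha => h a ha.1 ha.2

theorem zpowers_card (hAe : Cfsg.IsElementaryAbelian p A) {a : G} (ha : a ∈ A) (ha1 : a ≠ 1) :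
    Nat.card (Subgroup.zpowers a) = p := by
  rw [Nat.card_zpowers]
  exact orderOf_eq_prime (hAe.2 a ha) ha1

/-- A subgroup of prime order is generated by each of its non-identity elements. -/
theorem zpowers_eq {L : Subgroup G} (hL : Nat.card L = p) {a : G} (ha : a ∈ L) (ha1 : a ≠ 1) :
    Subgroup.zpowers a = L := by
  refine Subgroup.eq_of_le_of_card_ge (Subgroup.zpowers_le.2 ha) ?_
  have h : orderOf a ∣ p := hL ▸ Subgroup.orderOf_dvd_natCard L ha
  rw [Nat.card_zpowers, hL, ((Nat.dvd_prime hp.out).1 h).resolve_left fun h1 => ha1 (orderOf_eq_one_iff.1 h1)]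

theorem exists_ne_one {L : Subgroup G} (hL : Nat.card L = p) : ∃ a ∈ L, a ≠ 1 := by
  by_contra h
  push Not at h
  have hb : L = ⊥ := eq_bot_iff.2 fun x hx => Subgroup.mem_bot.2 (h x hx)
  rw [hb, Subgroup.card_bot] at hL
  exact hp.out.ne_one hL.symm

theorem centralizer_zpowers (a : G) :
    Subgroup.centralizer ((Subgroup.zpowers a : Subgroup G) : Set G) = Subgroup.centralizer ({a} : Set G) := by
  refine le_antisymm (Subgroup.centralizer_le (by simp)) fun x hx => Subgroup.mem_centralizer_iff.2 ?_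
  rintro _ ⟨i, rfl⟩
  exact ((show Commute x a from (Subgroup.mem_centralizer_singleton_iff.1 hx)).zpow_right i).symm.eq

namespace Maximal

variable (h : Maximal p A)
include h

theorem mem_of_commute {x : G} (hx : x ∈ Subgroup.centralizer (A : Set G)) (hxp : x ^ p = 1) : x ∈ A :=
  NarrowBasics.mem_of_commute h.elem h.max hx hxp

theorem transitivity (hG : Cfsg.IsMinSimpleOddOrder G) : Cfsg.TransitivityHypothesis A :=
  S1396.result hG p (dvd_card_group h.card) A (isPGroup h.card) h.elem.1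
    (Or.inl ⟨fun _ hx => ⟨fun hxp => h.mem_of_commute hx hxp, fun hxA => h.elem.2 _ hxA⟩,
      fun H hH => S1410.result hG p H hH⟩)

theorem not_ideal : ¬ Cfsg.IsIdealPrime p G := fun hI => by
  obtain ⟨P, hP⟩ := (isPGroup h.card).exists_le_sylow
  obtain ⟨B, -, hBe, hAB⟩ := hI.2.2 P A hP h.elem h.card
  exact hAB.ne (h.max B hBe hAB.le).symm

theorem not_beta (L : Subgroup G) : p ∉ Cfsg.beta L := fun hb => h.not_ideal hb.2

theorem not_rankLE_one : ¬ Cfsg.RankLE 1 ↥(A ⊓ Subgroup.centralizer (A : Set G)) := fun hr => by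
  haveI := h.elem.1
  refine UniqProp.not_rankLE (le_inf le_rfl (Subgroup.le_centralizer A)) h.elem (k := 1) ?_ (hr p hp.out)
  rw [pow_one, h.card, pow_two]
  exact lt_mul_of_one_lt_left hp.out.pos hp.out.one_lt

/-- When `q` divides `#C(A)`, the maximal invariant `q`-subgroups are conjugate under `C(A)`. -/
theorem conj (hG : Cfsg.IsMinSimpleOddOrder G) {q : ℕ} [hq : Fact q.Prime] (hqp : q ≠ p)
    (hqC : q ∣ Nat.card (Subgroup.centralizer (A : Set G))) {Q₁ Q₂ : Subgroup G}
    (h₁ : Q₁ ∈ Cfsg.maxInvSubgroups ⊤ A {q}) (h₂ : Q₂ ∈ Cfsg.maxInvSubgroups ⊤ A {q}) :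
    ∃ k ∈ Subgroup.centralizer (A : Set G), Q₂ = Q₁.map (MulAut.conj k).toMonoidHom := by
  obtain ⟨k, hk, he⟩ := TransHyp.conj_of_rank_two hG (h.transitivity hG) (not_dvd_card hq.out hqp h.card)
    h.not_rankLE_one hqC h₁ h₂
  exact ⟨k, MinSimple.piCoreOf_le hk, he⟩

/-- When `q` divides `#C(A)`, some Sylow `p`-subgroup containing `A` lies in the derived subgroup of the
normalizer of any given maximal invariant `q`-subgroup. -/
theorem exists_sylow_le_derived (hG : Cfsg.IsMinSimpleOddOrder G) {q : ℕ} [hq : Fact q.Prime] (hqp : q ≠ p)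
    (hqC : q ∣ Nat.card (Subgroup.centralizer (A : Set G))) {Q : Subgroup G}
    (hQ : Q ∈ Cfsg.maxInvSubgroups ⊤ A {q}) :
    ∃ S : Sylow p G, A ≤ (S : Subgroup G) ∧
      (S : Subgroup G) ≤ ⁅Subgroup.normalizer (Q : Set G), Subgroup.normalizer (Q : Set G)⁆ := by
  obtain ⟨S, hAS⟩ := (isPGroup h.card).exists_le_sylow
  have hqA : ¬ q ∣ Nat.card A := not_dvd_card hq.out hqp h.card
  have hTH := h.transitivity hG
  haveI : Group.IsNilpotent (S : Subgroup G) := S.isPGroup'.isNilpotent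
  have hSπ : ∀ r : ℕ, r.Prime → r ∣ Nat.card (S : Subgroup G) → r ∣ Nat.card A := fun r hr hd => by
    have := Set.mem_singleton_iff.1 (Inv.primes_of_isPGroup S.isPGroup' r hr hd)
    rw [this, h.card]
    exact dvd_pow_self p two_ne_zero
  obtain ⟨-, -, hmax, hd⟩ := S1395.result hG A hTH q hq.out hqA (S : Subgroup G)
    (MinSimple.pSubgroup_ne_top hG S.isPGroup') hSπ hAS (isSubnormal_of_nilpotent _)
    (fun Q₁ h₁ Q₂ h₂ => TransHyp.conj_of_rank_two hG hTH hqA h.not_rankLE_one hqC h₁ h₂)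
  obtain ⟨Q', hQ', -⟩ := Inv.exists_max (H := (⊤ : Subgroup G)) (A := (S : Subgroup G)) (Y := ⊥) (π := {q})
    (Inv.mem_inv_iff.2 ⟨IsPGroup.of_bot, fun s _ => Subgroup.mem_normalizer_iff.2 fun x => by
      rw [Subgroup.mem_bot, Subgroup.mem_bot, conj_eq_one_iff]⟩)
  obtain ⟨hd1, -⟩ := hd Q' hQ'
  have hS' : (S : Subgroup G) ≤ ⁅Subgroup.normalizer (Q' : Set G), Subgroup.normalizer (Q' : Set G)⁆ :=
    le_trans (le_inf le_rfl (PLengthFusion.sylow_le_derived hG S)) hd1
  obtain ⟨k, hk, hQk⟩ := h.conj hG hqp hqC (hmax hQ') hQ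
  refine ⟨k • S, ?_, ?_⟩
  · intro a ha
    rw [Sylow.coe_subgroup_smul]
    exact ⟨a, hAS ha, by
      show k * a * k⁻¹ = a
      rw [← Subgroup.mem_centralizer_iff.1 hk a ha, mul_inv_cancel_right]⟩
  · rw [Sylow.coe_subgroup_smul]
    change (S : Subgroup G).map (MulAut.conj k).toMonoidHom ≤ _
    have hnorm : (Subgroup.normalizer (Q' : Set G)).map (MulAut.conj k).toMonoidHom ≤
        Subgroup.normalizer (Q : Set G) := hQk ▸ Subgroup.le_normalizer_map _
    refine (Subgroup.map_mono hS').trans ?_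
    rw [Subgroup.map_commutator]
    exact Subgroup.commutator_mono hnorm hnorm

end Maximal

/-- An invariant `q`-subgroup below a maximal subgroup whose derived subgroup contains `A`. -/
theorem le_centralizer_of_derived (hG : Cfsg.IsMinSimpleOddOrder G) (hAe : Cfsg.IsElementaryAbelian p A)
    (hA : Nat.card A = p ^ 2) {L : Subgroup G} (hL : IsCoatom L) (hAL : A ≤ ⁅L, L⁆)
    {q : ℕ} [hq : Fact q.Prime] (hqp : q ≠ p) {D : Subgroup G} (hD : IsPGroup q D) (hDL : D ≤ L)
    (hAD : A ≤ Subgroup.normalizer (D : Set G)) (hqβ : q ∉ Cfsg.beta L) (hpβ : p ∉ Cfsg.beta L) :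
    A ≤ Subgroup.centralizer (D : Set G) := by
  have hLL : ⁅L, L⁆ ≤ L := Subgroup.le_normalizer_iff_commutator_le_left.1 Subgroup.le_normalizer
  have hcop := coprime_card hqp hA hD
  have hs := Or.inl (b := Group.IsSolvable D) (isSolvable hAe)
  set D1 := ⁅D, A⁆ with hD1
  have hD1p : IsPGroup q D1 := hD.to_le (CoprimeAct.commutator_le_left hAD)
  have hD1n : A ≤ Subgroup.normalizer (D1 : Set G) := Subgroup.normalizer_commutator_ge_right D A
  have hD1L : D1 ≤ ⁅L, L⁆ := Subgroup.commutator_mono hDL (hAL.trans hLL)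
  set X := A ⊔ D1 with hX
  have hXnil : Group.IsNilpotent X := by
    refine BetaCore.isNilpotent hG hL (sup_le hAL hD1L) ((sup_le hAL hD1L).trans hLL) fun r hr hd => ?_
    have hc := SolvBasic.card_sup_mul_card_inf hD1n
    have hr' : r ∣ Nat.card A * Nat.card D1 := by
      have hdv : Nat.card (D1 ⊔ A : Subgroup G) ∣ Nat.card D1 * Nat.card A := Dvd.intro _ hc
      rw [hX, sup_comm] at hd
      rw [mul_comm]
      exact hd.trans hdv
    rcases hr.dvd_mul.1 hr' with h' | h'
    · rw [(Nat.prime_dvd_prime_iff_eq hr hp.out).1 (hr.dvd_of_dvd_pow (hA ▸ h'))]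
      exact hpβ
    · rw [Set.mem_singleton_iff.1 (Inv.primes_of_isPGroup hD1p r hr h')]
      exact hqβ
  have hbot : ⁅D1, A⁆ = ⊥ := by
    rw [Subgroup.commutator_eq_bot_iff_le_centralizer]
    intro d hd
    refine Subgroup.mem_centralizer_iff.2 fun a ha => ?_
    have haX : a ∈ X := Subgroup.mem_sup_left ha
    have hdX : d ∈ X := Subgroup.mem_sup_right hd
    obtain ⟨k, hk⟩ := IsPGroup.iff_orderOf.1 hD1p ⟨d, hd⟩
    rw [Subgroup.orderOf_mk] at hk
    haveI := hXnil
    have h' := FixedPointFreeThompson.commute_of_nilpotent (G := X) (p := q) (x := ⟨d, hdX⟩) (g := ⟨a, haX⟩)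
      (k := k) (by rw [Subgroup.orderOf_mk, hk]) (by
        rw [Subgroup.orderOf_mk]
        refine Nat.Coprime.coprime_dvd_left (Subgroup.orderOf_dvd_natCard A ha) ?_
        rw [hA]
        exact Nat.Coprime.pow_left 2 ((Nat.coprime_primes hp.out hq.out).2 hqp.symm))
    exact congrArg Subtype.val h'
  rw [hD1, CoprimeAct.commutator_commutator hAD hcop hs] at hbot
  exact Subgroup.commutator_eq_bot_iff_le_centralizer.1 (by rw [Subgroup.commutator_comm]; exact hbot)

/-- Invariant `q`-subgroups are centralized when `q` divides `#C(A)` and is not ideal. -/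
theorem Maximal.centralizes (h : Maximal p A) (hG : Cfsg.IsMinSimpleOddOrder G) {q : ℕ} [hq : Fact q.Prime]
    (hqp : q ≠ p) (hqC : q ∣ Nat.card (Subgroup.centralizer (A : Set G))) (hqI : ¬ Cfsg.IsIdealPrime q G)
    {D : Subgroup G} (hD : IsPGroup q D) (hAD : A ≤ Subgroup.normalizer (D : Set G)) :
    A ≤ Subgroup.centralizer (D : Set G) := by
  rcases eq_or_ne D ⊥ with rfl | hD1
  · exact fun a _ => Subgroup.mem_centralizer_iff.2 fun d hd => by rw [Subgroup.mem_bot.1 hd, one_mul, mul_one]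
  obtain ⟨Q, hQ, hDQ⟩ := Inv.exists_max (H := (⊤ : Subgroup G)) (π := {q}) (Inv.mem_inv_iff.2 ⟨hD, hAD⟩)
  obtain ⟨hQp, -, -⟩ := Inv.mem_max_iff.1 hQ
  obtain ⟨S, hAS, hSd⟩ := h.exists_sylow_le_derived hG hqp hqC hQ
  obtain ⟨L, hL, hNL⟩ := Uniq.exists_maximal_ge (MinSimple.normalizer_ne_top hG
    (fun hb => hD1 (le_bot_iff.1 (hb ▸ hDQ))) (MinSimple.pSubgroup_ne_top hG hQp))
  exact le_centralizer_of_derived hG h.elem h.card hL (hAS.trans (hSd.trans (Subgroup.commutator_mono hNL hNL)))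
    hqp hD (hDQ.trans (Subgroup.le_normalizer.trans hNL)) hAD (fun hb => hqI hb.2) (h.not_beta L)

end

/-- An element of ideal prime order in two maximal subgroups having that prime in `σ`. -/
theorem eq_of_ideal (hG : Cfsg.IsMinSimpleOddOrder G) {L M : Subgroup G} (hL : IsCoatom L) (hM : IsCoatom M)
    {q : ℕ} [hq : Fact q.Prime] (hI : Cfsg.IsIdealPrime q G) (hqL : q ∈ Cfsg.sigma L) (hqM : q ∈ Cfsg.sigma M)
    {x : G} (hxq : orderOf x = q) (hxL : x ∈ L) (hxM : x ∈ M) : L = M := by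
  have hx1 : x ≠ 1 := fun h => hq.out.ne_one (by rw [← hxq, h, orderOf_one])
  have key : ∀ N : Subgroup G, q ∈ Cfsg.sigma N → x ∈ N →
      ∃ E : Subgroup G, E ≤ N ∧ E ≤ Subgroup.centralizer ({x} : Set G) ∧ Cfsg.InUniqueMaximal E := by
    intro N hqN hxN
    have hxp : IsPGroup q (Subgroup.zpowers x) := IsPGroup.of_card (n := 1) (by rw [Nat.card_zpowers, hxq, pow_one])
    obtain ⟨S, hS⟩ := (hxp.comap_subtype (K := N)).exists_le_sylow
    obtain ⟨T, hT⟩ := Sigma.sigma_sylow hqN S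
    have hxT : x ∈ (T : Subgroup G) := hT ▸ ⟨⟨x, hxN⟩, hS (Subgroup.mem_zpowers x), rfl⟩
    have hTN : (T : Subgroup G) ≤ N := hT ▸ Subgroup.map_subtype_le _
    have hr : ¬ Cfsg.PRankLE q 2 (T : Subgroup G) := fun h' => hI.2.1 (LocalFactor.prankLE_of_sylow T h')
    obtain ⟨E₃, hE₃T, hE₃e, hE₃c⟩ := UniqProp.exists_elementary hr
    haveI : Nontrivial (T : Subgroup G) :=
      ⟨⟨x, hxT⟩, 1, fun h' => hx1 (congrArg Subtype.val h')⟩
    haveI := T.isPGroup'.center_nontrivial
    obtain ⟨m, hm, hm'⟩ := (T.isPGroup'.to_subgroup (Subgroup.center (T : Subgroup G))).nontrivial_iff_card.1 inferInstance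
    obtain ⟨z, hz⟩ := exists_prime_orderOf_dvd_card' (G := ↥(Subgroup.center (T : Subgroup G))) q
      (hm' ▸ dvd_pow_self q hm.ne')
    rw [← Subgroup.orderOf_coe, ← Subgroup.orderOf_coe] at hz
    set w : G := ((z : (T : Subgroup G)) : G) with hw
    have hwT : w ∈ (T : Subgroup G) := (z : (T : Subgroup G)).2
    have hcen : ∀ t ∈ (T : Subgroup G), Commute w t := fun t ht =>
      (congrArg Subtype.val (Subgroup.mem_center_iff.1 z.2 ⟨t, ht⟩)).symm
    by_cases hxw : x ∈ Subgroup.zpowers w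
    · obtain ⟨i, hi⟩ := hxw
      refine ⟨E₃, hE₃T.trans hTN, fun e he => Subgroup.mem_centralizer_singleton_iff.2 ?_,
        ScnUniq.allUniq_of_rank hG hE₃e hE₃c E₃ hE₃e hE₃c⟩
      rw [← hi]
      exact ((hcen e (hE₃T he)).zpow_left i).symm.eq
    · set W := Subgroup.zpowers x ⊔ Subgroup.zpowers w with hW
      have hWab : IsMulCommutative W := by
        rw [hW, Subgroup.zpowers_eq_closure, Subgroup.zpowers_eq_closure, ← Subgroup.closure_union]
        refine Subgroup.isMulCommutative_closure ?_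
        rintro a (ha | ha) b (hb | hb) <;> rw [Set.mem_singleton_iff] at ha hb <;> subst ha <;> subst hb
        · rfl
        · exact (hcen _ hxT).symm.eq
        · exact (hcen _ hxT).eq
        · rfl
      have hWe : Cfsg.IsElementaryAbelian q W := by
        refine ⟨hWab, fun a ha => ?_⟩
        haveI := hWab
        let U : Subgroup G :=
          { carrier := {y | y ∈ W ∧ y ^ q = 1}
            one_mem' := ⟨one_mem _, one_pow q⟩
            mul_mem' := fun {c d} hc hd => ⟨mul_mem hc.1 hd.1, by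
              have hcd : Commute c d := congrArg Subtype.val (mul_comm' (⟨c, hc.1⟩ : W) ⟨d, hd.1⟩)
              rw [hcd.mul_pow, hc.2, hd.2, one_mul]⟩
            inv_mem' := fun {c} hc => ⟨inv_mem hc.1, by rw [inv_pow, hc.2, inv_one]⟩ }
        have hle : W ≤ U := sup_le
          (Subgroup.zpowers_le.2 ⟨Subgroup.mem_sup_left (Subgroup.mem_zpowers x), hxq ▸ pow_orderOf_eq_one x⟩)
          (Subgroup.zpowers_le.2 ⟨Subgroup.mem_sup_right (Subgroup.mem_zpowers w), hz ▸ pow_orderOf_eq_one w⟩)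
        exact (hle ha).2
      have hWT : W ≤ (T : Subgroup G) := sup_le (Subgroup.zpowers_le.2 hxT) (Subgroup.zpowers_le.2 hwT)
      obtain ⟨k, hk⟩ := (T.isPGroup'.to_le hWT).exists_card_eq
      have hk2 : 2 ≤ k := by
        by_contra hlt
        have h1 : Nat.card W ≤ q := hk ▸ (Nat.pow_le_pow_right hq.out.pos (by omega : k ≤ 1)).trans (pow_one q).le
        have := Subgroup.eq_of_le_of_card_ge (le_sup_right : Subgroup.zpowers w ≤ W)
          (by rw [Nat.card_zpowers, hz]; exact h1)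
        exact hxw (this ▸ Subgroup.mem_sup_left (Subgroup.mem_zpowers x))
      have hB : ∃ B : Subgroup G, B ≤ (T : Subgroup G) ∧ Cfsg.IsElementaryAbelian q B ∧ W ≤ B ∧ q ^ 3 ≤ Nat.card B := by
        rcases Nat.lt_or_ge k 3 with hk3 | hk3
        · obtain ⟨B, hBT, hBe, hlt⟩ := hI.2.2 T W hWT hWe (by rw [hk, show k = 2 by omega])
          refine ⟨B, hBT, hBe, hlt.le, ?_⟩
          obtain ⟨j, hj⟩ := (T.isPGroup'.to_le hBT).exists_card_eq
          have hlt' : Nat.card W < Nat.card B := Set.ncard_lt_ncard (SetLike.coe_ssubset_coe.2 hlt) (Set.toFinite _)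
          rw [hk, hj] at hlt'
          rw [hj]
          have := (Nat.pow_lt_pow_iff_right hq.out.one_lt).1 hlt'
          exact Nat.pow_le_pow_right hq.out.pos (by omega)
        · exact ⟨W, hWT, hWe, le_rfl, hk ▸ Nat.pow_le_pow_right hq.out.pos hk3⟩
      obtain ⟨B, hBT, hBe, hWB, hB3⟩ := hB
      haveI := hBe.1
      exact ⟨B, hBT.trans hTN, fun b hb => Subgroup.mem_centralizer_singleton_iff.2
        (congrArg Subtype.val (mul_comm' (⟨b, hb⟩ : B) ⟨x, hWB (Subgroup.mem_sup_left (Subgroup.mem_zpowers x))⟩)),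
        ScnUniq.allUniq_of_rank hG hBe hB3 B hBe hB3⟩
  obtain ⟨E, hEL, hEC, hE⟩ := key L hqL hxL
  obtain ⟨F, hFM, hFC, hF⟩ := key M hqM hxM
  have hC := MinSimple.centralizer_singleton_ne_top hG hx1
  have h1 := ScnBasics.le_of_uniq hE hL hEL hEC hC
  exact ScnBasics.eq_of_uniq hF hM hL hFM (hFC.trans h1)

end Cfsg.Agent.OddOrder.Plane
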