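/-
`IsComplIn` bookkeeping.
-/
import Cfsg.Prelude.Def_OddOrderLocal

set_option autoImplicit false

namespace Cfsg.Agent.OddOrder.Compl

variable {G : Type*} [Group G]

theorem card_eq {A B M : Subgroup G} (h : Cfsg.IsComplIn A B M) :
    Nat.card M = Nat.card A * Nat.card B := by
  rw [← Nat.card_prod]
  refine Nat.card_congr (Equiv.ofBijective
    (fun x : ↥A × ↥B => (⟨x.1 * x.2, mul_mem (h.1 x.1.2) (h.2.1 x.2.2)⟩ : ↥M)) ⟨?_, ?_⟩).symm
  · intro x y hxy
    exact Subgroup.mul_injective_of_disjoint (disjoint_iff.mpr h.2.2.1) (congrArg Subtype.val hxy)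
  · rintro ⟨m, hm⟩
    obtain ⟨a, ha, b, hb, rfl⟩ := h.2.2.2 m hm
    exact ⟨(⟨a, ha⟩, ⟨b, hb⟩), rfl⟩

theorem sup_eq {A B M : Subgroup G} (h : Cfsg.IsComplIn A B M) : A ⊔ B = M := by
  refine le_antisymm (sup_le h.1 h.2.1) fun m hm => ?_
  obtain ⟨a, ha, b, hb, rfl⟩ := h.2.2.2 m hm
  exact mul_mem (Subgroup.mem_sup_left ha) (Subgroup.mem_sup_right hb)

theorem relIndex_left [Finite G] {A B M : Subgroup G} (h : Cfsg.IsComplIn A B M) :
    A.relIndex M = Nat.card B := by
  have h1 : Nat.card A * A.relIndex M = Nat.card M := by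
    rw [← Subgroup.relIndex_bot_left A, ← Subgroup.relIndex_bot_left M]
    exact Subgroup.relIndex_mul_relIndex ⊥ A M bot_le h.1
  exact Nat.eq_of_mul_eq_mul_left Nat.card_pos (h1.trans (card_eq h))

theorem relIndex_right [Finite G] {A B M : Subgroup G} (h : Cfsg.IsComplIn A B M) :
    B.relIndex M = Nat.card A := by
  have h1 : Nat.card B * B.relIndex M = Nat.card M := by
    rw [← Subgroup.relIndex_bot_left B, ← Subgroup.relIndex_bot_left M]
    exact Subgroup.relIndex_mul_relIndex ⊥ B M bot_le h.2.1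
  exact Nat.eq_of_mul_eq_mul_left Nat.card_pos (h1.trans ((card_eq h).trans (mul_comm _ _)))

end Cfsg.Agent.OddOrder.Compl
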