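/-
The largest normal nilpotent Hall subgroup `fittingHall` of a finite group.
-/
import Cfsg.Prelude.Def_OddOrderLocal
import Mathlib.GroupTheory.Sylow
import Mathlib.GroupTheory.Nilpotent

set_option autoImplicit false

namespace Cfsg.Agent.OddOrder.FHall

variable {G : Type*} [Group G] [Finite G]

/-- The family defining `fittingHall`. -/
def IsNNH (N : Subgroup G) : Prop :=
  N.Normal ∧ Group.IsNilpotent N ∧ (Nat.card N).Coprime N.index

theorem isNNH_bot : IsNNH (⊥ : Subgroup G) :=
  ⟨inferInstance, inferInstance, by simp⟩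

/-- If a normal nilpotent Hall subgroup has order divisible by `p`, the Sylow `p`-subgroups of the
group are normal. -/
theorem sylow_normal_of_dvd {N : Subgroup G} (hN : IsNNH N) (p : ℕ) [Fact p.Prime]
    (hp : p ∣ Nat.card N) (P : Sylow p G) : (P : Subgroup G).Normal := by
  obtain ⟨hn, hnil, hcop⟩ := hN
  obtain ⟨Q⟩ := (inferInstance : Nonempty (Sylow p N))
  have hQn : (Q : Subgroup N).Normal := inferInstance
  have hQc : (Q : Subgroup N).Characteristic := Q.characteristic_of_normal hQn
  have hmapn : ((Q : Subgroup N).map N.subtype).Normal := ConjAct.normal_of_characteristic_of_normal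
  have hidx : ¬ p ∣ N.index := fun hd =>
    Nat.not_coprime_of_dvd_of_dvd (Fact.out : p.Prime).one_lt hp hd hcop
  have hcard : Nat.card ((Q : Subgroup N).map N.subtype) = p ^ (Nat.card G).factorization p := by
    rw [Subgroup.card_map_of_injective N.subtype_injective, Q.card_eq_multiplicity,
      ← N.card_mul_index, Nat.factorization_mul Nat.card_pos.ne' N.index_ne_zero_of_finite,
      Finsupp.add_apply, Nat.factorization_eq_zero_of_not_dvd hidx, add_zero]
  let Q' : Sylow p G := Sylow.ofCard _ hcard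
  have hQ'n : (Q' : Subgroup G).Normal := hmapn
  have := Sylow.unique_of_normal Q' hQ'n
  rw [Subsingleton.elim P Q']
  exact hQ'n

theorem isNNH_sup {N K : Subgroup G} (hN : IsNNH N) (hK : IsNNH K) : IsNNH (N ⊔ K) := by
  have := hN.1
  have := hK.1
  have hdvd : ∀ p : ℕ, p.Prime → p ∣ Nat.card ↥(N ⊔ K) → p ∣ Nat.card N ∨ p ∣ Nat.card K := by
    intro p hp hd
    have h1 : Nat.card K * K.relIndex (N ⊔ K) = Nat.card ↥(N ⊔ K) := by
      rw [← Subgroup.relIndex_bot_left K, ← Subgroup.relIndex_bot_left (N ⊔ K)]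
      exact Subgroup.relIndex_mul_relIndex ⊥ K (N ⊔ K) bot_le le_sup_right
    rw [← h1, Subgroup.relIndex_sup_right] at hd
    rcases hp.dvd_mul.mp hd with h | h
    · exact Or.inr h
    · exact Or.inl (h.trans (Subgroup.relIndex_dvd_card K N))
  refine ⟨inferInstance, ?_, ?_⟩
  · refine (Group.isNilpotent_of_finite_tfae (G := ↥(N ⊔ K))).out 0 3 rfl rfl |>.mpr ?_
    intro p hp Q
    by_cases hd : p ∣ Nat.card ↥(N ⊔ K)
    · obtain ⟨P, hP⟩ := IsPGroup.exists_le_sylow (Q.isPGroup'.map (N ⊔ K).subtype)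
      have hPn : (P : Subgroup G).Normal :=
        (hdvd p hp.out hd).elim (fun h => sylow_normal_of_dvd hN p h P)
          (fun h => sylow_normal_of_dvd hK p h P)
      have hpg : IsPGroup p ↥((P : Subgroup G).subgroupOf (N ⊔ K)) :=
        P.isPGroup'.comap_of_injective _ (N ⊔ K).subtype_injective
      have hle : (Q : Subgroup ↥(N ⊔ K)) ≤ (P : Subgroup G).subgroupOf (N ⊔ K) :=
        fun x hx => Subgroup.mem_subgroupOf.mpr (hP ⟨x, hx, rfl⟩)
      rw [← Q.is_maximal' hpg hle]
      infer_instance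
    · have : (Q : Subgroup ↥(N ⊔ K)) = ⊥ := by
        rw [← Subgroup.card_eq_one]
        obtain ⟨n, hn⟩ := IsPGroup.iff_card.mp Q.isPGroup'
        rcases n with _ | n
        · simpa using hn
        · exact absurd ((hn ▸ dvd_pow_self p n.succ_ne_zero).trans (Subgroup.card_subgroup_dvd_card _)) hd
      rw [this]
      infer_instance
  · refine Nat.coprime_of_dvd fun p hp h1 h2 => ?_
    rcases hdvd p hp h1 with h | h
    · exact Nat.not_coprime_of_dvd_of_dvd hp.one_lt h
        (h2.trans (Subgroup.index_dvd_of_le le_sup_left)) hN.2.2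
    · exact Nat.not_coprime_of_dvd_of_dvd hp.one_lt h
        (h2.trans (Subgroup.index_dvd_of_le le_sup_right)) hK.2.2

theorem isNNH_fittingHall : IsNNH (Cfsg.fittingHall G) := by
  obtain ⟨A, hA, hmax⟩ := Set.Finite.exists_maximal (s := {N : Subgroup G | IsNNH N})
    (Set.toFinite _) ⟨⊥, isNNH_bot⟩
  have h : Cfsg.fittingHall G = A :=
    le_antisymm (sSup_le fun N hN => le_sup_right.trans (hmax (isNNH_sup hA hN) le_sup_left))
      (le_sSup hA)
  rw [h]
  exact hA

theorem le_fittingHall {N : Subgroup G} (hn : N.Normal) (hnil : Group.IsNilpotent N)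
    (hcop : (Nat.card N).Coprime N.index) : N ≤ Cfsg.fittingHall G :=
  le_sSup ⟨hn, hnil, hcop⟩

theorem fittingHallOf_le (M : Subgroup G) : Cfsg.fittingHallOf M ≤ M := Subgroup.map_subtype_le _

theorem le_normalizer_fittingHallOf (M : Subgroup G) :
    M ≤ Subgroup.normalizer (Cfsg.fittingHallOf M : Set G) := by
  intro m hm
  rw [Subgroup.mem_normalizer_iff]
  intro h
  constructor
  · rintro ⟨x, hx, rfl⟩
    exact ⟨⟨m, hm⟩ * x * ⟨m, hm⟩⁻¹, (inferInstance : (Cfsg.fittingHall M).Normal).conj_mem x hx _, rfl⟩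
  · rintro ⟨x, hx, hxe⟩
    refine ⟨⟨m, hm⟩⁻¹ * x * (⟨m, hm⟩⁻¹)⁻¹,
      (inferInstance : (Cfsg.fittingHall M).Normal).conj_mem x hx _, ?_⟩
    have hxe' : (x : G) = m * h * m⁻¹ := hxe
    simp [hxe', mul_assoc]

theorem fittingHallOf_nilpotent (M : Subgroup G) : Group.IsNilpotent ↥(Cfsg.fittingHallOf M) := by
  have := (isNNH_fittingHall (G := M)).2.1
  exact Group.nilpotent_of_surjective (M.subtype.subgroupMap (Cfsg.fittingHall M))
    (M.subtype.subgroupMap_surjective _)

theorem fittingHallOf_coprime (M : Subgroup G) :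
    (Nat.card ↥(Cfsg.fittingHallOf M)).Coprime ((Cfsg.fittingHallOf M).relIndex M) := by
  have h := (isNNH_fittingHall (G := M)).2.2
  have h1 : (Cfsg.fittingHallOf M).relIndex M = (Cfsg.fittingHall M).index := by
    rw [Subgroup.relIndex, Cfsg.fittingHallOf, Subgroup.subgroupOf,
      Subgroup.comap_map_eq_self_of_injective M.subtype_injective]
  rw [h1, Cfsg.fittingHallOf, Subgroup.card_map_of_injective M.subtype_injective]
  exact h

/-- A subgroup of `G` that is a normal nilpotent Hall subgroup of `M` lies in `fittingHallOf M`. -/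
theorem le_fittingHallOf {N M : Subgroup G} (hle : N ≤ M) (hn : M ≤ Subgroup.normalizer (N : Set G))
    (hnil : Group.IsNilpotent N) (hcop : (Nat.card N).Coprime (N.relIndex M)) :
    N ≤ Cfsg.fittingHallOf M := by
  have h := le_fittingHall (G := M) (N := N.subgroupOf M) (Subgroup.normal_subgroupOf_of_le_normalizer hn)
    (Group.isNilpotent_congr (Subgroup.subgroupOfEquivOfLe hle) |>.mpr hnil)
    (by rw [Nat.card_congr (Subgroup.subgroupOfEquivOfLe hle).toEquiv]; exact hcop)
  intro x hx
  exact ⟨⟨x, hle hx⟩, h (Subgroup.mem_subgroupOf.mpr hx), rfl⟩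

end Cfsg.Agent.OddOrder.FHall
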