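/-
Elementary consequences of type-P data.
-/
import Cfsg.Agent.Lib.OddOrder.FittingHall
import Cfsg.Agent.Lib.OddOrder.Compl
import Mathlib.Data.Nat.GCD.Basic

set_option autoImplicit false

namespace Cfsg.Agent.OddOrder.TypeP

variable {G : Type*} [Group G] [Finite G]

theorem coprime_H_U {M W₁ U W₂ : Subgroup G} (hP : Cfsg.IsTypePWith M W₁ U W₂) :
    (Nat.card ↥(Cfsg.fittingHallOf M)).Coprime (Nat.card U) := by
  refine (FHall.fittingHallOf_coprime M).coprime_dvd_right ?_
  rw [← Subgroup.relIndex_mul_relIndex _ _ _ hP.U_compl.1 hP.W₁_compl.1,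
    Compl.relIndex_left hP.U_compl]
  exact dvd_mul_right _ _

/-- An element of `U` lying in `H C_M(H)` centralizes `H = M_F`. -/
theorem mem_centralizer_of_mem_U {M W₁ U W₂ : Subgroup G} (hP : Cfsg.IsTypePWith M W₁ U W₂)
    {u : G} (hu : u ∈ U)
    (hu' : u ∈ Cfsg.fittingHallOf M ⊔ (M ⊓ Subgroup.centralizer (Cfsg.fittingHallOf M : Set G))) :
    u ∈ Subgroup.centralizer (Cfsg.fittingHallOf M : Set G) := by
  set H := Cfsg.fittingHallOf M with hH
  set C := M ⊓ Subgroup.centralizer (H : Set G)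
  have hCN : C ≤ Subgroup.normalizer (H : Set G) :=
    inf_le_left.trans (FHall.le_normalizer_fittingHallOf M)
  have : u ∈ (↑(H ⊔ C) : Set G) := hu'
  rw [Subgroup.coe_mul_of_right_le_normalizer_left H C hCN, Set.mem_mul] at this
  obtain ⟨h, hh, c, hc, hhc⟩ := this
  have hcomm : Commute h c := Subgroup.mem_centralizer_iff.mp hc.2 h hh
  have hdvd : orderOf u ∣ Nat.card U := by
    rw [← Subgroup.orderOf_mk (H := U) u hu]
    exact orderOf_dvd_natCard _
  obtain ⟨m, hm⟩ := exists_pow_eq_self_of_coprime ((coprime_H_U hP).coprime_dvd_right hdvd)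
  have h1 : h ^ Nat.card H = 1 :=
    congrArg Subtype.val (pow_card_eq_one' (x := (⟨h, hh⟩ : H)))
  rw [← hm, ← hhc, hcomm.mul_pow, h1, one_mul]
  exact pow_mem (pow_mem hc.2 _) _

end Cfsg.Agent.OddOrder.TypeP
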