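import Cfsg.Agent.S3765
import Cfsg.Agent.Lib.Char.WielandtFrobenius
import Cfsg.Agent.Lib.Solvable.Coprime
import Cfsg.Prelude.Def_Solvable

/-!
Coprime actions of an extension `P ⋊ R`, `R` of prime order, used for the theorem on `p`-length
of `⁅H, R⁆` when `C_H(R₀)` has cyclic Sylow subgroups.
-/

set_option autoImplicit false
open scoped Pointwise commutatorElement

namespace Cfsg.Agent.OddOrder.ComplAction

variable {G : Type*} [Group G] [Finite G]

/-- An automorphism group of prime order without fixed points on a module commutes with the coprime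
operators of odd prime power order. -/
theorem commutator_le_centralizer_of_fixed {p q r : ℕ} (hp : p.Prime) (hq : q.Prime) (hr : r.Prime)
    (hpq : p ≠ q) (hpr : p ≠ r) (hqr : q ≠ r) (hq2 : q ≠ 2) (R X V : Subgroup G)
    (hR : Nat.card R = r) (hX : IsPGroup q X) (hV : Cfsg.IsElementaryAbelian p V)
    (hRX : R ≤ Subgroup.normalizer (X : Set G)) (hRV : R ≤ Subgroup.normalizer (V : Set G))
    (hXV : X ≤ Subgroup.normalizer (V : Set G))
    (hfix : V ⊓ Subgroup.centralizer (R : Set G) = ⊥) :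
    ⁅X, R⁆ ≤ Subgroup.centralizer (V : Set G) := by
  rcases eq_or_ne V ⊥ with rfl | hV1
  · exact fun x _ => Subgroup.mem_centralizer_iff.2 fun v hv => by
      rw [Subgroup.mem_bot.1 hv, one_mul, mul_one]
  have hXR : X ⊔ R ≤ Subgroup.normalizer (V : Set G) := sup_le hXV hRV
  have hVp : IsPGroup p V := fun v => ⟨1, Subtype.ext (by simpa using hV.2 v v.2)⟩
  -- the orders
  have hdisj : V ⊓ (X ⊔ R) = ⊥ := by
    refine SchurZ.inf_eq_bot ?_
    obtain ⟨a, ha⟩ := haveI := Fact.mk hp; hVp.exists_card_eq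
    obtain ⟨b, hb⟩ := haveI := Fact.mk hq; hX.exists_card_eq
    have h1 := SolvBasic.card_sup_mul_card_inf hRX
    rw [hR, hb] at h1
    have h2 : Nat.card (X ⊔ R : Subgroup G) ∣ q ^ b * r := ⟨_, h1.symm⟩
    refine Nat.Coprime.coprime_dvd_left h2 (Nat.Coprime.mul_left ?_ ?_)
    · exact ha ▸ Nat.coprime_pow_primes b a hq hp hpq.symm
    · rw [ha]
      exact ((Nat.coprime_primes hr hp).2 hpr.symm).pow_right a
  -- the kernel
  set N : Subgroup G := (X ⊔ R) ⊓ Subgroup.centralizer (V : Set G) with hN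
  set L : Subgroup G := Subgroup.normalizer (N : Set G) with hL
  have hmul : ∀ g : G, g ∈ Subgroup.normalizer (V : Set G) → ∀ c ∈ Subgroup.centralizer (V : Set G),
      g * c * g⁻¹ ∈ Subgroup.centralizer (V : Set G) := by
    intro g hg c hc
    rw [Subgroup.mem_centralizer_iff]
    intro v hv
    have hv' : g⁻¹ * v * g ∈ V := (Subgroup.mem_normalizer_iff''.1 hg v).1 hv
    have := Subgroup.mem_centralizer_iff.1 hc _ hv'
    calc v * (g * c * g⁻¹) = g * ((g⁻¹ * v * g) * c) * g⁻¹ := by group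
      _ = g * (c * (g⁻¹ * v * g)) * g⁻¹ := by rw [this]
      _ = g * c * g⁻¹ * v := by group
  have hXRL : X ⊔ R ≤ L := fun g hg => by
    rw [hL]
    refine Subgroup.mem_normalizer_iff.2 fun c => ⟨fun hc => ?_, fun hc => ?_⟩
    · exact ⟨(X ⊔ R).mul_mem ((X ⊔ R).mul_mem hg hc.1) ((X ⊔ R).inv_mem hg), hmul g (hXR hg) c hc.2⟩
    · have h1 : g⁻¹ * (g * c * g⁻¹) * g = c := by group
      refine ⟨h1 ▸ (X ⊔ R).mul_mem ((X ⊔ R).mul_mem ((X ⊔ R).inv_mem hg) hc.1) hg, ?_⟩
      have := hmul g⁻¹ (inv_mem (hXR hg)) _ hc.2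
      simpa [mul_assoc] using this
  have hVL : V ≤ L := fun v hv => by
    rw [hL]
    refine Subgroup.mem_normalizer_iff.2 fun c => ⟨fun hc => ?_, fun hc => ?_⟩
    · rwa [Subgroup.mem_centralizer_iff.1 hc.2 v hv, mul_inv_cancel_right]
    · have h1 := Subgroup.mem_centralizer_iff.1 hc.2 v⁻¹ (inv_mem hv)
      have : c = v⁻¹ * (v * c * v⁻¹) * v := by group
      rw [this, h1, inv_mul_cancel_right]
      exact hc
  have hRL : R ≤ L := le_sup_right.trans hXRL
  have hXL : X ≤ L := le_sup_left.trans hXRL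
  set N' : Subgroup L := N.subgroupOf L
  haveI : N'.Normal := Subgroup.normal_subgroupOf_of_le_normalizer (le_of_eq hL)
  set π := QuotientGroup.mk' N' with hπ
  have hone : ∀ (a : G) (ha : a ∈ L), π ⟨a, ha⟩ = 1 ↔ a ∈ N := fun a ha =>
    (QuotientGroup.eq_one_iff _).trans Subgroup.mem_subgroupOf
  set X' := (X.subgroupOf L).map π with hX'
  set R' := (R.subgroupOf L).map π with hR'
  set V' := (V.subgroupOf L).map π with hV'
  have hcomm : ∀ (a b : G) (ha : a ∈ L) (hb : b ∈ L),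
      π ⟨a, ha⟩ * π ⟨b, hb⟩ = π ⟨b, hb⟩ * π ⟨a, ha⟩ ↔ a * b * a⁻¹ * b⁻¹ ∈ N := fun a b ha hb => by
    rw [← commutatorElement_eq_one_iff_mul_comm, ← map_commutatorElement]
    exact hone _ (mul_mem (mul_mem (mul_mem ha hb) (inv_mem ha)) (inv_mem hb))
  have hsmall : ∀ {a : G}, a ∈ V → a ∈ N → a = 1 := fun ha hb =>
    Subgroup.mem_bot.1 (hdisj ▸ (⟨ha, hb.1⟩ : _ ∈ V ⊓ (X ⊔ R)))
  -- the image of `R`
  have hRN : R ⊓ N = ⊥ := by
    haveI := Fact.mk hr
    haveI : Fact (Nat.card R).Prime := ⟨hR ▸ hr⟩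
    refine ((N.subgroupOf R).eq_bot_or_eq_top_of_prime_card).elim (fun h => ?_) (fun h => ?_)
    · rw [Subgroup.subgroupOf_eq_bot, disjoint_iff] at h
      rwa [inf_comm] at h
    · refine absurd ?_ hV1
      rw [← le_bot_iff, ← hfix]
      refine le_inf le_rfl ?_
      rw [Subgroup.le_centralizer_iff]
      exact (Subgroup.subgroupOf_eq_top.1 h).trans inf_le_right
  have hR'c : Nat.card R' = r := by
    rw [hR', SolvBasic.card_map_of_inf_ker_eq_bot, ← hR]
    · exact Nat.card_congr (Subgroup.subgroupOfEquivOfLe hRL).toEquiv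
    · rw [eq_bot_iff]
      rintro ⟨a, ha⟩ ⟨haR, hak⟩
      exact Subgroup.mem_bot.2 (Subtype.ext (Subgroup.mem_bot.1
        (hRN ▸ (⟨haR, (hone a ha).1 hak⟩ : a ∈ R ⊓ N))))
  by_cases hXfaith : R' ⊓ Subgroup.centralizer (X' : Set (L ⧸ N')) = ⊥
  swap
  · haveI := Fact.mk hr
    haveI : Fact (Nat.card R').Prime := ⟨hR'c ▸ hr⟩
    have hle : R' ≤ Subgroup.centralizer (X' : Set (L ⧸ N')) :=
      Subgroup.subgroupOf_eq_top.1
        (((Subgroup.centralizer (X' : Set (L ⧸ N'))).subgroupOf R').eq_bot_or_eq_top_of_prime_card.resolve_left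
          (fun h => hXfaith (by rw [inf_comm]; exact disjoint_iff.1 (Subgroup.subgroupOf_eq_bot.1 h))))
    rw [Subgroup.commutator_le]
    intro x hx y hy
    exact ((hcomm x y (hXL hx) (hRL hy)).1 (Subgroup.mem_centralizer_iff.1
      (hle (Subgroup.mem_map_of_mem π (show (⟨y, hRL hy⟩ : L) ∈ R.subgroupOf L from hy)))
      _ (Subgroup.mem_map_of_mem π (show (⟨x, hXL hx⟩ : L) ∈ X.subgroupOf L from hx)))).2
  exfalso
  have hnorm : ∀ {A B : Subgroup G}, A ≤ L → B ≤ L → A ≤ Subgroup.normalizer (B : Set G) →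
      (A.subgroupOf L).map π ≤ Subgroup.normalizer ((B.subgroupOf L).map π : Set (L ⧸ N')) := by
    intro A B _ _ h
    rintro _ ⟨a, ha, rfl⟩
    refine Subgroup.le_normalizer_map π ⟨a, ?_, rfl⟩
    exact Subgroup.mem_normalizer_iff.2 fun b => Subgroup.mem_normalizer_iff.1 (h ha) b
  refine S3765.result hp hq hr hpq hpr hqr R' X' V' hR'c
    ((hX.comap_of_injective L.subtype L.subtype_injective).map π) (hnorm hRL hXL hRX) hXfaith ?_ ?_
    (hnorm hRL hVL hRV) (hnorm hXL hVL hXV) ?_ (fun h => absurd h hq2) ?_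
  · refine ⟨.of_setLike_mul_comm ?_, ?_⟩
    · rintro _ ⟨a, ha, rfl⟩ _ ⟨b, hb, rfl⟩
      haveI := hV.1
      rw [← map_mul, ← map_mul]
      exact congrArg π (Subtype.ext (setLike_mul_comm (s := V) ha hb))
    · rintro _ ⟨a, ha, rfl⟩
      rw [← map_pow]
      exact (congrArg π (Subtype.ext (by simpa using hV.2 _ ha))).trans (map_one π)
  · rw [Subgroup.ne_bot_iff_exists_ne_one] at hV1 ⊢
    obtain ⟨⟨v, hv⟩, hv1⟩ := hV1
    refine ⟨⟨π ⟨v, hVL hv⟩, Subgroup.mem_map_of_mem π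
      (show (⟨v, hVL hv⟩ : L) ∈ V.subgroupOf L from hv)⟩, fun h => ?_⟩
    exact hv1 (Subtype.ext (hsmall hv ((hone v _).1 (congrArg Subtype.val h))))
  · rw [eq_bot_iff, hR', hX', ← Subgroup.map_sup, ← Subgroup.subgroupOf_sup hRL hXL]
    rintro _ ⟨⟨⟨y, hyL⟩, hy, rfl⟩, hc⟩
    refine Subgroup.mem_bot.2 ((hone y hyL).2 ⟨(sup_comm X R).ge hy,
      Subgroup.mem_centralizer_iff.2 fun v hv => ?_⟩)
    have h1 := (hcomm v y (hVL hv) hyL).1 (Subgroup.mem_centralizer_iff.1 hc _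
      (Subgroup.mem_map_of_mem π (show (⟨v, hVL hv⟩ : L) ∈ V.subgroupOf L from hv)))
    have h2 : v * y * v⁻¹ * y⁻¹ ∈ V := by
      rw [show v * y * v⁻¹ * y⁻¹ = v * (y * v⁻¹ * y⁻¹) by group]
      exact mul_mem hv ((Subgroup.mem_normalizer_iff.1 (hXR ((sup_comm X R).ge hy)) _).1 (inv_mem hv))
    exact commutatorElement_eq_one_iff_mul_comm.1 (hsmall h2 h1)
  · rw [eq_bot_iff]
    rintro _ ⟨⟨⟨v, hvL⟩, hv, rfl⟩, hc⟩
    have : v ∈ V ⊓ Subgroup.centralizer (R : Set G) := by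
      refine ⟨hv, Subgroup.mem_centralizer_iff.2 fun y hy => ?_⟩
      have h1 := (hcomm y v (hRL hy) hvL).1 (Subgroup.mem_centralizer_iff.1 hc _
        (Subgroup.mem_map_of_mem π (show (⟨y, hRL hy⟩ : L) ∈ R.subgroupOf L from hy)))
      have h2 : y * v * y⁻¹ * v⁻¹ ∈ V :=
        mul_mem ((Subgroup.mem_normalizer_iff.1 (hRV hy) v).1 hv) (inv_mem hv)
      exact commutatorElement_eq_one_iff_mul_comm.1 (hsmall h2 h1)
    rw [hfix, Subgroup.mem_bot] at this
    subst this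
    exact Subgroup.mem_bot.2 (map_one π)

/-- Fixed point count for a Frobenius group with complement of prime order acting coprimely. -/
theorem card_eq_fixed_pow {r : ℕ} (hr : r.Prime) (W P R : Subgroup G) [IsMulCommutative W]
    (hR : Nat.card R = r) (hcop : (Nat.card W).Coprime (Nat.card P * r))
    (hPr : (Nat.card P).Coprime r) (hRP : R ≤ Subgroup.normalizer (P : Set G))
    (hPW : P ≤ Subgroup.normalizer (W : Set G)) (hRW : R ≤ Subgroup.normalizer (W : Set G))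
    (hfpf : P ⊓ Subgroup.centralizer (R : Set G) = ⊥)
    (hCP : W ⊓ Subgroup.centralizer (P : Set G) = ⊥) :
    Nat.card W = Nat.card ↥(W ⊓ Subgroup.centralizer (R : Set G)) ^ r := by
  have hsup : Nat.card (P ⊔ R : Subgroup G) ∣ Nat.card P * r :=
    ⟨_, (hR ▸ SolvBasic.card_sup_mul_card_inf hRP).symm⟩
  have h := Char.Wielandt.frobenius_formula P R W (SchurZ.inf_eq_bot (by rw [hR]; first | exact hPr | exact hPr.symm))
    (fun e he u hu => (Subgroup.mem_normalizer_iff.1 (hRP he) u).1 hu)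
    (fun e he he1 u hu hc => by
      haveI := Fact.mk hr
      have hgen : Subgroup.zpowers (⟨e, he⟩ : R) = ⊤ :=
        zpowers_eq_top_of_prime_card hR (fun h => he1 (congrArg Subtype.val h))
      refine (Subgroup.eq_bot_iff_forall _).1 hfpf u ⟨hu, Subgroup.mem_centralizer_iff.2 fun y hy => ?_⟩
      obtain ⟨k, hk⟩ := Subgroup.mem_zpowers_iff.1
        (hgen ▸ Subgroup.mem_top (⟨y, hy⟩ : R) : (⟨y, hy⟩ : R) ∈ Subgroup.zpowers (⟨e, he⟩ : R))
      have hk' : e ^ k = y := by simpa using congrArg Subtype.val hk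
      exact hk' ▸ (Commute.zpow_left hc k).eq)
    (fun x hx w hw => (Subgroup.mem_normalizer_iff.1 (sup_le hPW hRW hx) w).1 hw)
    (Group.isSolvable_of_comm fun a b => mul_comm' a b)
    (hcop.coprime_dvd_right hsup)
  have h1 : W ⊓ Subgroup.centralizer ((P ⊔ R : Subgroup G) : Set G) = ⊥ :=
    le_bot_iff.1 ((inf_le_inf_left W (Subgroup.centralizer_le (SetLike.coe_subset_coe.2 le_sup_left))).trans
      hCP.le)
  rw [hCP, h1, Subgroup.card_bot, one_pow, one_mul, mul_one, hR] at h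
  exact h

/-- The radical of an alternating pairing with values in a group of prime order has square index. -/
theorem exists_sq_radical {T M : Type*} [Group T] [Finite T] [CommGroup M] {q : ℕ} [hq : Fact q.Prime]
    (β : T → T → M) (hmul : ∀ x y z, β x (y * z) = β x y * β x z) (halt : ∀ x, β x x = 1)
    (hsk : ∀ x y, β y x = (β x y)⁻¹) {m : M} (hm : m ^ q = 1)
    (hval : ∀ x y, β x y ∈ Subgroup.zpowers m) :
    ∀ (n : ℕ) (C Z : Subgroup T), Nat.card C = n →
      (∀ x, x ∈ Z ↔ x ∈ C ∧ ∀ c ∈ C, β x c = 1) → ∃ k, Z.relIndex C = k ^ 2 := by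
  intro n
  induction n using Nat.strong_induction_on with
  | _ n ih =>
  intro C Z hn hZ
  by_cases hall : ∀ a ∈ C, ∀ b ∈ C, β a b = 1
  · exact ⟨1, by rw [Subgroup.relIndex_eq_one.2 fun a ha => (hZ a).2 ⟨ha, hall a ha⟩, one_pow]⟩
  push Not at hall
  obtain ⟨a, ha, b, hb, hab⟩ := hall
  let φ : T → T →* M := fun x =>
    { toFun := β x
      map_one' := by simpa using hmul x 1 1
      map_mul' := hmul x }
  set ψ : C →* M × M := ((φ a).prod (φ b)).comp C.subtype with hψ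
  set D : Subgroup T := ψ.ker.map C.subtype with hD
  have hDC : D ≤ C := Subgroup.map_subtype_le _
  have hDmem : ∀ x, x ∈ D ↔ x ∈ C ∧ β a x = 1 ∧ β b x = 1 := fun x =>
    ⟨fun ⟨y, hy, hyx⟩ => hyx ▸ ⟨y.2, congrArg Prod.fst hy, congrArg Prod.snd hy⟩,
      fun h => ⟨⟨x, h.1⟩, Prod.ext h.2.1 h.2.2, rfl⟩⟩
  have hord : orderOf (β a b) = q := by
    refine orderOf_eq_prime ?_ hab
    obtain ⟨i, hi⟩ := hval a b
    rw [← (show m ^ i = β a b from hi), ← zpow_natCast, ← zpow_mul, mul_comm, zpow_mul, zpow_natCast, hm, one_zpow]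
  have hgen : ∀ x y, β x y ∈ Subgroup.zpowers (β a b) := by
    intro x y
    have hmo : orderOf m = q := orderOf_eq_prime hm (fun h => hab (by
      have := hval a b
      rwa [h, Subgroup.zpowers_one_eq_bot, Subgroup.mem_bot] at this))
    haveI : Finite (Subgroup.zpowers m) :=
      Nat.finite_of_card_ne_zero (by rw [Nat.card_zpowers, hmo]; exact hq.out.ne_zero)
    rw [Subgroup.eq_of_le_of_card_ge (Subgroup.zpowers_le.2 (hval a b))
      (by rw [Nat.card_zpowers, Nat.card_zpowers, hord, hmo])]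
    exact hval x y
  -- every element of `C` is congruent to a word in `a` and `b`
  have hdec : ∀ c ∈ C, ∃ i j : ℤ, c * (a ^ j * b ^ i)⁻¹ ∈ D := by
    intro c hc
    obtain ⟨i, hi : β a b ^ i = β a c⟩ := hgen a c
    obtain ⟨j, hj : β a b ^ j = β b c⟩ := hgen b c
    refine ⟨i, -j, (hDmem _).2 ⟨C.mul_mem hc (C.inv_mem (C.mul_mem (C.zpow_mem ha _) (C.zpow_mem hb _))),
      ?_, ?_⟩⟩
    · change φ a _ = 1
      simp only [map_mul, map_inv, map_zpow]
      change β a c * ((β a a) ^ (-j) * (β a b) ^ i)⁻¹ = 1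
      rw [halt, one_zpow, one_mul, hi, mul_inv_cancel]
    · change φ b _ = 1
      simp only [map_mul, map_inv, map_zpow]
      change β b c * ((β b a) ^ (-j) * (β b b) ^ i)⁻¹ = 1
      rw [halt b, one_zpow, mul_one, hsk a b, inv_zpow', neg_neg, hj, mul_inv_cancel]
  have hindex : D.relIndex C = q ^ 2 := by
    have h1 : D.subgroupOf C = ψ.ker :=
      Subgroup.comap_map_eq_self_of_injective C.subtype_injective _
    have hr : ψ.range = (Subgroup.zpowers (β a b)).prod (Subgroup.zpowers (β a b)) := by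
      refine le_antisymm ?_ ?_
      · rintro _ ⟨c, rfl⟩
        exact Subgroup.mem_prod.2 ⟨hgen _ _, hgen _ _⟩
      · rintro ⟨u, v⟩ h
        obtain ⟨⟨i, hi⟩, ⟨j, hj⟩⟩ := Subgroup.mem_prod.1 h
        refine ⟨⟨a, ha⟩ ^ (-j) * ⟨b, hb⟩ ^ i, ?_⟩
        simp only [map_mul, map_zpow]
        change (β a a, β b a) ^ (-j) * (β a b, β b b) ^ i = (u, v)
        rw [halt, halt, hsk a b, Prod.pow_mk, Prod.pow_mk, Prod.mk_mul_mk, one_zpow, one_zpow,
          one_mul, mul_one, inv_zpow', neg_neg]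
        exact Prod.ext hi hj
    rw [Subgroup.relIndex, h1, Subgroup.index_ker, hr,
      Nat.card_congr (Subgroup.prodEquiv _ _).toEquiv, Nat.card_prod, Nat.card_zpowers, hord, pow_two]
  have hlt : Nat.card D < n := by
    refine hn ▸ (Nat.le_of_dvd Nat.card_pos (Subgroup.card_dvd_of_le hDC)).lt_of_ne fun h => ?_
    have := Subgroup.eq_of_le_of_card_ge hDC h.ge
    rw [this, Subgroup.relIndex_self] at hindex
    exact absurd hindex.symm (Nat.one_lt_pow two_ne_zero hq.out.one_lt).ne'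
  have hZ' : ∀ x, x ∈ Z ↔ x ∈ D ∧ ∀ c ∈ D, β x c = 1 := by
    intro x
    rw [hZ]
    refine ⟨fun ⟨hx, h⟩ => ⟨(hDmem x).2 ⟨hx, ?_, ?_⟩, fun c hc => h c (hDC hc)⟩, fun ⟨hx, h⟩ => ?_⟩
    · rw [hsk x a, h a ha, inv_one]
    · rw [hsk x b, h b hb, inv_one]
    obtain ⟨hxC, hxa, hxb⟩ := (hDmem x).1 hx
    refine ⟨hxC, fun c hc => ?_⟩
    obtain ⟨i, j, hd⟩ := hdec c hc
    have hxa' : β x a = 1 := by rw [hsk a x, hxa, inv_one]
    have hxb' : β x b = 1 := by rw [hsk b x, hxb, inv_one]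
    have e : c = c * (a ^ j * b ^ i)⁻¹ * (a ^ j * b ^ i) := by group
    rw [e, hmul, h _ hd, one_mul, hmul]
    change φ x (a ^ j) * φ x (b ^ i) = 1
    rw [map_zpow, map_zpow]
    change (β x a) ^ j * (β x b) ^ i = 1
    rw [hxa', hxb', one_zpow, one_zpow, one_mul]
  obtain ⟨k, hk⟩ := ih _ hlt D Z rfl hZ'
  refine ⟨k * q, ?_⟩
  rw [← Subgroup.relIndex_mul_relIndex Z D C (fun x hx => ((hZ' x).1 hx).1) hDC, hk, hindex, mul_pow]

end Cfsg.Agent.OddOrder.ComplAction
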