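import Cfsg.Agent.Lib.OddOrder.ComplModule
import Cfsg.Agent.Lib.Solvable.PSeries
import Cfsg.Agent.Lib.Solvable.NilpotentFrattini
import Cfsg.Agent.Lib.Transfer.PGroup
import Mathlib.GroupTheory.SpecificGroups.ZGroup

/-!
Lemmas for the reduction of the theorem on the `p`-length of `⁅H, R⁆`.
-/

set_option autoImplicit false
open scoped Pointwise commutatorElement

universe u

namespace Cfsg.Agent.OddOrder.ComplReduce

open ComplAbelian (mem_normalizer_of_map_le relIndex_mul_card)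

variable {G : Type u} [Group G] [Finite G]

/-- For trivial `p'`-core, `p`-length at most one means that `O_p` has `p'`-index. -/
theorem plen_iff {p : ℕ} [Fact p.Prime] (hO : Cfsg.pPrimeCore p G = ⊥) :
    Cfsg.PLengthLE p 1 G ↔ (Cfsg.pCore p G).index.Coprime p := by
  haveI := FittingCores.pCore_normal (G := G) p
  have h1 : PSeries.U p G 1 = ⊥ := PSeries.U_one.trans hO
  rw [PSeries.pLengthLE_iff, show 2 * 1 + 1 = 3 from rfl]
  constructor
  · intro h
    obtain ⟨m, hm⟩ := PSeries.relIndex_succ_odd (p := p) (G := G) (n := 1) Nat.not_even_one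
    rw [h1, Subgroup.relIndex_bot_left] at hm
    haveI := (Cfsg.upperPSeries p G 2).2
    have hle : PSeries.U p G 2 ≤ Cfsg.pCore p G := FittingCores.le_pCore (Cfsg.upperPSeries p G 2).2
      (IsPGroup.of_card (n := m) hm)
    refine Nat.Coprime.coprime_dvd_left (Subgroup.index_dvd_of_le hle) ?_
    have := PSeries.relIndex_succ_even (p := p) (G := G) (n := 2) even_two
    rwa [show 2 + 1 = 3 from rfl, h, Subgroup.relIndex_top_right] at this
  · intro h
    obtain ⟨m, hm⟩ := (FittingCores.pCore_isPGroup (G := G) p).exists_card_eq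
    have h2 : Cfsg.pCore p G ≤ PSeries.U p G 2 :=
      PSeries.le_succ_odd (n := 1) Nat.not_even_one ⟨m, by rw [h1, Subgroup.relIndex_bot_left, hm]⟩
    exact top_le_iff.1 (PSeries.le_succ_even (n := 2) even_two (X := ⊤)
      (by rw [Subgroup.relIndex_top_right]; exact h.coprime_dvd_left (Subgroup.index_dvd_of_le h2)))

/-- In a group whose `O_p` has `p'`-index every `p`-element lies in `O_p`. -/
theorem mem_pCore {p : ℕ} [hp : Fact p.Prime] (h : (Cfsg.pCore p G).index.Coprime p) {g : G} {k : ℕ}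
    (hg : g ^ p ^ k = 1) : g ∈ Cfsg.pCore p G := by
  haveI := FittingCores.pCore_normal (G := G) p
  rw [← QuotientGroup.eq_one_iff, ← orderOf_eq_one_iff]
  refine Nat.eq_one_of_dvd_coprimes (h.pow_right k) ?_ ?_
  · rw [Subgroup.index_eq_card]; exact orderOf_dvd_natCard _
  · exact orderOf_dvd_of_pow_eq_one (by rw [← QuotientGroup.mk_pow, hg, QuotientGroup.mk_one])

lemma pow_eq_one_of_mem {p : ℕ} {S : Subgroup G} (hS : IsPGroup p S) {g : G} (hg : g ∈ S) :
    ∃ k, g ^ p ^ k = 1 := by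
  obtain ⟨k, hk⟩ := hS ⟨g, hg⟩
  exact ⟨k, by simpa [Subtype.ext_iff] using hk⟩

/-- The `p`-length passes from the image of a map with `p'`-kernel. -/
theorem plen_of_image {p : ℕ} [Fact p.Prime] {M : Type u} [Group M] [Finite M] (f : G →* M)
    (H : Subgroup G) (hker : (Nat.card ↥(H ⊓ f.ker)).Coprime p)
    (h : Cfsg.PLengthLE p 1 (H.map f)) : Cfsg.PLengthLE p 1 H := by
  refine PSeries.pLengthLE_of_ker_coprime (f.subgroupMap H) ?_ h
  refine hker.coprime_dvd_left (dvd_of_eq ?_)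
  rw [← Subgroup.card_map_of_injective H.subtype_injective]
  congr 2
  ext x
  simp only [Subgroup.mem_map, Subgroup.mem_inf, MonoidHom.mem_ker]
  constructor
  · rintro ⟨y, hy, rfl⟩
    exact ⟨y.2, congrArg Subtype.val hy⟩
  · rintro ⟨hx, hx'⟩
    exact ⟨⟨x, hx⟩, Subtype.ext hx', rfl⟩

/-- The subgroup form of the data. -/
structure Data (p r : ℕ) (H R R₀ : Subgroup G) : Prop where
  odd : Odd (Nat.card G)
  solv : Group.IsSolvable G
  normal : H.Normal
  cop : (Nat.card R).Coprime (Nat.card H)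
  gen : H ⊔ R = ⊤
  le : R₀ ≤ R
  card_R₀ : Nat.card R₀ = r
  prime : r.Prime
  zgroup : IsZGroup ↥(H ⊓ Subgroup.centralizer (R₀ : Set G))

variable {p r : ℕ} {H R R₀ : Subgroup G}

lemma Data.norm_H (d : Data p r H R R₀) (A : Subgroup G) : A ≤ Subgroup.normalizer (H : Set G) :=
  haveI := d.normal
  Subgroup.le_normalizer_of_normal

lemma Data.card_eq (d : Data p r H R R₀) : Nat.card H * Nat.card R = Nat.card G := by
  rw [← SolvBasic.card_sup_of_inf_eq_bot (d.norm_H R) (by
    first | exact SchurZ.inf_eq_bot d.cop | exact SchurZ.inf_eq_bot d.cop.symm), d.gen, Subgroup.card_top]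

/-- Induction to a proper invariant subgroup. -/
theorem Data.sub [Fact p.Prime] (d : Data p r H R R₀)
    (ih : ∀ {G' : Type u} [Group G'] [Finite G'] (H' R' R₀' : Subgroup G'),
      Nat.card G' < Nat.card G → Data p r H' R' R₀' → Cfsg.PLengthLE p 1 ↥⁅H', R'⁆)
    (K R' : Subgroup G) (hK : K ≤ H) (hR' : R' ≤ R) (hR₀' : R₀ ≤ R')
    (hn : R' ≤ Subgroup.normalizer (K : Set G)) (hlt : K ≠ H ∨ R' ≠ R) :
    Cfsg.PLengthLE p 1 ↥⁅K, R'⁆ := by
  set L : Subgroup G := K ⊔ R' with hL
  haveI := d.solv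
  have hcop : (Nat.card R').Coprime (Nat.card K) :=
    (d.cop.coprime_dvd_left (Subgroup.card_dvd_of_le hR')).coprime_dvd_right (Subgroup.card_dvd_of_le hK)
  have hcard : Nat.card L < Nat.card G := by
    rw [SolvBasic.card_sup_of_inf_eq_bot hn (by first | exact SchurZ.inf_eq_bot hcop | exact SchurZ.inf_eq_bot hcop.symm), ← d.card_eq]
    rcases hlt with h | h
    · exact Nat.mul_lt_mul_of_lt_of_le (lt_of_le_of_ne (Subgroup.card_le_of_le hK) fun e =>
        h (Subgroup.eq_of_le_of_card_ge hK e.ge)) (Subgroup.card_le_of_le hR') Nat.card_pos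
    · exact Nat.mul_lt_mul_of_le_of_lt (Subgroup.card_le_of_le hK) (lt_of_le_of_ne
        (Subgroup.card_le_of_le hR') fun e => h (Subgroup.eq_of_le_of_card_ge hR' e.ge)) Nat.card_pos
  have hKL : K ≤ L := le_sup_left
  have hR'L : R' ≤ L := le_sup_right
  have d' : Data p r (K.subgroupOf L) (R'.subgroupOf L) (R₀.subgroupOf L) := by
    refine ⟨d.odd.of_dvd_nat (Subgroup.card_subgroup_dvd_card L), inferInstance,
      Subgroup.normal_subgroupOf_of_le_normalizer (sup_le Subgroup.le_normalizer hn), ?_, ?_,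
      fun x hx => hR₀' hx, ?_, d.prime, ?_⟩
    · rwa [Nat.card_congr (Subgroup.subgroupOfEquivOfLe hKL).toEquiv,
        Nat.card_congr (Subgroup.subgroupOfEquivOfLe hR'L).toEquiv]
    · rw [← Subgroup.subgroupOf_sup hKL hR'L, Subgroup.subgroupOf_self]
    · rw [Nat.card_congr (Subgroup.subgroupOfEquivOfLe (hR₀'.trans hR'L)).toEquiv, d.card_R₀]
    · haveI := d.zgroup
      have hm : ∀ x : ↥(K.subgroupOf L ⊓ Subgroup.centralizer ((R₀.subgroupOf L : Subgroup L) : Set L)),
          ((x : L) : G) ∈ H ⊓ Subgroup.centralizer (R₀ : Set G) := fun x =>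
        ⟨hK x.2.1, Subgroup.mem_centralizer_iff.2 fun y hy => congrArg Subtype.val
          (Subgroup.mem_centralizer_iff.1 x.2.2 ⟨y, hR'L (hR₀' hy)⟩ hy)⟩
      exact IsZGroup.of_injective (f := MonoidHom.mk'
        (fun x => (⟨((x : L) : G), hm x⟩ : ↥(H ⊓ Subgroup.centralizer (R₀ : Set G))))
        (fun a b => rfl)) (fun a b h => Subtype.ext (Subtype.ext (congrArg Subtype.val h :)))
  have h := ih _ _ _ hcard d'
  have e : (⁅K.subgroupOf L, R'.subgroupOf L⁆).map L.subtype = ⁅K, R'⁆ := by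
    rw [Subgroup.map_commutator, Subgroup.map_subgroupOf_eq_of_le hKL,
      Subgroup.map_subgroupOf_eq_of_le hR'L]
  rw [← e]
  exact PSeries.pLengthLE_of_surjective
    (Subgroup.equivMapOfInjective ⁅K.subgroupOf L, R'.subgroupOf L⁆ L.subtype L.subtype_injective).toMonoidHom
    (Subgroup.equivMapOfInjective _ L.subtype L.subtype_injective).surjective h

/-- Induction to a proper quotient. -/
theorem Data.quot [Fact p.Prime] (d : Data p r H R R₀)
    (ih : ∀ {G' : Type u} [Group G'] [Finite G'] (H' R' R₀' : Subgroup G'),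
      Nat.card G' < Nat.card G → Data p r H' R' R₀' → Cfsg.PLengthLE p 1 ↥⁅H', R'⁆)
    (N : Subgroup G) [N.Normal] (hN : N ≤ H) (hN1 : N ≠ ⊥) (hHR : ⁅H, R⁆ = H) :
    Cfsg.PLengthLE p 1 ↥(H.map (QuotientGroup.mk' N)) := by
  set π := QuotientGroup.mk' N with hπ
  have hπs : Function.Surjective π := QuotientGroup.mk'_surjective N
  haveI := d.solv
  haveI := d.zgroup
  have hlt : Nat.card (G ⧸ N) < Nat.card G := by
    rw [← Subgroup.card_mul_index N, ← Subgroup.index_eq_card]
    exact lt_mul_of_one_lt_left (Nat.pos_of_ne_zero Subgroup.index_ne_zero_of_finite)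
      ((Subgroup.one_lt_card_iff_ne_bot N).2 hN1)
  have hR0N : R₀ ⊓ N = ⊥ :=
    le_bot_iff.1 ((inf_le_inf d.le hN).trans (SchurZ.inf_eq_bot d.cop.symm).le)
  have d' : Data p r (H.map π) (R.map π) (R₀.map π) := by
    refine ⟨?_, Group.isSolvable_of_surjective hπs, d.normal.map π hπs, ?_, ?_,
      Subgroup.map_mono d.le, ?_, d.prime, ?_⟩
    · exact d.odd.of_dvd_nat (Subgroup.card_quotient_dvd_card N)
    · exact (d.cop.coprime_dvd_left (Subgroup.card_map_dvd R π)).coprime_dvd_right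
        (Subgroup.card_map_dvd H π)
    · rw [← Subgroup.map_sup, d.gen, Subgroup.map_top_of_surjective π hπs]
    · rw [SolvBasic.card_map_mk'_of_inf_eq_bot hR0N, d.card_R₀]
    · have hnR : R₀ ≤ Subgroup.normalizer (H : Set G) := d.norm_H R₀
      have he := CoprimeAct.map_inf_centralizer π hnR
        (d.cop.coprime_dvd_left (Subgroup.card_dvd_of_le d.le)) (Or.inr inferInstance)
      rw [← he]
      exact IsZGroup.of_surjective (π.subgroupMap_surjective _)
  have h := ih _ _ _ hlt d'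
  rwa [← Subgroup.map_commutator, hHR] at h

/-- A coprime operator group acts trivially on a cyclic group once it is a commutator. -/
theorem le_centralizer_of_cyclic {P R Q : Subgroup G} (hQ : IsCyclic Q)
    (hPQ : P ≤ Subgroup.normalizer (Q : Set G)) (hRQ : R ≤ Subgroup.normalizer (Q : Set G))
    (hPR : ⁅P, R⁆ = P) : P ≤ Subgroup.centralizer (Q : Set G) := by
  obtain ⟨⟨c, hc⟩, hgen⟩ := hQ.exists_generator
  have hgen' : ∀ x ∈ Q, ∃ k : ℤ, c ^ k = x := fun x hx => by
    obtain ⟨k, hk⟩ := Subgroup.mem_zpowers_iff.1 (hgen ⟨x, hx⟩)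
    exact ⟨k, by simpa using congrArg Subtype.val hk⟩
  rw [← hPR, Subgroup.commutator_le]
  intro g hg y hy
  obtain ⟨a, ha⟩ := hgen' _ ((Subgroup.mem_normalizer_iff.1 (hPQ hg) c).1 hc)
  obtain ⟨b, hb⟩ := hgen' _ ((Subgroup.mem_normalizer_iff.1 (hRQ hy) c).1 hc)
  have e1 : g * y * c * (g * y)⁻¹ = y * g * c * (y * g)⁻¹ := by
    rw [show g * y * c * (g * y)⁻¹ = g * (y * c * y⁻¹) * g⁻¹ by group,
      show y * g * c * (y * g)⁻¹ = y * (g * c * g⁻¹) * y⁻¹ by group, ← hb, ← conj_zpow, ← ha,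
      ← zpow_mul, ← conj_zpow, ← hb, ← zpow_mul, mul_comm]
  have e2 : ⁅g, y⁆ * (y * g * c * (y * g)⁻¹) = (y * g * c * (y * g)⁻¹) * ⁅g, y⁆ := by
    calc ⁅g, y⁆ * (y * g * c * (y * g)⁻¹) = (g * y * c * (g * y)⁻¹) * ⁅g, y⁆ := by
          simp only [commutatorElement_def]; group
      _ = _ := by rw [e1]
  refine Subgroup.mem_centralizer_iff.2 fun x hx => ?_
  -- `y g c (y g)⁻¹` generates `Q`
  set c' := y * g * c * (y * g)⁻¹ with hc'
  have hc'Q : c' ∈ Q := (Subgroup.mem_normalizer_iff.1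
    ((Subgroup.normalizer (Q : Set G)).mul_mem (hRQ hy) (hPQ hg)) c).1 hc
  have hle : Subgroup.zpowers c' = Q := by
    refine Subgroup.eq_of_le_of_card_ge (Subgroup.zpowers_le.2 hc'Q) ?_
    rw [Nat.card_zpowers, hc', ← MulAut.conj_apply, MulEquiv.orderOf_eq, ← Subgroup.orderOf_mk c hc,
      orderOf_eq_card_of_forall_mem_zpowers hgen]
  obtain ⟨k, rfl⟩ := Subgroup.mem_zpowers_iff.1 (hle.symm ▸ hx)
  exact (Commute.zpow_right e2 k).eq.symm

/-- Characteristic subgroups are kept by the normalizer. -/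
theorem normalizer_le_normalizer_frattini (Q : Subgroup G) :
    Subgroup.normalizer (Q : Set G) ≤
      Subgroup.normalizer ((frattini Q).map Q.subtype : Set G) := by
  intro g hg
  refine mem_normalizer_of_map_le ?_
  rintro _ ⟨x, hx, rfl⟩
  let e : MulAut Q := Q.normalizerMonoidHom ⟨g, hg⟩
  refine ⟨e x, ?_, rfl⟩
  have := Subgroup.characteristic_iff_comap_eq.1 (inferInstance : (frattini Q).Characteristic) e
  rw [← this] at hx
  exact hx

end Cfsg.Agent.OddOrder.ComplReduce
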