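/-
A subgroup of prime order acting without fixed points on a group of prime power order.
-/
import Cfsg.Agent.Lib.OddOrder.ComplAction
import Cfsg.Agent.Lib.OddOrder.ComplReduce
import Cfsg.Agent.Lib.Solvable.NilpotentFrattini
import Cfsg.Agent.Lib.Transfer.PGroup

set_option autoImplicit false
set_option linter.style.haveILetI false

namespace Cfsg.Agent.OddOrder.FpfCentral

open scoped commutatorElement

universe u

variable {G : Type u} [Group G] [Finite G] {p q r : ℕ} [hp : Fact p.Prime] [hq : Fact q.Prime] [hr : Fact r.Prime]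

theorem commutator_le_of_normal (hqp : q ≠ p) (hrq : r ≠ q) (hrp : r ≠ p) (hr2 : r ≠ 2) (B D Q : Subgroup G)
    [hQn : Q.Normal] (hB : Nat.card B = p) (hD : IsPGroup r D) (hQ : IsPGroup q Q)
    (hBD : B ≤ Subgroup.normalizer (D : Set G))
    (hfix : Q ⊓ Subgroup.centralizer (B : Set G) = ⊥) :
    ⁅D, B⁆ ≤ Subgroup.centralizer (Q : Set G) := by
  set Φ : Subgroup G := (frattini Q).map Q.subtype with hΦ
  haveI hΦn : Φ.Normal := FittingCores.normal_map_of_characteristic hQn inferInstance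
  have hΦQ : Φ ≤ Q := Subgroup.map_subtype_le _
  haveI : Group.IsNilpotent Q := hQ.isNilpotent
  set f := QuotientGroup.mk' Φ with hf
  have hQN : ∀ X : Subgroup G, X ≤ Subgroup.normalizer (Q : Set G) := fun X => Subgroup.le_normalizer_of_normal
  have hV : Cfsg.IsElementaryAbelian q (Q.map f) := by
    refine ⟨.of_setLike_mul_comm ?_, ?_⟩
    · rintro _ ⟨a, ha, rfl⟩ _ ⟨b, hb, rfl⟩
      rw [← commutatorElement_eq_one_iff_mul_comm, ← map_commutatorElement]
      refine (QuotientGroup.eq_one_iff _).2 ⟨⁅(⟨a, ha⟩ : Q), ⟨b, hb⟩⁆, ?_, rfl⟩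
      exact SolvStruct.commutator_le_frattini Q
        (Subgroup.commutator_mem_commutator (Subgroup.mem_top (⟨a, ha⟩ : Q)) (Subgroup.mem_top (⟨b, hb⟩ : Q)))
    · rintro _ ⟨a, ha, rfl⟩
      rw [← map_pow]
      exact (QuotientGroup.eq_one_iff _).2 ⟨(⟨a, ha⟩ : Q) ^ q, PGroupBasics.pow_mem_frattini hQ (⟨a, ha⟩ : Q), rfl⟩
  have hBbar : Nat.card (B.map f) = p := by
    rw [← hB]
    refine Nat.card_congr (Equiv.ofBijective (fun b : B => (⟨f b, Subgroup.mem_map_of_mem f b.2⟩ : B.map f))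
      ⟨fun a b h => ?_, fun ⟨_, b, hb, rfl⟩ => ⟨⟨b, hb⟩, rfl⟩⟩).symm
    have h' : f a = f b := congrArg Subtype.val h
    have hm : ((a : G))⁻¹ * b ∈ B ⊓ Φ := ⟨B.mul_mem (B.inv_mem a.2) b.2, QuotientGroup.eq.1 h'⟩
    obtain ⟨e, he⟩ := (hQ.to_le hΦQ).exists_card_eq
    have hc : (Nat.card B).Coprime (Nat.card Φ) := by
      rw [hB, he]
      exact Nat.Coprime.pow_right e ((Nat.coprime_primes hp.out hq.out).2 hqp.symm)
    rw [inf_comm B Φ, SchurZ.inf_eq_bot hc] at hm
    exact Subtype.ext (inv_mul_eq_one.1 (Subgroup.mem_bot.1 hm))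
  have hcop : (Nat.card B).Coprime (Nat.card Q) := by
    obtain ⟨e, he⟩ := hQ.exists_card_eq
    rw [hB, he]
    exact Nat.Coprime.pow_right e ((Nat.coprime_primes hp.out hq.out).2 hqp.symm)
  have hfix' : Q.map f ⊓ Subgroup.centralizer ((B.map f : Subgroup (G ⧸ Φ)) : Set (G ⧸ Φ)) = ⊥ := by
    rw [← CoprimeAct.map_inf_centralizer f (hQN B) hcop (Or.inr inferInstance), hfix, Subgroup.map_bot]
  have hcomm := ComplAction.commutator_le_centralizer_of_fixed hq.out hr.out hp.out hrq.symm hqp hrp hr2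
    (B.map f) (D.map f) (Q.map f) hBbar (hD.map f) hV
    ((Subgroup.map_mono hBD).trans (Subgroup.le_normalizer_map _))
    ((Subgroup.map_mono (hQN B)).trans (Subgroup.le_normalizer_map _))
    ((Subgroup.map_mono (hQN D)).trans (Subgroup.le_normalizer_map _)) hfix'
  rw [← Subgroup.map_commutator] at hcomm
  have hcD : (Nat.card ↥⁅D, B⁆).Coprime (Nat.card (frattini Q)) := by
    obtain ⟨e, he⟩ := (hD.to_le (CoprimeAct.commutator_le_left hBD)).exists_card_eq
    obtain ⟨e', he'⟩ := (hQ.to_subgroup (frattini Q)).exists_card_eq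
    rw [he, he']
    exact Nat.coprime_pow_primes e e' hr.out hq.out hrq
  refine CoprimeAct.le_centralizer_of_frattini (hQN _) hcD fun a ha k hk => ?_
  rw [← hΦ, ← QuotientGroup.eq_one_iff]
  show f (a * k * a⁻¹ * k⁻¹) = 1
  have h := Subgroup.mem_centralizer_iff.1 (hcomm (Subgroup.mem_map_of_mem f ha)) _ (Subgroup.mem_map_of_mem f hk)
  rw [map_mul, map_mul, map_mul, map_inv, map_inv, ← h]
  group

/-- `⁅D, B⁆` centralizes a `q`-group on which `B`, of prime order, acts without fixed points. -/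
theorem commutator_le (hqp : q ≠ p) (hrq : r ≠ q) (hrp : r ≠ p) (hr2 : r ≠ 2) {B D Q : Subgroup G}
    (hB : Nat.card B = p) (hD : IsPGroup r D) (hQ : IsPGroup q Q)
    (hBD : B ≤ Subgroup.normalizer (D : Set G)) (hBQ : B ≤ Subgroup.normalizer (Q : Set G))
    (hDQ : D ≤ Subgroup.normalizer (Q : Set G))
    (hfix : Q ⊓ Subgroup.centralizer (B : Set G) = ⊥) :
    ⁅D, B⁆ ≤ Subgroup.centralizer (Q : Set G) := by
  set N := Subgroup.normalizer (Q : Set G) with hN
  have hQN : Q ≤ N := Subgroup.le_normalizer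
  haveI : (Q.subgroupOf N).Normal := Subgroup.normal_subgroupOf_of_le_normalizer le_rfl
  have h := commutator_le_of_normal hqp hrq hrp hr2 (B.subgroupOf N) (D.subgroupOf N) (Q.subgroupOf N)
    (by rw [Nat.card_congr (Subgroup.subgroupOfEquivOfLe hBQ).toEquiv, hB]) hD.comap_subtype hQ.comap_subtype
    (fun b hb => Subgroup.mem_normalizer_iff.2 fun x => Subgroup.mem_normalizer_iff.1 (hBD hb) (x : G))
    (by
      refine le_bot_iff.1 fun x hx => Subgroup.mem_bot.2 (Subtype.ext (Subgroup.mem_bot.1 (hfix ▸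
        (⟨hx.1, Subgroup.mem_centralizer_iff.2 fun b hb => ?_⟩ : (x : G) ∈ Q ⊓ Subgroup.centralizer (B : Set G)))))
      exact congrArg Subtype.val (Subgroup.mem_centralizer_iff.1 hx.2 ⟨b, hBQ hb⟩ hb))
  calc ⁅D, B⁆ = ⁅D.subgroupOf N, B.subgroupOf N⁆.map N.subtype := by
        rw [Subgroup.map_commutator, Subgroup.map_subgroupOf_eq_of_le hDQ, Subgroup.map_subgroupOf_eq_of_le hBQ]
    _ ≤ _ := by
      rintro _ ⟨x, hx, rfl⟩
      exact Subgroup.mem_centralizer_iff.2 fun k hk =>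
        congrArg Subtype.val (Subgroup.mem_centralizer_iff.1 (h hx) ⟨k, hQN hk⟩ hk)

end Cfsg.Agent.OddOrder.FpfCentral
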