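/-
Exceptional maximal subgroups (BG section 11): a prime `p` outside `σ(M)`, a plane `A ≤ M` and a line
`A₀ ≤ A` with `N(A₀) ≤ M`.
-/
import Cfsg.Agent.Lib.OddOrder.PlaneBasics
import Cfsg.Agent.Lib.OddOrder.FpfCentral
import Cfsg.Agent.Lib.OddOrder.Compl
import Cfsg.Agent.S1405
import Cfsg.Agent.S1408
import Cfsg.Agent.S1409
import Cfsg.Agent.S1451

set_option autoImplicit false
set_option linter.style.haveILetI false
set_option linter.unusedSectionVars false

namespace Cfsg.Agent.OddOrder.Exceptional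

open scoped commutatorElement Pointwise

universe u

variable {G : Type u} [Group G] [Finite G]

section General

theorem sigmaCore_le (M : Subgroup G) : Cfsg.sigmaCore M ≤ M := Subgroup.map_subtype_le _

theorem le_normalizer_sigmaCore (M : Subgroup G) :
    M ≤ Subgroup.normalizer (Cfsg.sigmaCore M : Set G) :=
  AxB.le_normalizer_map_subtype (Cfsg.piCore_normal _ _)

theorem map_conj_inv (X : Subgroup G) (g : G) :
    (X.map (MulAut.conj g⁻¹).toMonoidHom).map (MulAut.conj g).toMonoidHom = X := by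
  rw [Sigma.map_conj_map, mul_inv_cancel, Sigma.map_conj_one]

theorem conj_inv_le {X Y : Subgroup G} {g : G} (h : X ≤ Y.map (MulAut.conj g).toMonoidHom) :
    X.map (MulAut.conj g⁻¹).toMonoidHom ≤ Y := by
  refine (Subgroup.map_mono h).trans (le_of_eq ?_)
  rw [Sigma.map_conj_map, inv_mul_cancel, Sigma.map_conj_one]

/-- A group of order prime to the index of a normal subgroup lies in it. -/
theorem le_of_coprime_index {H : Type*} [Group H] [Finite H] {N X : Subgroup H} [N.Normal]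
    (h : (Nat.card X).Coprime N.index) : X ≤ N := by
  intro x hx
  rw [← QuotientGroup.eq_one_iff, ← orderOf_eq_one_iff]
  refine Nat.eq_one_of_dvd_coprimes h ((orderOf_map_dvd (QuotientGroup.mk' N) x).trans
    (Subgroup.orderOf_dvd_natCard X hx)) ?_
  rw [Subgroup.index_eq_card]
  exact orderOf_dvd_natCard _

/-- A Sylow subgroup contained in a nilpotent subgroup is normalized by the normalizer of the latter. -/
theorem normalizer_le_of_nilpotent {r : ℕ} [hr : Fact r.Prime] {X R : Subgroup G} (hX : Group.IsNilpotent X)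
    (hRX : R ≤ X) (hR : IsPGroup r R) (hidx : ¬ r ∣ R.relIndex X) :
    Subgroup.normalizer (X : Set G) ≤ Subgroup.normalizer (R : Set G) := by
  haveI := hX
  have hR' : IsPGroup r (R.subgroupOf X) := hR.comap_subtype
  set T : Sylow r X := hR'.toSylow hidx with hT
  haveI hn : (T : Subgroup X).Normal := T.normal_of_normalizerCondition normalizerCondition_of_isNilpotent
  haveI hc : (T : Subgroup X).Characteristic := T.characteristic_of_normal hn
  intro g hg
  refine ComplAbelian.mem_normalizer_of_map_le ?_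
  intro x hx
  let e : MulAut X := X.normalizerMonoidHom ⟨g, hg⟩
  have he := Subgroup.characteristic_iff_comap_eq.1 hc e
  have hm : (⟨x, hRX hx⟩ : X) ∈ (T : Subgroup X) := hx
  rw [← he] at hm
  exact hm

variable {M : Subgroup G}

/-- `σ(M)` is not empty. -/
theorem exists_sigma (hG : Cfsg.IsMinSimpleOddOrder G) (hM : IsCoatom M) (hM1 : M ≠ ⊥) :
    ∃ q, q ∈ Cfsg.sigma M := by
  classical
  by_cases hα : ∃ q, q ∈ Cfsg.alpha M
  · obtain ⟨q, hq⟩ := hα
    haveI := Fact.mk hq.1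
    exact ⟨q, Sigma.alpha_subset_sigma hG hM hq⟩
  push Not at hα
  haveI := MinSimple.isSolvable hG hM.1
  have hne : (Nat.card M).primeFactors.Nonempty := Nat.nonempty_primeFactors.2 (by
    have : Nat.card M ≠ 1 := fun h => hM1 (Subgroup.card_eq_one.1 h)
    have := Nat.card_pos (α := M)
    omega)
  set q := (Nat.card M).primeFactors.max' hne with hqdef
  obtain ⟨hq, hqd, -⟩ := Nat.mem_primeFactors.1 (Finset.max'_mem _ hne)
  haveI := Fact.mk hq
  refine ⟨q, hq, hqd, ?_⟩
  obtain ⟨-, -, h3⟩ := S1451.result (hG.1.of_dvd_nat M.card_subgroup_dvd_card) (Or.inl fun r hr => by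
    by_contra h
    exact hα r ⟨hr, h⟩)
  obtain ⟨N, hNc, hN1, hN2⟩ := h3 (q - 1)
  have hNp : IsPGroup q N := IsPGroup.of_card (Nat.eq_prime_pow_of_unique_prime_dvd Nat.card_pos.ne'
    fun {r} hr hd => by
      have h1 : q - 1 < r := (hN1 r hr hd).2
      have h2 : r ≤ q := Finset.le_max' _ r (Nat.mem_primeFactors.2
        ⟨hr, hd.trans N.card_subgroup_dvd_card, Nat.card_pos.ne'⟩)
      have := hq.one_le
      omega)
  have hidx : ¬ q ∣ N.index := hN2 q hq ⟨hq, by have := hq.one_le; omega⟩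
  haveI := hNc
  refine ⟨hNp.toSylow hidx, ?_⟩
  show Subgroup.normalizer ((N.map M.subtype : Subgroup G) : Set G) ≤ M
  have hle : M ≤ Subgroup.normalizer ((N.map M.subtype : Subgroup G) : Set G) :=
    AxB.le_normalizer_map_subtype inferInstance
  have hNne : N.map M.subtype ≠ ⊥ := fun h => by
    rw [Subgroup.map_eq_bot_iff_of_injective _ M.subtype_injective] at h
    rw [h, Subgroup.index_bot] at hidx
    exact hidx hqd
  exact (hM.le_iff_eq (MinSimple.normalizer_ne_top hG hNne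
    (MinSimple.pSubgroup_ne_top hG (hNp.map _)))).1 hle |>.le

theorem mem_sigma_of_dvd {q : ℕ} (hq : q.Prime) (hd : q ∣ Nat.card (Cfsg.sigmaCore M)) :
    q ∈ Cfsg.sigma M := MinSimple.isPi_piCoreOf q hq hd

variable {q : ℕ} [hq : Fact q.Prime]

theorem le_sigmaCore (hG : Cfsg.IsMinSimpleOddOrder G) (hM : IsCoatom M) (hqσ : q ∈ Cfsg.sigma M)
    {U : Subgroup G} (hU : IsPGroup q U) (hUM : U ≤ M) : U ≤ Cfsg.sigmaCore M := by
  obtain ⟨S, hS⟩ := (hU.comap_subtype (K := M)).exists_le_sylow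
  intro u hu
  exact ⟨⟨u, hUM hu⟩, Sigma.sylow_le_piCore hG hM hqσ
    (fun r hr => by haveI := Fact.mk hr.1; exact Sigma.alpha_subset_sigma hG hM hr) hqσ S (hS hu), rfl⟩

variable {p : ℕ} [hp : Fact p.Prime] {A : Subgroup G}

theorem coprime_sigmaCore (hA : Nat.card A = p ^ 2) (hp' : p ∉ Cfsg.sigma M) :
    (Nat.card A).Coprime (Nat.card (Cfsg.sigmaCore M)) := by
  rw [hA]
  exact (hp.out.coprime_iff_not_dvd.2 fun h => hp' (mem_sigma_of_dvd hp.out h)).pow_left 2

/-- Invariant `q`-subgroups of `M`, `q ∈ σ(M)`, lie in invariant Sylow subgroups of `G` inside `M`. -/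
theorem exists_inv_sylow (hG : Cfsg.IsMinSimpleOddOrder G) (hM : IsCoatom M)
    (hAe : Cfsg.IsElementaryAbelian p A) (hA : Nat.card A = p ^ 2) (hAM : A ≤ M) (hp' : p ∉ Cfsg.sigma M)
    (hqσ : q ∈ Cfsg.sigma M) {U : Subgroup G} (hUM : U ≤ M) (hU : IsPGroup q U)
    (hAU : A ≤ Subgroup.normalizer (U : Set G)) :
    ∃ S : Sylow q M, U ≤ (S : Subgroup M).map M.subtype ∧
      A ≤ Subgroup.normalizer (((S : Subgroup M).map M.subtype : Subgroup G) : Set G) ∧
      (S : Subgroup M).map M.subtype ∈ Cfsg.maxInvSubgroups ⊤ A {q} := by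
  set K := Cfsg.sigmaCore M with hK
  obtain ⟨T, hUT, hAT⟩ := CoprimeAct.exists_invariant_sylow_ge (hAM.trans (le_normalizer_sigmaCore M))
    (coprime_sigmaCore hA hp') (Or.inl (Plane.isSolvable hAe)) (le_sigmaCore hG hM hqσ hU hUM) hU hAU
  set Q := (T : Subgroup K).map K.subtype with hQdef
  obtain ⟨S, hS⟩ := ((T.isPGroup'.map K.subtype).comap_subtype (K := M)).exists_le_sylow
  have hQM : Q ≤ M := (Subgroup.map_subtype_le _).trans (sigmaCore_le M)
  have hQS : Q ≤ (S : Subgroup M).map M.subtype := fun x hx => ⟨⟨x, hQM hx⟩, hS hx, rfl⟩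
  have hSK : (S : Subgroup M).map M.subtype ≤ K :=
    le_sigmaCore hG hM hqσ (S.isPGroup'.map _) (Subgroup.map_subtype_le _)
  have heq : (S : Subgroup M).map M.subtype = Q := Sigma.sylow_map_eq (S.isPGroup'.map _) hSK hQS
  refine ⟨S, heq ▸ hUT, heq ▸ hAT, Inv.mem_max_iff.2 ⟨S.isPGroup'.map _, heq ▸ hAT, fun R hR _ hle => ?_⟩⟩
  obtain ⟨PG, hPG⟩ := Sigma.sigma_sylow hqσ S
  exact (PG.3 hR (hPG ▸ hle)).trans hPG

/-- A conjugate by an element outside `M` of a Sylow subgroup for a prime of `σ(M)` is not inside `M`. -/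
theorem conj_not_le (hG : Cfsg.IsMinSimpleOddOrder G) (hM : IsCoatom M) (hqσ : q ∈ Cfsg.sigma M)
    (S : Sylow q M) {g : G} (hg : g ∉ M) :
    ¬ ((S : Subgroup M).map M.subtype).map (MulAut.conj g).toMonoidHom ≤ M := fun h => by
  have hne : (S : Subgroup M).map M.subtype ≠ ⊥ := fun hb => by
    rw [Subgroup.map_eq_bot_iff_of_injective _ M.subtype_injective] at hb
    have := S.not_dvd_index
    rw [hb, Subgroup.index_bot] at this
    exact this hqσ.2.1
  obtain ⟨m, hm, c, hc, rfl⟩ := Sigma.trans hG hM hqσ _ (S.isPGroup'.map _) hne (Subgroup.map_subtype_le _) g h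
  exact hg (mul_mem hm (Sigma.sigma_normalizer hqσ S (Subgroup.centralizer_le_normalizer _ hc)))

end General

/-- Hypothesis 11.1 of Bender-Glauberman. -/
structure Exc (p : ℕ) (M A A₀ : Subgroup G) : Prop where
  minSimple : Cfsg.IsMinSimpleOddOrder G
  coatom : IsCoatom M
  not_sigma : p ∉ Cfsg.sigma M
  le : A ≤ M
  elem : Cfsg.IsElementaryAbelian p A
  card : Nat.card A = p ^ 2
  line_le : A₀ ≤ A
  line_card : Nat.card A₀ = p
  normalizer_le : Subgroup.normalizer (A₀ : Set G) ≤ M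

namespace Exc

variable {p : ℕ} [hp : Fact p.Prime] {M A A₀ : Subgroup G} (h : Exc p M A A₀)
include h

theorem dvd_card : p ∣ Nat.card M := (h.card ▸ dvd_pow_self p two_ne_zero).trans (Subgroup.card_dvd_of_le h.le)

theorem prankLE_two : Cfsg.PRankLE p 2 M := by
  by_contra hr
  exact h.not_sigma (Sigma.alpha_subset_sigma h.minSimple h.coatom ⟨hp.out, hr⟩)

theorem not_prankLE_one : ¬ Cfsg.PRankLE p 1 M :=
  UniqProp.not_rankLE h.le h.elem (k := 1) (by
    rw [pow_one, h.card, pow_two]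
    exact lt_mul_of_one_lt_left hp.out.pos hp.out.one_lt)

theorem maximal : Plane.Maximal p A :=
  ⟨h.elem, h.card, (S1408.result h.minSimple M h.coatom p h.not_sigma h.prankLE_two h.not_prankLE_one).2
    A h.le h.elem h.card⟩

theorem centralizer_le : Subgroup.centralizer (A : Set G) ≤ M :=
  (Subgroup.centralizer_le h.line_le).trans ((Subgroup.centralizer_le_normalizer _).trans h.normalizer_le)

theorem centralizer_line_le : Subgroup.centralizer (A₀ : Set G) ≤ M :=
  (Subgroup.centralizer_le_normalizer _).trans h.normalizer_le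

theorem exists_sylow : ∃ P : Sylow p M, A ≤ (P : Subgroup M).map M.subtype := by
  obtain ⟨P, hP⟩ := ((Plane.isPGroup h.card).comap_subtype (K := M)).exists_le_sylow
  exact ⟨P, fun a ha => ⟨⟨a, h.le ha⟩, hP ha, rfl⟩⟩

theorem normalizer_sylow_not_le (P : Sylow p M) :
    ∃ g ∈ Subgroup.normalizer (((P : Subgroup M).map M.subtype : Subgroup G) : Set G), g ∉ M :=
  SetLike.not_le_iff_exists.1 fun hle => h.not_sigma ⟨hp.out, h.dvd_card, P, hle⟩

theorem le_conj_of_normalizer {P : Sylow p M} (hP : A ≤ (P : Subgroup M).map M.subtype) {g : G}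
    (hg : g ∈ Subgroup.normalizer (((P : Subgroup M).map M.subtype : Subgroup G) : Set G)) :
    A ≤ M.map (MulAut.conj g).toMonoidHom := fun a ha => by
  obtain ⟨y, hy, he⟩ := (Subgroup.mem_normalizer_iff_map_conj_eq.1 hg).ge (hP ha)
  exact ⟨y, Subgroup.map_subtype_le _ hy, he⟩

theorem exists_outside : ∃ g : G, g ∉ M ∧ A ≤ M.map (MulAut.conj g).toMonoidHom := by
  obtain ⟨P, hP⟩ := h.exists_sylow
  obtain ⟨g, hg, hgM⟩ := h.normalizer_sylow_not_le P
  exact ⟨g, hgM, h.le_conj_of_normalizer hP hg⟩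

section
variable {q : ℕ} [hq : Fact q.Prime]

/-- Maximal invariant subgroups meeting a proper overgroup of `A` together with one inside `M`. -/
theorem le_of_meet (hqp : q ≠ p) {Q R H : Subgroup G} (hQ : Q ∈ Cfsg.maxInvSubgroups ⊤ A {q}) (hQM : Q ≤ M)
    (hR : R ∈ Cfsg.maxInvSubgroups ⊤ A {q}) (hH : H ≠ ⊤) (hAH : A ≤ H) (h1 : H ⊓ Q ≠ ⊥) (h2 : H ⊓ R ≠ ⊥) :
    R ≤ M := by
  obtain ⟨k, hk, rfl⟩ := TransHyp.conj_of_overgroup h.minSimple (h.maximal.transitivity h.minSimple)
    (Plane.not_dvd_card hq.out hqp h.card) hQ hR hH hAH h1 h2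
  have hkM := h.centralizer_le (MinSimple.piCoreOf_le hk)
  rintro _ ⟨x, hx, rfl⟩
  exact M.mul_mem (M.mul_mem hkM (hQM hx)) (M.inv_mem hkM)

/-- Invariant subgroups in a conjugate of `M_σ` extend to maximal ones outside `M`. -/
theorem exists_outside_max (hqσ : q ∈ Cfsg.sigma M) {g : G} (hg : g ∉ M)
    (hAg : A ≤ M.map (MulAut.conj g).toMonoidHom) {U : Subgroup G}
    (hUM : U ≤ M.map (MulAut.conj g).toMonoidHom) (hU : IsPGroup q U) (hAU : A ≤ Subgroup.normalizer (U : Set G)) :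
    ∃ R : Subgroup G, U ≤ R ∧ R ∈ Cfsg.maxInvSubgroups ⊤ A {q} ∧ ¬ R ≤ M := by
  set A' := A.map (MulAut.conj g⁻¹).toMonoidHom with hA'
  have hA'e : Cfsg.IsElementaryAbelian p A' := by
    haveI := h.elem.1
    refine ⟨inferInstance, ?_⟩
    rintro _ ⟨a, ha, rfl⟩
    rw [← map_pow, h.elem.2 a ha, map_one]
  have hA'c : Nat.card A' = p ^ 2 := by
    rw [hA', Subgroup.card_map_of_injective (MulAut.conj g⁻¹).injective, h.card]
  obtain ⟨S, hUS, hAS, hS⟩ := exists_inv_sylow h.minSimple h.coatom hA'e hA'c (conj_inv_le hAg) h.not_sigma hqσ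
    (conj_inv_le hUM) (hU.map _) ((Subgroup.map_mono hAU).trans (Subgroup.le_normalizer_map _))
  set R := ((S : Subgroup M).map M.subtype).map (MulAut.conj g).toMonoidHom with hR
  refine ⟨R, ?_, Inv.mem_max_iff.2 ⟨(S.isPGroup'.map _).map _, ?_, fun T hT _ hle => ?_⟩,
    conj_not_le h.minSimple h.coatom hqσ S hg⟩
  · rw [← map_conj_inv U g]
    exact Subgroup.map_mono hUS
  · rw [← map_conj_inv A g]
    exact (Subgroup.map_mono hAS).trans (Subgroup.le_normalizer_map _)
  · obtain ⟨PG, hPG⟩ := Sigma.sigma_sylow hqσ S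
    have hR' : ((g • PG : Sylow q G) : Subgroup G) = R := by
      rw [Sylow.coe_subgroup_smul, hR, ← hPG]
      rfl
    exact ((g • PG).3 hT (hR' ▸ hle)).trans hR'

theorem exists_prime_element {X : Subgroup G} (hX : X ≠ ⊥) (hXM : X ≤ Cfsg.sigmaCore M) :
    ∃ r, r ∈ Cfsg.sigma M ∧ r ≠ p ∧ r.Prime ∧ ∃ x ∈ X, orderOf x = r := by
  obtain ⟨r, hr, hd⟩ := Nat.exists_prime_and_dvd (n := Nat.card X) fun h1 => hX (Subgroup.card_eq_one.1 h1)
  haveI := Fact.mk hr
  obtain ⟨x, hx⟩ := exists_prime_orderOf_dvd_card' r hd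
  have hσ := mem_sigma_of_dvd hr (hd.trans (Subgroup.card_dvd_of_le hXM))
  exact ⟨r, hσ, fun e => h.not_sigma (e ▸ hσ), hr, x, x.2, by rw [Subgroup.orderOf_coe, hx]⟩

end

/-- BG 11.6(d). -/
theorem inf_centralizer_eq_bot : Cfsg.sigmaCore M ⊓ Subgroup.centralizer (A : Set G) = ⊥ := by
  by_contra hne
  obtain ⟨r, hrσ, hrp, hr, x, hx, hxr⟩ := h.exists_prime_element hne inf_le_left
  haveI := Fact.mk hr
  obtain ⟨g, hg, hAg⟩ := h.exists_outside
  have hbot : A ≤ Subgroup.normalizer ((⊥ : Subgroup G) : Set G) := fun s _ =>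
    Subgroup.mem_normalizer_iff.2 fun y => by rw [Subgroup.mem_bot, Subgroup.mem_bot, conj_eq_one_iff]
  obtain ⟨R, -, hR, hRM⟩ := h.exists_outside_max hrσ hg hAg (U := ⊥) bot_le IsPGroup.of_bot hbot
  obtain ⟨S, -, -, hS⟩ := exists_inv_sylow h.minSimple h.coatom h.elem h.card h.le h.not_sigma hrσ
    (U := ⊥) bot_le IsPGroup.of_bot hbot
  have hrC : r ∣ Nat.card (Subgroup.centralizer (A : Set G)) := hxr ▸ Subgroup.orderOf_dvd_natCard _ hx.2
  obtain ⟨k, hk, rfl⟩ := h.maximal.conj h.minSimple hrp hrC hS hR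
  refine hRM ?_
  rintro _ ⟨y, hy, rfl⟩
  exact M.mul_mem (M.mul_mem (h.centralizer_le hk) (Subgroup.map_subtype_le _ hy)) (M.inv_mem (h.centralizer_le hk))

/-- BG 11.2: the line acts without fixed points on every other conjugate of `M_σ` normalized by `A`. -/
theorem conj_inf_centralizer_line {g : G} (hg : g ∉ M) (hAg : A ≤ M.map (MulAut.conj g).toMonoidHom) :
    (Cfsg.sigmaCore M).map (MulAut.conj g).toMonoidHom ⊓ Subgroup.centralizer (A₀ : Set G) = ⊥ := by
  set K := (Cfsg.sigmaCore M).map (MulAut.conj g).toMonoidHom with hK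
  set C := K ⊓ Subgroup.centralizer (A₀ : Set G) with hC
  haveI := h.elem.1
  by_contra hne
  have hAK : A ≤ Subgroup.normalizer (K : Set G) :=
    hAg.trans ((Subgroup.map_mono (le_normalizer_sigmaCore M)).trans (Subgroup.le_normalizer_map _))
  have hACA : A ≤ Subgroup.centralizer (A₀ : Set G) :=
    (Subgroup.le_centralizer A).trans (Subgroup.centralizer_le h.line_le)
  have hAC : A ≤ Subgroup.normalizer (C : Set G) :=
    (le_inf hAK (hACA.trans Subgroup.le_normalizer)).trans Subgroup.inf_normalizer_le_normalizer_inf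
  have hcop : (Nat.card A).Coprime (Nat.card C) := (coprime_sigmaCore h.card h.not_sigma).coprime_dvd_right
    ((Subgroup.card_dvd_of_le inf_le_left).trans (Subgroup.card_map_dvd _ _))
  obtain ⟨r, hr, hd⟩ := Nat.exists_prime_and_dvd (n := Nat.card C) fun h1 => hne (Subgroup.card_eq_one.1 h1)
  haveI := Fact.mk hr
  have hrσ : r ∈ Cfsg.sigma M := mem_sigma_of_dvd hr
    (hd.trans ((Subgroup.card_dvd_of_le inf_le_left).trans (Subgroup.card_map_dvd _ _)))
  have hrp : r ≠ p := fun e => h.not_sigma (e ▸ hrσ)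
  obtain ⟨T, hAT⟩ := CoprimeAct.exists_invariant_sylow hAC hcop (Or.inl (Plane.isSolvable h.elem)) r
  set U := (T : Subgroup C).map C.subtype with hU
  have hUC : U ≤ C := Subgroup.map_subtype_le _
  have hUM : U ≤ M := (hUC.trans inf_le_right).trans h.centralizer_line_le
  have hUp : IsPGroup r U := T.isPGroup'.map _
  have hU1 : U ≠ ⊥ := fun hb => by
    rw [hU, Subgroup.map_eq_bot_iff_of_injective _ C.subtype_injective] at hb
    have := T.not_dvd_index
    rw [hb, Subgroup.index_bot] at this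
    exact this hd
  obtain ⟨R, hUR, hR, hRM⟩ := h.exists_outside_max hrσ hg hAg
    (hUC.trans (inf_le_left.trans (Subgroup.map_mono (sigmaCore_le M)))) hUp hAT
  obtain ⟨S, hUS, -, hS⟩ := exists_inv_sylow h.minSimple h.coatom h.elem h.card h.le h.not_sigma hrσ hUM hUp hAT
  have hA0ne : A₀ ≠ ⊥ := fun hb => by
    have := h.line_card
    rw [hb, Subgroup.card_bot] at this
    exact hp.out.ne_one this.symm
  refine hRM (h.le_of_meet hrp hS (Subgroup.map_subtype_le _) hR (fun ht => h.coatom.1 (top_le_iff.1 (ht ▸ h.centralizer_line_le))) hACA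
    (fun hb => hU1 (le_bot_iff.1 (hb ▸ le_inf (hUC.trans inf_le_right) hUS)))
    (fun hb => hU1 (le_bot_iff.1 (hb ▸ le_inf (hUC.trans inf_le_right) hUR))))

/-- The moved line acts without fixed points on `M_σ`. -/
theorem inf_centralizer_moved {g : G} (hg : g ∉ M) (hAg : A ≤ M.map (MulAut.conj g).toMonoidHom) :
    Cfsg.sigmaCore M ⊓ Subgroup.centralizer ((A₀.map (MulAut.conj g⁻¹).toMonoidHom : Subgroup G) : Set G) = ⊥ := by
  refine le_bot_iff.1 fun x hx => Subgroup.mem_bot.2 ?_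
  have h1 : g * x * g⁻¹ ∈ (Cfsg.sigmaCore M).map (MulAut.conj g).toMonoidHom ⊓ Subgroup.centralizer (A₀ : Set G) := by
    refine ⟨⟨x, hx.1, rfl⟩, Subgroup.mem_centralizer_iff.2 fun a ha => ?_⟩
    have h2 := Subgroup.mem_centralizer_iff.1 hx.2 _ ⟨a, ha, rfl⟩
    simp only [MulEquiv.coe_toMonoidHom, MulAut.conj_apply, inv_inv] at h2
    calc a * (g * x * g⁻¹) = g * (g⁻¹ * a * g * x) * g⁻¹ := by group
      _ = g * (x * (g⁻¹ * a * g)) * g⁻¹ := by rw [h2]
      _ = g * x * g⁻¹ * a := by group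
  rw [h.conj_inf_centralizer_line hg hAg, Subgroup.mem_bot, conj_eq_one_iff] at h1
  exact h1

theorem moved_le {g : G} (hAg : A ≤ M.map (MulAut.conj g).toMonoidHom) :
    A₀.map (MulAut.conj g⁻¹).toMonoidHom ≤ M :=
  (Subgroup.map_mono h.line_le).trans (conj_inv_le hAg)

/-- BG Theorem 11.3. -/
theorem isNilpotent : Group.IsNilpotent (Cfsg.sigmaCore M) := by
  obtain ⟨g, hg, hAg⟩ := h.exists_outside
  set B := A₀.map (MulAut.conj g⁻¹).toMonoidHom with hBdef
  have hB : Nat.card B = p := by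
    rw [hBdef, Subgroup.card_map_of_injective (MulAut.conj g⁻¹).injective, h.line_card]
  obtain ⟨b, hb, hb1⟩ := Plane.exists_ne_one hB
  haveI : (Cfsg.piCore (Cfsg.sigma M) M).Normal := Cfsg.piCore_normal _ _
  haveI : Group.IsNilpotent (Cfsg.piCore (Cfsg.sigma M) M) :=
    FixedPointFreeThompson.isNilpotent_of_conj (Cfsg.piCore (Cfsg.sigma M) M) hp.out ⟨b, h.moved_le hAg hb⟩
      (Subtype.ext (by
        rw [Subgroup.coe_pow, OneMemClass.coe_one]
        refine orderOf_dvd_iff_pow_eq_one.1 ?_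
        have hd := Subgroup.orderOf_dvd_natCard B hb
        rw [hB] at hd
        exact hd))
      fun x hx hc => by
        refine Subtype.ext (Subgroup.mem_bot.1 (h.inf_centralizer_moved hg hAg ▸ (⟨⟨x, hx, rfl⟩, ?_⟩ :
          (x : G) ∈ Cfsg.sigmaCore M ⊓ Subgroup.centralizer (B : Set G))))
        rw [← Plane.zpowers_eq hB hb hb1, Plane.centralizer_zpowers]
        show (x : G) ∈ Subgroup.centralizer ({b} : Set G)
        exact Subgroup.mem_centralizer_singleton_iff.2 (congrArg Subtype.val hc).symm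
  exact Group.nilpotent_of_mulEquiv ((Cfsg.piCore (Cfsg.sigma M) M).equivMapOfInjective M.subtype M.subtype_injective)

/-- For `q ∈ σ(M)` the Sylow `q`-subgroup of `M` is normal. -/
theorem exists_core {q : ℕ} [hq : Fact q.Prime] (hqσ : q ∈ Cfsg.sigma M) :
    ∃ S : Sylow q M, M ≤ Subgroup.normalizer (((S : Subgroup M).map M.subtype : Subgroup G) : Set G) ∧
      (∀ U : Subgroup G, U ≤ M → IsPGroup q U → U ≤ (S : Subgroup M).map M.subtype) ∧
      (S : Subgroup M).map M.subtype ≤ Cfsg.sigmaCore M ∧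
      (S : Subgroup M).map M.subtype ∈ Cfsg.maxInvSubgroups ⊤ A {q} := by
  obtain ⟨S, -, hAS, hS⟩ := exists_inv_sylow h.minSimple h.coatom h.elem h.card h.le h.not_sigma hqσ (U := ⊥)
    bot_le IsPGroup.of_bot (fun s _ => Subgroup.mem_normalizer_iff.2 fun y => by
      rw [Subgroup.mem_bot, Subgroup.mem_bot, conj_eq_one_iff])
  set Q := (S : Subgroup M).map M.subtype with hQ
  have hQK : Q ≤ Cfsg.sigmaCore M := le_sigmaCore h.minSimple h.coatom hqσ (S.isPGroup'.map _) (Subgroup.map_subtype_le _)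
  have hidx : ¬ q ∣ Q.relIndex (Cfsg.sigmaCore M) := fun hd => by
    refine S.not_dvd_index ?_
    have h1 : Q.relIndex M = (S : Subgroup M).index := by
      rw [hQ, Subgroup.relIndex, Subgroup.subgroupOf, Subgroup.comap_map_eq_self_of_injective M.subtype_injective]
    rw [← h1, ← Subgroup.relIndex_mul_relIndex Q (Cfsg.sigmaCore M) M hQK (sigmaCore_le M)]
    exact hd.mul_right _
  have hn : M ≤ Subgroup.normalizer (Q : Set G) := (le_normalizer_sigmaCore M).trans
    (normalizer_le_of_nilpotent h.isNilpotent hQK (S.isPGroup'.map _) hidx)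
  refine ⟨S, hn, fun U hUM hU u hu => ?_, hQK, hS⟩
  haveI : (S : Subgroup M).Normal := by
    refine ⟨fun x hx m => ?_⟩
    obtain ⟨y, hy, he⟩ := (Subgroup.mem_normalizer_iff.1 (hn m.2) (x : G)).1 ⟨x, hx, rfl⟩
    rwa [← Subtype.ext he (a1 := y) (a2 := m * x * m⁻¹)]
  obtain ⟨T, hT⟩ := (hU.comap_subtype (K := M)).exists_le_sylow
  haveI := Sylow.unique_of_normal S inferInstance
  exact ⟨⟨u, hUM hu⟩, (Subsingleton.elim T S) ▸ hT hu, rfl⟩

theorem sigmaCore_ne_bot : Cfsg.sigmaCore M ≠ ⊥ := by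
  obtain ⟨q, hq⟩ := exists_sigma h.minSimple h.coatom (fun hb => Plane.ne_bot (p := p) h.card (le_bot_iff.1 (hb ▸ h.le)))
  haveI := Fact.mk hq.1
  obtain ⟨S, -, -, hSK, -⟩ := h.exists_core hq
  intro hb
  rw [hb, le_bot_iff, Subgroup.map_eq_bot_iff_of_injective _ M.subtype_injective] at hSK
  have := S.not_dvd_index
  rw [hSK, Subgroup.index_bot] at this
  exact this hq.2.1

/-- A line fixed by an element outside `M` acts without fixed points on `M_σ`. -/
theorem inf_centralizer_fixed {g : G} (hg : g ∉ M) (hAg : A ≤ M.map (MulAut.conj g).toMonoidHom)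
    {z : G} (hz : z ∈ A) (hz1 : z ≠ 1) (hgz : g ∈ Subgroup.normalizer (Subgroup.zpowers z : Set G)) :
    Cfsg.sigmaCore M ⊓ Subgroup.centralizer ({z} : Set G) = ⊥ := by
  by_contra hne
  obtain ⟨r, hrσ, hrp, hr, x, hx, hxr⟩ := h.exists_prime_element hne inf_le_left
  haveI := Fact.mk hr
  haveI := h.elem.1
  obtain ⟨S, hn, hall, -, hS⟩ := h.exists_core hrσ
  set Q := (S : Subgroup M).map M.subtype with hQ
  have hxQ : x ∈ Q := hall (Subgroup.zpowers x) (Subgroup.zpowers_le.2 (sigmaCore_le M hx.1))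
    (IsPGroup.of_card (n := 1) (by rw [Nat.card_zpowers, hxr, pow_one])) (Subgroup.mem_zpowers x)
  set R := Q.map (MulAut.conj g).toMonoidHom with hR
  have hAR : A ≤ Subgroup.normalizer (R : Set G) :=
    hAg.trans ((Subgroup.map_mono hn).trans (Subgroup.le_normalizer_map _))
  have hRmax : R ∈ Cfsg.maxInvSubgroups ⊤ A {r} := by
    refine Inv.mem_max_iff.2 ⟨(S.isPGroup'.map _).map _, hAR, fun T hT _ hle => ?_⟩
    obtain ⟨PG, hPG⟩ := Sigma.sigma_sylow hrσ S
    have hR' : ((g • PG : Sylow r G) : Subgroup G) = R := by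
      rw [Sylow.coe_subgroup_smul, hR, hQ, ← hPG]
      rfl
    exact ((g • PG).3 hT (hR' ▸ hle)).trans hR'
  have hgxg : g * x * g⁻¹ ∈ Subgroup.centralizer ({z} : Set G) ⊓ R := by
    refine ⟨?_, ⟨x, hxQ, rfl⟩⟩
    have hz' : g⁻¹ * z * g ∈ Subgroup.zpowers z := (Subgroup.mem_normalizer_iff''.1 hgz z).1 (Subgroup.mem_zpowers z)
    have hc := Subgroup.mem_centralizer_iff.1 ((Plane.centralizer_zpowers z).ge hx.2) _ hz'
    refine Subgroup.mem_centralizer_singleton_iff.2 ?_
    calc g * x * g⁻¹ * z = g * (x * (g⁻¹ * z * g)) * g⁻¹ := by group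
      _ = g * (g⁻¹ * z * g * x) * g⁻¹ := by rw [hc]
      _ = z * (g * x * g⁻¹) := by group
  have hx1 : x ≠ 1 := fun e => hr.ne_one (by rw [← hxr, e, orderOf_one])
  refine conj_not_le h.minSimple h.coatom hrσ S hg (h.le_of_meet hrp hS (Subgroup.map_subtype_le _) hRmax
    (MinSimple.centralizer_singleton_ne_top h.minSimple hz1)
    ((Subgroup.le_centralizer A).trans (Subgroup.centralizer_le (by simpa using hz)))
    (fun hb => hx1 (Subgroup.mem_bot.1 (hb ▸ (⟨hx.2, hxQ⟩ : x ∈ Subgroup.centralizer ({z} : Set G) ⊓ Q))))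
    fun hb => hx1 ?_)
  have := Subgroup.mem_bot.1 (hb ▸ hgxg)
  rwa [conj_eq_one_iff] at this

end Exc

end Cfsg.Agent.OddOrder.Exceptional
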