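/-
Structure of exceptional maximal subgroups (BG 11.4-11.6).
-/
import Cfsg.Agent.Lib.OddOrder.Exceptional
import Cfsg.Agent.S1412
import Mathlib.GroupTheory.SchurZassenhaus

set_option autoImplicit false
set_option linter.style.haveILetI false
set_option linter.unusedSectionVars false

namespace Cfsg.Agent.OddOrder.Exceptional

open scoped commutatorElement Pointwise

universe u

variable {G : Type u} [Group G] [Finite G] {p : ℕ} [hp : Fact p.Prime]

/-- In a `p`-group of rank at least three the centralizer of a maximal elementary plane is abelian. -/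
theorem abelian_centralizer_of_pair {R : Type u} [Group R] [Finite R] (hp2 : p ≠ 2) (hR : IsPGroup p R)
    (hr : ¬ Cfsg.PRankLE p 2 R) {E : Subgroup R} (hE : Cfsg.IsElementaryAbelian p E) (hE2 : Nat.card E = p ^ 2)
    (hEmax : ∀ B : Subgroup R, Cfsg.IsElementaryAbelian p B → E ≤ B → B = E) :
    IsMulCommutative (Subgroup.centralizer (E : Set R)) := by
  obtain ⟨hET, -, -, -, hidx, -, -⟩ := NarrowBasics.structure_three hp2 hR hr hE hE2 hEmax
  haveI := NarrowBasics.omegaSecond_characteristic hp2 hR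
  set T := Subgroup.centralizer (NarrowBasics.omegaSecond hp2 hR : Set R) with hT
  haveI : T.Normal := inferInstance
  obtain ⟨e, heE, heT⟩ := SetLike.not_le_iff_exists.1 hET
  have htop : Subgroup.zpowers e ⊔ T = ⊤ := by
    have hdvd : (Subgroup.zpowers e ⊔ T).index ∣ p := hidx ▸ Subgroup.index_dvd_of_le le_sup_right
    rcases (Nat.dvd_prime hp.out).1 hdvd with h | h
    · exact Subgroup.index_eq_one.1 h
    · exfalso
      have hlt : T < Subgroup.zpowers e ⊔ T := lt_of_le_of_ne le_sup_right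
        fun he => heT (he.ge (Subgroup.mem_sup_left (Subgroup.mem_zpowers e)))
      have := Subgroup.index_strictAnti hlt
      rw [h, hidx] at this
      exact lt_irrefl p this
  set C := Subgroup.centralizer (E : Set R) with hC
  haveI := hE.1
  have hEC : E ≤ C := Subgroup.le_centralizer E
  have hodd : Odd (Nat.card (C ⊓ T : Subgroup R)) := by
    obtain ⟨k, hk⟩ := IsPGroup.iff_card.1 (hR.to_subgroup (C ⊓ T))
    rw [hk]; exact (hp.out.odd_of_ne_two hp2).pow
  haveI : IsCyclic (C ⊓ T : Subgroup R) := by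
    refine CyclicSylow.isCyclic_of_isPGroup hodd (hR.to_subgroup _) ?_
    intro B hB hBp
    rw [pow_one, ← Subgroup.card_map_of_injective (K := B) (C ⊓ T).subtype_injective]
    have hle : B.map (C ⊓ T).subtype ≤ E ⊓ T := by
      rintro _ ⟨b, hb, rfl⟩
      exact ⟨NarrowBasics.mem_of_commute hE hEmax b.2.1 (congrArg Subtype.val (hBp b hb)), b.2.2⟩
    refine (Subgroup.card_le_of_le hle).trans ?_
    obtain ⟨i, hi, hEi⟩ := (Nat.dvd_prime_pow hp.out).1
      (hE2 ▸ Subgroup.card_dvd_of_le (inf_le_left : E ⊓ T ≤ E))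
    have hi2 : i ≠ 2 := by
      rintro rfl
      exact heT ((inf_eq_left.1 (Subgroup.eq_of_le_of_card_ge inf_le_left (by rw [hEi, hE2]))) heE)
    rw [hEi]
    exact (Nat.pow_le_pow_right hp.out.pos (by omega : i ≤ 1)).trans (pow_one p).le
  refine .of_setLike_mul_comm ?_
  have hdec : ∀ x ∈ C, ∃ i : ℤ, ∃ t : (C ⊓ T : Subgroup R), x = e ^ i * t := by
    intro x hx
    have hm : x ∈ Subgroup.zpowers e ⊔ T := htop ▸ Subgroup.mem_top x
    rw [← SetLike.mem_coe, Subgroup.mul_normal] at hm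
    obtain ⟨_, ⟨i, rfl⟩, t, ht, rfl⟩ := hm
    refine ⟨i, ⟨t, ?_, ht⟩, rfl⟩
    have := C.mul_mem (C.inv_mem (C.zpow_mem (hEC heE) i)) hx
    simpa using this
  intro a ha b hb
  obtain ⟨i, s, rfl⟩ := hdec a ha
  obtain ⟨j, t, rfl⟩ := hdec b hb
  have hce : ∀ u : (C ⊓ T : Subgroup R), ∀ n : ℤ, Commute (e ^ n) (u : R) := fun u n =>
    (show Commute e (u : R) from Subgroup.mem_centralizer_iff.1 u.2.1 e heE).zpow_left n
  have hst : Commute (s : R) (t : R) := by
    haveI : IsMulCommutative (C ⊓ T : Subgroup R) := IsCyclic.commutative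
    exact congrArg Subtype.val (mul_comm' s t)
  exact ((((Commute.refl e).zpow_zpow i j).mul_right (hce t i)).mul_left
    (((hce s j).symm).mul_right hst)).eq

namespace Exc

variable {M A A₀ : Subgroup G} (h : Exc p M A A₀)
include h

/-- A Sylow `p`-subgroup of `M` containing `A` centralizes `A`, and `A` consists of its elements of order
dividing `p`. -/
theorem sylow_central (P : Sylow p M) (hP : A ≤ (P : Subgroup M).map M.subtype) :
    (P : Subgroup M).map M.subtype ≤ Subgroup.centralizer (A : Set G) ∧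
      ∀ x ∈ (P : Subgroup M).map M.subtype, x ^ p = 1 → x ∈ A := by
  set Pm := (P : Subgroup M).map M.subtype with hPm
  have hPp : IsPGroup p Pm := P.isPGroup'.map _
  have hPM : Pm ≤ M := Subgroup.map_subtype_le _
  haveI := h.elem.1
  have hmax := h.maximal
  suffices hc : Pm ≤ Subgroup.centralizer (A : Set G) from
    ⟨hc, fun x hx hxp => hmax.mem_of_commute (hc hx) hxp⟩
  by_contra hnc
  set N := Pm ⊓ Subgroup.normalizer (A : Set G) with hN
  obtain ⟨u, huN, huC⟩ : ∃ u ∈ N, u ∉ Subgroup.centralizer (A : Set G) := by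
    refine SetLike.not_le_iff_exists.1 fun hle => hnc ?_
    have heq : N = Pm := by
      refine eq_of_le_of_not_lt inf_le_left fun hlt => ?_
      obtain ⟨g, hg, hgN, hgn⟩ := LocalFactor.exists_normalizing hPp hlt
      refine hgn ⟨hg, ComplAbelian.mem_normalizer_of_map_le fun a ha => ?_⟩
      have haN : a ∈ N := ⟨hP ha, Subgroup.le_normalizer ha⟩
      refine hmax.mem_of_commute (hle ((Subgroup.mem_normalizer_iff.1 hgN a).1 haN)) ?_
      rw [conj_pow, h.elem.2 a ha, mul_one, mul_inv_cancel]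
    exact heq ▸ hle
  have hAne : A ≠ ⊥ := Plane.ne_bot (p := p) h.card
  haveI : Nontrivial Pm := by
    obtain ⟨a, ha, ha1⟩ := (Subgroup.ne_bot_iff_exists_ne_one.1 hAne : ∃ a : A, a ≠ 1) |>.elim
      (fun a ha => (⟨(a : G), a.2, fun e => ha (Subtype.ext e)⟩ : ∃ a : G, a ∈ A ∧ a ≠ 1))
    exact ⟨⟨a, hP ha⟩, 1, fun e => ha1 (congrArg Subtype.val e)⟩
  haveI := hPp.center_nontrivial
  obtain ⟨m, hm, hm'⟩ := (hPp.to_subgroup (Subgroup.center Pm)).nontrivial_iff_card.1 inferInstance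
  obtain ⟨z₀, hz₀⟩ := exists_prime_orderOf_dvd_card' (G := ↥(Subgroup.center Pm)) p (hm' ▸ dvd_pow_self p hm.ne')
  rw [← Subgroup.orderOf_coe, ← Subgroup.orderOf_coe] at hz₀
  set w : G := ((z₀ : Pm) : G) with hw
  have hwcen : ∀ x ∈ Pm, Commute w x := fun x hx =>
    (congrArg Subtype.val (Subgroup.mem_center_iff.1 z₀.2 ⟨x, hx⟩)).symm
  have hwA : w ∈ A := hmax.mem_of_commute
    (Subgroup.mem_centralizer_iff.2 fun a ha => (hwcen a (hP ha)).symm.eq) (hz₀ ▸ pow_orderOf_eq_one w)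
  have hw1 : w ≠ 1 := fun e => hp.out.ne_one (by rw [← hz₀, e, orderOf_one])
  set Z := Subgroup.zpowers w with hZ
  have hZc : Nat.card Z = p := Plane.zpowers_card h.elem hwA hw1
  have hZA : Z ≤ A := Subgroup.zpowers_le.2 hwA
  have hAu : A ⊓ Subgroup.centralizer ({u} : Set G) = Z := by
    refine (Subgroup.eq_of_le_of_card_ge (le_inf hZA (Subgroup.zpowers_le.2
      (Subgroup.mem_centralizer_singleton_iff.2 (hwcen u huN.1).eq))) ?_).symm
    obtain ⟨i, hi, hc⟩ := (Nat.dvd_prime_pow hp.out).1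
      (h.card ▸ Subgroup.card_dvd_of_le (inf_le_left : A ⊓ Subgroup.centralizer ({u} : Set G) ≤ A))
    have hi2 : i ≠ 2 := by
      rintro rfl
      have he := Subgroup.eq_of_le_of_card_ge (inf_le_left : A ⊓ Subgroup.centralizer ({u} : Set G) ≤ A)
        (by rw [hc, h.card])
      exact huC (Subgroup.mem_centralizer_iff.2 fun a ha =>
        Subgroup.mem_centralizer_singleton_iff.1 ((inf_eq_left.1 he) ha))
    rw [hc, hZc]
    exact (Nat.pow_le_pow_right hp.out.pos (by omega : i ≤ 1)).trans (pow_one p).le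
  have hZcen : ∀ c ∈ Pm, (∀ x ∈ Pm, Commute c x) → c ^ p = 1 → c ∈ Z := fun c _ hcc hcp => hAu ▸
    ⟨hmax.mem_of_commute (Subgroup.mem_centralizer_iff.2 fun a ha => (hcc a (hP ha)).symm.eq) hcp,
      Subgroup.mem_centralizer_singleton_iff.2 (hcc u huN.1).eq⟩
  have hZN : Subgroup.normalizer (Pm : Set G) ≤ Subgroup.normalizer (Z : Set G) := by
    intro g hg
    have hgw : g * w * g⁻¹ ∈ Z := by
      refine hZcen _ ((Subgroup.mem_normalizer_iff.1 hg w).1 (hP hwA)) (fun x hx => ?_)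
        (by
          have hwp : w ^ p = 1 := hz₀ ▸ pow_orderOf_eq_one w
          rw [conj_pow, hwp, mul_one, mul_inv_cancel])
      have := (hwcen _ ((Subgroup.mem_normalizer_iff''.1 hg x).1 hx)).map (MulAut.conj g).toMonoidHom
      simpa [mul_assoc] using this
    refine ComplAbelian.mem_normalizer_of_map_le ?_
    rintro _ ⟨i, rfl⟩
    rw [← conj_zpow]
    exact Z.zpow_mem hgw i
  obtain ⟨g, hgN, hgM⟩ := h.normalizer_sylow_not_le P
  have hAg := h.le_conj_of_normalizer hP hgN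
  have hZfix := h.inf_centralizer_fixed hgM hAg hwA hw1 (hZN hgN)
  have hA0Z : A₀ ≠ Z := fun e => hgM (h.normalizer_le (e ▸ hZN hgN))
  have hNp : IsPGroup p N := hPp.to_le inf_le_left
  have hAN : A ≤ N := le_inf hP Subgroup.le_normalizer
  haveI : Group.IsNilpotent N := hNp.isNilpotent
  set D := ⁅A, N⁆ with hD
  have hDA : D ≤ A := Subgroup.le_normalizer_iff_commutator_le_left.1 inf_le_right
  have hDlt : D ≠ A := fun e => hAne (AxB.eq_bot_of_commutator_eq hAN le_rfl e)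
  have hDu : ∀ d ∈ D, d ∈ Z := by
    rcases eq_or_ne D ⊥ with hb | hb
    · intro d hd; rw [hb, Subgroup.mem_bot] at hd; rw [hd]; exact one_mem _
    have hDN : N ≤ Subgroup.normalizer (D : Set G) := Subgroup.normalizer_commutator_ge_right A N
    have hDD : ⁅D, N⁆ ≤ D := Subgroup.le_normalizer_iff_commutator_le_left.1 hDN
    obtain ⟨i, hi, hc⟩ := (Nat.dvd_prime_pow hp.out).1 (h.card ▸ Subgroup.card_dvd_of_le hDA)
    have hi2 : i ≠ 2 := by
      rintro rfl
      exact hDlt (Subgroup.eq_of_le_of_card_ge hDA (by rw [hc, h.card]))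
    have hi0 : i ≠ 0 := by
      rintro rfl
      exact hb (Subgroup.card_eq_one.1 (by rw [hc, pow_zero]))
    have hDc : Nat.card D = p := by rw [hc, show i = 1 by omega, pow_one]
    have hbot : ⁅D, N⁆ = ⊥ := by
      rcases (Nat.dvd_prime hp.out).1 (hDc ▸ Subgroup.card_dvd_of_le hDD) with h1 | h1
      · exact Subgroup.card_eq_one.1 h1
      · exact absurd (AxB.eq_bot_of_commutator_eq (hDA.trans hAN) le_rfl
          (Subgroup.eq_of_le_of_card_ge hDD (by rw [h1, hDc]))) hb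
    intro d hd
    rw [← hAu]
    exact ⟨hDA hd, Subgroup.mem_centralizer_singleton_iff.2
      (Subgroup.mem_centralizer_iff.1 ((Subgroup.commutator_eq_bot_iff_le_centralizer.1 hbot) hd) u huN).symm⟩
  have hsup : Z ⊔ A₀ = A := by
    refine Subgroup.eq_of_le_of_card_ge (sup_le hZA h.line_le) ?_
    obtain ⟨i, hi, hc⟩ := (Nat.dvd_prime_pow hp.out).1 (h.card ▸ Subgroup.card_dvd_of_le (sup_le hZA h.line_le))
    have : i = 2 := by
      by_contra hne
      have hle : Nat.card (Z ⊔ A₀ : Subgroup G) ≤ p := by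
        rw [hc]; exact (Nat.pow_le_pow_right hp.out.pos (by omega : i ≤ 1)).trans (pow_one p).le
      have e1 := Subgroup.eq_of_le_of_card_ge (le_sup_left : Z ≤ Z ⊔ A₀) (hle.trans hZc.ge)
      have e2 := Subgroup.eq_of_le_of_card_ge (le_sup_right : A₀ ≤ Z ⊔ A₀) (hle.trans h.line_card.ge)
      exact hA0Z (e2.trans e1.symm)
    rw [hc, this, h.card]
  have hlines : ∀ a ∈ A, a ∉ Z → ∃ b ∈ A₀, b ≠ 1 ∧ ∃ i : ℤ, a = u ^ i * b * (u ^ i)⁻¹ := by
    intro a ha haZ
    have hm : a ∈ Z ⊔ A₀ := hsup.symm ▸ ha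
    obtain ⟨c, hc, b, hb, rfl⟩ := (SolvBasic.mem_sup_iff_of_le_normalizer
      (h.line_le.trans ((Subgroup.le_centralizer A).trans ((Subgroup.centralizer_le hZA).trans
        (Subgroup.centralizer_le_normalizer _))))).1 hm
    have hb1 : b ≠ 1 := fun e => haZ (by rw [e, mul_one]; exact hc)
    have hbZ : b ∉ Z := fun hbz => hA0Z
      ((Plane.zpowers_eq h.line_card hb hb1).symm.trans (Plane.zpowers_eq hZc hbz hb1))
    set d := ⁅b, u⁆ with hd
    have hdZ : d ∈ Z := hDu d (Subgroup.commutator_mem_commutator (h.line_le hb) huN)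
    have hd1 : d ≠ 1 := fun e => hbZ (hAu ▸ ⟨h.line_le hb,
      Subgroup.mem_centralizer_singleton_iff.2 (commutatorElement_eq_one_iff_mul_comm.1 e)⟩)
    obtain ⟨i, hi⟩ := Subgroup.mem_zpowers_iff.1 ((Plane.zpowers_eq hZc hdZ hd1).symm ▸ inv_mem hc : c⁻¹ ∈ Subgroup.zpowers d)
    have hdu : Commute d u := by
      obtain ⟨j, hj⟩ := hdZ
      rw [← hj]
      exact (hwcen u huN.1).zpow_left j
    have hdb : Commute d b := congrArg Subtype.val (mul_comm' (⟨d, hZA hdZ⟩ : A) ⟨b, h.line_le hb⟩)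
    have hconj : u * b * u⁻¹ = d⁻¹ * b := by
      rw [hd, commutatorElement_def]; group
    have key : ∀ n : ℕ, u ^ n * b * (u ^ n)⁻¹ = (d⁻¹) ^ n * b := by
      intro n
      induction n with
      | zero => simp
      | succ n ih =>
        calc u ^ (n + 1) * b * (u ^ (n + 1))⁻¹ = u * (u ^ n * b * (u ^ n)⁻¹) * u⁻¹ := by rw [pow_succ']; group
          _ = u * ((d⁻¹) ^ n * b) * u⁻¹ := by rw [ih]
          _ = (d⁻¹) ^ n * (u * b * u⁻¹) := by
            rw [← mul_assoc u, ← ((hdu.inv_left).pow_left n).eq]; group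
          _ = (d⁻¹) ^ (n + 1) * b := by rw [hconj, ← mul_assoc, ← pow_succ]
    obtain ⟨k, hk⟩ : ∃ k : ℕ, (d⁻¹) ^ k = c := by
      have : c ∈ Subgroup.zpowers d⁻¹ := by
        rw [Subgroup.zpowers_inv]
        exact ⟨-i, by show d ^ (-i) = c; rw [zpow_neg, hi, inv_inv]⟩
      exact (mem_powers_iff_mem_zpowers.2 this)
    exact ⟨b, hb, hb1, k, by rw [zpow_natCast, key, hk]⟩
  -- the conjugate plane
  set A' := A.map (MulAut.conj g⁻¹).toMonoidHom with hA'
  have hA'e : Cfsg.IsElementaryAbelian p A' := by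
    refine ⟨inferInstance, ?_⟩
    rintro _ ⟨a, ha, rfl⟩
    rw [← map_pow, h.elem.2 a ha, map_one]
  have hA'c : Nat.card A' = p ^ 2 := by
    rw [hA', Subgroup.card_map_of_injective (MulAut.conj g⁻¹).injective, h.card]
  have hA'P : A' ≤ Pm := by
    rintro _ ⟨a, ha, rfl⟩
    exact (Subgroup.mem_normalizer_iff.1 (inv_mem hgN) a).1 (hP ha)
  have hmoved := h.inf_centralizer_moved hgM hAg
  refine h.sigmaCore_ne_bot (le_bot_iff.1 (Plane.le_of_fixed hA'e hA'c
    ((hA'P.trans hPM).trans (le_normalizer_sigmaCore M)) (coprime_sigmaCore hA'c h.not_sigma) fun a ha ha1 => ?_))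
  obtain ⟨a, haA, rfl⟩ := ha
  simp only [MulEquiv.coe_toMonoidHom, MulAut.conj_apply, inv_inv] at ha1 ⊢
  by_cases haZ : a ∈ Z
  · have hmem : g⁻¹ * a * g ∈ Z := (Subgroup.mem_normalizer_iff''.1 (hZN hgN) a).1 haZ
    rw [← Plane.centralizer_zpowers, Plane.zpowers_eq hZc hmem ha1, hZ, Plane.centralizer_zpowers, hZfix]
  · obtain ⟨b, hb, hb1, i, hab⟩ := hlines a haA haZ
    have hv : g⁻¹ * u ^ i * g ∈ M := hPM ((Subgroup.mem_normalizer_iff''.1 hgN _).1 (Pm.zpow_mem huN.1 i))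
    set v := g⁻¹ * u ^ i * g with hvdef
    intro x hx
    have hx' : v⁻¹ * x * v ∈ Cfsg.sigmaCore M :=
      (Subgroup.mem_normalizer_iff''.1 (le_normalizer_sigmaCore M hv) x).1 hx.1
    have hcb : v⁻¹ * x * v ∈ Subgroup.centralizer ((A₀.map (MulAut.conj g⁻¹).toMonoidHom : Subgroup G) : Set G) := by
      have hbg : g⁻¹ * b * g ∈ A₀.map (MulAut.conj g⁻¹).toMonoidHom := ⟨b, hb, by simp⟩
      have hbc : Nat.card (A₀.map (MulAut.conj g⁻¹).toMonoidHom) = p := by
        rw [Subgroup.card_map_of_injective (MulAut.conj g⁻¹).injective, h.line_card]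
      rw [← Plane.zpowers_eq hbc hbg (fun e => hb1 (by
        have := congrArg (fun y => g * y * g⁻¹) e
        simpa [mul_assoc] using this)), Plane.centralizer_zpowers]
      refine Subgroup.mem_centralizer_singleton_iff.2 ?_
      have hxc := Subgroup.mem_centralizer_singleton_iff.1 hx.2
      have e1 : g⁻¹ * a * g = v * (g⁻¹ * b * g) * v⁻¹ := by rw [hab, hvdef]; group
      rw [e1] at hxc
      calc v⁻¹ * x * v * (g⁻¹ * b * g) = v⁻¹ * (x * (v * (g⁻¹ * b * g) * v⁻¹)) * v := by group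
        _ = v⁻¹ * (v * (g⁻¹ * b * g) * v⁻¹ * x) * v := by rw [hxc]
        _ = g⁻¹ * b * g * (v⁻¹ * x * v) := by group
    have hx1 : v⁻¹ * x * v = 1 := Subgroup.mem_bot.1 (hmoved ▸ ⟨hx', hcb⟩)
    rw [Subgroup.mem_bot]
    calc x = v * (v⁻¹ * x * v) * v⁻¹ := by group
      _ = 1 := by rw [hx1]; group

theorem normalizer_not_le : ∃ y ∈ Subgroup.normalizer (A : Set G), y ∉ M := by
  obtain ⟨P, hP⟩ := h.exists_sylow
  obtain ⟨g, hg, hgM⟩ := h.normalizer_sylow_not_le P
  refine ⟨g, ComplAbelian.mem_normalizer_of_map_le fun a ha => ?_, hgM⟩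
  exact (h.sylow_central P hP).2 _ ((Subgroup.mem_normalizer_iff.1 hg a).1 (hP ha))
    (by rw [conj_pow, h.elem.2 a ha, mul_one, mul_inv_cancel])

/-- Two lines of `A` act on `M_σ` without fixed points. -/
theorem exists_fpf_pair : ∃ B₁ B₂ : Subgroup G, B₁ ⊔ B₂ = A ∧ Nat.card B₁ = p ∧ Nat.card B₂ = p ∧
    Cfsg.sigmaCore M ⊓ Subgroup.centralizer (B₁ : Set G) = ⊥ ∧
    Cfsg.sigmaCore M ⊓ Subgroup.centralizer (B₂ : Set G) = ⊥ := by
  obtain ⟨y, hy, hyM⟩ := h.normalizer_not_le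
  have hle : ∀ g ∈ Subgroup.normalizer (A : Set G), A ≤ M.map (MulAut.conj g).toMonoidHom := fun g hg a ha => by
    obtain ⟨b, hb, he⟩ := (Subgroup.mem_normalizer_iff_map_conj_eq.1 hg).ge ha
    exact ⟨b, h.le hb, he⟩
  have hm1 := h.inf_centralizer_moved hyM (hle y hy)
  have hm2 := h.inf_centralizer_moved (g := y⁻¹) (fun e => hyM (by simpa using M.inv_mem e)) (hle _ (inv_mem hy))
  rw [inv_inv] at hm2
  set B₁ := A₀.map (MulAut.conj y⁻¹).toMonoidHom with hB1
  set B₂ := A₀.map (MulAut.conj y).toMonoidHom with hB2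
  have hc1 : Nat.card B₁ = p := by rw [hB1, Subgroup.card_map_of_injective (MulAut.conj y⁻¹).injective, h.line_card]
  have hc2 : Nat.card B₂ = p := by rw [hB2, Subgroup.card_map_of_injective (MulAut.conj y).injective, h.line_card]
  have hl : ∀ g ∈ Subgroup.normalizer (A : Set G), A₀.map (MulAut.conj g).toMonoidHom ≤ A := fun g hg =>
    (Subgroup.map_mono h.line_le).trans (Subgroup.mem_normalizer_iff_map_conj_eq.1 hg).le
  have hne : B₁ ≠ B₂ := fun e => by
    have h2 : A₀.map (MulAut.conj (y * y)).toMonoidHom = A₀ := by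
      rw [← Sigma.map_conj_map, ← hB2, ← e, hB1, map_conj_inv]
    have hyy : y * y ∈ M := h.normalizer_le (Subgroup.mem_normalizer_iff_map_conj_eq.2 h2)
    obtain ⟨k, hk⟩ : Odd (orderOf y) := h.minSimple.1.of_dvd_nat (orderOf_dvd_natCard y)
    refine hyM ?_
    have : y = (y * y) ^ (k + 1) := by
      rw [← pow_two, ← pow_mul, show 2 * (k + 1) = orderOf y + 1 by omega, pow_succ, pow_orderOf_eq_one, one_mul]
    rw [this]
    exact M.pow_mem hyy _
  refine ⟨B₁, B₂, ?_, hc1, hc2, hm1, hm2⟩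
  have hsle : B₁ ⊔ B₂ ≤ A := sup_le (hl _ (inv_mem hy)) (hl _ hy)
  refine Subgroup.eq_of_le_of_card_ge hsle ?_
  obtain ⟨i, hi, hc⟩ := (Nat.dvd_prime_pow hp.out).1 (h.card ▸ Subgroup.card_dvd_of_le hsle)
  have : i = 2 := by
    by_contra hi2
    have hle' : Nat.card (B₁ ⊔ B₂ : Subgroup G) ≤ p := by
      rw [hc]; exact (Nat.pow_le_pow_right hp.out.pos (by omega : i ≤ 1)).trans (pow_one p).le
    have e1 := Subgroup.eq_of_le_of_card_ge (le_sup_left : B₁ ≤ B₁ ⊔ B₂) (hle'.trans hc1.ge)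
    have e2 := Subgroup.eq_of_le_of_card_ge (le_sup_right : B₂ ≤ B₁ ⊔ B₂) (hle'.trans hc2.ge)
    exact hne (e1.trans e2.symm)
  rw [hc, this, h.card]

end Exc

end Cfsg.Agent.OddOrder.Exceptional
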