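/-
Exceptional maximal subgroups: the plane is normal in a complement to M_σ (BG 11.4-11.6).
-/
import Cfsg.Agent.Lib.OddOrder.ExceptionalStruct

set_option autoImplicit false
set_option linter.style.haveILetI false
set_option linter.unusedSectionVars false

namespace Cfsg.Agent.OddOrder.Exceptional

open scoped commutatorElement Pointwise

universe u

variable {G : Type u} [Group G] [Finite G] {p : ℕ} [hp : Fact p.Prime]

section General

variable {r : ℕ} [hr : Fact r.Prime]

/-- In a cyclic `r`-group two nontrivial subgroups meet. -/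
theorem inf_ne_bot_of_cyclic {R X Y : Subgroup G} (hc : IsCyclic R) (hR : IsPGroup r R) (hX : X ≤ R) (hY : Y ≤ R)
    (hX1 : X ≠ ⊥) (hY1 : Y ≠ ⊥) : X ⊓ Y ≠ ⊥ := by
  have key : ∀ Z : Subgroup G, Z ≤ R → Z ≠ ⊥ → ∃ z ∈ Z, orderOf z = r := by
    intro Z hZ hZ1
    haveI : Nontrivial Z := (Subgroup.nontrivial_iff_ne_bot Z).2 hZ1
    obtain ⟨n, hn, hn'⟩ := (hR.to_le hZ).nontrivial_iff_card.1 inferInstance
    obtain ⟨z, hz⟩ := exists_prime_orderOf_dvd_card' (G := ↥Z) r (hn' ▸ dvd_pow_self r hn.ne')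
    exact ⟨z, z.2, by rw [Subgroup.orderOf_coe, hz]⟩
  obtain ⟨x, hx, hxr⟩ := key X hX hX1
  obtain ⟨y, hy, hyr⟩ := key Y hY hY1
  haveI := hc
  intro hb
  have hcard : ∀ z : R, orderOf z = r → ∀ w : R, orderOf w = r → Subgroup.zpowers z = Subgroup.zpowers w := by
    intro z hz w hw
    classical
    letI := Fintype.ofFinite R
    have hs := IsCyclic.card_pow_eq_one_le (α := R) hr.out.pos
    have hsub : ∀ v : R, orderOf v = r → (Subgroup.zpowers v : Set R) = {a : R | a ^ r = 1} := by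
      intro v hv
      refine Set.eq_of_subset_of_ncard_le ?_ ?_ (Set.toFinite _)
      · rintro _ ⟨i, rfl⟩
        show (v ^ i) ^ r = 1
        rw [← zpow_natCast, ← zpow_mul, mul_comm, zpow_mul, zpow_natCast, ← hv, pow_orderOf_eq_one, one_zpow]
      · rw [← Nat.card_coe_set_eq (Subgroup.zpowers v : Set R)]
        change _ ≤ Nat.card (Subgroup.zpowers v)
        rw [Nat.card_zpowers, hv, Set.ncard_eq_toFinset_card', Set.toFinset_ofFinset]
        exact hs
    exact SetLike.coe_injective ((hsub z hz).trans (hsub w hw).symm)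
  have h1 := hcard ⟨x, hX hx⟩ (by rw [Subgroup.orderOf_mk, hxr]) ⟨y, hY hy⟩ (by rw [Subgroup.orderOf_mk, hyr])
  obtain ⟨i, hi⟩ := (h1 ▸ Subgroup.mem_zpowers (⟨x, hX hx⟩ : R) : (⟨x, hX hx⟩ : R) ∈ Subgroup.zpowers ⟨y, hY hy⟩)
  have hxy : x = y ^ i := (congrArg Subtype.val hi).symm
  have : x ∈ X ⊓ Y := ⟨hx, hxy ▸ Y.zpow_mem hy i⟩
  rw [hb, Subgroup.mem_bot] at this
  rw [this, orderOf_one] at hxr
  exact hr.out.ne_one hxr.symm

theorem not_dvd_complement (hG : Cfsg.IsMinSimpleOddOrder G) {M E : Subgroup G} (hM : IsCoatom M)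
    (hE : Cfsg.IsComplIn E (Cfsg.sigmaCore M) M) {q : ℕ} (hq : q.Prime) (hd : q ∣ Nat.card E) :
    q ∉ Cfsg.sigma M := fun hσ =>
  (Sigma.hall hG hM (π := Cfsg.sigma M)
    (fun a ha => by haveI := Fact.mk ha.1; exact Sigma.alpha_subset_sigma hG hM ha) subset_rfl).1.2.2 q hq hσ
    ((Compl.relIndex_right hE).symm ▸ hd : q ∣ (Cfsg.sigmaCore M).relIndex M)

theorem exists_complement (hG : Cfsg.IsMinSimpleOddOrder G) {M : Subgroup G} (hM : IsCoatom M) :
    ∃ E : Subgroup G, Cfsg.IsComplIn E (Cfsg.sigmaCore M) M := by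
  set K := Cfsg.piCore (Cfsg.sigma M) M with hK
  haveI : K.Normal := Cfsg.piCore_normal _ _
  have hcop : (Nat.card K).Coprime K.index := Nat.coprime_of_dvd fun q hq hqK hqi => by
    refine (Sigma.hall hG hM (π := Cfsg.sigma M)
      (fun a ha => by haveI := Fact.mk ha.1; exact Sigma.alpha_subset_sigma hG hM ha) subset_rfl).1.2.2 q hq
      (MinSimple.isPi_piCore _ _ q hq hqK) ?_
    rwa [Cfsg.piCoreOf, Subgroup.relIndex, Subgroup.subgroupOf,
      Subgroup.comap_map_eq_self_of_injective M.subtype_injective]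
  obtain ⟨H, hH⟩ := Subgroup.exists_left_complement'_of_coprime hcop
  refine ⟨H.map M.subtype, Subgroup.map_subtype_le _, sigmaCore_le M, ?_, fun m hm => ?_⟩
  · rw [Cfsg.sigmaCore, ← Subgroup.map_inf_eq _ _ _ M.subtype_injective, ← hK,
      hH.disjoint.eq_bot, Subgroup.map_bot]
  · obtain ⟨⟨⟨a, ha⟩, ⟨b, hb⟩⟩, hab, -⟩ := hH.existsUnique (⟨m, hm⟩ : M)
    exact ⟨a, ⟨a, ha, rfl⟩, b, ⟨b, hb, rfl⟩, (congrArg Subtype.val hab).symm⟩

theorem map_complement {M E : Subgroup G} (hE : Cfsg.IsComplIn E (Cfsg.sigmaCore M) M) {m : G} (hm : m ∈ M) :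
    Cfsg.IsComplIn (E.map (MulAut.conj m).toMonoidHom) (Cfsg.sigmaCore M) M := by
  have hMm : ∀ x ∈ M, m * x * m⁻¹ ∈ M := fun x hx => M.mul_mem (M.mul_mem hm hx) (M.inv_mem hm)
  have hn := Subgroup.mem_normalizer_iff.1 (le_normalizer_sigmaCore M hm)
  refine ⟨?_, hE.2.1, le_bot_iff.1 ?_, fun x hx => ?_⟩
  · rintro _ ⟨e, he, rfl⟩
    exact hMm e (hE.1 he)
  · rintro _ ⟨⟨e, he, rfl⟩, hk⟩
    have : e ∈ E ⊓ Cfsg.sigmaCore M := ⟨he, (hn e).2 hk⟩
    rw [hE.2.2.1, Subgroup.mem_bot] at this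
    simp [this]
  · have hx' : m⁻¹ * x * m ∈ M := M.mul_mem (M.mul_mem (M.inv_mem hm) hx) hm
    obtain ⟨a, ha, b, hb, hab⟩ := hE.2.2.2 _ hx'
    refine ⟨m * a * m⁻¹, ⟨a, ha, rfl⟩, m * b * m⁻¹, (hn b).1 hb, ?_⟩
    calc x = m * (m⁻¹ * x * m) * m⁻¹ := by group
      _ = m * a * m⁻¹ * (m * b * m⁻¹) := by rw [hab]; group

/-- A complement to `M_σ` may be chosen to contain a given `p`-subgroup, `p ∉ σ(M)`. -/
theorem exists_complement_ge (hG : Cfsg.IsMinSimpleOddOrder G) {M X : Subgroup G} (hM : IsCoatom M)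
    (hX : IsPGroup p X) (hXM : X ≤ M) (hp' : p ∉ Cfsg.sigma M) :
    ∃ E : Subgroup G, Cfsg.IsComplIn E (Cfsg.sigmaCore M) M ∧ X ≤ E := by
  obtain ⟨E, hE⟩ := exists_complement hG hM
  obtain ⟨T⟩ : Nonempty (Sylow p E) := inferInstance
  set Tm := (T : Subgroup E).map E.subtype with hTm
  have hTM : Tm ≤ M := (Subgroup.map_subtype_le _).trans hE.1
  obtain ⟨S, hS⟩ := ((T.isPGroup'.map E.subtype).comap_subtype (K := M)).exists_le_sylow
  have hTS : Tm ≤ (S : Subgroup M).map M.subtype := fun x hx => ⟨⟨x, hTM hx⟩, hS hx, rfl⟩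
  have heq : Tm = (S : Subgroup M).map M.subtype := by
    refine Subgroup.eq_of_le_of_card_ge hTS ?_
    rw [Subgroup.card_map_of_injective E.subtype_injective, Subgroup.card_map_of_injective M.subtype_injective,
      S.card_eq_multiplicity, T.card_eq_multiplicity, Compl.card_eq hE,
      Nat.factorization_mul Nat.card_pos.ne' Nat.card_pos.ne', Finsupp.coe_add, Pi.add_apply,
      Nat.factorization_eq_zero_of_not_dvd fun h => hp' (mem_sigma_of_dvd hp.out h), add_zero]
  obtain ⟨S', hS'⟩ := (hX.comap_subtype (K := M)).exists_le_sylow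
  obtain ⟨m, hm, hmS⟩ := Sigma.exists_sylow_conj S S'
  refine ⟨E.map (MulAut.conj m).toMonoidHom, map_complement hE hm, fun x hx => ?_⟩
  obtain ⟨y, hy, rfl⟩ := hmS.le ⟨⟨x, hXM hx⟩, hS' hx, rfl⟩
  exact ⟨y, Subgroup.map_subtype_le _ (heq.ge hy), rfl⟩

end General

namespace Exc

variable {M A A₀ : Subgroup G} (h : Exc p M A A₀)
include h

/-- Invariant `r`-subgroups of `M` for primes outside `σ(M)` are centralized. -/
theorem centralizes {r : ℕ} [hr : Fact r.Prime] (hrp : r ≠ p) (hrσ : r ∉ Cfsg.sigma M) {R : Subgroup G}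
    (hR : IsPGroup r R) (hRM : R ≤ M) (hAR : A ≤ Subgroup.normalizer (R : Set G)) :
    A ≤ Subgroup.centralizer (R : Set G) := by
  rcases eq_or_ne R ⊥ with rfl | hR1
  · exact fun a _ => Subgroup.mem_centralizer_iff.2 fun d hd => by rw [Subgroup.mem_bot.1 hd, one_mul, mul_one]
  have hrM : r ∣ Nat.card M := by
    haveI : Nontrivial R := (Subgroup.nontrivial_iff_ne_bot R).2 hR1
    obtain ⟨n, hn, hn'⟩ := hR.nontrivial_iff_card.1 inferInstance
    exact (hn' ▸ dvd_pow_self r hn.ne').trans (Subgroup.card_dvd_of_le hRM)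
  have hG := h.minSimple
  have hr2 : r ≠ 2 := Uniq.ne_two_of_dvd hG (hrM.trans M.card_subgroup_dvd_card)
  have hrβ : r ∉ Cfsg.beta M := fun hb => hrσ (BetaCore.beta_subset_sigma hG h.coatom hb)
  obtain ⟨hidxr, -⟩ := BetaCore.structure_notBeta hG h.coatom hrM hrβ
  obtain ⟨hidxp, -⟩ := BetaCore.structure_notBeta hG h.coatom h.dvd_card (h.maximal.not_beta M)
  have hsA := Or.inl (b := Group.IsSolvable R) (Plane.isSolvable h.elem)
  rcases Nat.lt_or_gt_of_ne hrp with hlt | hgt
  · -- `A` lies in `O_{r'}(M)`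
    haveI := FittingCores.pPrimeCore_normal (G := ↥M) r
    set N := (Cfsg.pPrimeCore r M).map M.subtype with hN
    have hAN : A ≤ N := by
      have hle : A.subgroupOf M ≤ Cfsg.pPrimeCore r M := by
        refine le_of_coprime_index ?_
        rw [Nat.card_congr (Subgroup.subgroupOfEquivOfLe h.le).toEquiv, h.card]
        exact (hp.out.coprime_iff_not_dvd.2 fun hd => absurd (hidxr p hp.out hd) (not_le.2 hlt)).pow_left 2
      exact fun a ha => ⟨⟨a, h.le ha⟩, hle ha, rfl⟩
    have hbot : ⁅R, A⁆ = ⊥ := by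
      refine le_bot_iff.1 ((le_inf (CoprimeAct.commutator_le_left hAR) ?_).trans
        (le_of_eq (?_ : R ⊓ N = ⊥)))
      · rw [Subgroup.commutator_comm]
        refine (Subgroup.commutator_mono hAN le_rfl).trans ?_
        rw [Subgroup.commutator_comm]
        exact Subgroup.le_normalizer_iff_commutator_le_right.1
          (hRM.trans (AxB.le_normalizer_map_subtype inferInstance))
      · obtain ⟨k, hk⟩ := hR.exists_card_eq
        rw [inf_comm]
        refine SchurZ.inf_eq_bot ?_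
        rw [hk, hN, Subgroup.card_map_of_injective M.subtype_injective]
        exact ((FittingCores.pPrimeCore_coprime r).pow_right k).symm
    exact Subgroup.commutator_eq_bot_iff_le_centralizer.1 (by rw [Subgroup.commutator_comm]; exact hbot)
  -- `r > p`: extend to an invariant Sylow subgroup
  haveI := FittingCores.pPrimeCore_normal (G := ↥M) p
  set W := (Cfsg.pPrimeCore p M).map M.subtype with hW
  have hAW : A ≤ Subgroup.normalizer (W : Set G) := h.le.trans (AxB.le_normalizer_map_subtype inferInstance)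
  have hcopW : (Nat.card A).Coprime (Nat.card W) := by
    rw [h.card, hW, Subgroup.card_map_of_injective M.subtype_injective]
    exact (FittingCores.pPrimeCore_coprime p).symm.pow_left 2
  have hleW : ∀ U : Subgroup G, U ≤ M → IsPGroup r U → U ≤ W := by
    intro U hUM hU u hu
    refine ⟨⟨u, hUM hu⟩, le_of_coprime_index (N := Cfsg.pPrimeCore p M) (X := U.subgroupOf M) ?_ hu, rfl⟩
    obtain ⟨k, hk⟩ := hU.exists_card_eq
    rw [Nat.card_congr (Subgroup.subgroupOfEquivOfLe hUM).toEquiv, hk]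
    exact (hr.out.coprime_iff_not_dvd.2 fun hd => absurd (hidxp r hr.out hd) (not_le.2 hgt)).pow_left k
  obtain ⟨T, hRT, hAT⟩ := CoprimeAct.exists_invariant_sylow_ge hAW hcopW (Or.inl (Plane.isSolvable h.elem))
    (hleW R hRM hR) hR hAR
  set R₁ := (T : Subgroup W).map W.subtype with hR1def
  refine le_trans ?_ (Subgroup.centralizer_le hRT)
  have hR₁p : IsPGroup r R₁ := T.isPGroup'.map _
  have hR₁W : R₁ ≤ W := Subgroup.map_subtype_le _
  have hR₁M : R₁ ≤ M := hR₁W.trans (Subgroup.map_subtype_le _)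
  have hcop₁ := Plane.coprime_card hrp h.card hR₁p
  by_cases hC : R₁ ⊓ Subgroup.centralizer (A : Set G) = ⊥
  swap
  · have hrC : r ∣ Nat.card (Subgroup.centralizer (A : Set G)) := by
      haveI : Nontrivial ↥(R₁ ⊓ Subgroup.centralizer (A : Set G)) := (Subgroup.nontrivial_iff_ne_bot _).2 hC
      obtain ⟨n, hn, hn'⟩ := (hR₁p.to_le inf_le_left : IsPGroup r ↥(R₁ ⊓ Subgroup.centralizer (A : Set G))).nontrivial_iff_card.1
        inferInstance
      exact (hn' ▸ dvd_pow_self r hn.ne').trans (Subgroup.card_dvd_of_le inf_le_right)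
    by_cases hr1 : Cfsg.PRankLE r 1 M
    · -- cyclic
      haveI hcyc : IsCyclic R₁ := by
        refine CyclicSylow.isCyclic_of_isPGroup (hG.1.of_dvd_nat R₁.card_subgroup_dvd_card) hR₁p fun B hB hBp => ?_
        haveI := hB
        have := hr1 (B.map (Subgroup.inclusion hR₁M)) inferInstance (by
          rintro _ ⟨b, hb, rfl⟩
          rw [← map_pow, hBp b hb, map_one])
        rwa [Subgroup.card_map_of_injective (Subgroup.inclusion_injective _)] at this
      haveI : IsMulCommutative R₁ := IsCyclic.commutative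
      by_contra hcon
      have hne : ⁅R₁, A⁆ ≠ ⊥ := fun hb => hcon (Subgroup.commutator_eq_bot_iff_le_centralizer.1
        (by rw [Subgroup.commutator_comm]; exact hb))
      refine inf_ne_bot_of_cyclic hcyc hR₁p (CoprimeAct.commutator_le_left hAT) inf_le_left hne hC ?_
      rw [inf_comm]
      exact CoprimeAct.centralizer_inf_commutator_eq_bot (V := R₁) hAT hcop₁
    · have hr2' : Cfsg.PRankLE r 2 M := by
        by_contra hcon
        exact hrσ (Sigma.alpha_subset_sigma hG h.coatom ⟨hr.out, hcon⟩)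
      exact h.maximal.centralizes hG hrp hrC (S1408.result hG M h.coatom r hrσ hr2' hr1).1 hR₁p hAT
  -- `C_{R₁}(A) = 1`
  by_contra hcon
  have hsA₁ := Or.inl (b := Group.IsSolvable R₁) (Plane.isSolvable h.elem)
  have hD : ⁅R₁, A⁆ = R₁ := by
    have := CoprimeAct.commutator_sup_centralizer hAT hcop₁ hsA₁
    rwa [hC, sup_bot_eq] at this
  obtain ⟨B₁, B₂, hB, hc1, hc2, hf1, hf2⟩ := h.exists_fpf_pair
  have hfB : ∀ B : Subgroup G, B ≤ A → Nat.card B = p → Cfsg.sigmaCore M ⊓ Subgroup.centralizer (B : Set G) = ⊥ →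
      ⁅R₁, B⁆ ≤ Subgroup.centralizer (Cfsg.sigmaCore M : Set G) := by
    intro B hBA hBc hBf
    rw [Subgroup.le_centralizer_iff, ← Subgroup.subgroupOf_eq_top]
    refine FittingCores.eq_top_of_forall_sylow_le fun q hq => ?_
    haveI := Fact.mk hq
    refine ⟨default, fun x hx => ?_⟩
    set Q : Sylow q (Cfsg.sigmaCore M) := default with hQ
    by_cases hx1 : x = 1
    · rw [hx1]; exact one_mem _
    have hqσ : q ∈ Cfsg.sigma M := mem_sigma_of_dvd hq ((Q.isPGroup'.card_eq_or_dvd.resolve_left fun e =>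
      hx1 (Subgroup.mem_bot.1 (Subgroup.card_eq_one.1 e ▸ hx))).trans (Subgroup.card_subgroup_dvd_card _))
    obtain ⟨S, hn, hall, hSK, -⟩ := h.exists_core hqσ
    set Qm := (S : Subgroup M).map M.subtype with hQm
    have hxQ : (x : G) ∈ Qm := hall ((Q : Subgroup (Cfsg.sigmaCore M)).map (Cfsg.sigmaCore M).subtype)
      ((Subgroup.map_subtype_le _).trans (sigmaCore_le M)) (Q.isPGroup'.map _) ⟨x, hx, rfl⟩
    have hfix : Qm ⊓ Subgroup.centralizer (B : Set G) = ⊥ :=
      le_bot_iff.1 ((inf_le_inf_right _ hSK).trans hBf.le)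
    have hqp : q ≠ p := fun e => h.not_sigma (e ▸ hqσ)
    have hrq : r ≠ q := fun e => hrσ (e ▸ hqσ)
    have hle := FpfCentral.commutator_le hqp hrq hrp hr2 hBc
      hR₁p (S.isPGroup'.map _) (hBA.trans hAT) ((hBA.trans h.le).trans hn) (hR₁M.trans hn) hfix
    exact Subgroup.mem_centralizer_iff.2 fun y hy => (Subgroup.mem_centralizer_iff.1 (hle hy) _ hxQ).symm
  set T₀ := ⁅M, M⁆ ⊓ Subgroup.centralizer (Cfsg.sigmaCore M : Set G) with hT0
  have hMM : ⁅M, M⁆ ≤ M := Subgroup.le_normalizer_iff_commutator_le_left.1 Subgroup.le_normalizer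
  have hR₁T : R₁ ≤ T₀ := by
    refine le_inf (hD ▸ Subgroup.commutator_mono hR₁M h.le) ?_
    set D₀ := R₁ ⊓ Subgroup.centralizer (Cfsg.sigmaCore M : Set G) with hD0
    have hAD₀ : A ≤ Subgroup.normalizer (D₀ : Set G) := by
      refine (le_inf hAT ?_).trans Subgroup.inf_normalizer_le_normalizer_inf
      exact (h.le.trans (le_normalizer_sigmaCore M)).trans (FitOf.normalizer_le_normalizer_centralizer _)
    have hle : ∀ B : Subgroup G, B ≤ A → Nat.card B = p → Cfsg.sigmaCore M ⊓ Subgroup.centralizer (B : Set G) = ⊥ →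
        ⁅R₁, B⁆ ≤ D₀ := fun B hBA hBc hBf =>
      le_inf (CoprimeAct.commutator_le_left (hBA.trans hAT)) (hfB B hBA hBc hBf)
    have hcl : ⁅R₁, A⁆ ≤ D₀ := by
      rw [Subgroup.commutator_le]
      intro x hx a ha
      have ha' : a ∈ B₁ ⊔ B₂ := hB.symm ▸ ha
      haveI := h.elem.1
      have h1A : B₁ ≤ A := hB ▸ le_sup_left
      have h2A : B₂ ≤ A := hB ▸ le_sup_right
      obtain ⟨b, hb, c, hc, rfl⟩ := (SolvBasic.mem_sup_iff_of_le_normalizer (h2A.trans
        ((Subgroup.le_centralizer A).trans ((Subgroup.centralizer_le h1A).trans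
          (Subgroup.centralizer_le_normalizer _))))).1 ha'
      have e : ⁅x, b * c⁆ = ⁅x, b⁆ * (b * ⁅x, c⁆ * b⁻¹) := by
        simp only [commutatorElement_def]; group
      rw [e]
      exact D₀.mul_mem (hle B₁ h1A hc1 hf1 (Subgroup.commutator_mem_commutator hx hb))
        ((Subgroup.mem_normalizer_iff.1 (hAD₀ (h1A hb)) _).1 (hle B₂ h2A hc2 hf2 (Subgroup.commutator_mem_commutator hx hc)))
    exact (hD ▸ hcl : R₁ ≤ D₀).trans inf_le_right
  have hTn : Group.IsNilpotent T₀ := by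
    haveI : (Cfsg.piCore (Cfsg.alpha M) M).Normal := Cfsg.piCore_normal _ _
    obtain ⟨-, -, hασ, -, hnil⟩ := S1405.result hG M h.coatom
    set π := QuotientGroup.mk' (Cfsg.piCore (Cfsg.alpha M) M) with hπ
    have hmem : ∀ t : T₀, π ⟨t, hMM t.2.1⟩ ∈ (commutator M).map π := fun t =>
      Subgroup.mem_map_of_mem π (BetaCore.le_commutator (X := T₀) inf_le_left t.2)
    let f : T₀ →* ((commutator M).map π) :=
      (π.comp (Subgroup.inclusion (inf_le_left.trans hMM : T₀ ≤ M))).codRestrict _ hmem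
    haveI := hnil
    refine Subgroup.isNilpotent_of_ker_le_center f (fun t ht => ?_)
    have hk : (⟨t, hMM t.2.1⟩ : M) ∈ Cfsg.piCore (Cfsg.alpha M) M :=
      (QuotientGroup.eq_one_iff _).1 (congrArg Subtype.val ht)
    have htσ : (t : G) ∈ Cfsg.sigmaCore M := hασ ⟨_, hk, rfl⟩
    exact Subgroup.mem_center_iff.2 fun s => Subtype.ext
      (Subgroup.mem_centralizer_iff.1 s.2.2 _ htσ).symm
  have hidx : ¬ r ∣ R₁.relIndex T₀ := by
    intro hd
    refine T.not_dvd_index ?_
    have h1 : R₁.relIndex W = (T : Subgroup W).index := by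
      rw [hR1def, Subgroup.relIndex, Subgroup.subgroupOf, Subgroup.comap_map_eq_self_of_injective W.subtype_injective]
    -- every `r`-subgroup of `T₀` lies in `W`
    obtain ⟨U, hU⟩ := ((hR₁p).comap_subtype (K := T₀)).exists_le_sylow
    set Um := (U : Subgroup T₀).map T₀.subtype with hUm
    have hUW : Um ≤ W := hleW Um ((Subgroup.map_subtype_le _).trans (inf_le_left.trans hMM)) (U.isPGroup'.map _)
    have hRU : R₁ ≤ Um := fun x hx => ⟨⟨x, hR₁T hx⟩, hU hx, rfl⟩
    have hR1U : Um = R₁ := Sigma.sylow_map_eq (U.isPGroup'.map _) hUW hRU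
    rw [← hR1U, hUm, Subgroup.relIndex, Subgroup.subgroupOf,
      Subgroup.comap_map_eq_self_of_injective T₀.subtype_injective] at hd
    exact absurd hd U.not_dvd_index
  have hMT : M ≤ Subgroup.normalizer (T₀ : Set G) :=
    (le_inf (Subgroup.normalizer_commutator_ge_left M M)
      ((le_normalizer_sigmaCore M).trans (FitOf.normalizer_le_normalizer_centralizer _))).trans
      Subgroup.inf_normalizer_le_normalizer_inf
  have hMR : M ≤ Subgroup.normalizer (R₁ : Set G) := hMT.trans (normalizer_le_of_nilpotent hTn hR₁T hR₁p hidx)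
  have hR₁ne : R₁ ≠ ⊥ := fun hb => hR1 (le_bot_iff.1 (hb ▸ hRT))
  have hNR : Subgroup.normalizer (R₁ : Set G) ≤ M :=
    ((h.coatom.le_iff_eq (MinSimple.normalizer_ne_top hG hR₁ne (MinSimple.pSubgroup_ne_top hG hR₁p))).1 hMR).le
  obtain ⟨S, hS⟩ := (hR₁p.comap_subtype (K := M)).exists_le_sylow
  have hSR : (S : Subgroup M).map M.subtype = R₁ :=
    Sigma.sylow_map_eq (M := W) (S.isPGroup'.map _) (hleW _ (Subgroup.map_subtype_le _) (S.isPGroup'.map _))
      fun x hx => ⟨⟨x, hR₁M hx⟩, hS hx, rfl⟩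
  exact hrσ ⟨hr.out, hrM, S, hSR ▸ hNR⟩

/-- BG 11.6(b): `A` is normal in every complement containing it. -/
theorem compl_normalizes {E : Subgroup G} (hE : Cfsg.IsComplIn E (Cfsg.sigmaCore M) M) (hAE : A ≤ E) :
    E ≤ Subgroup.normalizer (A : Set G) := by
  obtain ⟨S, hS⟩ := ((Plane.isPGroup h.card).comap_subtype (K := E)).exists_le_sylow
  set Sm := (S : Subgroup E).map E.subtype with hSm
  have hAS : A ≤ Sm := fun a ha => ⟨⟨a, hAE ha⟩, hS ha, rfl⟩
  obtain ⟨P, hP⟩ := ((S.isPGroup'.map E.subtype).comap_subtype (K := M)).exists_le_sylow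
  have hSP : Sm ≤ (P : Subgroup M).map M.subtype := fun x hx =>
    ⟨⟨x, ((Subgroup.map_subtype_le _).trans hE.1) hx⟩, hP hx, rfl⟩
  have hom := (h.sylow_central P (hAS.trans hSP)).2
  have hEtop : E ≠ ⊤ := fun e => h.coatom.1 (top_le_iff.1 (e ▸ hE.1))
  haveI := FittingCores.pPrimeCore_normal (G := ↥E) p
  set O := (Cfsg.pPrimeCore p E).map E.subtype with hO
  have hAO : A ≤ Subgroup.normalizer (O : Set G) := hAE.trans (AxB.le_normalizer_map_subtype inferInstance)
  have hcopO : (Nat.card A).Coprime (Nat.card O) := by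
    rw [h.card, hO, Subgroup.card_map_of_injective E.subtype_injective]
    exact (FittingCores.pPrimeCore_coprime p).symm.pow_left 2
  have hOC : O ≤ Subgroup.centralizer (A : Set G) := by
    rw [← Subgroup.subgroupOf_eq_top]
    refine FittingCores.eq_top_of_forall_sylow_le fun r hr => ?_
    haveI := Fact.mk hr
    obtain ⟨R, hR⟩ := CoprimeAct.exists_invariant_sylow hAO hcopO (Or.inl (Plane.isSolvable h.elem)) r
    refine ⟨R, fun x hx => ?_⟩
    by_cases hx1 : x = 1
    · rw [hx1]; exact one_mem _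
    have hd : r ∣ Nat.card O := (R.isPGroup'.card_eq_or_dvd.resolve_left fun e =>
      hx1 (Subgroup.mem_bot.1 (Subgroup.card_eq_one.1 e ▸ hx))).trans (Subgroup.card_subgroup_dvd_card _)
    have hrp : r ≠ p := fun e => hp.out.ne_one (Nat.eq_one_of_dvd_coprimes hcopO
      (h.card ▸ dvd_pow_self p two_ne_zero) (e ▸ hd))
    have hrσ := not_dvd_complement h.minSimple h.coatom hE hr (hd.trans (Subgroup.card_dvd_of_le (Subgroup.map_subtype_le _)))
    have := h.centralizes hrp hrσ (R.isPGroup'.map O.subtype)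
      ((Subgroup.map_subtype_le _).trans ((Subgroup.map_subtype_le _).trans hE.1)) hR
    exact Subgroup.le_centralizer_iff.1 this ⟨x, hx, rfl⟩
  intro e he
  obtain ⟨o, ho, n, hn, hon⟩ := PLengthFusion.exists_core_mul (S1410.result h.minSimple p E hEtop) S ⟨e, he⟩
  rw [show e = (o : G) * n from congrArg Subtype.val hon]
  refine Subgroup.mul_mem _ (Subgroup.centralizer_le_normalizer _ (hOC ⟨o, ho, rfl⟩))
    (ComplAbelian.mem_normalizer_of_map_le fun a ha => hom _ (hSP ?_) (by rw [conj_pow, h.elem.2 a ha, mul_one, mul_inv_cancel]))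
  exact ⟨_, (Subgroup.mem_normalizer_iff.1 hn ⟨a, hAE ha⟩).1 (hS ha), rfl⟩

/-- BG 11.6(c). -/
theorem normalizes_sup : M ≤ Subgroup.normalizer ((Cfsg.sigmaCore M ⊔ A : Subgroup G) : Set G) := by
  obtain ⟨E, hE, hAE⟩ := exists_complement_ge h.minSimple h.coatom (Plane.isPGroup h.card) h.le h.not_sigma
  have hle := h.compl_normalizes hE hAE
  have hS : Cfsg.sigmaCore M ≤ Subgroup.normalizer ((Cfsg.sigmaCore M ⊔ A : Subgroup G) : Set G) :=
    le_sup_left.trans Subgroup.le_normalizer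
  refine (Compl.sup_eq hE).ge.trans (sup_le ?_ hS)
  intro e he
  refine ComplAbelian.mem_normalizer_of_map_le fun x hx => ?_
  have : (Cfsg.sigmaCore M ⊔ A).map (MulAut.conj e).toMonoidHom ≤ Cfsg.sigmaCore M ⊔ A := by
    rw [Subgroup.map_sup]
    exact sup_le ((Subgroup.mem_normalizer_iff_map_conj_eq.1 (le_normalizer_sigmaCore M (hE.1 he))).le.trans le_sup_left)
      ((Subgroup.mem_normalizer_iff_map_conj_eq.1 (hle he)).le.trans le_sup_right)
  exact this ⟨x, hx, rfl⟩

/-- BG 11.5: the Sylow `p`-subgroups of `M` are abelian. -/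
theorem sylow_abelian (P : Sylow p M) (hP : A ≤ (P : Subgroup M).map M.subtype) :
    IsMulCommutative (P : Subgroup M) := by
  set Pm := (P : Subgroup M).map M.subtype with hPm
  have hG := h.minSimple
  have hp2 : p ≠ 2 := Plane.p_ne_two hG h.card
  suffices hab : IsMulCommutative Pm by
    refine .of_setLike_mul_comm fun a ha b hb => Subtype.ext ?_
    haveI := hab
    have h' := mul_comm' (⟨(a : G), ⟨a, ha, rfl⟩⟩ : Pm) ⟨b, ⟨b, hb, rfl⟩⟩
    exact congrArg (fun t : Pm => (t : G)) h'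
  obtain ⟨PG, hPG⟩ := (P.isPGroup'.map M.subtype).exists_le_sylow
  obtain ⟨hPC, hom⟩ := h.sylow_central P hP
  have hPeq : (PG : Subgroup G) ⊓ Subgroup.centralizer (A : Set G) = Pm :=
    Sigma.sylow_map_eq (PG.isPGroup'.to_le inf_le_left) (inf_le_right.trans h.centralizer_le) (le_inf hPG hPC)
  have hAPG : A ≤ (PG : Subgroup G) := hP.trans hPG
  by_cases hr : Cfsg.PRankLE p 2 (PG : Subgroup G)
  · rcases S1412.result hG p PG hr with hab | ⟨P₁, P₂, hsup, hcomm, -, -, hexp, hcyc, -⟩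
    · exact .of_setLike_mul_comm fun a ha b hb =>
        congrArg Subtype.val (haveI := hab; mul_comm' (⟨a, hPG ha⟩ : (PG : Subgroup G)) ⟨b, hPG hb⟩)
    · haveI := hcyc
      haveI : IsMulCommutative P₂ := IsCyclic.commutative
      have hcen : ∀ b ∈ P₂, ∀ y ∈ (PG : Subgroup G), Commute b y := by
        intro b hb y hy
        rw [← hsup] at hy
        have hle : P₁ ⊔ P₂ ≤ Subgroup.centralizer ({b} : Set G) := sup_le
          (fun a ha => Subgroup.mem_centralizer_singleton_iff.2 (hcomm a ha b hb))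
          (fun c hc => Subgroup.mem_centralizer_singleton_iff.2
            (congrArg Subtype.val (mul_comm' (⟨c, hc⟩ : P₂) ⟨b, hb⟩)))
        exact (Subgroup.mem_centralizer_singleton_iff.1 (hle hy)).symm
      have hdec : ∀ x ∈ Pm, ∃ a ∈ A, ∃ b ∈ P₂, x = a * b := by
        intro x hx
        have hm : x ∈ P₁ ⊔ P₂ := hsup.symm ▸ hPG hx
        obtain ⟨a, ha, b, hb, rfl⟩ := (SolvBasic.mem_sup_iff_of_le_normalizer (fun b hb =>
          Subgroup.centralizer_le_normalizer _ (Subgroup.mem_centralizer_iff.2 fun a ha => hcomm a ha b hb))).1 hm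
        refine ⟨a, h.maximal.mem_of_commute (Subgroup.mem_centralizer_iff.2 fun c hc => ?_) ?_, b, hb, rfl⟩
        · have h1 : c * (a * b) = a * b * c := Subgroup.mem_centralizer_iff.1 (hPC hx) c hc
          have h2 : Commute b c := hcen b hb c (hAPG hc)
          have : c * a * b = a * c * b := by rw [mul_assoc, h1, mul_assoc, h2.eq, mul_assoc]
          exact mul_right_cancel this
        · have := Monoid.pow_exponent_eq_one (⟨a, ha⟩ : P₁)
          rw [hexp] at this
          exact congrArg Subtype.val this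
      refine .of_setLike_mul_comm fun x hx y hy => ?_
      obtain ⟨a, ha, b, hb, rfl⟩ := hdec x hx
      obtain ⟨c, hc, d, hd, rfl⟩ := hdec y hy
      have hac : Commute a c := congrArg Subtype.val (haveI := h.elem.1; mul_comm' (⟨a, ha⟩ : A) ⟨c, hc⟩)
      exact ((hac.mul_right (hcen d hd a (hAPG ha)).symm).mul_left
        ((hcen b hb c (hAPG hc)).mul_right (hcen b hb d (hsup ▸ Subgroup.mem_sup_right hd)))).eq
  · have hE : Cfsg.IsElementaryAbelian p (A.subgroupOf (PG : Subgroup G)) :=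
      ⟨.of_setLike_mul_comm fun a ha b hb => by
        haveI := h.elem.1
        have h' := mul_comm' (⟨(a : G), ha⟩ : A) ⟨(b : G), hb⟩
        refine Subtype.ext ?_
        exact congrArg (fun t : A => (t : G)) h',
        fun a ha => Subtype.ext (by simpa using h.elem.2 a ha)⟩
    have hab := abelian_centralizer_of_pair hp2 PG.isPGroup' hr hE
      (by rw [Nat.card_congr (Subgroup.subgroupOfEquivOfLe hAPG).toEquiv, h.card]) (fun B hB hle => by
        have hBe : Cfsg.IsElementaryAbelian p (B.map (PG : Subgroup G).subtype) := by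
          haveI := hB.1
          refine ⟨inferInstance, ?_⟩
          rintro _ ⟨b, hb, rfl⟩
          rw [← map_pow, hB.2 b hb, map_one]
        have heq := h.maximal.max _ hBe fun a ha => ⟨⟨a, hAPG ha⟩, hle ha, rfl⟩
        refine le_antisymm (fun b hb => ?_) hle
        exact Subgroup.mem_subgroupOf.2 (heq.le ⟨b, hb, rfl⟩))
    refine .of_setLike_mul_comm fun x hx y hy => ?_
    have hmem : ∀ z, (hz : z ∈ Pm) → (⟨z, hPG hz⟩ : (PG : Subgroup G)) ∈
        Subgroup.centralizer ((A.subgroupOf (PG : Subgroup G) : Subgroup (PG : Subgroup G)) : Set (PG : Subgroup G)) :=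
      fun z hz => Subgroup.mem_centralizer_iff.2 fun a ha =>
        Subtype.ext (Subgroup.mem_centralizer_iff.1 (hPC hz) (a : G) ha)
    haveI := hab
    exact congrArg (fun t => ((t : (PG : Subgroup G)) : G)) (congrArg Subtype.val
      (mul_comm' (⟨_, hmem x hx⟩ : Subgroup.centralizer ((A.subgroupOf (PG : Subgroup G) : Subgroup (PG : Subgroup G)) : Set (PG : Subgroup G)))
        ⟨_, hmem y hy⟩))

/-- BG 11.4. -/
theorem sigma_inter {L : Subgroup G} (hL : IsCoatom L) (hAL : A ≤ L) (hne : L ≠ M) :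
    Cfsg.sigmaCore M ⊓ Cfsg.sigmaCore L = ⊥ := by
  by_contra hI
  have hG := h.minSimple
  obtain ⟨q, hqσ, hqp, hq, x, hx, hxq⟩ := h.exists_prime_element hI inf_le_left
  haveI := Fact.mk hq
  have hx1 : x ≠ 1 := fun e => hq.ne_one (by rw [← hxq, e, orderOf_one])
  have hqL : q ∈ Cfsg.sigma L := mem_sigma_of_dvd hq (hxq ▸ Subgroup.orderOf_dvd_natCard _ hx.2)
  obtain ⟨S, hn, hall, hSK, hS⟩ := h.exists_core hqσ
  set Q := (S : Subgroup M).map M.subtype with hQ
  have hxQ : x ∈ Q := hall (Subgroup.zpowers x) (Subgroup.zpowers_le.2 (sigmaCore_le M hx.1))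
    (IsPGroup.of_card (n := 1) (by rw [Nat.card_zpowers, hxq, pow_one])) (Subgroup.mem_zpowers x)
  set T := Q ⊓ Cfsg.sigmaCore L with hT
  have hT1 : T ≠ ⊥ := fun e => hx1 (Subgroup.mem_bot.1 (e ▸ (⟨hxQ, hx.2⟩ : x ∈ T)))
  have hAT : A ≤ Subgroup.normalizer (T : Set G) :=
    (le_inf (h.le.trans hn) (hAL.trans (le_normalizer_sigmaCore L))).trans Subgroup.inf_normalizer_le_normalizer_inf
  have hTq : IsPGroup q T := (S.isPGroup'.map _).to_le inf_le_left
  have hTL : T ≤ L := inf_le_right.trans (sigmaCore_le L)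
  by_cases hpL : p ∈ Cfsg.sigma L
  · by_cases hI' : Cfsg.IsIdealPrime q G
    · exact hne (Plane.eq_of_ideal hG hL h.coatom hI' hqL hqσ hxq (sigmaCore_le L hx.2) (sigmaCore_le M hx.1))
    have hAσ : A ≤ ⁅L, L⁆ := (le_sigmaCore hG hL hpL (Plane.isPGroup h.card) hAL).trans
      (Sigma.piCoreOf_le_derived hG hL subset_rfl)
    have hc := Plane.le_centralizer_of_derived hG h.elem h.card hL hAσ hqp hTq hTL hAT (fun hb => hI' hb.2)
      (h.maximal.not_beta L)
    exact hT1 (le_bot_iff.1 ((le_inf (inf_le_left.trans hSK) (Subgroup.le_centralizer_iff.1 hc)).trans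
      h.inf_centralizer_eq_bot.le))
  · obtain ⟨SL, hTSL, -, hSL⟩ := exists_inv_sylow hG hL h.elem h.card hAL hpL hqL hTL hTq hAT
    set R := (SL : Subgroup L).map L.subtype with hR
    have hRM : R ≤ M := h.le_of_meet hqp hS (Subgroup.map_subtype_le _) hSL hL.1 hAL
      (fun e => hT1 (le_bot_iff.1 (e ▸ le_inf hTL inf_le_left)))
      (fun e => hT1 (le_bot_iff.1 (e ▸ le_inf hTL hTSL)))
    have hRQ : R ≤ Q := hall R hRM (SL.isPGroup'.map _)
    have heq : Q = R := (Inv.mem_max_iff.1 hSL).2.2 Q (S.isPGroup'.map _) (h.le.trans hn) hRQ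
    have hML : M ≤ L := (heq ▸ hn).trans (Sigma.sigma_normalizer hqL SL)
    exact hne ((h.coatom.le_iff_eq hL.1).1 hML)

end Exc

end Cfsg.Agent.OddOrder.Exceptional
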