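/-
Planes in maximal subgroups (BG Theorem 12.4).
-/
import Cfsg.Agent.Lib.OddOrder.ExceptionalCompl
import Cfsg.Agent.S1403

set_option autoImplicit false
set_option linter.style.haveILetI false
set_option linter.unusedSectionVars false

namespace Cfsg.Agent.OddOrder.PlaneUnique

open scoped commutatorElement Pointwise
open Exceptional

universe u

variable {G : Type u} [Group G] [Finite G] {p : ℕ} [hp : Fact p.Prime] {M A : Subgroup G}

/-- No line of `A` has its normalizer only in the maximal subgroup `M`. -/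
structure NoLine (p : ℕ) (M A : Subgroup G) : Prop where
  minSimple : Cfsg.IsMinSimpleOddOrder G
  coatom : IsCoatom M
  le : A ≤ M
  elem : Cfsg.IsElementaryAbelian p A
  card : Nat.card A = p ^ 2
  none : ∀ A₀ : Subgroup G, A₀ ≤ A → Nat.card A₀ = p →
    ¬ (Subgroup.normalizer (A₀ : Set G) ≤ M ∧
      ∀ L : Subgroup G, IsCoatom L → Subgroup.normalizer (A₀ : Set G) ≤ L → L = M)

theorem isNilpotent_of_le {X Y : Subgroup G} (hY : Group.IsNilpotent Y) (h : X ≤ Y) : Group.IsNilpotent X :=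
  haveI := hY
  Subgroup.isNilpotent_of_ker_le_center (Subgroup.inclusion h)
    (by rw [(MonoidHom.ker_eq_bot_iff _).2 (Subgroup.inclusion_injective h)]; exact bot_le)

theorem zpowers_le_normalizer (hAe : Cfsg.IsElementaryAbelian p A) {a : G} (ha : a ∈ A) :
    A ≤ Subgroup.normalizer ((Subgroup.zpowers a : Subgroup G) : Set G) := by
  haveI := hAe.1
  exact ((Subgroup.le_centralizer A).trans (Subgroup.centralizer_le (Subgroup.zpowers_le.2 ha))).trans
    (Subgroup.centralizer_le_normalizer _)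

theorem line_normalizer_ne_top (hG : Cfsg.IsMinSimpleOddOrder G) {a : G} (ha1 : a ≠ 1) (hp' : orderOf a = p) :
    Subgroup.normalizer ((Subgroup.zpowers a : Subgroup G) : Set G) ≠ ⊤ :=
  MinSimple.normalizer_ne_top hG (fun h => ha1 (Subgroup.zpowers_eq_bot.1 h))
    (MinSimple.pSubgroup_ne_top hG (IsPGroup.of_card (n := 1) (by rw [Nat.card_zpowers, hp', pow_one])))

namespace NoLine

variable (h : NoLine p M A)
include h

theorem exists_other {a : G} (ha : a ∈ A) (ha1 : a ≠ 1) : ∃ L : Subgroup G, IsCoatom L ∧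
    Subgroup.normalizer ((Subgroup.zpowers a : Subgroup G) : Set G) ≤ L ∧ L ≠ M := by
  have hno := h.none (Subgroup.zpowers a) (Subgroup.zpowers_le.2 ha) (Plane.zpowers_card h.elem ha ha1)
  obtain ⟨L, hL, hNL⟩ := Uniq.exists_maximal_ge
    (line_normalizer_ne_top h.minSimple ha1 (orderOf_eq_prime (h.elem.2 a ha) ha1))
  by_cases hLM : L = M
  · subst hLM
    push Not at hno
    exact hno hNL
  · exact ⟨L, hL, hNL, hLM⟩

theorem rank_centralizer : Cfsg.RankLE 2 (Subgroup.centralizer (A : Set G)) := by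
  by_contra hr
  have hU : Cfsg.InUniqueMaximal A := S1403.result h.minSimple A
    (MinSimple.pSubgroup_ne_top h.minSimple (Plane.isPGroup h.card))
    (fun hA => UniqProp.not_rankLE le_rfl h.elem (k := 1) (by
      rw [pow_one, h.card, pow_two]
      exact lt_mul_of_one_lt_left hp.out.pos hp.out.one_lt) (hA p hp.out))
    (Or.inr hr)
  obtain ⟨a, ha, ha1⟩ : ∃ a ∈ A, a ≠ 1 := by
    obtain ⟨⟨a, ha⟩, hne⟩ := Subgroup.ne_bot_iff_exists_ne_one.1 (Plane.ne_bot (p := p) h.card : A ≠ ⊥)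
    exact ⟨a, ha, fun e => hne (Subtype.ext e)⟩
  obtain ⟨L, hL, hNL, hne⟩ := h.exists_other ha ha1
  exact hne (ScnBasics.eq_of_uniq hU h.coatom hL h.le ((zpowers_le_normalizer h.elem ha).trans hNL))

theorem maximal : Plane.Maximal p A := by
  refine ⟨h.elem, h.card, fun B hB hAB => ?_⟩
  by_contra hne
  have hlt : Nat.card A < Nat.card B := lt_of_le_of_ne (Subgroup.card_le_of_le hAB)
    fun e => hne (Subgroup.eq_of_le_of_card_ge hAB e.ge).symm
  haveI := hB.1
  exact UniqProp.not_rankLE ((Subgroup.le_centralizer B).trans (Subgroup.centralizer_le hAB)) hB (k := 2)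
    (h.card ▸ hlt) (h.rank_centralizer p hp.out)

theorem not_alpha : p ∉ Cfsg.alpha M := by
  intro hα
  obtain ⟨S, hS⟩ := ((Plane.isPGroup h.card).comap_subtype (K := M)).exists_le_sylow
  set Sm := (S : Subgroup M).map M.subtype with hSm
  have hAS : A ≤ Sm := fun a ha => ⟨⟨a, h.le ha⟩, hS ha, rfl⟩
  obtain ⟨E, hES, hEe, hE3⟩ := UniqProp.exists_elementary (Sigma.not_rankLE_of_alpha hα S)
  obtain ⟨a, ha, ha1⟩ : ∃ a ∈ A, a ≠ 1 := by
    obtain ⟨⟨a, ha⟩, hne⟩ := Subgroup.ne_bot_iff_exists_ne_one.1 (Plane.ne_bot (p := p) h.card : A ≠ ⊥)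
    exact ⟨a, ha, fun e => hne (Subtype.ext e)⟩
  haveI : Nontrivial Sm := ⟨⟨a, hAS ha⟩, 1, fun e => ha1 (congrArg Subtype.val e)⟩
  haveI := (S.isPGroup'.map M.subtype).center_nontrivial
  obtain ⟨m, hm, hm'⟩ := ((S.isPGroup'.map M.subtype).to_subgroup (Subgroup.center Sm)).nontrivial_iff_card.1
    inferInstance
  obtain ⟨z, hz⟩ := exists_prime_orderOf_dvd_card' (G := ↥(Subgroup.center Sm)) p (hm' ▸ dvd_pow_self p hm.ne')
  rw [← Subgroup.orderOf_coe, ← Subgroup.orderOf_coe] at hz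
  set w : G := ((z : Sm) : G) with hw
  have hcen : ∀ x ∈ Sm, Commute w x := fun x hx =>
    (congrArg Subtype.val (Subgroup.mem_center_iff.1 z.2 ⟨x, hx⟩)).symm
  have hw1 : w ≠ 1 := fun e => hp.out.ne_one (by rw [← hz, e, orderOf_one])
  have hwA : w ∈ A := h.maximal.mem_of_commute
    (Subgroup.mem_centralizer_iff.2 fun b hb => (hcen b (hAS hb)).symm.eq) (hz ▸ pow_orderOf_eq_one w)
  obtain ⟨L, hL, hNL, hne⟩ := h.exists_other hwA hw1
  refine hne (ScnBasics.eq_of_uniq (ScnUniq.allUniq_of_rank h.minSimple hEe hE3 E hEe hE3) h.coatom hL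
    (hES.trans (Subgroup.map_subtype_le _)) (fun e he => hNL ?_))
  refine Subgroup.centralizer_le_normalizer _ ?_
  rw [Plane.centralizer_zpowers]
  exact Subgroup.mem_centralizer_singleton_iff.2 (hcen e (hES he)).symm.eq

/-- Invariant `q`-subgroups of `C_{M_σ}(y)`, `y ∈ A`, are centralized. -/
theorem fix {a : G} (ha : a ∈ A) (ha1 : a ≠ 1) {q : ℕ} [hq : Fact q.Prime] (hqp : q ≠ p) {D : Subgroup G}
    (hD : IsPGroup q D) (hDσ : D ≤ Cfsg.sigmaCore M) (hDa : D ≤ Subgroup.centralizer ({a} : Set G))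
    (hAD : A ≤ Subgroup.normalizer (D : Set G)) : A ≤ Subgroup.centralizer (D : Set G) := by
  have hG := h.minSimple
  obtain ⟨L, hL, hNL, hne⟩ := h.exists_other ha ha1
  have hAL : A ≤ L := (zpowers_le_normalizer h.elem ha).trans hNL
  have hDL : D ≤ L := ((Plane.centralizer_zpowers a).symm ▸ hDa :
    D ≤ Subgroup.centralizer ((Subgroup.zpowers a : Subgroup G) : Set G)).trans
      ((Subgroup.centralizer_le_normalizer _).trans hNL)
  have hcop := Plane.coprime_card hqp h.card hD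
  have hs := Or.inl (b := Group.IsSolvable D) (Plane.isSolvable h.elem)
  set D1 := ⁅D, A⁆ with hD1
  by_contra hcon
  have hD1ne : D1 ≠ ⊥ := fun e => hcon
    (Subgroup.commutator_eq_bot_iff_le_centralizer.1 (by rw [Subgroup.commutator_comm]; exact e))
  have hD1le : D1 ≤ D := CoprimeAct.commutator_le_left hAD
  obtain ⟨x, hx, hxq⟩ : ∃ x ∈ D1, orderOf x = q := by
    haveI : Nontrivial D1 := (Subgroup.nontrivial_iff_ne_bot D1).2 hD1ne
    obtain ⟨n, hn, hn'⟩ := (hD.to_le hD1le).nontrivial_iff_card.1 inferInstance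
    obtain ⟨z, hz⟩ := exists_prime_orderOf_dvd_card' (G := ↥D1) q (hn' ▸ dvd_pow_self q hn.ne')
    exact ⟨z, z.2, by rw [Subgroup.orderOf_coe, hz]⟩
  have hqM : q ∈ Cfsg.sigma M := mem_sigma_of_dvd hq.out (hxq ▸ Subgroup.orderOf_dvd_natCard _ (hDσ (hD1le hx)))
  by_cases hpL : p ∈ Cfsg.sigma L
  · have hAσ : A ≤ ⁅L, L⁆ := (le_sigmaCore hG hL hpL (Plane.isPGroup h.card) hAL).trans
      (Sigma.piCoreOf_le_derived hG hL subset_rfl)
    by_cases hβ : q ∈ Cfsg.beta L
    · exact hne (Plane.eq_of_ideal hG hL h.coatom hβ.2 (BetaCore.beta_subset_sigma hG hL hβ) hqM hxq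
        (hDL (hD1le hx)) (sigmaCore_le M (hDσ (hD1le hx))))
    · exact hcon (Plane.le_centralizer_of_derived hG h.elem h.card hL hAσ hqp hD hDL hAD hβ
        (h.maximal.not_beta L))
  · have he : Exc p L A (Subgroup.zpowers a) := ⟨hG, hL, hpL, hAL, h.elem, h.card, Subgroup.zpowers_le.2 ha,
      Plane.zpowers_card h.elem ha ha1, hNL⟩
    set U := Cfsg.sigmaCore L ⊔ A with hU
    have hD1U : D1 ≤ U := by
      rw [hD1, ← CoprimeAct.commutator_commutator hAD hcop hs, Subgroup.commutator_comm]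
      refine (Subgroup.commutator_mono (le_sup_right : A ≤ U) (hD1le.trans hDL)).trans ?_
      exact Subgroup.le_normalizer_iff_commutator_le_left.1 he.normalizes_sup
    have hUn : U ≤ Subgroup.normalizer (Cfsg.sigmaCore L : Set G) :=
      sup_le Subgroup.le_normalizer (hAL.trans (le_normalizer_sigmaCore L))
    haveI : ((Cfsg.sigmaCore L).subgroupOf U).Normal := Subgroup.normal_subgroupOf_of_le_normalizer hUn
    have hxL : x ∈ Cfsg.sigmaCore L := by
      have hc := SolvBasic.card_sup_mul_card_inf (hAL.trans (le_normalizer_sigmaCore L))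
      rw [inf_comm, SchurZ.inf_eq_bot (coprime_sigmaCore h.card hpL).symm, Subgroup.card_bot, mul_one] at hc
      have hidx : ((Cfsg.sigmaCore L).subgroupOf U).index = Nat.card A := by
        have h1 : Nat.card (Cfsg.sigmaCore L) * (Cfsg.sigmaCore L).relIndex U = Nat.card U := by
          rw [← Subgroup.relIndex_bot_left (Cfsg.sigmaCore L), ← Subgroup.relIndex_bot_left U]
          exact Subgroup.relIndex_mul_relIndex ⊥ _ _ bot_le le_sup_left
        exact Nat.eq_of_mul_eq_mul_left Nat.card_pos (h1.trans hc)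
      have hle := le_of_coprime_index (N := (Cfsg.sigmaCore L).subgroupOf U) (X := D1.subgroupOf U) (by
        rw [Nat.card_congr (Subgroup.subgroupOfEquivOfLe hD1U).toEquiv, hidx]
        exact ((Plane.coprime_card hqp h.card (hD.to_le hD1le))).symm)
      exact hle (show (⟨x, hD1U hx⟩ : U) ∈ D1.subgroupOf U from hx)
    have := he.sigma_inter h.coatom h.le hne.symm
    have hx1 : x = 1 := Subgroup.mem_bot.1 (this ▸ ⟨hxL, hDσ (hD1le hx)⟩)
    rw [hx1, orderOf_one] at hxq
    exact hq.out.ne_one hxq.symm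

/-- An invariant subgroup of `M_σ` of order prime to `p` is centralized. -/
theorem le_centralizer {K : Subgroup G} (hK : K ≤ Cfsg.sigmaCore M) (hpK : ¬ p ∣ Nat.card K)
    (hAK : A ≤ Subgroup.normalizer (K : Set G)) : K ≤ Subgroup.centralizer (A : Set G) := by
  haveI := h.elem.1
  have hcop : (Nat.card A).Coprime (Nat.card K) := by
    rw [h.card]; exact (hp.out.coprime_iff_not_dvd.2 hpK).pow_left 2
  refine Plane.le_of_fixed h.elem h.card hAK hcop fun a ha ha1 => ?_
  set C := K ⊓ Subgroup.centralizer ({a} : Set G) with hC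
  have hAC : A ≤ Subgroup.normalizer (C : Set G) :=
    (le_inf hAK (((Subgroup.le_centralizer A).trans (Subgroup.centralizer_le (by simpa using ha))).trans
      Subgroup.le_normalizer)).trans Subgroup.inf_normalizer_le_normalizer_inf
  rw [← Subgroup.subgroupOf_eq_top]
  refine FittingCores.eq_top_of_forall_sylow_le fun r hr => ?_
  haveI := Fact.mk hr
  obtain ⟨D, hAD⟩ := CoprimeAct.exists_invariant_sylow hAC (hcop.coprime_dvd_right (Subgroup.card_dvd_of_le inf_le_left))
    (Or.inl (Plane.isSolvable h.elem)) r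
  refine ⟨D, fun x hx => ?_⟩
  by_cases hrp : r = p
  · subst hrp
    have h1 : Nat.card (D : Subgroup C) = 1 := D.isPGroup'.card_eq_or_dvd.resolve_right fun hd => hpK
      (hd.trans ((Subgroup.card_subgroup_dvd_card _).trans (Subgroup.card_dvd_of_le inf_le_left)))
    have hx' : x ∈ (⊥ : Subgroup C) := (Subgroup.card_eq_one.1 h1) ▸ hx
    rw [Subgroup.mem_bot.1 hx']
    exact one_mem _
  have := h.fix ha ha1 hrp (D.isPGroup'.map C.subtype) ((Subgroup.map_subtype_le _).trans (inf_le_left.trans hK))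
    ((Subgroup.map_subtype_le _).trans inf_le_right) hAD
  exact Subgroup.le_centralizer_iff.1 this ⟨x, hx, rfl⟩

theorem alpha_empty : ∀ q, q ∉ Cfsg.alpha M := by
  intro q hq
  haveI := Fact.mk hq.1
  have hG := h.minSimple
  obtain ⟨-, -, hασ, -, -⟩ := S1405.result hG M h.coatom
  have hle := h.le_centralizer hασ (fun hd => h.not_alpha (MinSimple.isPi_piCoreOf p hp.out hd))
    (h.le.trans (AxB.le_normalizer_map_subtype (Cfsg.piCore_normal _ _)))
  obtain ⟨S⟩ : Nonempty (Sylow q M) := inferInstance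
  obtain ⟨E, hES, hEe, hE3⟩ := UniqProp.exists_elementary (Sigma.not_rankLE_of_alpha hq S)
  have hSA : (S : Subgroup M).map M.subtype ≤ Cfsg.alphaCore M := Subgroup.map_mono
    (Sigma.sylow_le_piCore hG h.coatom (Sigma.alpha_subset_sigma hG h.coatom hq) subset_rfl hq S)
  exact UniqProp.not_rankLE (hES.trans (hSA.trans hle)) hEe (k := 2)
    (lt_of_lt_of_le (Nat.pow_lt_pow_right hq.1.one_lt (by norm_num)) hE3) (h.rank_centralizer q hq.1)

theorem alphaCore_eq_bot : Cfsg.alphaCore M = ⊥ := by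
  by_contra hne
  obtain ⟨q, hq, hd⟩ := Nat.exists_prime_and_dvd (n := Nat.card (Cfsg.alphaCore M))
    fun e => hne (Subgroup.card_eq_one.1 e)
  exact h.alpha_empty q (MinSimple.isPi_piCoreOf q hq hd)

theorem derived_nilpotent : Group.IsNilpotent ↥⁅M, M⁆ := by
  haveI := MinSimple.isSolvable h.minSimple h.coatom.1
  obtain ⟨hn, -, -⟩ := S1451.result (h.minSimple.1.of_dvd_nat M.card_subgroup_dvd_card)
    (Or.inl fun r hr => by
      by_contra hc
      exact h.alpha_empty r ⟨hr, hc⟩)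
  rw [← Subgroup.map_subtype_commutator]
  haveI := hn
  exact Group.nilpotent_of_mulEquiv ((commutator M).equivMapOfInjective M.subtype M.subtype_injective)

theorem sigmaCore_nilpotent : Group.IsNilpotent (Cfsg.sigmaCore M) :=
  isNilpotent_of_le h.derived_nilpotent (Sigma.piCoreOf_le_derived h.minSimple h.coatom subset_rfl)

/-- A Sylow subgroup of `G` inside `M'` is normal in `M`. -/
theorem normalizer_sylow_eq {r : ℕ} [Fact r.Prime] (S : Sylow r G) (hS : (S : Subgroup G) ≤ ⁅M, M⁆)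
    (hne : (S : Subgroup G) ≠ ⊥) : Subgroup.normalizer ((S : Subgroup G) : Set G) = M := by
  have hidx : ¬ r ∣ (S : Subgroup G).relIndex ⁅M, M⁆ := fun hd => S.not_dvd_index (by
    rw [← Subgroup.relIndex_mul_index hS]; exact hd.mul_right _)
  have hle : M ≤ Subgroup.normalizer ((S : Subgroup G) : Set G) :=
    (Subgroup.normalizer_commutator_ge_left M M).trans (normalizer_le_of_nilpotent h.derived_nilpotent hS S.isPGroup' hidx)
  exact (h.coatom.le_iff_eq (MinSimple.normalizer_ne_top h.minSimple hne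
    (MinSimple.pSubgroup_ne_top h.minSimple S.isPGroup'))).1 hle

theorem mem_sigma : p ∈ Cfsg.sigma M := by
  by_contra hp'
  have hG := h.minSimple
  obtain ⟨q, hq⟩ := exists_sigma hG h.coatom fun e => Plane.ne_bot (p := p) h.card (le_bot_iff.1 (e ▸ h.le))
  haveI := Fact.mk hq.1
  have hqp : q ≠ p := fun e => hp' (e ▸ hq)
  obtain ⟨S, -, hAS, hSmax⟩ := exists_inv_sylow hG h.coatom h.elem h.card h.le hp' hq (U := ⊥) bot_le IsPGroup.of_bot
    (fun s _ => Subgroup.mem_normalizer_iff.2 fun y => by rw [Subgroup.mem_bot, Subgroup.mem_bot, conj_eq_one_iff])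
  set Q := (S : Subgroup M).map M.subtype with hQ
  have hQσ : Q ≤ Cfsg.sigmaCore M := le_sigmaCore hG h.coatom hq (S.isPGroup'.map _) (Subgroup.map_subtype_le _)
  have hQC : Q ≤ Subgroup.centralizer (A : Set G) := h.le_centralizer hQσ (fun hd => hp'
    (mem_sigma_of_dvd hp.out (hd.trans (Subgroup.card_dvd_of_le hQσ)))) hAS
  obtain ⟨QG, hQG⟩ := Sigma.sigma_sylow hq S
  have hqQ : q ∣ Nat.card Q := by
    rw [hQ, Subgroup.card_map_of_injective M.subtype_injective]
    exact S.dvd_card_of_dvd_card hq.2.1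
  have hQne : (QG : Subgroup G) ≠ ⊥ := fun e => by
    rw [hQ, ← hQG, e, Subgroup.card_bot] at hqQ
    exact hq.1.not_dvd_one hqQ
  have hNQ : Subgroup.normalizer (Q : Set G) = M := by
    rw [hQ, ← hQG]
    exact h.normalizer_sylow_eq QG (hQG ▸ hQσ.trans (Sigma.piCoreOf_le_derived hG h.coatom subset_rfl)) hQne
  obtain ⟨T, hAT, hT⟩ := h.maximal.exists_sylow_le_derived hG hqp
    (hqQ.trans (Subgroup.card_dvd_of_le hQC)) hSmax
  rw [hNQ] at hT
  have hTM : (T : Subgroup G) ≤ M := hT.trans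
    (Subgroup.le_normalizer_iff_commutator_le_left.1 Subgroup.le_normalizer)
  have hTne : (T : Subgroup G) ≠ ⊥ := fun e => Plane.ne_bot (p := p) h.card (le_bot_iff.1 (e ▸ hAT))
  have hN := h.normalizer_sylow_eq T hT hTne
  obtain ⟨SM, hSM⟩ := (T.isPGroup'.comap_subtype (K := M)).exists_le_sylow
  have heq : (SM : Subgroup M).map M.subtype = (T : Subgroup G) :=
    T.3 (SM.isPGroup'.map _) fun x hx => ⟨⟨x, hTM hx⟩, hSM hx, rfl⟩
  exact hp' ⟨hp.out, (h.card ▸ dvd_pow_self p two_ne_zero).trans (Subgroup.card_dvd_of_le h.le), SM, by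
    rw [heq, hN]⟩

theorem centralizer_le : Subgroup.centralizer (A : Set G) ≤ M := by
  have hG := h.minSimple
  obtain ⟨S, hS⟩ := ((Plane.isPGroup h.card).comap_subtype (K := M)).exists_le_sylow
  obtain ⟨T, hT⟩ := Sigma.sigma_sylow h.mem_sigma S
  have hAT : A ≤ (T : Subgroup G) := hT ▸ fun a ha => ⟨⟨a, h.le ha⟩, hS ha, rfl⟩
  have hAne : A ≠ ⊥ := Plane.ne_bot (p := p) h.card
  have hN : Subgroup.normalizer ((T : Subgroup G) : Set G) = M :=
    h.normalizer_sylow_eq T (hT ▸ Sigma.sylow_le_derived hG h.coatom h.mem_sigma S)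
      fun e => hAne (le_bot_iff.1 (e ▸ hAT))
  set Z := A ⊓ Subgroup.centralizer ((T : Subgroup G) : Set G) with hZ
  have hMZ : M ≤ Subgroup.normalizer (Z : Set G) := fun m hm => by
    refine ComplAbelian.mem_normalizer_of_map_le fun c hc => ?_
    have hmT : m ∈ Subgroup.normalizer ((T : Subgroup G) : Set G) := hN.symm ▸ hm
    have hcc : m * c * m⁻¹ ∈ Subgroup.centralizer ((T : Subgroup G) : Set G) :=
      (Subgroup.mem_normalizer_iff.1 (FitOf.normalizer_le_normalizer_centralizer _ hmT) c).1 hc.2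
    exact ⟨h.maximal.mem_of_commute (Subgroup.centralizer_le hAT hcc)
      (by rw [conj_pow, h.elem.2 c hc.1, mul_one, mul_inv_cancel]), hcc⟩
  by_cases hcase : A ≤ Subgroup.centralizer ((T : Subgroup G) : Set G)
  · rw [hZ, inf_eq_left.2 hcase] at hMZ
    have hNA := (h.coatom.le_iff_eq (MinSimple.normalizer_ne_top hG hAne
      (MinSimple.pSubgroup_ne_top hG (Plane.isPGroup h.card)))).1 hMZ
    exact (Subgroup.centralizer_le_normalizer _).trans hNA.le
  · exfalso
    haveI : Nontrivial (T : Subgroup G) := by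
      obtain ⟨⟨a, ha⟩, hne⟩ := Subgroup.ne_bot_iff_exists_ne_one.1 hAne
      exact ⟨⟨a, hAT ha⟩, 1, fun e => hne (Subtype.ext (congrArg (fun t : (T : Subgroup G) => (t : G)) e))⟩
    haveI := T.isPGroup'.center_nontrivial
    obtain ⟨m, hm, hm'⟩ := (T.isPGroup'.to_subgroup (Subgroup.center (T : Subgroup G))).nontrivial_iff_card.1
      inferInstance
    obtain ⟨z, hz⟩ := exists_prime_orderOf_dvd_card' (G := ↥(Subgroup.center (T : Subgroup G))) p
      (hm' ▸ dvd_pow_self p hm.ne')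
    rw [← Subgroup.orderOf_coe, ← Subgroup.orderOf_coe] at hz
    set w : G := ((z : (T : Subgroup G)) : G) with hw
    have hcen : w ∈ Subgroup.centralizer ((T : Subgroup G) : Set G) := Subgroup.mem_centralizer_iff.2
      fun x hx => congrArg Subtype.val (Subgroup.mem_center_iff.1 z.2 ⟨x, hx⟩)
    have hwA : w ∈ A := h.maximal.mem_of_commute (Subgroup.centralizer_le hAT hcen) (hz ▸ pow_orderOf_eq_one w)
    have hw1 : w ≠ 1 := fun e => hp.out.ne_one (by rw [← hz, e, orderOf_one])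
    have hZeq : Subgroup.zpowers w = Z := by
      refine Subgroup.eq_of_le_of_card_ge (Subgroup.zpowers_le.2 ⟨hwA, hcen⟩) ?_
      obtain ⟨i, hi, hc⟩ := (Nat.dvd_prime_pow hp.out).1 (h.card ▸ Subgroup.card_dvd_of_le (inf_le_left : Z ≤ A))
      have : i ≠ 2 := fun e => hcase (inf_eq_left.1 (Subgroup.eq_of_le_of_card_ge inf_le_left (by rw [hc, e, h.card])))
      rw [hc, Plane.zpowers_card h.elem hwA hw1]
      exact (Nat.pow_le_pow_right hp.out.pos (by omega : i ≤ 1)).trans (pow_one p).le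
    obtain ⟨L, hL, hNL, hne⟩ := h.exists_other hwA hw1
    rw [hZeq] at hNL
    exact hne ((h.coatom.le_iff_eq hL.1).1 (hMZ.trans hNL))

end NoLine

/-- BG 12.4(a). -/
theorem centralizer_le (hG : Cfsg.IsMinSimpleOddOrder G) (hM : IsCoatom M) (hAM : A ≤ M)
    (hAe : Cfsg.IsElementaryAbelian p A) (hA : Nat.card A = p ^ 2) :
    Subgroup.centralizer (A : Set G) ≤ M := by
  by_cases h : ∀ A₀ : Subgroup G, A₀ ≤ A → Nat.card A₀ = p →
      ¬ (Subgroup.normalizer (A₀ : Set G) ≤ M ∧
        ∀ L : Subgroup G, IsCoatom L → Subgroup.normalizer (A₀ : Set G) ≤ L → L = M)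
  · exact NoLine.centralizer_le (p := p) ⟨hG, hM, hAM, hAe, hA, h⟩
  · push Not at h
    obtain ⟨A₀, hA₀, -, hle, -⟩ := h
    exact (Subgroup.centralizer_le hA₀).trans ((Subgroup.centralizer_le_normalizer _).trans hle)

/-- For `p` outside `σ(M)` every plane of `M` is exceptional. -/
theorem exists_exc (hG : Cfsg.IsMinSimpleOddOrder G) (hM : IsCoatom M) (hAM : A ≤ M)
    (hAe : Cfsg.IsElementaryAbelian p A) (hA : Nat.card A = p ^ 2) (hp' : p ∉ Cfsg.sigma M) :
    ∃ A₀, Exc p M A A₀ ∧ ∀ L : Subgroup G, IsCoatom L → Subgroup.normalizer (A₀ : Set G) ≤ L → L = M := by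
  by_contra h
  push Not at h
  refine hp' (NoLine.mem_sigma (A := A) ⟨hG, hM, hAM, hAe, hA, fun A₀ hA₀ hc hcon => ?_⟩)
  obtain ⟨L, hL, hNL, hne⟩ := h A₀ ⟨hG, hM, hp', hAM, hAe, hA, hA₀, hc, hcon.1⟩
  exact hne (hcon.2 L hL hNL)

/-- BG 12.5(e). -/
theorem inf_eq_bot (hG : Cfsg.IsMinSimpleOddOrder G) (hM : IsCoatom M) (hAM : A ≤ M)
    (hAe : Cfsg.IsElementaryAbelian p A) (hA : Nat.card A = p ^ 2) (hp' : p ∉ Cfsg.sigma M)
    {L : Subgroup G} (hL : IsCoatom L) (hAL : A ≤ L) (hne : L ≠ M) : Cfsg.sigmaCore M ⊓ L = ⊥ := by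
  by_contra hI
  obtain ⟨A₀, h, -⟩ := exists_exc hG hM hAM hAe hA hp'
  obtain ⟨q, hqσ, hqp, hq, x, hx, hxq⟩ := h.exists_prime_element hI inf_le_left
  haveI := Fact.mk hq
  have hx1 : x ≠ 1 := fun e => hq.ne_one (by rw [← hxq, e, orderOf_one])
  obtain ⟨S, hn, hall, hSK, -⟩ := h.exists_core hqσ
  set Q := (S : Subgroup M).map M.subtype with hQ
  have hxQ : x ∈ Q := hall (Subgroup.zpowers x) (Subgroup.zpowers_le.2 (sigmaCore_le M hx.1))
    (IsPGroup.of_card (n := 1) (by rw [Nat.card_zpowers, hxq, pow_one])) (Subgroup.mem_zpowers x)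
  set T := Q ⊓ L with hT
  have hAT : A ≤ Subgroup.normalizer (T : Set G) :=
    (le_inf (hAM.trans hn) (hAL.trans Subgroup.le_normalizer)).trans Subgroup.inf_normalizer_le_normalizer_inf
  have hTq : IsPGroup q T := (S.isPGroup'.map _).to_le inf_le_left
  have hcop := Plane.coprime_card hqp hA hTq
  have hs := Or.inl (b := Group.IsSolvable T) (Plane.isSolvable hAe)
  have hxT : x ∈ T := ⟨hxQ, hx.2⟩
  have hC : T ⊓ Subgroup.centralizer (A : Set G) = ⊥ :=
    le_bot_iff.1 ((inf_le_inf_right _ (inf_le_left.trans hSK)).trans h.inf_centralizer_eq_bot.le)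
  have hTc : ⁅T, A⁆ = T := by
    have := CoprimeAct.commutator_sup_centralizer hAT hcop hs
    rwa [hC, sup_bot_eq] at this
  by_cases hpL : p ∈ Cfsg.sigma L
  · have hAσ : A ≤ ⁅L, L⁆ := (le_sigmaCore hG hL hpL (Plane.isPGroup hA) hAL).trans
      (Sigma.piCoreOf_le_derived hG hL subset_rfl)
    by_cases hβ : q ∈ Cfsg.beta L
    · exact hne (Plane.eq_of_ideal hG hL hM hβ.2 (BetaCore.beta_subset_sigma hG hL hβ) hqσ hxq hx.2
        (sigmaCore_le M hx.1))
    · have hc := Plane.le_centralizer_of_derived hG hAe hA hL hAσ hqp hTq inf_le_right hAT hβ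
        (h.maximal.not_beta L)
      exact hx1 (Subgroup.mem_bot.1 (hC ▸ ⟨hxT, Subgroup.le_centralizer_iff.1 hc hxT⟩))
  · obtain ⟨A₁, he, -⟩ := exists_exc hG hL hAL hAe hA hpL
    set U := Cfsg.sigmaCore L ⊔ A with hU
    have hTU : T ≤ U := by
      rw [← hTc, Subgroup.commutator_comm]
      exact (Subgroup.commutator_mono (le_sup_right : A ≤ U) inf_le_right).trans
        (Subgroup.le_normalizer_iff_commutator_le_left.1 he.normalizes_sup)
    haveI : ((Cfsg.sigmaCore L).subgroupOf U).Normal := Subgroup.normal_subgroupOf_of_le_normalizer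
      (sup_le Subgroup.le_normalizer (hAL.trans (le_normalizer_sigmaCore L)))
    have hxL : x ∈ Cfsg.sigmaCore L := by
      have hc := SolvBasic.card_sup_mul_card_inf (hAL.trans (le_normalizer_sigmaCore L))
      rw [inf_comm, SchurZ.inf_eq_bot (coprime_sigmaCore hA hpL).symm, Subgroup.card_bot, mul_one] at hc
      have hidx : ((Cfsg.sigmaCore L).subgroupOf U).index = Nat.card A := by
        have h1 : Nat.card (Cfsg.sigmaCore L) * (Cfsg.sigmaCore L).relIndex U = Nat.card U := by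
          rw [← Subgroup.relIndex_bot_left (Cfsg.sigmaCore L), ← Subgroup.relIndex_bot_left U]
          exact Subgroup.relIndex_mul_relIndex ⊥ _ _ bot_le le_sup_left
        exact Nat.eq_of_mul_eq_mul_left Nat.card_pos (h1.trans hc)
      have hle := le_of_coprime_index (N := (Cfsg.sigmaCore L).subgroupOf U) (X := T.subgroupOf U) (by
        rw [Nat.card_congr (Subgroup.subgroupOfEquivOfLe hTU).toEquiv, hidx]
        exact hcop.symm)
      exact hle (show (⟨x, hTU hxT⟩ : U) ∈ T.subgroupOf U from hxT)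
    exact hx1 (Subgroup.mem_bot.1 ((he.sigma_inter hM hAM hne.symm) ▸ ⟨hxL, hx.1⟩))

end Cfsg.Agent.OddOrder.PlaneUnique
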