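/-
Primes of τ₂(M) (BG 12.7): tools.
-/
import Cfsg.Agent.Lib.OddOrder.PlaneUnique
import Cfsg.Agent.Lib.OddOrder.NarrowGroup
import Cfsg.Agent.S1418

set_option autoImplicit false
set_option linter.style.haveILetI false
set_option linter.unusedSectionVars false

namespace Cfsg.Agent.OddOrder.TauTwo

open scoped commutatorElement Pointwise
open Exceptional

universe u

variable {G : Type u} [Group G] [Finite G] {p : ℕ} [hp : Fact p.Prime]

theorem not_commute_iff {a u : G} : a ∉ Subgroup.centralizer ({u} : Set G) ↔ a * u ≠ u * a := by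
  rw [Subgroup.mem_centralizer_singleton_iff]

/-- A `p`-element normalizing a plane moves one line onto every line it does not fix. -/
theorem line_conj {A N A₀ : Subgroup G} (hAe : Cfsg.IsElementaryAbelian p A) (hA : Nat.card A = p ^ 2)
    (hN : IsPGroup p N) (hAN : A ≤ N) (hn : N ≤ Subgroup.normalizer (A : Set G)) {u : G} (hu : u ∈ N)
    (hA₀A : A₀ ≤ A) (hA₀c : Nat.card A₀ = p) {a : G} (ha : a ∈ A)
    (hau : a ∉ Subgroup.centralizer ({u} : Set G)) (hA₀u : ¬ A₀ ≤ Subgroup.centralizer ({u} : Set G)) :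
    ∃ b ∈ A₀, b ≠ 1 ∧ ∃ i : ℤ, a = u ^ i * b * (u ^ i)⁻¹ := by
  haveI := hAe.1
  set Z := A ⊓ Subgroup.centralizer ({u} : Set G) with hZ
  have hAne : A ≠ ⊥ := Plane.ne_bot (p := p) hA
  haveI : Group.IsNilpotent N := hN.isNilpotent
  set D := ⁅A, N⁆ with hD
  have hDA : D ≤ A := Subgroup.le_normalizer_iff_commutator_le_left.1 hn
  have hDne : D ≠ ⊥ := fun hb => hau (Subgroup.mem_centralizer_singleton_iff.2
    (Subgroup.mem_centralizer_iff.1 (Subgroup.commutator_eq_bot_iff_le_centralizer.1 hb ha) u hu).symm)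
  have hDlt : D ≠ A := fun e => hAne (AxB.eq_bot_of_commutator_eq hAN le_rfl e)
  have hDN : N ≤ Subgroup.normalizer (D : Set G) := Subgroup.normalizer_commutator_ge_right A N
  have hDD : ⁅D, N⁆ ≤ D := Subgroup.le_normalizer_iff_commutator_le_left.1 hDN
  obtain ⟨i, hi, hc⟩ := (Nat.dvd_prime_pow hp.out).1 (hA ▸ Subgroup.card_dvd_of_le hDA)
  have hi2 : i ≠ 2 := by
    rintro rfl
    exact hDlt (Subgroup.eq_of_le_of_card_ge hDA (by rw [hc, hA]))
  have hi0 : i ≠ 0 := by
    rintro rfl
    exact hDne (Subgroup.card_eq_one.1 (by rw [hc, pow_zero]))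
  have hDc : Nat.card D = p := by rw [hc, show i = 1 by omega, pow_one]
  have hbot : ⁅D, N⁆ = ⊥ := by
    rcases (Nat.dvd_prime hp.out).1 (hDc ▸ Subgroup.card_dvd_of_le hDD) with h1 | h1
    · exact Subgroup.card_eq_one.1 h1
    · exact absurd (AxB.eq_bot_of_commutator_eq (hDA.trans hAN) le_rfl
        (Subgroup.eq_of_le_of_card_ge hDD (by rw [h1, hDc]))) hDne
  have hDZ : D ≤ Z := fun d hd => ⟨hDA hd, Subgroup.mem_centralizer_singleton_iff.2
    (Subgroup.mem_centralizer_iff.1 (Subgroup.commutator_eq_bot_iff_le_centralizer.1 hbot hd) u hu).symm⟩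
  have hZD : D = Z := by
    refine Subgroup.eq_of_le_of_card_ge hDZ ?_
    obtain ⟨j, hj, hjc⟩ := (Nat.dvd_prime_pow hp.out).1 (hA ▸ Subgroup.card_dvd_of_le (inf_le_left : Z ≤ A))
    have : j ≠ 2 := by
      rintro rfl
      exact hau ((inf_eq_left.1 (Subgroup.eq_of_le_of_card_ge inf_le_left (by rw [hjc, hA]))) ha)
    rw [hjc, hDc]
    exact (Nat.pow_le_pow_right hp.out.pos (by omega : j ≤ 1)).trans (pow_one p).le
  have hsup : D ⊔ A₀ = A := by
    refine Subgroup.eq_of_le_of_card_ge (sup_le hDA hA₀A) ?_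
    obtain ⟨j, hj, hjc⟩ := (Nat.dvd_prime_pow hp.out).1 (hA ▸ Subgroup.card_dvd_of_le (sup_le hDA hA₀A))
    have : j = 2 := by
      by_contra hne
      have hle : Nat.card (D ⊔ A₀ : Subgroup G) ≤ p := by
        rw [hjc]; exact (Nat.pow_le_pow_right hp.out.pos (by omega : j ≤ 1)).trans (pow_one p).le
      have e1 := Subgroup.eq_of_le_of_card_ge (le_sup_left : D ≤ D ⊔ A₀) (hle.trans hDc.ge)
      have e2 := Subgroup.eq_of_le_of_card_ge (le_sup_right : A₀ ≤ D ⊔ A₀) (hle.trans hA₀c.ge)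
      exact hA₀u ((e2.trans e1.symm).le.trans (hDZ.trans inf_le_right))
    rw [hjc, this, hA]
  have hm : a ∈ D ⊔ A₀ := hsup.symm ▸ ha
  obtain ⟨c, hc', b, hb, rfl⟩ := (SolvBasic.mem_sup_iff_of_le_normalizer
    (hA₀A.trans ((Subgroup.le_centralizer A).trans ((Subgroup.centralizer_le hDA).trans
      (Subgroup.centralizer_le_normalizer _))))).1 hm
  have hcu : Commute c u := Subgroup.mem_centralizer_singleton_iff.1 (hDZ hc').2
  have hbu : b ∉ Subgroup.centralizer ({u} : Set G) := fun hb' => hau (Subgroup.mul_mem _ (hDZ hc').2 hb')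
  have hb1 : b ≠ 1 := fun e => hbu (e ▸ one_mem _)
  set d := ⁅b, u⁆ with hd
  have hdD : d ∈ D := Subgroup.commutator_mem_commutator (hA₀A hb) hu
  have hd1 : d ≠ 1 := fun e => hbu
    (Subgroup.mem_centralizer_singleton_iff.2 (commutatorElement_eq_one_iff_mul_comm.1 e))
  have hdu : Commute d u := Subgroup.mem_centralizer_singleton_iff.1 (hDZ hdD).2
  have hconj : u * b * u⁻¹ = d⁻¹ * b := by rw [hd, commutatorElement_def]; group
  have key : ∀ n : ℕ, u ^ n * b * (u ^ n)⁻¹ = (d⁻¹) ^ n * b := by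
    intro n
    induction n with
    | zero => simp
    | succ n ih =>
      calc u ^ (n + 1) * b * (u ^ (n + 1))⁻¹ = u * (u ^ n * b * (u ^ n)⁻¹) * u⁻¹ := by rw [pow_succ']; group
        _ = u * ((d⁻¹) ^ n * b) * u⁻¹ := by rw [ih]
        _ = (d⁻¹) ^ n * (u * b * u⁻¹) := by rw [← mul_assoc u, ← ((hdu.inv_left).pow_left n).eq]; group
        _ = (d⁻¹) ^ (n + 1) * b := by rw [hconj, ← mul_assoc, ← pow_succ]
  obtain ⟨k, hk⟩ : ∃ k : ℕ, (d⁻¹) ^ k = c := mem_powers_iff_mem_zpowers.2 (by
    rw [Subgroup.zpowers_inv, Plane.zpowers_eq hDc hdD hd1]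
    exact hc')
  exact ⟨b, hb, hb1, k, by rw [zpow_natCast, key, hk]⟩

/-- In a Sylow subgroup through a maximal plane, `p`-th powers of order `p` of elements centralizing the
plane are central. -/
theorem pow_central (hG : Cfsg.IsMinSimpleOddOrder G) {A : Subgroup G} (hA : Plane.Maximal p A) (S : Sylow p G)
    (hAS : A ≤ (S : Subgroup G)) {x : G} (hxS : x ∈ (S : Subgroup G)) (hxA : x ∈ Subgroup.centralizer (A : Set G))
    (hxp : (x ^ p) ^ p = 1) : x ^ p ∈ Subgroup.centralizer ((S : Subgroup G) : Set G) := by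
  have hp2 : p ≠ 2 := Plane.p_ne_two hG hA.card
  by_cases hr : Cfsg.PRankLE p 2 (S : Subgroup G)
  · rcases S1412.result hG p S hr with hab | ⟨P₁, P₂, hsup, hcomm, -, -, hexp, hcyc, -⟩
    · haveI := hab
      exact Subgroup.mem_centralizer_iff.2 fun y hy =>
        congrArg Subtype.val (mul_comm' (⟨y, hy⟩ : (S : Subgroup G)) ⟨x ^ p, pow_mem hxS p⟩)
    · haveI := hcyc
      haveI : IsMulCommutative P₂ := IsCyclic.isMulCommutative
      have hcen : P₂ ≤ Subgroup.centralizer ((S : Subgroup G) : Set G) := by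
        intro b hb
        rw [← Subgroup.coe_toSubmonoid, ← hsup]
        have hle : P₁ ⊔ P₂ ≤ Subgroup.centralizer ({b} : Set G) := sup_le
          (fun a ha => Subgroup.mem_centralizer_singleton_iff.2 (hcomm a ha b hb))
          (fun c hc => Subgroup.mem_centralizer_singleton_iff.2
            (congrArg Subtype.val (mul_comm' (⟨c, hc⟩ : P₂) ⟨b, hb⟩)))
        exact Subgroup.mem_centralizer_iff.2 fun y hy => Subgroup.mem_centralizer_singleton_iff.1 (hle hy)
      have hm : x ∈ P₁ ⊔ P₂ := hsup.symm ▸ hxS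
      obtain ⟨a, ha, b, hb, rfl⟩ := (SolvBasic.mem_sup_iff_of_le_normalizer (fun b hb =>
        Subgroup.centralizer_le_normalizer _ (Subgroup.mem_centralizer_iff.2 fun a ha => hcomm a ha b hb))).1 hm
      have hap : a ^ p = 1 := by
        have := Monoid.pow_exponent_eq_one (⟨a, ha⟩ : P₁)
        rw [hexp] at this
        exact congrArg Subtype.val this
      rw [(show Commute a b from hcomm a ha b hb).mul_pow, hap, one_mul]
      exact pow_mem (hcen hb) p
  · set R := ↥(S : Subgroup G) with hR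
    have hE : Cfsg.IsElementaryAbelian p (A.subgroupOf (S : Subgroup G)) :=
      ⟨.of_setLike_mul_comm fun a ha b hb => by
        haveI := hA.elem.1
        have h' := mul_comm' (⟨(a : G), ha⟩ : A) ⟨(b : G), hb⟩
        refine Subtype.ext ?_
        exact congrArg (fun t : A => (t : G)) h',
        fun a ha => Subtype.ext (by simpa using hA.elem.2 a ha)⟩
    have hE2 : Nat.card (A.subgroupOf (S : Subgroup G)) = p ^ 2 := by
      rw [Nat.card_congr (Subgroup.subgroupOfEquivOfLe hAS).toEquiv, hA.card]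
    have hEmax : ∀ B : Subgroup (S : Subgroup G), Cfsg.IsElementaryAbelian p B → A.subgroupOf (S : Subgroup G) ≤ B →
        B = A.subgroupOf (S : Subgroup G) := fun B hB hle => by
      have hBe : Cfsg.IsElementaryAbelian p (B.map (S : Subgroup G).subtype) := by
        haveI := hB.1
        refine ⟨inferInstance, ?_⟩
        rintro _ ⟨b, hb, rfl⟩
        rw [← map_pow, hB.2 b hb, map_one]
      have heq := hA.max _ hBe fun a ha => ⟨⟨a, hAS ha⟩, hle ha, rfl⟩
      refine le_antisymm (fun b hb => ?_) hle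
      exact Subgroup.mem_subgroupOf.2 (heq.le ⟨b, hb, rfl⟩)
    obtain ⟨hET, hZc, -, -, hidx, hZE, -⟩ := NarrowBasics.structure_three hp2 S.isPGroup' hr hE hE2 hEmax
    haveI := NarrowBasics.omegaSecond_characteristic hp2 S.isPGroup'
    set T := Subgroup.centralizer (NarrowBasics.omegaSecond hp2 S.isPGroup' : Set (S : Subgroup G)) with hT
    haveI : T.Normal := inferInstance
    set E := A.subgroupOf (S : Subgroup G) with hEdef
    obtain ⟨e, heE, heT⟩ := SetLike.not_le_iff_exists.1 hET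
    have htop : Subgroup.zpowers e ⊔ T = ⊤ := by
      have hdvd : (Subgroup.zpowers e ⊔ T).index ∣ p := (Subgroup.index_dvd_of_le le_sup_right).trans hidx.dvd
      rcases (Nat.dvd_prime hp.out).1 hdvd with h | h
      · exact Subgroup.index_eq_one.1 h
      · exfalso
        have hlt : T < Subgroup.zpowers e ⊔ T := lt_of_le_of_ne le_sup_right
          fun he => heT (he.ge (Subgroup.mem_sup_left (Subgroup.mem_zpowers e)))
        have := Subgroup.index_strictAnti hlt
        rw [h, hidx] at this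
        exact lt_irrefl p this
    set x' : (S : Subgroup G) := ⟨x, hxS⟩ with hx'
    have hxC : x' ∈ Subgroup.centralizer (E : Set (S : Subgroup G)) := Subgroup.mem_centralizer_iff.2
      fun a ha => Subtype.ext (Subgroup.mem_centralizer_iff.1 hxA (a : G) ha)
    have hm : x' ∈ Subgroup.zpowers e ⊔ T := htop ▸ Subgroup.mem_top x'
    rw [← SetLike.mem_coe, Subgroup.mul_normal] at hm
    obtain ⟨_, ⟨i, rfl⟩, t, ht, hte⟩ := hm
    have hte' : e ^ i * t = x' := hte
    have hec : e ^ i ∈ Subgroup.centralizer (E : Set (S : Subgroup G)) := by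
      haveI := hE.1
      exact Subgroup.zpow_mem _ (Subgroup.le_centralizer E heE) i
    have htC : t ∈ Subgroup.centralizer (E : Set (S : Subgroup G)) := by
      have := Subgroup.mul_mem _ (Subgroup.inv_mem _ hec) hxC
      rwa [← hte', inv_mul_cancel_left] at this
    have hcomm : Commute (e ^ i) t :=
      (show Commute e t from Subgroup.mem_centralizer_iff.1 htC e heE).zpow_left i
    have hxt : x' ^ p = t ^ p := by
      rw [← hte', hcomm.mul_pow, ← zpow_natCast (e ^ i), ← zpow_mul, mul_comm, zpow_mul, zpow_natCast,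
        hE.2 e heE, one_zpow, one_mul]
    have hxE : x' ^ p ∈ E := NarrowBasics.mem_of_commute hE hEmax (Subgroup.pow_mem _ hxC p)
      (Subtype.ext (by simpa using hxp))
    have hxT : x' ^ p ∈ T := hxt ▸ Subgroup.pow_mem _ ht p
    have hZT : NarrowBasics.omegaCenter p (S : Subgroup G) ≤ T := fun z hz =>
      Subgroup.mem_centralizer_iff.2 fun c _ => Subgroup.mem_center_iff.1 hz.1 c
    have heq : NarrowBasics.omegaCenter p (S : Subgroup G) = E ⊓ T := by
      refine Subgroup.eq_of_le_of_card_ge (le_inf hZE hZT) ?_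
      obtain ⟨j, hj, hjc⟩ := (Nat.dvd_prime_pow hp.out).1
        (hE2 ▸ Subgroup.card_dvd_of_le (inf_le_left : E ⊓ T ≤ E))
      have : j ≠ 2 := by
        rintro rfl
        exact heT ((inf_eq_left.1 (Subgroup.eq_of_le_of_card_ge inf_le_left (by rw [hjc, hE2]))) heE)
      rw [hjc, hZc]
      exact (Nat.pow_le_pow_right hp.out.pos (by omega : j ≤ 1)).trans (pow_one p).le
    have hz : x' ^ p ∈ NarrowBasics.omegaCenter p (S : Subgroup G) := heq.ge ⟨hxE, hxT⟩
    refine Subgroup.mem_centralizer_iff.2 fun y hy => ?_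
    exact congrArg Subtype.val (Subgroup.mem_center_iff.1 hz.1 ⟨y, hy⟩)

/-- A `p`-group in the derived normalizer of a narrow `q`-group centralizes it. -/
theorem le_centralizer_of_narrow (hG : Cfsg.IsMinSimpleOddOrder G) {q : ℕ} [hq : Fact q.Prime] (hqp : q ≠ p)
    {R X : Subgroup G} (hR : IsPGroup q R) (hR1 : R ≠ ⊥) (hRn : Cfsg.IsNarrow q R) (hX : IsPGroup p X)
    (hXN : X ≤ ⁅Subgroup.normalizer (R : Set G), Subgroup.normalizer (R : Set G)⁆) :
    X ≤ Subgroup.centralizer (R : Set G) := by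
  set N := Subgroup.normalizer (R : Set G) with hN
  haveI := MinSimple.isSolvable hG (MinSimple.normalizer_ne_top hG hR1 (MinSimple.pSubgroup_ne_top hG hR))
  have hq2 : q ≠ 2 := Uniq.ne_two_of_dvd hG (by
    haveI : Nontrivial R := (Subgroup.nontrivial_iff_ne_bot R).2 hR1
    obtain ⟨n, hn, hn'⟩ := hR.nontrivial_iff_card.1 inferInstance
    exact (hn' ▸ dvd_pow_self q hn.ne').trans R.card_subgroup_dvd_card)
  set c₀ := Blackburn.conjAct R N le_rfl with hc₀
  haveI : Group.IsSolvable c₀.range := Group.isSolvable_of_surjective c₀.rangeRestrict_surjective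
  have hodd : Odd (Nat.card c₀.range) :=
    (hG.1.of_dvd_nat N.card_subgroup_dvd_card).of_dvd_nat (Subgroup.card_range_dvd c₀)
  have hder := NarrowGroup.derived_pgroup hq2 hR hRn hodd c₀.range.subtype c₀.range.subtype_injective
  intro x hx
  have hxN' : x ∈ (commutator N).map N.subtype := by
    rw [Subgroup.map_subtype_commutator]
    exact hXN hx
  obtain ⟨y, hy, rfl⟩ := hxN'
  have hmem : c₀.rangeRestrict y ∈ commutator c₀.range := by
    have : (commutator N).map c₀.rangeRestrict ≤ commutator c₀.range := by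
      rw [commutator_def, Subgroup.map_commutator]
      exact Subgroup.commutator_mono le_top le_top
    exact this (Subgroup.mem_map_of_mem _ hy)
  obtain ⟨i, hi⟩ := hder ⟨_, hmem⟩
  obtain ⟨j, hj⟩ := hX ⟨_, hx⟩
  have hy' : y ^ p ^ j = 1 := Subtype.ext (by simpa [Subtype.ext_iff] using hj)
  have h1 : c₀.rangeRestrict y ^ q ^ i = 1 := congrArg Subtype.val hi
  have h2 : c₀.rangeRestrict y ^ p ^ j = 1 := by rw [← map_pow, hy', map_one]
  have h3 := pow_gcd_eq_one.2 ⟨h1, h2⟩
  rw [(Nat.coprime_pow_primes i j hq.out hp.out hqp).gcd_eq_one, pow_one] at h3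
  refine Subgroup.mem_centralizer_iff.2 fun r hr => ?_
  have h4 : ((c₀ y) ⟨r, hr⟩ : R) = ⟨r, hr⟩ := by
    rw [show c₀ y = 1 from congrArg Subtype.val h3]; rfl
  have h5 : (y : G) * r * (y : G)⁻¹ = r := congrArg Subtype.val h4
  exact (mul_inv_eq_iff_eq_mul.1 h5).symm

/-- Subgroups of prime power order, the prime outside `σ(M)`, are conjugate into any complement. -/
theorem exists_conj_le_complement (hG : Cfsg.IsMinSimpleOddOrder G) {M E X : Subgroup G} (hM : IsCoatom M)
    (hE : Cfsg.IsComplIn E (Cfsg.sigmaCore M) M) (hX : IsPGroup p X) (hXM : X ≤ M) (hp' : p ∉ Cfsg.sigma M) :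
    ∃ m ∈ M, X.map (MulAut.conj m).toMonoidHom ≤ E := by
  obtain ⟨T⟩ : Nonempty (Sylow p E) := inferInstance
  have hTM : (T : Subgroup E).map E.subtype ≤ M := (Subgroup.map_subtype_le _).trans hE.1
  obtain ⟨S, hS⟩ := ((T.isPGroup'.map E.subtype).comap_subtype (K := M)).exists_le_sylow
  have heq : (T : Subgroup E).map E.subtype = (S : Subgroup M).map M.subtype := by
    refine Subgroup.eq_of_le_of_card_ge (fun x hx => ⟨⟨x, hTM hx⟩, hS hx, rfl⟩) ?_
    rw [Subgroup.card_map_of_injective E.subtype_injective, Subgroup.card_map_of_injective M.subtype_injective,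
      S.card_eq_multiplicity, T.card_eq_multiplicity, Compl.card_eq hE,
      Nat.factorization_mul Nat.card_pos.ne' Nat.card_pos.ne', Finsupp.coe_add, Pi.add_apply,
      Nat.factorization_eq_zero_of_not_dvd fun h => hp' (mem_sigma_of_dvd hp.out h), add_zero]
  obtain ⟨S', hS'⟩ := (hX.comap_subtype (K := M)).exists_le_sylow
  obtain ⟨m, hm, hmS⟩ := Sigma.exists_sylow_conj S' S
  refine ⟨m, hm, ?_⟩
  refine le_trans ?_ (Subgroup.map_subtype_le (T : Subgroup E))
  rw [heq, hmS]
  exact Subgroup.map_mono fun x hx => ⟨⟨x, hXM hx⟩, hS' hx, rfl⟩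

/-- A prime of `τ₂(M)` has a plane in every complement. -/
theorem exists_plane (hG : Cfsg.IsMinSimpleOddOrder G) {M E : Subgroup G} (hM : IsCoatom M)
    (hE : Cfsg.IsComplIn E (Cfsg.sigmaCore M) M) (hp' : p ∈ Cfsg.tau2 M) :
    ∃ B : Subgroup G, B ≤ E ∧ Cfsg.IsElementaryAbelian p B ∧ Nat.card B = p ^ 2 := by
  obtain ⟨hprime, hpσ, hr2, hr1⟩ := hp'
  unfold Cfsg.PRankLE at hr1
  push Not at hr1
  obtain ⟨B, hBc, hBp, hB⟩ := hr1
  haveI := hBc
  set B₀ := B.map M.subtype with hB0
  have hB0e : Cfsg.IsElementaryAbelian p B₀ := ⟨inferInstance, by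
    rintro _ ⟨b, hb, rfl⟩
    rw [← map_pow, hBp b hb, map_one]⟩
  have hB0c : Nat.card B₀ = Nat.card B := Subgroup.card_map_of_injective M.subtype_injective
  obtain ⟨k, hk⟩ := (UniqProp.isPGroup_of_elementary hB0e).exists_card_eq
  have hk2 : Nat.card B₀ = p ^ 2 := by
    have hle := hr2 B hBc hBp
    rw [← hB0c, hk] at hle hB
    rw [pow_one] at hB
    have h1 := (Nat.pow_le_pow_iff_right hprime.one_lt).1 hle
    have h2 : 1 < k := (Nat.pow_lt_pow_iff_right hprime.one_lt).1 (by rwa [pow_one])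
    rw [hk, show k = 2 by omega]
  obtain ⟨m, -, hmE⟩ := exists_conj_le_complement hG hM hE (UniqProp.isPGroup_of_elementary hB0e)
    (Subgroup.map_subtype_le _) hpσ
  refine ⟨_, hmE, ⟨inferInstance, ?_⟩, ?_⟩
  · rintro _ ⟨b, hb, rfl⟩
    rw [← map_pow, hB0e.2 b hb, map_one]
  · rw [Subgroup.card_map_of_injective (MulAut.conj m).injective, hk2]

end Cfsg.Agent.OddOrder.TauTwo
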