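/-
Complements to M_σ (BG 12.8-12.10).
-/
import Cfsg.Agent.Lib.OddOrder.TauTwo
import Cfsg.Agent.Lib.Solvable.Hall
import Cfsg.Agent.Lib.Solvable.MinimalNonNilpotent
import Cfsg.Agent.S1415
import Cfsg.Agent.S1417

set_option autoImplicit false
set_option linter.style.haveILetI false
set_option linter.unusedSectionVars false

namespace Cfsg.Agent.OddOrder.ComplBasics

open scoped commutatorElement Pointwise
open Exceptional

universe u

variable {G : Type u} [Group G] [Finite G] {M E : Subgroup G}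

theorem coprime_card (hG : Cfsg.IsMinSimpleOddOrder G) (hM : IsCoatom M)
    (hE : Cfsg.IsComplIn E (Cfsg.sigmaCore M) M) :
    (Nat.card E).Coprime (Nat.card (Cfsg.sigmaCore M)) :=
  Nat.coprime_of_dvd fun _ hq hqE hqK => not_dvd_complement hG hM hE hq hqE (mem_sigma_of_dvd hq hqK)

theorem coprime_sigmaCore_of_not_sigma {X : Subgroup G}
    (hX : ∀ q : ℕ, q.Prime → q ∣ Nat.card X → q ∉ Cfsg.sigma M) :
    (Nat.card X).Coprime (Nat.card (Cfsg.sigmaCore M)) :=
  Nat.coprime_of_dvd fun q hq hqX hqK => hX q hq hqX (mem_sigma_of_dvd hq hqK)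

/-- Subgroups of order prime to that of `M_σ` are conjugate into any complement. -/
theorem exists_conj_le (hG : Cfsg.IsMinSimpleOddOrder G) (hM : IsCoatom M)
    (hE : Cfsg.IsComplIn E (Cfsg.sigmaCore M) M) {X : Subgroup G} (hXM : X ≤ M)
    (hX : (Nat.card X).Coprime (Nat.card (Cfsg.sigmaCore M))) :
    ∃ m ∈ M, X.map (MulAut.conj m).toMonoidHom ≤ E := by
  haveI := MinSimple.isSolvable hG hM.1
  obtain ⟨⟨m, hm⟩, hle⟩ := HallSolv.hall_conj_le (G := M) (Compl.card_eq hE) (coprime_card hG hM hE)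
    (H := E.subgroupOf M) (K := X.subgroupOf M)
    (Nat.card_congr (Subgroup.subgroupOfEquivOfLe hE.1).toEquiv)
    (by rw [Nat.card_congr (Subgroup.subgroupOfEquivOfLe hXM).toEquiv]; exact hX)
  refine ⟨m, hm, ?_⟩
  rintro _ ⟨x, hx, rfl⟩
  exact hle (Subgroup.smul_mem_pointwise_smul (⟨x, hXM hx⟩ : M) (MulAut.conj (⟨m, hm⟩ : M)) (X.subgroupOf M) hx)

theorem exists_complement_containing (hG : Cfsg.IsMinSimpleOddOrder G) (hM : IsCoatom M) {X : Subgroup G}
    (hXM : X ≤ M) (hX : (Nat.card X).Coprime (Nat.card (Cfsg.sigmaCore M))) :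
    ∃ F : Subgroup G, Cfsg.IsComplIn F (Cfsg.sigmaCore M) M ∧ X ≤ F := by
  obtain ⟨F, hF⟩ := exists_complement hG hM
  obtain ⟨m, hm, hle⟩ := exists_conj_le hG hM hF hXM hX
  refine ⟨_, map_complement hF (M.inv_mem hm), fun x hx => ⟨m * x * m⁻¹, hle ⟨x, hx, rfl⟩, ?_⟩⟩
  simp [mul_assoc]

variable {p : ℕ} [hp : Fact p.Prime]

/-- A prime of `τ₂(M)` has a plane in every Sylow subgroup of `M`. -/
theorem exists_plane_sylow (hp' : p ∈ Cfsg.tau2 M) (P : Sylow p M) :
    ∃ A : Subgroup G, A ≤ (P : Subgroup M).map M.subtype ∧ Cfsg.IsElementaryAbelian p A ∧ Nat.card A = p ^ 2 := by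
  obtain ⟨-, -, hr2, hr1⟩ := hp'
  have hP1 : ¬ Cfsg.PRankLE p 1 (P : Subgroup M) := fun h' => hr1 (LocalFactor.prankLE_of_sylow P h')
  unfold Cfsg.PRankLE at hP1
  push Not at hP1
  obtain ⟨B, hBc, hBp, hB⟩ := hP1
  haveI := hBc
  set B' := (B.map (P : Subgroup M).subtype).map M.subtype with hB'
  have hBe : Cfsg.IsElementaryAbelian p B' := by
    refine ⟨inferInstance, ?_⟩
    rintro _ ⟨_, ⟨b, hb, rfl⟩, rfl⟩
    rw [← map_pow, ← map_pow, hBp b hb, map_one, map_one]
  refine ⟨B', Subgroup.map_mono (Subgroup.map_subtype_le _), hBe, ?_⟩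
  have hcard : Nat.card B' = Nat.card B := by
    rw [hB', Subgroup.card_map_of_injective M.subtype_injective,
      Subgroup.card_map_of_injective (P : Subgroup M).subtype_injective]
  obtain ⟨k, hk⟩ := IsPGroup.iff_card.1 (UniqProp.isPGroup_of_elementary hBe)
  have hle : Nat.card B' ≤ p ^ 2 := by
    have h' := hr2 (B.map (P : Subgroup M).subtype) inferInstance (by
      rintro _ ⟨b, hb, rfl⟩
      rw [← map_pow, hBp b hb, map_one])
    rwa [hB', Subgroup.card_map_of_injective M.subtype_injective]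
  rw [← hcard, hk, pow_one] at hB
  rw [hk] at hle ⊢
  have h1 := (Nat.pow_le_pow_iff_right hp.out.one_lt).1 hle
  have h2 : 1 < k := (Nat.pow_lt_pow_iff_right hp.out.one_lt).1 (by rwa [pow_one])
  rw [show k = 2 by omega]

/-- `p`-subgroups of `M`, `p ∉ σ(M)`, are abelian. -/
theorem isMulCommutative_of_not_sigma (hG : Cfsg.IsMinSimpleOddOrder G) (hM : IsCoatom M)
    (hp' : p ∉ Cfsg.sigma M) {X : Subgroup G} (hX : IsPGroup p X) (hXM : X ≤ M) : IsMulCommutative X := by
  have hr2 : Cfsg.PRankLE p 2 M := by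
    by_contra h
    exact hp' (Sigma.alpha_subset_sigma hG hM ⟨hp.out, h⟩)
  by_cases hr1 : Cfsg.PRankLE p 1 M
  · haveI : IsCyclic X := by
      refine CyclicSylow.isCyclic_of_isPGroup (hG.1.of_dvd_nat X.card_subgroup_dvd_card) hX fun B hB hBp => ?_
      haveI := hB
      have := hr1 (B.map (Subgroup.inclusion hXM)) inferInstance (by
        rintro _ ⟨b, hb, rfl⟩
        rw [← map_pow, hBp b hb, map_one])
      rwa [Subgroup.card_map_of_injective (Subgroup.inclusion_injective _)] at this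
    exact IsCyclic.isMulCommutative
  · obtain ⟨P, hP⟩ := (hX.comap_subtype (K := M)).exists_le_sylow
    obtain ⟨A, hAP, hAe, hA⟩ := exists_plane_sylow (p := p) ⟨hp.out, hp', hr2, hr1⟩ P
    obtain ⟨A₀, h, -⟩ := PlaneUnique.exists_exc hG hM (hAP.trans (Subgroup.map_subtype_le _)) hAe hA hp'
    haveI := h.sylow_abelian P hAP
    refine .of_setLike_mul_comm fun a ha b hb => ?_
    have h' := mul_comm' (⟨⟨a, hXM ha⟩, hP ha⟩ : (P : Subgroup M)) ⟨⟨b, hXM hb⟩, hP hb⟩
    exact congrArg (fun t : (P : Subgroup M) => ((t : M) : G)) h'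

omit hp

/-- BG 12.10(a). -/
theorem nilpotent_abelian (hG : Cfsg.IsMinSimpleOddOrder G) (hM : IsCoatom M) {N : Subgroup G} (hNM : N ≤ M)
    (hN : Group.IsNilpotent N) (hσ : ∀ q : ℕ, q.Prime → q ∣ Nat.card N → q ∉ Cfsg.sigma M) :
    IsMulCommutative N := by
  haveI := hN
  refine SolvMinNN.commutative_of_sylows fun q hq P => ?_
  by_cases hP : (P : Subgroup N) = ⊥
  · rw [hP]
    exact .of_setLike_mul_comm fun a ha b hb => by rw [Subgroup.mem_bot.1 ha, Subgroup.mem_bot.1 hb]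
  have hd : q ∣ Nat.card N := (P.isPGroup'.card_eq_or_dvd.resolve_left fun e =>
    hP (Subgroup.card_eq_one.1 e)).trans (Subgroup.card_subgroup_dvd_card _)
  haveI := isMulCommutative_of_not_sigma hG hM (hσ q hq.out hd) (P.isPGroup'.map N.subtype)
    ((Subgroup.map_subtype_le _).trans hNM)
  refine .of_setLike_mul_comm fun a ha b hb => Subtype.ext ?_
  have h' := mul_comm' (⟨(a : G), ⟨a, ha, rfl⟩⟩ : (P : Subgroup N).map N.subtype) ⟨b, ⟨b, hb, rfl⟩⟩
  exact congrArg (fun t : (P : Subgroup N).map N.subtype => (t : G)) h'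

/-- BG 12.10(d). -/
theorem derived_abelian (hG : Cfsg.IsMinSimpleOddOrder G) (hM : IsCoatom M)
    (hE : Cfsg.IsComplIn E (Cfsg.sigmaCore M) M) : IsMulCommutative ↥⁅E, E⁆ := by
  obtain ⟨hn, -, -⟩ := S1415.result hG M hM E hE
  have hle : ⁅E, E⁆ ≤ E := Subgroup.le_normalizer_iff_commutator_le_left.1 Subgroup.le_normalizer
  exact nilpotent_abelian hG hM (hle.trans hE.1) hn fun q hq hd =>
    not_dvd_complement hG hM hE hq (hd.trans (Subgroup.card_dvd_of_le hle))

include hp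

/-- BG 12.10(c). -/
theorem normalizer_le_of_not_cyclic (hG : Cfsg.IsMinSimpleOddOrder G) (hM : IsCoatom M)
    (hp' : p ∈ Cfsg.sigma M) {P : Subgroup G} (hP : IsPGroup p P) (hPM : P ≤ M) (hPc : ¬ IsCyclic P) :
    Subgroup.normalizer (P : Set G) ≤ M := by
  have hP1 : P ≠ ⊥ := fun e => hPc (e ▸ inferInstance)
  have hp2 : p ≠ 2 := Uniq.ne_two_of_dvd hG (by
    haveI : Nontrivial P := (Subgroup.nontrivial_iff_ne_bot P).2 hP1
    obtain ⟨n, hn, hn'⟩ := hP.nontrivial_iff_card.1 inferInstance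
    exact (hn' ▸ dvd_pow_self p hn.ne').trans P.card_subgroup_dvd_card)
  obtain ⟨W, -, hWe, hW2⟩ := S0126.result hp2 hP hPc
  haveI := hWe.1
  have hA : Cfsg.IsElementaryAbelian p (W.map P.subtype) := ⟨inferInstance, by
    rintro _ ⟨w, hw, rfl⟩
    rw [← map_pow, hWe.2 w hw, map_one]⟩
  have hAP : W.map P.subtype ≤ P := Subgroup.map_subtype_le _
  have hC : Subgroup.centralizer (P : Set G) ≤ M := (Subgroup.centralizer_le hAP).trans
    (PlaneUnique.centralizer_le (p := p) hG hM (hAP.trans hPM) hA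
      (by rw [Subgroup.card_map_of_injective P.subtype_injective, hW2]))
  rw [Sigma.normalizer_eq hG hM hp' hP hP1 hPM]
  exact sup_le inf_le_left hC

/-- Elements of `E` of order a power of another prime of `τ₂(M)` centralize the plane. -/
theorem centralizes_plane (hG : Cfsg.IsMinSimpleOddOrder G) (hM : IsCoatom M)
    (hE : Cfsg.IsComplIn E (Cfsg.sigmaCore M) M) (hp' : p ∈ Cfsg.tau2 M) {A : Subgroup G} (hAE : A ≤ E)
    (hAe : Cfsg.IsElementaryAbelian p A) (hA : Nat.card A = p ^ 2) {q : ℕ} [hq : Fact q.Prime]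
    (hqp : q ≠ p) (hq' : q ∈ Cfsg.tau2 M) {X : Subgroup G} (hX : IsPGroup q X) (hXE : X ≤ E) :
    X ≤ Subgroup.centralizer (A : Set G) := by
  obtain ⟨A₀, h, -⟩ := PlaneUnique.exists_exc hG hM (hAE.trans hE.1) hAe hA hp'.2.1
  obtain ⟨B, hBE, hBe, hB⟩ := TauTwo.exists_plane (p := q) hG hM hE hq'
  obtain ⟨B₀, hb, -⟩ := PlaneUnique.exists_exc hG hM (hBE.trans hE.1) hBe hB hq'.2.1
  have hEA := h.compl_normalizes hE hAE
  have hEB := hb.compl_normalizes hE hBE
  have hAB : A ≤ Subgroup.centralizer (B : Set G) := fun a ha => Subgroup.mem_centralizer_iff.2 fun b hb' =>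
    AxB.commute_of_coprime (hBE.trans hEA) (hAE.trans hEB)
      (by rw [hA, hB]; exact Nat.coprime_pow_primes 2 2 hq.out hp.out hqp) hb' ha
  have hpB : p ∣ Nat.card (Subgroup.centralizer (B : Set G)) :=
    (hA ▸ dvd_pow_self p two_ne_zero : p ∣ Nat.card A).trans (Subgroup.card_dvd_of_le hAB)
  obtain ⟨R, hR, hAR⟩ := Inv.exists_max (H := (⊤ : Subgroup G)) (π := {p})
    (Inv.mem_inv_iff.2 ⟨Plane.isPGroup hA, hBE.trans hEA⟩)
  obtain ⟨hRp, -, -⟩ := Inv.mem_max_iff.1 hR
  obtain ⟨S, hBS, hS⟩ := hb.maximal.exists_sylow_le_derived hG hqp.symm hpB hR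
  have hR1 : R ≠ ⊥ := fun e => Plane.ne_bot (p := p) hA (le_bot_iff.1 (e ▸ hAR))
  have hRn : Cfsg.IsNarrow p R := by
    have hAsub : Cfsg.IsElementaryAbelian p (A.subgroupOf R) :=
      ⟨.of_setLike_mul_comm fun a ha b hb => by
        haveI := hAe.1
        have h' := mul_comm' (⟨(a : G), ha⟩ : A) ⟨(b : G), hb⟩
        refine Subtype.ext ?_
        exact congrArg (fun t : A => (t : G)) h',
        fun a ha => Subtype.ext (by simpa using hAe.2 a ha)⟩
    refine NarrowBasics.isNarrow_of_maximal_pair (Plane.p_ne_two hG hA) hRp hAsub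
      (by rw [Nat.card_congr (Subgroup.subgroupOfEquivOfLe hAR).toEquiv, hA]) fun C hC hle => ?_
    have hCe : Cfsg.IsElementaryAbelian p (C.map R.subtype) := by
      haveI := hC.1
      refine ⟨inferInstance, ?_⟩
      rintro _ ⟨c, hc, rfl⟩
      rw [← map_pow, hC.2 c hc, map_one]
    have heq := h.maximal.max _ hCe fun b hb' => ⟨⟨b, hAR hb'⟩, hle hb', rfl⟩
    refine le_antisymm (fun c hc => ?_) hle
    exact Subgroup.mem_subgroupOf.2 (heq.le ⟨c, hc, rfl⟩)
  have hSC : (S : Subgroup G) ≤ Subgroup.centralizer (A : Set G) :=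
    (TauTwo.le_centralizer_of_narrow hG (Ne.symm hqp) hRp hR1 hRn S.isPGroup' hS).trans (Subgroup.centralizer_le hAR)
  obtain ⟨⟨-, -⟩, ⟨hCle, hNE, -⟩, -⟩ := S1418.result hG M hM E hE p hp' A ⟨hAE, hAe, hA⟩
  have hSE : (S : Subgroup G) ≤ E := hSC.trans (hCle.trans hNE.le)
  -- `C_E(A)` is normal in `E` and contains a Sylow `q`-subgroup
  set C := (Subgroup.centralizer (A : Set G)).subgroupOf E with hC
  haveI : C.Normal := by
    refine ⟨fun c hc e => ?_⟩
    rw [hC, Subgroup.mem_subgroupOf] at hc ⊢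
    exact (Subgroup.mem_normalizer_iff.1 (FitOf.normalizer_le_normalizer_centralizer _ (hEA e.2)) _).1 hc
  have hidx : ¬ q ∣ C.index := fun hd => S.not_dvd_index (by
    have h1 : (S : Subgroup G).subgroupOf E ≤ C := fun x hx => hSC hx
    rw [← Subgroup.relIndex_mul_index hSE]
    exact (hd.trans (Subgroup.index_dvd_of_le h1)).mul_right _)
  intro x hx
  have hle := le_of_coprime_index (N := C) (X := X.subgroupOf E) (by
    obtain ⟨k, hk⟩ := hX.exists_card_eq
    rw [Nat.card_congr (Subgroup.subgroupOfEquivOfLe hXE).toEquiv, hk]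
    exact (hq.out.coprime_iff_not_dvd.2 hidx).pow_left k)
  exact hle (show (⟨x, hXE hx⟩ : E) ∈ X.subgroupOf E from hx)

/-- BG 12.10(e). -/
theorem tau_two_element (hG : Cfsg.IsMinSimpleOddOrder G) (hM : IsCoatom M) {x : G} (hx : x ∈ M)
    (hpx : p ∣ orderOf x) (hτ : ∀ q : ℕ, q.Prime → q ∣ orderOf x → q ∈ Cfsg.tau2 M)
    (hxσ : x ∈ Cfsg.sigmaHat M) :
    Subgroup.centralizer ({x} : Set G) ≤ M ∧
      ∀ L : Subgroup G, IsCoatom L → Subgroup.centralizer ({x} : Set G) ≤ L → L = M := by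
  set X := Subgroup.zpowers x with hX
  have hXM : X ≤ M := Subgroup.zpowers_le.2 hx
  obtain ⟨F, hF, hXF⟩ := exists_complement_containing hG hM hXM (coprime_sigmaCore_of_not_sigma fun q hq hd =>
    (hτ q hq (by rwa [hX, Nat.card_zpowers] at hd)).2.1)
  have hp' := hτ p hp.out hpx
  obtain ⟨A, hAF, hAe, hA⟩ := TauTwo.exists_plane (p := p) hG hM hF hp'
  obtain ⟨A₀, h, -⟩ := PlaneUnique.exists_exc hG hM (hAF.trans hF.1) hAe hA hp'.2.1
  have hFA := h.compl_normalizes hF hAF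
  have hXC : X ≤ Subgroup.centralizer (A : Set G) := by
    rw [← Subgroup.subgroupOf_eq_top]
    refine FittingCores.eq_top_of_forall_sylow_le fun q hq => ?_
    haveI := Fact.mk hq
    refine ⟨default, fun y hy => ?_⟩
    set Q : Sylow q X := default with hQ
    set Qm := (Q : Subgroup X).map X.subtype with hQm
    by_cases hy1 : y = 1
    · rw [hy1]; exact one_mem _
    have hqd : q ∣ orderOf x := by
      rw [← Nat.card_zpowers]
      exact (Q.isPGroup'.card_eq_or_dvd.resolve_left fun e =>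
        hy1 (Subgroup.mem_bot.1 (Subgroup.card_eq_one.1 e ▸ hy))).trans (Subgroup.card_subgroup_dvd_card _)
    have hQF : Qm ≤ F := (Subgroup.map_subtype_le _).trans hXF
    by_cases hqp : q = p
    · subst hqp
      set T := Qm ⊔ A with hT
      have hTp : IsPGroup q T := (Q.isPGroup'.map X.subtype).to_sup_of_normal_right' (Plane.isPGroup hA) (hQF.trans hFA)
      haveI := isMulCommutative_of_not_sigma hG hM hp'.2.1 hTp ((sup_le hQF hAF).trans hF.1)
      exact (Subgroup.le_centralizer T).trans (Subgroup.centralizer_le (le_sup_right : A ≤ T))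
        (Subgroup.mem_sup_left ⟨y, hy, rfl⟩)
    · exact centralizes_plane hG hM hF hp' hAF hAe hA hqp (hτ q hq hqd) (Q.isPGroup'.map X.subtype) hQF
        ⟨y, hy, rfl⟩
  have hAC : A ≤ Subgroup.centralizer ({x} : Set G) := fun a ha => Subgroup.mem_centralizer_singleton_iff.2
    (Subgroup.mem_centralizer_iff.1 (hXC (Subgroup.mem_zpowers x)) a ha)
  have hx1 : x ≠ 1 := fun e => by rw [e, orderOf_one] at hpx; exact hp.out.not_dvd_one hpx
  obtain ⟨-, y, hy, hy1, hxy⟩ := hxσ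
  have key : ∀ L : Subgroup G, IsCoatom L → Subgroup.centralizer ({x} : Set G) ≤ L → L = M := fun L hL hle => by
    by_contra hne
    have hbot := PlaneUnique.inf_eq_bot hG hM (hAF.trans hF.1) hAe hA hp'.2.1 hL (hAC.trans hle) hne
    exact hy1 (Subgroup.mem_bot.1 (hbot ▸ ⟨hy, hle (Subgroup.mem_centralizer_singleton_iff.2 hxy.symm)⟩))
  obtain ⟨L, hL, hle⟩ := Uniq.exists_maximal_ge (MinSimple.centralizer_singleton_ne_top hG hx1)
  exact ⟨key L hL hle ▸ hle, key⟩

end Cfsg.Agent.OddOrder.ComplBasics
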