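/-
A nonabelian Sylow subgroup of rank two lies in one maximal subgroup (BG 12.13).
-/
import Cfsg.Agent.Lib.OddOrder.ComplBasics
import Cfsg.Agent.S1410
import Cfsg.Agent.S1412

set_option autoImplicit false
set_option linter.style.haveILetI false
set_option linter.unusedSectionVars false

namespace Cfsg.Agent.OddOrder.NonabelianUnique

open scoped commutatorElement Pointwise
open Exceptional

universe u

variable {G : Type u} [Group G] [Finite G] {p : ℕ} [hp : Fact p.Prime]

/-- A Sylow subgroup of rank two with its extraspecial part `P` and derived subgroup `Z`. -/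
structure Frame (p : ℕ) (S : Sylow p G) (P Z : Subgroup G) : Prop where
  minSimple : Cfsg.IsMinSimpleOddOrder G
  rank : Cfsg.PRankLE p 2 G
  le : P ≤ (S : Subgroup G)
  Z_le : Z ≤ P
  Z_card : Nat.card Z = p
  Z_central : Z ≤ Subgroup.centralizer ((S : Subgroup G) : Set G)
  P_card : Nat.card P = p ^ 3
  pow : ∀ x ∈ P, x ^ p = 1
  derived : ⁅(S : Subgroup G), (S : Subgroup G)⁆ = Z
  center : P ⊓ Subgroup.centralizer (P : Set G) ≤ Z

/-- The frame given by the structure theorem. -/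
theorem exists_frame (hG : Cfsg.IsMinSimpleOddOrder G) (S : Sylow p G) (hr : Cfsg.PRankLE p 2 (S : Subgroup G))
    (hna : ¬ IsMulCommutative (S : Subgroup G)) : ∃ P Z : Subgroup G, Frame p S P Z := by
  obtain ⟨P, P₂, hsup, hcomm, hPna, hPc, hPe, hP₂c, hcl⟩ := (S1412.result hG p S hr).resolve_left hna
  set Z := P ⊓ Subgroup.centralizer (P : Set G) with hZ
  have hPS : P ≤ (S : Subgroup G) := le_sup_left.trans hsup.le
  have hpow : ∀ x ∈ P, x ^ p = 1 := fun x hx => by
    have h := congrArg Subtype.val (Monoid.pow_exponent_eq_one (⟨x, hx⟩ : P))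
    rwa [hPe] at h
  have hZP₂ : Z ≤ P₂ := hcl.ge.trans ((Subgroup.closure_le P₂).2 fun x hx => hx.1)
  have hS1 : (S : Subgroup G) ≤ Subgroup.centralizer (Z : Set G) := hsup.ge.trans (sup_le
    (fun x hx => Subgroup.mem_centralizer_iff.2 fun z hz => (Subgroup.mem_centralizer_iff.1 hz.2 x hx).symm)
    (fun x hx => Subgroup.mem_centralizer_iff.2 fun z hz => hcomm z hz.1 x hx))
  have hZcyc : IsCyclic Z := by
    haveI := hP₂c
    exact isCyclic_of_injective (Subgroup.inclusion hZP₂) (Subgroup.inclusion_injective _)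
  have hPp : IsPGroup p P := IsPGroup.of_card hPc
  have hZne : Z ≠ ⊥ := by
    haveI : Nontrivial P := by
      rw [← Finite.one_lt_card_iff_nontrivial, hPc]
      exact Nat.one_lt_pow (by norm_num) hp.out.one_lt
    haveI := hPp.center_nontrivial
    obtain ⟨⟨z, hz⟩, hz1⟩ := exists_ne (1 : Subgroup.center P)
    refine fun hb => hz1 (Subtype.ext (Subtype.ext ?_))
    have h : (z : G) ∈ Z := ⟨z.2, Subgroup.mem_centralizer_iff.2 fun x hx =>
      congrArg Subtype.val (Subgroup.mem_center_iff.1 hz ⟨x, hx⟩)⟩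
    exact Subgroup.mem_bot.1 (hb ▸ h)
  have hZc : Nat.card Z = p := by
    haveI := hZcyc
    obtain ⟨g, hg⟩ := IsCyclic.exists_generator (α := Z)
    have hd : Nat.card Z ∣ p := by
      rw [← orderOf_eq_card_of_forall_mem_zpowers hg]
      exact orderOf_dvd_of_pow_eq_one (Subtype.ext (by simpa using hpow _ g.2.1))
    exact (((Nat.dvd_prime hp.out).1 hd).resolve_left fun h => hZne (Subgroup.card_eq_one.1 h))
  -- the quotient of `P` by `Z` has order `p²`
  have hPP : ⁅P, P⁆ ≤ Z := by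
    set Zs := Z.subgroupOf P with hZs
    haveI : Zs.Normal := ⟨fun z hz g => by
      rw [hZs, Subgroup.mem_subgroupOf] at hz ⊢
      show (g : G) * z * (g : G)⁻¹ ∈ Z
      rw [← Subgroup.mem_centralizer_iff.1 (hS1 (hPS g.2)) _ hz, mul_inv_cancel_right]
      exact hz⟩
    have hcard : Nat.card (P ⧸ Zs) = p ^ 2 := by
      have h := Subgroup.card_eq_card_quotient_mul_card_subgroup Zs
      rw [hPc, Nat.card_congr (Subgroup.subgroupOfEquivOfLe (inf_le_left : Z ≤ P)).toEquiv, hZc, pow_succ] at h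
      exact (mul_right_cancel₀ hp.out.ne_zero h).symm
    refine Subgroup.commutator_le.2 fun x hx y hy => ?_
    have h := IsPGroup.commutative_of_card_eq_prime_sq hcard (QuotientGroup.mk' Zs ⟨x, hx⟩) (QuotientGroup.mk' Zs ⟨y, hy⟩)
    rw [← commutatorElement_eq_one_iff_mul_comm, ← map_commutatorElement] at h
    exact Subgroup.mem_subgroupOf.1 ((QuotientGroup.eq_one_iff _).1 h)
  have hSS : ⁅(S : Subgroup G), (S : Subgroup G)⁆ ≤ Z := by
    have hP₂ : P ≤ Subgroup.centralizer (P₂ : Set G) := fun x hx =>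
      Subgroup.mem_centralizer_iff.2 fun y hy => (hcomm x hx y hy).symm
    rw [← hsup]
    refine Subgroup.commutator_le.2 fun s hs t ht => ?_
    have hn : P ≤ Subgroup.normalizer (P₂ : Set G) := hP₂.trans (Subgroup.centralizer_le_normalizer _)
    obtain ⟨x, hx, y, hy, rfl⟩ := (SolvBasic.mem_sup_iff_of_le_normalizer hn).1 (sup_comm P P₂ ▸ hs)
    obtain ⟨x', hx', y', hy', rfl⟩ := (SolvBasic.mem_sup_iff_of_le_normalizer hn).1 (sup_comm P P₂ ▸ ht)
    have hxx : x * x' = x' * x := by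
      haveI := hP₂c
      exact congrArg Subtype.val (mul_comm' (⟨x, hx⟩ : P₂) ⟨x', hx'⟩)
    have e : ⁅x * y, x' * y'⁆ = ⁅y, y'⁆ := by
      have c1 : Commute y x' := hcomm y hy x' hx'
      have c2 : Commute y' x := hcomm y' hy' x hx
      have c3 : Commute y x := hcomm y hy x hx
      have c4 : Commute y' x' := hcomm y' hy' x' hx'
      have hc : Commute x ⁅y, y'⁆ :=
        ((c3.symm.mul_right c2.symm).mul_right c3.symm.inv_right).mul_right c2.symm.inv_right
      calc ⁅x * y, x' * y'⁆ = x * y * x' * y' * y⁻¹ * x⁻¹ * y'⁻¹ * x'⁻¹ := by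
              rw [commutatorElement_def]; group
        _ = x * (y * x') * y' * y⁻¹ * (x⁻¹ * y'⁻¹) * x'⁻¹ := by group
        _ = x * (x' * y) * y' * y⁻¹ * (y'⁻¹ * x⁻¹) * x'⁻¹ := by rw [c1.eq, c2.symm.inv_inv.eq]
        _ = x * x' * ⁅y, y'⁆ * (x⁻¹ * x'⁻¹) := by rw [commutatorElement_def]; group
        _ = ⁅y, y'⁆ * ((x * x') * (x⁻¹ * x'⁻¹)) := by
              have hc' : Commute x' ⁅y, y'⁆ :=
                ((c1.symm.mul_right c4.symm).mul_right c1.symm.inv_right).mul_right c4.symm.inv_right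
              rw [(hc.mul_left hc').eq]; group
        _ = ⁅y, y'⁆ := by rw [hxx]; group
    rw [e]
    exact hPP (Subgroup.commutator_mem_commutator hy hy')
  refine ⟨P, Z, hG, LocalFactor.prankLE_of_sylow S hr, hPS, inf_le_left, hZc, Subgroup.le_centralizer_iff.1 hS1, hPc,
    hpow, ?_, le_rfl⟩
  refine Subgroup.eq_of_le_of_card_ge hSS ?_
  rw [hZc]
  have hne : ⁅(S : Subgroup G), (S : Subgroup G)⁆ ≠ ⊥ := fun hb => hna (.of_setLike_mul_comm fun a ha b hb' =>
    commutatorElement_eq_one_iff_mul_comm.1 (Subgroup.mem_bot.1 (hb ▸ Subgroup.commutator_mem_commutator ha hb')))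
  have hd := Subgroup.card_dvd_of_le hSS
  rw [hZc] at hd
  exact ((Nat.dvd_prime hp.out).1 hd).elim (fun h => absurd (Subgroup.card_eq_one.1 h) hne) fun h => h.ge

namespace Frame

variable {S : Sylow p G} {P Z : Subgroup G} (h : Frame p S P Z)
include h

theorem Z_le_sylow : Z ≤ (S : Subgroup G) := h.Z_le.trans h.le

theorem not_comm : ¬ IsMulCommutative (S : Subgroup G) := fun hc => by
  haveI := hc
  have hb : Z = ⊥ := h.derived.symm.trans (Subgroup.commutator_eq_bot_iff_le_centralizer.2 (Subgroup.le_centralizer _))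
  exact hp.out.ne_one (by rw [← h.Z_card, hb, Subgroup.card_bot])

theorem exists_gen : ∃ a ∈ P, a ∉ Z :=
  SetLike.not_le_iff_exists.1 fun hle => by
    have h' := Subgroup.card_le_of_le hle
    rw [h.P_card, h.Z_card] at h'
    exact absurd h' (by rw [pow_succ]; exact not_le.2 (lt_mul_of_one_lt_left hp.out.pos (Nat.one_lt_pow two_ne_zero hp.out.one_lt)))

theorem exists_noncommuting {a : G} (ha : a ∈ P) (haZ : a ∉ Z) :
    ∃ u ∈ P, a ∉ Subgroup.centralizer ({u} : Set G) := by
  by_contra hc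
  push Not at hc
  exact haZ (h.center ⟨ha, Subgroup.mem_centralizer_iff.2 fun u hu =>
    (Subgroup.mem_centralizer_singleton_iff.1 (hc u hu)).symm⟩)

/-- The plane spanned by `a` and `Z`. -/
theorem plane {a : G} (ha : a ∈ P) (haZ : a ∉ Z) :
    Subgroup.zpowers a ⊔ Z ≤ P ∧ Cfsg.IsElementaryAbelian p (Subgroup.zpowers a ⊔ Z : Subgroup G) ∧
      Nat.card (Subgroup.zpowers a ⊔ Z : Subgroup G) = p ^ 2 ∧
      (S : Subgroup G) ≤ Subgroup.normalizer ((Subgroup.zpowers a ⊔ Z : Subgroup G) : Set G) := by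
  set A := Subgroup.zpowers a ⊔ Z with hA
  have hAP : A ≤ P := sup_le (Subgroup.zpowers_le.2 ha) h.Z_le
  have hAa : A ≤ Subgroup.centralizer ({a} : Set G) := sup_le
    (Subgroup.zpowers_le.2 (Subgroup.mem_centralizer_singleton_iff.2 rfl))
    fun z hz => Subgroup.mem_centralizer_singleton_iff.2
      (Subgroup.mem_centralizer_iff.1 (h.Z_central hz) a (h.le ha)).symm
  have hAA : A ≤ Subgroup.centralizer (A : Set G) := Subgroup.le_centralizer_iff.1 (sup_le
    (Subgroup.zpowers_le.2 (Subgroup.mem_centralizer_iff.2 fun x hx =>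
      Subgroup.mem_centralizer_singleton_iff.1 (hAa hx)))
    (h.Z_central.trans (Subgroup.centralizer_le (hAP.trans h.le))))
  have hAc : IsMulCommutative A := .of_setLike_mul_comm fun x hx y hy =>
    (Subgroup.mem_centralizer_iff.1 (hAA hy) x hx)
  refine ⟨hAP, ⟨hAc, fun x hx => h.pow x (hAP hx)⟩, ?_, ?_⟩
  · obtain ⟨i, hi, hc⟩ := (Nat.dvd_prime_pow hp.out).1 (h.P_card ▸ Subgroup.card_dvd_of_le hAP)
    have h1 : ¬ i ≤ 1 := fun hle => haZ (by
      have he : Z = A := Subgroup.eq_of_le_of_card_ge le_sup_right (by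
        rw [hc, h.Z_card]; exact (Nat.pow_le_pow_right hp.out.pos hle).trans (pow_one p).le)
      exact he.ge (Subgroup.mem_sup_left (Subgroup.mem_zpowers a)))
    have h3 : i ≠ 3 := by
      rintro rfl
      have he : A = P := Subgroup.eq_of_le_of_card_ge hAP (by rw [hc, h.P_card])
      obtain ⟨u, hu, hau⟩ := h.exists_noncommuting ha haZ
      exact hau (Subgroup.mem_centralizer_singleton_iff.2
        (Subgroup.mem_centralizer_iff.1 (hAA (he.ge ha)) u (he.ge hu)).symm)
    rw [hc, show i = 2 by omega]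
  · refine Subgroup.le_normalizer_iff_commutator_le_left.2 ?_
    exact (Subgroup.commutator_mono (hAP.trans h.le) le_rfl).trans (h.derived.le.trans le_sup_right)

theorem plane_maximal {a : G} (ha : a ∈ P) (haZ : a ∉ Z) :
    Plane.Maximal p (Subgroup.zpowers a ⊔ Z : Subgroup G) := by
  obtain ⟨-, hAe, hA, -⟩ := h.plane ha haZ
  refine ⟨hAe, hA, fun B hB hle => (Subgroup.eq_of_le_of_card_ge hle ?_).symm⟩
  rw [hA]
  exact h.rank B hB.1 hB.2

variable {M L : Subgroup G}

theorem mem_sigma (hM : IsCoatom M) (hSM : (S : Subgroup G) ≤ M) : p ∈ Cfsg.sigma M := by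
  by_contra hp'
  exact h.not_comm (ComplBasics.isMulCommutative_of_not_sigma h.minSimple hM hp' S.isPGroup' hSM)

theorem le_derived (hM : IsCoatom M) (hSM : (S : Subgroup G) ≤ M) : (S : Subgroup G) ≤ ⁅M, M⁆ := by
  refine le_trans ?_ (Sigma.sylow_le_derived h.minSimple hM (h.mem_sigma hM hSM) (S.subtype hSM))
  intro x hx
  exact ⟨⟨x, hSM hx⟩, hx, rfl⟩

theorem sylow_not_cyclic : ¬ IsCyclic (S : Subgroup G) := fun hc => h.not_comm (by haveI := hc; exact IsCyclic.isMulCommutative)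

theorem normalizer_le (hM : IsCoatom M) (hSM : (S : Subgroup G) ≤ M) :
    Subgroup.normalizer ((S : Subgroup G) : Set G) ≤ M :=
  ComplBasics.normalizer_le_of_not_cyclic h.minSimple hM (h.mem_sigma hM hSM) S.isPGroup' hSM h.sylow_not_cyclic

theorem normalizer_Z : Subgroup.normalizer ((S : Subgroup G) : Set G) ≤ Subgroup.normalizer (Z : Set G) := by
  intro g hg
  refine Subgroup.mem_normalizer_iff_map_conj_eq.2 ?_
  rw [← h.derived, Subgroup.map_commutator]
  congr 1 <;> exact Subgroup.mem_normalizer_iff_map_conj_eq.1 hg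

variable {q : ℕ} [hq : Fact q.Prime]

theorem centralizes_self {a : G} (ha : a ∈ P) (haZ : a ∉ Z) (hM : IsCoatom M) (hSM : (S : Subgroup G) ≤ M)
    (hqp : q ≠ p) (hqβ : q ∉ Cfsg.beta M) {D : Subgroup G} (hD : IsPGroup q D) (hDM : D ≤ M)
    (hAD : Subgroup.zpowers a ⊔ Z ≤ Subgroup.normalizer (D : Set G)) :
    Subgroup.zpowers a ⊔ Z ≤ Subgroup.centralizer (D : Set G) := by
  obtain ⟨hAP, hAe, hA, -⟩ := h.plane ha haZ
  exact Plane.le_centralizer_of_derived h.minSimple hAe hA hM ((hAP.trans h.le).trans (h.le_derived hM hSM))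
    hqp hD hDM hAD hqβ ((h.plane_maximal ha haZ).not_beta M)

/-- In another maximal subgroup invariant subgroups for primes of `β(M)` are centralized. -/
theorem centralizes_other {a : G} (ha : a ∈ P) (haZ : a ∉ Z) (hM : IsCoatom M) (hL : IsCoatom L) (hne : L ≠ M)
    (hAL : Subgroup.zpowers a ⊔ Z ≤ L) (hqp : q ≠ p) (hqβ : q ∈ Cfsg.beta M) {D : Subgroup G}
    (hD : IsPGroup q D) (hDM : D ≤ M) (hDL : D ≤ L)
    (hAD : Subgroup.zpowers a ⊔ Z ≤ Subgroup.normalizer (D : Set G)) :
    D ≤ Subgroup.centralizer (Z : Set G) := by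
  obtain ⟨hAP, hAe, hA, hSA⟩ := h.plane ha haZ
  rcases eq_or_ne D ⊥ with rfl | hD1
  · exact bot_le
  haveI : Nontrivial D := (Subgroup.nontrivial_iff_ne_bot D).2 hD1
  obtain ⟨k, hk, hk'⟩ := hD.nontrivial_iff_card.1 inferInstance
  obtain ⟨x, hx⟩ := exists_prime_orderOf_dvd_card' (G := D) q (hk' ▸ dvd_pow_self q hk.ne')
  rw [← Subgroup.orderOf_coe] at hx
  have hqL : q ∉ Cfsg.sigma L := fun hσ => hne (Plane.eq_of_ideal h.minSimple hL hM hqβ.2 hσ
    (BetaCore.beta_subset_sigma h.minSimple hM hqβ) hx (hDL x.2) (hDM x.2))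
  suffices hle : Subgroup.zpowers a ⊔ Z ≤ Subgroup.centralizer (D : Set G) from
    Subgroup.le_centralizer_iff.1 (le_sup_right.trans hle)
  by_cases hp' : p ∈ Cfsg.sigma L
  · have hSL : (S : Subgroup G) ≤ L := hSA.trans (ComplBasics.normalizer_le_of_not_cyclic h.minSimple hL hp'
      (Plane.isPGroup hA) hAL (Plane.not_isCyclic hAe hA))
    exact h.centralizes_self ha haZ hL hSL hqp (fun hb => hqL (BetaCore.beta_subset_sigma h.minSimple hL hb)) hD hDL hAD
  · obtain ⟨A₀, hexc, -⟩ := PlaneUnique.exists_exc h.minSimple hL hAL hAe hA hp'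
    exact hexc.centralizes hqp hqL hD hDL hAD

/-- If some invariant subgroup of `M` is moved by `Z`, the centralizers of `P \ Z` lie in `M`. -/
theorem centralizer_le_of_moved (hM : IsCoatom M) (hSM : (S : Subgroup G) ≤ M) (hqp : q ≠ p) {Q : Subgroup G}
    (hQ : IsPGroup q Q) (hQM : Q ≤ M) (hSQ : (S : Subgroup G) ≤ Subgroup.normalizer (Q : Set G))
    (hQZ : ¬ Q ≤ Subgroup.centralizer (Z : Set G)) {a : G} (ha : a ∈ P) (haZ : a ∉ Z) :
    Subgroup.centralizer ({a} : Set G) ≤ M := by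
  by_contra hca
  obtain ⟨hAP, hAe, hA, hSA⟩ := h.plane ha haZ
  set A := Subgroup.zpowers a ⊔ Z with hAdef
  haveI := hAe.1
  have hAQ : A ≤ Subgroup.normalizer (Q : Set G) := (hAP.trans h.le).trans hSQ
  have hqβ : q ∈ Cfsg.beta M := by
    by_contra hb
    exact hQZ (Subgroup.le_centralizer_iff.1 (le_sup_right.trans (h.centralizes_self ha haZ hM hSM hqp hb hQ hQM hAQ)))
  refine hQZ (Plane.le_of_fixed hAe hA hAQ (Plane.coprime_card hqp hA hQ) fun b hb hb1 => ?_)
  by_cases hbZ : b ∈ Z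
  · refine inf_le_right.trans ?_
    rw [← Plane.centralizer_zpowers, Plane.zpowers_eq h.Z_card hbZ hb1]
  have hbA : Subgroup.zpowers b ⊔ Z = A := Subgroup.eq_of_le_of_card_ge
    (sup_le (Subgroup.zpowers_le.2 hb) le_sup_right) (by rw [hA, (h.plane (hAP hb) hbZ).2.2.1])
  have hcb : ¬ Subgroup.centralizer ({b} : Set G) ≤ M := fun hle => hca fun x hx => by
    obtain ⟨u, hu, hau⟩ := h.exists_noncommuting ha haZ
    have hbu : ¬ Subgroup.zpowers b ≤ Subgroup.centralizer ({u} : Set G) := fun hbu => hau (by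
      have : A ≤ Subgroup.centralizer ({u} : Set G) := hbA.ge.trans (sup_le hbu fun z hz =>
        Subgroup.mem_centralizer_singleton_iff.2 (Subgroup.mem_centralizer_iff.1 (h.Z_central hz) u (h.le hu)).symm)
      exact this (Subgroup.mem_sup_left (Subgroup.mem_zpowers a)))
    obtain ⟨b', hb', hb'1, i, hai⟩ := TauTwo.line_conj hAe hA S.isPGroup' (hAP.trans h.le) hSA (h.le hu)
      (Subgroup.zpowers_le.2 hb) (Plane.zpowers_card hAe hb hb1) (Subgroup.mem_sup_left (Subgroup.mem_zpowers a))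
      hau hbu
    have hw : u ^ i ∈ M := hSM (h.le (P.zpow_mem hu i))
    have hx' : (u ^ i)⁻¹ * x * u ^ i ∈ Subgroup.centralizer ({b} : Set G) := by
      rw [← Plane.centralizer_zpowers, ← Plane.zpowers_eq (Plane.zpowers_card hAe hb hb1) hb' hb'1,
        Plane.centralizer_zpowers, Subgroup.mem_centralizer_singleton_iff]
      have he : x * (u ^ i * b' * (u ^ i)⁻¹) = u ^ i * b' * (u ^ i)⁻¹ * x :=
        hai ▸ Subgroup.mem_centralizer_singleton_iff.1 hx
      calc (u ^ i)⁻¹ * x * u ^ i * b' = (u ^ i)⁻¹ * (x * (u ^ i * b' * (u ^ i)⁻¹)) * u ^ i := by group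
        _ = b' * ((u ^ i)⁻¹ * x * u ^ i) := by rw [he]; group
    have := M.mul_mem (M.mul_mem hw (hle hx')) (M.inv_mem hw)
    simpa [mul_assoc] using this
  obtain ⟨H, hH, hbH⟩ := Uniq.exists_maximal_ge (MinSimple.centralizer_singleton_ne_top h.minSimple hb1)
  have hAb : A ≤ Subgroup.centralizer ({b} : Set G) := fun x hx => Subgroup.mem_centralizer_singleton_iff.2
    (congrArg Subtype.val (mul_comm' (⟨x, hx⟩ : A) ⟨b, hb⟩))
  exact h.centralizes_other ha haZ hM hH (fun e => hcb (e ▸ hbH)) (hAb.trans hbH) hqp hqβ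
    (hQ.to_le inf_le_left) (inf_le_left.trans hQM) (inf_le_right.trans hbH)
    ((le_inf hAQ (hAb.trans Subgroup.le_normalizer)).trans Subgroup.inf_normalizer_le_normalizer_inf)

/-- The other side is centralized by `Z`. -/
theorem le_centralizer_Z (hM : IsCoatom M) (hSM : (S : Subgroup G) ≤ M) (hL : IsCoatom L) (hSL : (S : Subgroup G) ≤ L)
    (hne : L ≠ M) (hC : ∀ a ∈ P, a ∉ Z → Subgroup.centralizer ({a} : Set G) ≤ M) (hqp : q ≠ p) {R : Subgroup G}
    (hR : IsPGroup q R) (hRL : R ≤ L) (hSR : (S : Subgroup G) ≤ Subgroup.normalizer (R : Set G)) :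
    R ≤ Subgroup.centralizer (Z : Set G) := by
  obtain ⟨a, ha, haZ⟩ := h.exists_gen
  obtain ⟨hAP, hAe, hA, hSA⟩ := h.plane ha haZ
  set A := Subgroup.zpowers a ⊔ Z with hAdef
  haveI := hAe.1
  have hAR : A ≤ Subgroup.normalizer (R : Set G) := (hAP.trans h.le).trans hSR
  by_cases hqβ : q ∈ Cfsg.beta L
  swap
  · exact Subgroup.le_centralizer_iff.1 (le_sup_right.trans (h.centralizes_self ha haZ hL hSL hqp hqβ hR hRL hAR))
  refine Plane.le_of_fixed hAe hA hAR (Plane.coprime_card hqp hA hR) fun b hb hb1 => ?_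
  by_cases hbZ : b ∈ Z
  · refine inf_le_right.trans ?_
    rw [← Plane.centralizer_zpowers, Plane.zpowers_eq h.Z_card hbZ hb1]
  have hAb : A ≤ Subgroup.centralizer ({b} : Set G) := fun x hx => Subgroup.mem_centralizer_singleton_iff.2
    (congrArg Subtype.val (mul_comm' (⟨x, hx⟩ : A) ⟨b, hb⟩))
  exact h.centralizes_other ha haZ hL hM hne.symm ((hAP.trans h.le).trans hSM) hqp hqβ (hR.to_le inf_le_left)
    (inf_le_left.trans hRL) (inf_le_right.trans (hC b (hAP hb) hbZ))
    ((le_inf hAR (hAb.trans Subgroup.le_normalizer)).trans Subgroup.inf_normalizer_le_normalizer_inf)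

/-- `P/Z` acts on such a subgroup, so it is generated by fixed points of elements of `P \ Z`. -/
theorem le_of_centralizers (hSM : (S : Subgroup G) ≤ M) (hC : ∀ a ∈ P, a ∉ Z → Subgroup.centralizer ({a} : Set G) ≤ M)
    (hqp : q ≠ p) {R : Subgroup G}
    (hR : IsPGroup q R) (hSR : (S : Subgroup G) ≤ Subgroup.normalizer (R : Set G))
    (hRZ : R ≤ Subgroup.centralizer (Z : Set G)) : R ≤ M := by
  set H := Subgroup.centralizer (Z : Set G) with hH
  have hPH : P ≤ H := h.le.trans (Subgroup.le_centralizer_iff.1 h.Z_central)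
  haveI : (Z.subgroupOf H).Normal := ⟨fun z hz g => by
    rw [Subgroup.mem_subgroupOf] at hz ⊢
    show (g : G) * z * (g : G)⁻¹ ∈ Z
    rw [← Subgroup.mem_centralizer_iff.1 g.2 _ hz, mul_inv_cancel_right]
    exact hz⟩
  set f := QuotientGroup.mk' (Z.subgroupOf H) with hf
  set Pb := (P.subgroupOf H).map f with hPb
  set Rb := (R.subgroupOf H).map f with hRb
  have hker : f.ker = Z.subgroupOf H := QuotientGroup.ker_mk' _
  have hmem : ∀ x : H, f x = 1 ↔ (x : G) ∈ Z := fun x => by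
    rw [← MonoidHom.mem_ker, hker, Subgroup.mem_subgroupOf]
  have hPbc : Nat.card Pb = p ^ 2 := by
    have e : Nat.card (f.comp (P.subgroupOf H).subtype).range * Nat.card (f.comp (P.subgroupOf H).subtype).ker =
        Nat.card (P.subgroupOf H) := by
      rw [Subgroup.card_eq_card_quotient_mul_card_subgroup (f.comp (P.subgroupOf H).subtype).ker,
        Nat.card_congr (QuotientGroup.quotientKerEquivRange _).toEquiv]
    rw [MonoidHom.range_comp, Subgroup.range_subtype, ← MonoidHom.comap_ker, hker] at e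
    have e1 : Nat.card ((Z.subgroupOf H).comap (P.subgroupOf H).subtype) = p := by
      show Nat.card ((Z.subgroupOf H).subgroupOf (P.subgroupOf H)) = p
      rw [Nat.card_congr (Subgroup.subgroupOfEquivOfLe (show Z.subgroupOf H ≤ P.subgroupOf H from Subgroup.comap_mono h.Z_le)).toEquiv,
        Nat.card_congr (Subgroup.subgroupOfEquivOfLe (h.Z_le.trans hPH)).toEquiv, h.Z_card]
    rw [e1, Nat.card_congr (Subgroup.subgroupOfEquivOfLe hPH).toEquiv, h.P_card, pow_succ] at e
    exact mul_right_cancel₀ hp.out.ne_zero e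
  have hPbe : Cfsg.IsElementaryAbelian p Pb := by
    refine ⟨.of_setLike_mul_comm fun x hx y hy => ?_, ?_⟩
    · exact congrArg Subtype.val (IsPGroup.commutative_of_card_eq_prime_sq hPbc ⟨x, hx⟩ ⟨y, hy⟩)
    · rintro _ ⟨x, hx, rfl⟩
      rw [← map_pow, hmem]
      simp [h.pow _ (Subgroup.mem_subgroupOf.1 hx)]
  have hPR : Pb ≤ Subgroup.normalizer (Rb : Set (H ⧸ Z.subgroupOf H)) := by
    refine (Subgroup.map_mono ?_).trans (Subgroup.le_normalizer_map f)
    intro x hx
    refine Subgroup.mem_normalizer_iff.2 fun y => ?_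
    simp only [Subgroup.mem_subgroupOf]
    exact Subgroup.mem_normalizer_iff.1 (hSR (h.le (Subgroup.mem_subgroupOf.1 hx))) y
  have hRp : IsPGroup q Rb := (hR.comap_subtype (K := H)).map f
  have hle : Rb ≤ (M.subgroupOf H).map f := by
    refine Plane.le_of_fixed hPbe hPbc hPR (Plane.coprime_card hqp hPbc hRp) ?_
    rintro _ ⟨a, ha, rfl⟩ ha1 _ ⟨⟨r, hr, rfl⟩, hra⟩
    refine ⟨r, Subgroup.mem_subgroupOf.2 (hC a (Subgroup.mem_subgroupOf.1 ha) (fun hz => ha1 ((hmem a).2 hz)) ?_), rfl⟩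
    have h1 : f ⁅a, r⁆ = 1 := by
      rw [map_commutatorElement, commutatorElement_eq_one_iff_mul_comm]
      exact (Subgroup.mem_centralizer_singleton_iff.1 hra).symm
    have hZc : ((⁅a, r⁆ : H) : G) ∈ Z := (hmem _).1 h1
    have hRc : ⁅(a : G), (r : G)⁆ ∈ R := by
      rw [commutatorElement_def]
      exact R.mul_mem ((Subgroup.mem_normalizer_iff.1 (hSR (h.le (Subgroup.mem_subgroupOf.1 ha))) _).1
        (Subgroup.mem_subgroupOf.1 hr)) (R.inv_mem (Subgroup.mem_subgroupOf.1 hr))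
    have hcop : (Nat.card Z).Coprime (Nat.card R) := by
      obtain ⟨k, hk⟩ := hR.exists_card_eq
      rw [h.Z_card, hk]
      exact ((Nat.coprime_primes hp.out hq.out).2 hqp.symm).pow_right k
    have hone : ⁅(a : G), (r : G)⁆ ∈ (⊥ : Subgroup G) :=
      Subgroup.inf_eq_bot_of_coprime hcop ▸ ⟨hZc, hRc⟩
    exact Subgroup.mem_centralizer_singleton_iff.2 (commutatorElement_eq_one_iff_mul_comm.1 (Subgroup.mem_bot.1 hone)).symm
  intro r hr
  obtain ⟨m, hm, he⟩ := hle ⟨⟨r, hRZ hr⟩, hr, rfl⟩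
  have hd : ((m⁻¹ * (⟨r, hRZ hr⟩ : H) : H) : G) ∈ Z := (hmem _).1 (by rw [map_mul, map_inv, he, inv_mul_cancel])
  have := M.mul_mem (Subgroup.mem_subgroupOf.1 hm) (hSM (h.Z_le_sylow hd))
  simpa using this

omit hq in
/-- A maximal subgroup above `S` is generated by invariant `p'`-subgroups and `N(S)`. -/
theorem le_of_core (hM : IsCoatom M) (hSM : (S : Subgroup G) ≤ M) {X : Subgroup G}
    (hN : Subgroup.normalizer ((S : Subgroup G) : Set G) ≤ X)
    (hQ : ∀ (r : ℕ) (_ : Fact r.Prime) (Q : Subgroup G), r ≠ p → IsPGroup r Q → Q ≤ M →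
      (S : Subgroup G) ≤ Subgroup.normalizer (Q : Set G) → Q ≤ X) : M ≤ X := by
  haveI := MinSimple.isSolvable h.minSimple hM.1
  haveI : (Cfsg.pPrimeCore p M).Normal := FittingCores.pPrimeCore_normal p
  set K := (Cfsg.pPrimeCore p M).map M.subtype with hK
  have hKc : (Nat.card K).Coprime p := by
    rw [hK, Subgroup.card_map_of_injective M.subtype_injective]
    exact FittingCores.pPrimeCore_coprime p
  have hSK : (S : Subgroup G) ≤ Subgroup.normalizer (K : Set G) :=
    hSM.trans (AxB.le_normalizer_map_subtype inferInstance)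
  have hcop : (Nat.card (S : Subgroup G)).Coprime (Nat.card K) := by
    obtain ⟨k, hk⟩ := S.isPGroup'.exists_card_eq
    rw [hk]
    exact (hKc.symm).pow_left k
  haveI : Group.IsNilpotent (S : Subgroup G) := S.isPGroup'.isNilpotent
  have hKX : K ≤ X := by
    rw [← Subgroup.subgroupOf_eq_top]
    refine FittingCores.eq_top_of_forall_sylow_le fun r hr => ?_
    haveI := Fact.mk hr
    obtain ⟨Q, hQS⟩ := CoprimeAct.exists_invariant_sylow hSK hcop (Or.inl inferInstance) r
    refine ⟨Q, fun x hx => ?_⟩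
    by_cases hx1 : x = 1
    · rw [hx1]; exact one_mem _
    have hrp : r ≠ p := by
      rintro rfl
      have hd : r ∣ Nat.card K := (Q.isPGroup'.card_eq_or_dvd.resolve_left fun e =>
        hx1 (Subgroup.mem_bot.1 (Subgroup.card_eq_one.1 e ▸ hx))).trans (Subgroup.card_subgroup_dvd_card _)
      exact hr.ne_one (Nat.eq_one_of_dvd_coprimes hKc hd dvd_rfl)
    exact hQ r inferInstance _ hrp (Q.isPGroup'.map K.subtype)
      ((Subgroup.map_subtype_le _).trans (Subgroup.map_subtype_le _)) hQS ⟨x, hx, rfl⟩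
  intro m hm
  obtain ⟨o, ho, n, hn, he⟩ := PLengthFusion.exists_core_mul (S1410.result h.minSimple p M hM.1) (S.subtype hSM) ⟨m, hm⟩
  have hnS : (n : G) ∈ Subgroup.normalizer ((S : Subgroup G) : Set G) := Subgroup.mem_normalizer_iff.2 fun y => by
    constructor
    · intro hy
      exact (Subgroup.mem_normalizer_iff.1 hn ⟨y, hSM hy⟩).1 hy
    · intro hy
      have hyM : y ∈ M := by
        have := M.mul_mem (M.mul_mem (M.inv_mem n.2) (hSM hy)) n.2
        simpa [mul_assoc] using this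
      exact (Subgroup.mem_normalizer_iff.1 hn ⟨y, hyM⟩).2 hy
  rw [show m = (o : G) * (n : G) from congrArg Subtype.val he]
  exact X.mul_mem (hKX ⟨o, ho, rfl⟩) (hN hnS)

omit hq in
theorem unique (hM : IsCoatom M) (hSM : (S : Subgroup G) ≤ M) (hL : IsCoatom L) (hSL : (S : Subgroup G) ≤ L) :
    L = M := by
  have side : ∀ M L : Subgroup G, IsCoatom M → (S : Subgroup G) ≤ M → IsCoatom L → (S : Subgroup G) ≤ L →
      ¬ M ≤ Subgroup.normalizer (Z : Set G) → L = M := fun M L hM hSM hL hSL hMZ => by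
    by_contra hne
    obtain ⟨r, hr, Q, hrp, hQ, hQM, hSQ, hQZ⟩ : ∃ (r : ℕ) (_ : Fact r.Prime) (Q : Subgroup G), r ≠ p ∧
        IsPGroup r Q ∧ Q ≤ M ∧ (S : Subgroup G) ≤ Subgroup.normalizer (Q : Set G) ∧
        ¬ Q ≤ Subgroup.centralizer (Z : Set G) := by
      by_contra hc
      exact hMZ (h.le_of_core hM hSM h.normalizer_Z fun r hr Q h1 h2 h3 h4 => by
        by_contra h5
        exact hc ⟨r, hr, Q, h1, h2, h3, h4, fun h6 => h5 (h6.trans (Subgroup.centralizer_le_normalizer _))⟩)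
    haveI := hr
    have hC : ∀ a ∈ P, a ∉ Z → Subgroup.centralizer ({a} : Set G) ≤ M := fun a ha haZ =>
      h.centralizer_le_of_moved hM hSM hrp hQ hQM hSQ hQZ ha haZ
    have hle : L ≤ M := h.le_of_core hL hSL (h.normalizer_le hM hSM) fun t ht R h1 h2 h3 h4 => by
      haveI := ht
      exact h.le_of_centralizers hSM hC h1 h2 h4 (h.le_centralizer_Z hM hSM hL hSL hne hC h1 h2 h3 h4)
    exact hne ((hL.le_iff.1 hle).resolve_left hM.1).symm
  by_cases hMZ : M ≤ Subgroup.normalizer (Z : Set G)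
  · by_cases hLZ : L ≤ Subgroup.normalizer (Z : Set G)
    · have hZ1 : Z ≠ ⊥ := fun hb => hp.out.ne_one (by rw [← h.Z_card, hb, Subgroup.card_bot])
      have hN : Subgroup.normalizer (Z : Set G) ≠ ⊤ := MinSimple.normalizer_ne_top h.minSimple hZ1
        (MinSimple.pSubgroup_ne_top h.minSimple (S.isPGroup'.to_le h.Z_le_sylow))
      exact ((hL.le_iff.1 hLZ).resolve_left hN).symm.trans ((hM.le_iff.1 hMZ).resolve_left hN)
    · exact (side L M hL hSL hM hSM hLZ).symm
  · exact side M L hM hSM hL hSL hMZ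

end Frame

/-- BG Theorem 12.13. -/
theorem inUniqueMaximal (hG : Cfsg.IsMinSimpleOddOrder G) {T : Subgroup G} (hT : IsPGroup p T)
    (hTna : ¬ IsMulCommutative T) : Cfsg.InUniqueMaximal T := by
  obtain ⟨M, hM, hTM⟩ := Uniq.exists_maximal_ge (MinSimple.pSubgroup_ne_top hG hT)
  refine ⟨M, ⟨hM, hTM⟩, fun L ⟨hL, hTL⟩ => ?_⟩
  obtain ⟨U, hTU, hU, hUle, hUmax⟩ := Sigma.exists_maximal_p (p := p) hT (le_inf hTM hTL)
  have hUna : ¬ IsMulCommutative U := fun hc => hTna (.of_setLike_mul_comm fun a ha b hb => by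
    haveI := hc
    exact congrArg Subtype.val (mul_comm' (⟨a, hTU ha⟩ : U) ⟨b, hTU hb⟩))
  have hUc : ¬ IsCyclic U := fun hc => hUna (by haveI := hc; exact IsCyclic.isMulCommutative)
  have hNU : ∀ N : Subgroup G, IsCoatom N → U ≤ N → Subgroup.normalizer (U : Set G) ≤ N := fun N hN hUN => by
    refine ComplBasics.normalizer_le_of_not_cyclic hG hN ?_ hU hUN hUc
    by_contra hp'
    exact hUna (ComplBasics.isMulCommutative_of_not_sigma hG hN hp' hU hUN)
  obtain ⟨S, hUS⟩ := hU.exists_le_sylow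
  have hNle := le_inf (hNU M hM (hUle.trans inf_le_left)) (hNU L hL (hUle.trans inf_le_right))
  have hUeq : U = (S : Subgroup G) := by
    haveI : Group.IsNilpotent (S : Subgroup G) := S.isPGroup'.isNilpotent
    by_contra hne
    have hlt := Group.normalizerCondition_of_isNilpotent (G := (S : Subgroup G)) (U.subgroupOf (S : Subgroup G))
      (lt_top_iff_ne_top.2 fun e => hne (le_antisymm hUS (Subgroup.subgroupOf_eq_top.1 e)))
    obtain ⟨x, hx, hxU⟩ := SetLike.exists_of_lt hlt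
    have hxN : (x : G) ∈ Subgroup.normalizer (U : Set G) := Subgroup.mem_normalizer_iff.2 fun y => by
      constructor
      · intro hy
        exact (Subgroup.mem_normalizer_iff.1 hx ⟨y, hUS hy⟩).1 hy
      · intro hy
        have hyS : y ∈ (S : Subgroup G) := by
          have := (S : Subgroup G).mul_mem ((S : Subgroup G).mul_mem ((S : Subgroup G).inv_mem x.2) (hUS hy)) x.2
          simpa [mul_assoc] using this
        exact (Subgroup.mem_normalizer_iff.1 hx ⟨y, hyS⟩).2 hy
    have hUn : U ≤ Subgroup.normalizer (U : Set G) ⊓ (S : Subgroup G) := le_inf Subgroup.le_normalizer hUS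
    have he := hUmax (Subgroup.normalizer (U : Set G) ⊓ (S : Subgroup G)) (S.isPGroup'.to_le inf_le_right)
      (inf_le_left.trans hNle) hUn
    exact hxU (Subgroup.mem_subgroupOf.2 (he.le ⟨hxN, x.2⟩))
  rw [hUeq] at hUle hUna
  by_cases hr : Cfsg.PRankLE p 2 (S : Subgroup G)
  · obtain ⟨P, Z, h⟩ := exists_frame hG S hr hUna
    exact h.unique hM (hUle.trans inf_le_left) hL (hUle.trans inf_le_right)
  · obtain ⟨E, hES, hEe, hEc⟩ := UniqProp.exists_elementary hr
    have h := S1403.result hG (S : Subgroup G) (MinSimple.pSubgroup_ne_top hG S.isPGroup')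
      (fun h1 => UniqProp.not_rankLE hES hEe (k := 1) (lt_of_lt_of_le (Nat.pow_lt_pow_right hp.out.one_lt (by norm_num)) hEc) (h1 p hp.out))
      (Or.inl fun h2 => hr (h2 p hp.out))
    obtain ⟨N, -, hN⟩ := h
    exact (hN L ⟨hL, hUle.trans inf_le_right⟩).trans (hN M ⟨hM, hUle.trans inf_le_left⟩).symm

end Cfsg.Agent.OddOrder.NonabelianUnique
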