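/-
Centralizers of elements of order `p` in the derived subgroup of a `p`-group of rank at least three,
and uniqueness for such elements of `M_σ` (BG 12.14).
-/
import Cfsg.Agent.Lib.OddOrder.NonabelianUnique

set_option autoImplicit false
set_option linter.style.haveILetI false
set_option linter.unusedSectionVars false

namespace Cfsg.Agent.OddOrder.DerivedRank

open scoped commutatorElement

universe u

variable {p : ℕ} [hp : Fact p.Prime]

section PGroup

variable {R : Type*} [Group R] [Finite R]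

theorem commutator_le_of_relIndex (hR : IsPGroup p R) {A B : Subgroup R} [A.Normal] [B.Normal] (hBA : B ≤ A)
    (hA : Nat.card A = p * Nat.card B) : ⁅A, (⊤ : Subgroup R)⁆ ≤ B := by
  set f := QuotientGroup.mk' B with hf
  haveI : (A.map f).Normal := ‹A.Normal›.map f (QuotientGroup.mk'_surjective B)
  have h2 : B.relIndex A * Nat.card B = Nat.card A := by
    rw [Subgroup.relIndex, ← Nat.card_congr (Subgroup.subgroupOfEquivOfLe hBA).toEquiv]
    exact Subgroup.index_mul_card _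
  have h3 : Nat.card (A.map f) = p := by
    rw [← Subgroup.relIndex_ker, hf, QuotientGroup.ker_mk']
    exact Nat.eq_of_mul_eq_mul_right Nat.card_pos (h2.trans hA)
  refine Subgroup.commutator_le.2 fun a ha g _ => ?_
  rw [← QuotientGroup.eq_one_iff]
  show f ⁅a, g⁆ = 1
  rw [map_commutatorElement, commutatorElement_eq_one_iff_mul_comm]
  exact (Subgroup.mem_center_iff.1
    (OmegaCen.le_center_of_prime_card (hR.to_quotient B) h3 ⟨a, ha, rfl⟩) (f g)).symm

/-- An element of order `p` of the derived subgroup centralizes an elementary abelian subgroup of rank three. -/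
theorem exists_elementary_centralizing (hp2 : p ≠ 2) (hR : IsPGroup p R) (hr : ¬ Cfsg.PRankLE p 2 R) {x : R}
    (hx : x ∈ commutator R) (hxp : x ^ p = 1) :
    ∃ E : Subgroup R, Cfsg.IsElementaryAbelian p E ∧ p ^ 3 ≤ Nat.card E ∧ ∀ e ∈ E, Commute x e := by
  obtain ⟨A₀, hA₀n, hA₀e, hA₀c⟩ := NarrowBasics.exists_normal_three hp2 hR hr
  haveI := hA₀n
  obtain ⟨A, hAn, hAA₀, hA⟩ := OmegaCen.exists_normal_card hR A₀ hA₀c
  haveI := hAn
  obtain ⟨B, hBn, hBA, hB⟩ := OmegaCen.exists_normal_card hR A (k := 2) (hA ▸ Nat.pow_le_pow_right hp.out.pos (by norm_num))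
  haveI := hBn
  obtain ⟨C, hCn, hCB, hC⟩ := OmegaCen.exists_normal_card hR B (k := 1) (hB ▸ Nat.pow_le_pow_right hp.out.pos (by norm_num))
  haveI := hCn
  rw [pow_one] at hC
  have hCc : C ≤ Subgroup.center R := OmegaCen.le_center_of_prime_card hR hC
  have hAe : Cfsg.IsElementaryAbelian p A := by
    haveI := hA₀e.1
    exact ⟨.of_setLike_mul_comm fun a ha b hb => congrArg Subtype.val (mul_comm' (⟨a, hAA₀ ha⟩ : A₀) ⟨b, hAA₀ hb⟩),
      fun a ha => hA₀e.2 a (hAA₀ ha)⟩
  have hAB : ⁅A, (⊤ : Subgroup R)⁆ ≤ B := commutator_le_of_relIndex hR hBA (by rw [hA, hB, ← pow_succ'])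
  have hBC : ⁅B, (⊤ : Subgroup R)⁆ ≤ C := commutator_le_of_relIndex hR hCB (by rw [hB, hC, pow_two])
  set f := QuotientGroup.mk' C with hf
  have hmem : ∀ y : R, f y = 1 ↔ y ∈ C := fun y => QuotientGroup.eq_one_iff y
  have hbot : ∀ {H : Subgroup R}, H ≤ C → H.map f = ⊥ := fun {H} h => by
    rw [eq_bot_iff]
    rintro _ ⟨y, hy, rfl⟩
    exact Subgroup.mem_bot.2 ((hmem y).2 (h hy))
  have h3 : ⁅⁅(⊤ : Subgroup R).map f, (⊤ : Subgroup R).map f⁆, A.map f⁆ = ⊥ := by
    have h' : ⁅⁅A.map f, (⊤ : Subgroup R).map f⁆, (⊤ : Subgroup R).map f⁆ = ⊥ := by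
      rw [← Subgroup.map_commutator, ← Subgroup.map_commutator]
      exact hbot ((Subgroup.commutator_mono hAB le_rfl).trans hBC)
    refine Subgroup.commutator_commutator_eq_bot_of_rotate ?_ h'
    rw [Subgroup.commutator_comm ((⊤ : Subgroup R).map f) (A.map f)]
    exact h'
  have hxA : ∀ a ∈ A, ⁅x, a⁆ ∈ C := fun a ha => by
    rw [← hmem, map_commutatorElement]
    have hx' : f x ∈ ⁅(⊤ : Subgroup R).map f, (⊤ : Subgroup R).map f⁆ := by
      rw [← Subgroup.map_commutator]; exact ⟨x, hx, rfl⟩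
    exact Subgroup.mem_bot.1 (h3 ▸ Subgroup.commutator_mem_commutator hx' ⟨a, ha, rfl⟩)
  by_cases hxin : x ∈ A
  · refine ⟨A, hAe, hA.ge, fun e he => ?_⟩
    haveI := hAe.1
    exact congrArg Subtype.val (mul_comm' (⟨x, hxin⟩ : A) ⟨e, he⟩)
  let φ : A →* C :=
    MonoidHom.mk' (fun a => ⟨⁅x, (a : R)⁆, hxA a a.2⟩) fun a b => Subtype.ext (by
      show ⁅x, (a : R) * (b : R)⁆ = ⁅x, (a : R)⁆ * ⁅x, (b : R)⁆
      have hc := Subgroup.mem_center_iff.1 (hCc (hxA b b.2)) (a : R)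
      calc ⁅x, (a : R) * (b : R)⁆ = ⁅x, (a : R)⁆ * ((a : R) * ⁅x, (b : R)⁆ * (a : R)⁻¹) := by
            simp only [commutatorElement_def]; group
        _ = ⁅x, (a : R)⁆ * ⁅x, (b : R)⁆ := by rw [hc, mul_inv_cancel_right])
  set K := φ.ker.map A.subtype with hK
  have hKc : p ^ 2 ≤ Nat.card K := by
    rw [hK, Subgroup.card_map_of_injective A.subtype_injective]
    have e := Subgroup.card_eq_card_quotient_mul_card_subgroup φ.ker
    rw [Nat.card_congr (QuotientGroup.quotientKerEquivRange φ).toEquiv, hA, pow_succ'] at e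
    have hle : Nat.card φ.range ≤ p := hC ▸ Subgroup.card_le_card_group φ.range
    exact Nat.le_of_mul_le_mul_left (e.le.trans (Nat.mul_le_mul_right _ hle)) hp.out.pos
  have hKx : ∀ k ∈ K, Commute x k := by
    rintro _ ⟨k, hk, rfl⟩
    exact commutatorElement_eq_one_iff_mul_comm.1 (congrArg Subtype.val (MonoidHom.mem_ker.1 hk))
  have hKA : K ≤ A := Subgroup.map_subtype_le _
  set E := Subgroup.zpowers x ⊔ K with hE
  have hxn : Subgroup.zpowers x ≤ Subgroup.normalizer (K : Set R) :=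
    (Subgroup.zpowers_le.2 (Subgroup.mem_centralizer_iff.2 fun k hk => (hKx k hk).symm.eq)).trans
      (Subgroup.centralizer_le_normalizer _)
  have hEmem : ∀ e ∈ E, ∃ i : ℤ, ∃ k ∈ K, e = x ^ i * k := fun e he => by
    rw [hE, sup_comm] at he
    obtain ⟨k, hk, y, ⟨i, rfl⟩, rfl⟩ := (SolvBasic.mem_sup_iff_of_le_normalizer hxn).1 he
    exact ⟨i, k, hk, ((hKx k hk).zpow_left i).symm.eq⟩
  have hcomm : ∀ e ∈ E, Commute x e := fun e he => by
    obtain ⟨i, k, hk, rfl⟩ := hEmem e he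
    exact (Commute.self_zpow x i).mul_right (hKx k hk)
  haveI := hAe.1
  refine ⟨E, ⟨.of_setLike_mul_comm fun a ha b hb => ?_, fun a ha => ?_⟩, ?_, hcomm⟩
  · obtain ⟨j, k, hk, rfl⟩ := hEmem b hb
    obtain ⟨i, l, hl, rfl⟩ := hEmem a ha
    have hlk : Commute l k := congrArg Subtype.val (mul_comm' (⟨l, hKA hl⟩ : A) ⟨k, hKA hk⟩)
    exact (((Commute.zpow_zpow_self x i j).mul_right ((hKx k hk).zpow_left i)).mul_left
      (((hKx l hl).zpow_left j).symm.mul_right hlk)).eq
  · obtain ⟨i, k, hk, rfl⟩ := hEmem a ha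
    rw [((hKx k hk).zpow_left i).mul_pow, hAe.2 k (hKA hk), mul_one, ← zpow_natCast, ← zpow_mul, mul_comm i, zpow_mul,
      zpow_natCast, hxp, one_zpow]
  · obtain ⟨j, hj⟩ := IsPGroup.iff_card.1 (hR.to_subgroup E)
    have hlt : K < E := lt_of_le_of_ne le_sup_right fun e => hxin (hKA (e.ge (Subgroup.mem_sup_left (Subgroup.mem_zpowers x))))
    have h4 : p ^ 2 < p ^ j := hj ▸ lt_of_le_of_lt hKc
      (lt_of_le_of_ne (Subgroup.card_le_of_le hlt.le) fun e => hlt.ne (Subgroup.eq_of_le_of_card_ge hlt.le e.ge))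
    rw [hj]
    exact Nat.pow_le_pow_right hp.out.pos ((Nat.pow_lt_pow_iff_right hp.out.one_lt).1 h4)

end PGroup

variable {G : Type u} [Group G] [Finite G]

theorem inUniqueMaximal_of_rank (hG : Cfsg.IsMinSimpleOddOrder G) (T : Sylow p G)
    (hr : ¬ Cfsg.PRankLE p 2 (T : Subgroup G)) : Cfsg.InUniqueMaximal (T : Subgroup G) := by
  obtain ⟨E, hET, hEe, hEc⟩ := UniqProp.exists_elementary hr
  exact S1403.result hG (T : Subgroup G) (MinSimple.pSubgroup_ne_top hG T.isPGroup')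
    (fun h1 => UniqProp.not_rankLE hET hEe (k := 1) (lt_of_lt_of_le (Nat.pow_lt_pow_right hp.out.one_lt (by norm_num)) hEc) (h1 p hp.out))
    (Or.inl fun h2 => hr (h2 p hp.out))

/-- A uniqueness subgroup of `T` centralizing `x`. -/
theorem exists_unique_centralizing (hG : Cfsg.IsMinSimpleOddOrder G) (T : Sylow p G) {x : G}
    (hxT : x ∈ (T : Subgroup G)) (hxp : orderOf x = p)
    (h : Cfsg.IsIdealPrime p G ∨ x ∈ ⁅(T : Subgroup G), (T : Subgroup G)⁆) :
    ∃ E : Subgroup G, E ≤ (T : Subgroup G) ∧ E ≤ Subgroup.centralizer ({x} : Set G) ∧ Cfsg.InUniqueMaximal E := by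
  have hp2 : p ≠ 2 := Uniq.ne_two_of_dvd hG (hxp ▸ orderOf_dvd_natCard x)
  have hpow : x ^ p = 1 := hxp ▸ pow_orderOf_eq_one x
  by_cases hr : Cfsg.PRankLE p 2 (T : Subgroup G)
  · have hd := h.resolve_left fun hI => hI.2.1 (LocalFactor.prankLE_of_sylow T hr)
    have hna : ¬ IsMulCommutative (T : Subgroup G) := fun hc => by
      haveI := hc
      have hb := Subgroup.commutator_eq_bot_iff_le_centralizer.2 (Subgroup.le_centralizer (T : Subgroup G))
      rw [hb, Subgroup.mem_bot] at hd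
      exact hp.out.ne_one (by rw [← hxp, hd, orderOf_one])
    obtain ⟨P, Z, hF⟩ := NonabelianUnique.exists_frame hG T hr hna
    exact ⟨_, le_rfl, fun t ht => Subgroup.mem_centralizer_singleton_iff.2
      (Subgroup.mem_centralizer_iff.1 (hF.Z_central (hF.derived.le hd)) t ht),
      NonabelianUnique.inUniqueMaximal hG T.isPGroup' hna⟩
  suffices hE : ∃ E : Subgroup G, E ≤ (T : Subgroup G) ∧ E ≤ Subgroup.centralizer ({x} : Set G) ∧
      Cfsg.IsElementaryAbelian p E ∧ p ^ 3 ≤ Nat.card E by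
    obtain ⟨E, h1, h2, h3, h4⟩ := hE
    exact ⟨E, h1, h2, ScnUniq.allUniq_of_rank hG h3 h4 E h3 h4⟩
  rcases h with hI | hd
  · obtain ⟨E₃, hE₃T, hE₃e, hE₃c⟩ := UniqProp.exists_elementary hr
    haveI : Nontrivial (T : Subgroup G) :=
      ⟨⟨x, hxT⟩, 1, fun h' => hp.out.ne_one (by rw [← hxp, show x = 1 from congrArg Subtype.val h', orderOf_one])⟩
    haveI := T.isPGroup'.center_nontrivial
    obtain ⟨m, hm, hm'⟩ := (T.isPGroup'.to_subgroup (Subgroup.center (T : Subgroup G))).nontrivial_iff_card.1 inferInstance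
    obtain ⟨z, hz⟩ := exists_prime_orderOf_dvd_card' (G := ↥(Subgroup.center (T : Subgroup G))) p
      (hm' ▸ dvd_pow_self p hm.ne')
    rw [← Subgroup.orderOf_coe, ← Subgroup.orderOf_coe] at hz
    set w : G := ((z : (T : Subgroup G)) : G) with hw
    have hwT : w ∈ (T : Subgroup G) := (z : (T : Subgroup G)).2
    have hcen : ∀ t ∈ (T : Subgroup G), Commute t w := fun t ht =>
      congrArg Subtype.val (Subgroup.mem_center_iff.1 z.2 ⟨t, ht⟩)
    by_cases hxw : x ∈ Subgroup.zpowers w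
    · obtain ⟨i, hi⟩ := hxw
      refine ⟨E₃, hE₃T, fun e he => Subgroup.mem_centralizer_singleton_iff.2 ?_, hE₃e, hE₃c⟩
      rw [← hi]
      exact ((hcen e (hE₃T he)).zpow_right i).eq
    set W := Subgroup.zpowers x ⊔ Subgroup.zpowers w with hW
    have hxwc : Commute x w := hcen x hxT
    have hWmem : ∀ a ∈ W, ∃ i j : ℤ, a = x ^ i * w ^ j := fun a ha => by
      have hn : Subgroup.zpowers w ≤ Subgroup.normalizer ((Subgroup.zpowers x : Subgroup G) : Set G) :=
        (Subgroup.zpowers_le.2 (Subgroup.mem_centralizer_singleton_iff.2 hxwc.symm.eq)).trans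
          ((Plane.centralizer_zpowers x).ge.trans (Subgroup.centralizer_le_normalizer _))
      obtain ⟨_, ⟨i, rfl⟩, _, ⟨j, rfl⟩, rfl⟩ := (SolvBasic.mem_sup_iff_of_le_normalizer hn).1 ha
      exact ⟨i, j, rfl⟩
    have hwp : w ^ p = 1 := hz ▸ pow_orderOf_eq_one w
    have hWe : Cfsg.IsElementaryAbelian p W := by
      refine ⟨.of_setLike_mul_comm fun a ha b hb => ?_, fun a ha => ?_⟩
      · obtain ⟨i, j, rfl⟩ := hWmem a ha
        obtain ⟨k, l, rfl⟩ := hWmem b hb
        exact (((Commute.zpow_zpow_self x i k).mul_right (hxwc.zpow_zpow i l)).mul_left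
          (((hxwc.symm.zpow_zpow j k)).mul_right (Commute.zpow_zpow_self w j l))).eq
      · obtain ⟨i, j, rfl⟩ := hWmem a ha
        rw [(hxwc.zpow_zpow i j).mul_pow, ← zpow_natCast, ← zpow_natCast, ← zpow_mul, ← zpow_mul, mul_comm i,
          mul_comm j, zpow_mul, zpow_mul, zpow_natCast, zpow_natCast, hpow, hwp, one_zpow, one_zpow, mul_one]
    have hWT : W ≤ (T : Subgroup G) := sup_le (Subgroup.zpowers_le.2 hxT) (Subgroup.zpowers_le.2 hwT)
    have hWc : p ^ 2 ≤ Nat.card W := by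
      have hlt : Subgroup.zpowers w < W :=
        lt_of_le_of_ne le_sup_right fun e => hxw (e.ge (Subgroup.mem_sup_left (Subgroup.mem_zpowers x)))
      obtain ⟨j, hj⟩ := IsPGroup.iff_card.1 (T.isPGroup'.to_le hWT)
      have hlt' : p ^ 1 < p ^ j := by
        rw [pow_one, ← hj]
        refine lt_of_le_of_ne (by rw [← hz, ← Nat.card_zpowers]; exact Subgroup.card_le_of_le hlt.le) fun e => ?_
        exact hlt.ne (Subgroup.eq_of_le_of_card_ge hlt.le (by rw [← e, Nat.card_zpowers, hz]))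
      rw [hj]
      exact Nat.pow_le_pow_right hp.out.pos ((Nat.pow_lt_pow_iff_right hp.out.one_lt).1 hlt')
    have hWx : ∀ B : Subgroup G, Cfsg.IsElementaryAbelian p B → W ≤ B → B ≤ Subgroup.centralizer ({x} : Set G) :=
      fun B hB hle b hb => by
        haveI := hB.1
        exact Subgroup.mem_centralizer_singleton_iff.2
          (congrArg Subtype.val (mul_comm' (⟨b, hb⟩ : B) ⟨x, hle (Subgroup.mem_sup_left (Subgroup.mem_zpowers x))⟩))
    rcases hWc.eq_or_lt with hW2 | hW2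
    · obtain ⟨B, hBT, hBe, hlt⟩ := hI.2.2 T W hWT hWe hW2.symm
      obtain ⟨j, hj⟩ := IsPGroup.iff_card.1 (T.isPGroup'.to_le hBT)
      have h5 : p ^ 2 < p ^ j := hj ▸ hW2 ▸ lt_of_le_of_ne (Subgroup.card_le_of_le hlt.le)
        fun e => hlt.ne (Subgroup.eq_of_le_of_card_ge hlt.le e.ge)
      exact ⟨B, hBT, hWx B hBe hlt.le, hBe, hj ▸ Nat.pow_le_pow_right hp.out.pos ((Nat.pow_lt_pow_iff_right hp.out.one_lt).1 h5)⟩
    · obtain ⟨j, hj⟩ := IsPGroup.iff_card.1 (T.isPGroup'.to_le hWT)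
      rw [hj] at hW2
      exact ⟨W, hWT, hWx W hWe le_rfl, hWe, hj ▸ Nat.pow_le_pow_right hp.out.pos ((Nat.pow_lt_pow_iff_right hp.out.one_lt).1 hW2)⟩
  · have hx' : (⟨x, hxT⟩ : (T : Subgroup G)) ∈ commutator (T : Subgroup G) := by
      rw [← Subgroup.map_subtype_commutator] at hd
      obtain ⟨y, hy, he⟩ := hd
      rwa [show (⟨x, hxT⟩ : (T : Subgroup G)) = y from Subtype.ext he.symm]
    obtain ⟨E, hEe, hEc, hEx⟩ := exists_elementary_centralizing hp2 T.isPGroup' hr hx' (Subtype.ext (by simpa using hpow))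
    refine ⟨E.map (T : Subgroup G).subtype, Subgroup.map_subtype_le _, ?_, ?_, ?_⟩
    · rintro _ ⟨e, he, rfl⟩
      exact Subgroup.mem_centralizer_singleton_iff.2 (congrArg Subtype.val (hEx e he).symm.eq)
    · haveI := hEe.1
      refine ⟨inferInstance, ?_⟩
      rintro _ ⟨e, he, rfl⟩
      rw [← map_pow, hEe.2 e he, map_one]
    · rwa [Subgroup.card_map_of_injective (T : Subgroup G).subtype_injective]

variable {M : Subgroup G}

/-- `p ∉ β(M)`: an element of `(M_σ)'` in a Sylow `p`-subgroup lies in its derived subgroup. -/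
theorem mem_derived_sylow (hG : Cfsg.IsMinSimpleOddOrder G) (hM : IsCoatom M) (hp' : p ∈ Cfsg.sigma M)
    (hβ : p ∉ Cfsg.beta M) {T : Subgroup G} (hT : IsPGroup p T) (hTK : T ≤ Cfsg.sigmaCore M)
    (hidx : ¬ p ∣ T.relIndex (Cfsg.sigmaCore M)) {x : G} (hxT : x ∈ T)
    (hx : x ∈ ⁅Cfsg.sigmaCore M, Cfsg.sigmaCore M⁆) : x ∈ ⁅T, T⁆ := by
  set K := Cfsg.sigmaCore M with hK
  obtain ⟨N, hNn, hNc, hpow⟩ := BetaCore.complement_data hG hM hp'.2.1 hβ (X := K)
    (Sigma.piCoreOf_le_derived hG hM subset_rfl) (Exceptional.sigmaCore_le M)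
  haveI := hNn
  set f := QuotientGroup.mk' N with hf
  have hTN : ∀ y : K, (y : G) ∈ T → y ∈ N → y = 1 := fun y h1 h2 => by
    obtain ⟨k, hk⟩ := IsPGroup.iff_orderOf.1 hT ⟨y, h1⟩
    rw [Subgroup.orderOf_mk] at hk
    have hd : p ^ k ∣ Nat.card N := hk ▸ Subgroup.orderOf_coe y ▸ Subgroup.orderOf_dvd_natCard N h2
    refine orderOf_eq_one_iff.1 ?_
    rw [← Subgroup.orderOf_coe, hk]
    exact Nat.eq_one_of_dvd_coprimes (hNc.pow_right k) hd dvd_rfl
  have htop : (T.subgroupOf K).map f = ⊤ := by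
    have hQ : IsPGroup p (K ⧸ N) := fun y => by
      induction y using QuotientGroup.induction_on with | H y => ?_
      obtain ⟨k, hk⟩ := hpow y
      exact ⟨k, by rw [← QuotientGroup.mk_pow, QuotientGroup.eq_one_iff]; exact hk⟩
    rw [← Subgroup.index_eq_one]
    obtain ⟨k, hk⟩ := IsPGroup.iff_card.1 hQ
    obtain ⟨j, -, hj⟩ := (Nat.dvd_prime_pow hp.out).1 (hk ▸ Subgroup.index_dvd_card ((T.subgroupOf K).map f))
    rcases j with _ | j
    · rw [hj, pow_zero]
    · exact absurd (((dvd_pow_self p j.succ_ne_zero).trans hj.symm.dvd).trans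
        (Subgroup.index_map_dvd _ (QuotientGroup.mk'_surjective N))) hidx
  have hxK : x ∈ K := hTK hxT
  have h1 : f ⟨x, hxK⟩ ∈ (⁅T, T⁆.subgroupOf K).map f := by
    have hxc : (⟨x, hxK⟩ : K) ∈ ⁅(⊤ : Subgroup K), (⊤ : Subgroup K)⁆ := by
      have h2 : x ∈ (commutator K).map K.subtype := by rwa [Subgroup.map_subtype_commutator]
      obtain ⟨y, hy, he⟩ := h2
      rwa [show (⟨x, hxK⟩ : K) = y from Subtype.ext he.symm]
    have h3 : f ⟨x, hxK⟩ ∈ ⁅(⊤ : Subgroup K).map f, (⊤ : Subgroup K).map f⁆ := by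
      rw [← Subgroup.map_commutator]; exact ⟨_, hxc, rfl⟩
    rw [Subgroup.map_top_of_surjective f (QuotientGroup.mk'_surjective N), ← htop, ← Subgroup.map_commutator] at h3
    refine Subgroup.map_mono ?_ h3
    refine Subgroup.commutator_le.2 fun a ha b hb => ?_
    exact Subgroup.mem_subgroupOf.2 (by
      push_cast [commutatorElement_def]
      exact Subgroup.commutator_mem_commutator (Subgroup.mem_subgroupOf.1 ha) (Subgroup.mem_subgroupOf.1 hb))
  obtain ⟨t, ht, he⟩ := h1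
  have hd : t⁻¹ * (⟨x, hxK⟩ : K) ∈ N := by
    rw [← QuotientGroup.eq_one_iff]
    show f _ = 1
    rw [map_mul, map_inv, he, inv_mul_cancel]
  have htT : (t : G) ∈ T := (Subgroup.le_normalizer_iff_commutator_le_left.1 Subgroup.le_normalizer) (Subgroup.mem_subgroupOf.1 ht)
  have := hTN _ (T.mul_mem (T.inv_mem htT) hxT) hd
  rw [inv_mul_eq_one] at this
  rw [show x = (t : G) from (congrArg Subtype.val this).symm]
  exact Subgroup.mem_subgroupOf.1 ht

end Cfsg.Agent.OddOrder.DerivedRank
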