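/-
A second maximal subgroup over the normalizer of a `q`-subgroup, `q ∈ σ(M)` (BG 12.15).
-/
import Cfsg.Agent.Lib.OddOrder.ComplBasics

set_option autoImplicit false
set_option linter.style.haveILetI false
set_option linter.unusedSectionVars false

namespace Cfsg.Agent.OddOrder.SigmaPartner

universe u

theorem normalizer_le_of_cyclic {G : Type u} [Group G] [Finite G] {X S : Subgroup G} (hc : IsCyclic S) (hXS : X ≤ S) :
    Subgroup.normalizer (S : Set G) ≤ Subgroup.normalizer (X : Set G) := fun g hg => by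
  refine ComplAbelian.mem_normalizer_of_map_le fun x hx => ?_
  haveI := hc
  let φ : S →* S := MonoidHom.mk' (fun s => ⟨g * s * g⁻¹, (Subgroup.mem_normalizer_iff.1 hg _).1 s.2⟩)
    fun a b => Subtype.ext (by simp [mul_assoc])
  obtain ⟨m, hm⟩ := φ.map_cyclic
  have h := congrArg Subtype.val (hm ⟨x, hXS hx⟩)
  rw [show g * x * g⁻¹ = ((⟨x, hXS hx⟩ : S) ^ m : S) from h, SubgroupClass.coe_zpow]
  exact X.zpow_mem hx m

theorem exists_normalizing {G : Type u} [Group G] [Finite G] {q : ℕ} [Fact q.Prime] {U V : Subgroup G}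
    (hV : IsPGroup q V) (h : U < V) : ∃ x ∈ V, x ∈ Subgroup.normalizer (U : Set G) ∧ x ∉ U := by
  haveI : Group.IsNilpotent V := hV.isNilpotent
  have hlt := Group.normalizerCondition_of_isNilpotent (G := V) (U.subgroupOf V)
    (lt_top_iff_ne_top.2 fun e => h.ne (le_antisymm h.le (Subgroup.subgroupOf_eq_top.1 e)))
  obtain ⟨x, hx, hxU⟩ := SetLike.exists_of_lt hlt
  refine ⟨x, x.2, Subgroup.mem_normalizer_iff.2 fun y => ⟨fun hy => ?_, fun hy => ?_⟩,
    fun hc => hxU (Subgroup.mem_subgroupOf.2 hc)⟩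
  · exact (Subgroup.mem_normalizer_iff.1 hx ⟨y, h.le hy⟩).1 hy
  · have hyV : y ∈ V := by
      have := V.mul_mem (V.mul_mem (V.inv_mem x.2) (h.le hy)) x.2
      simpa [mul_assoc] using this
    exact (Subgroup.mem_normalizer_iff.1 hx ⟨y, hyV⟩).2 hy

variable {G : Type u} [Group G] [Finite G] {q : ℕ} [hq' : Fact q.Prime] {M N X : Subgroup G}

theorem not_conj (hG : Cfsg.IsMinSimpleOddOrder G) (hM : IsCoatom M) (hq : q ∈ Cfsg.sigma M)
    (hX : IsPGroup q X) (hX1 : X ≠ ⊥) (hXM : X ≤ M) (hne : N ≠ M)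
    (hNX : Subgroup.normalizer (X : Set G) ≤ N) (g : G) : N ≠ M.map (MulAut.conj g).toMonoidHom := by
  intro he
  have h1 : X.map (MulAut.conj g⁻¹).toMonoidHom ≤ M :=
    Exceptional.conj_inv_le ((Subgroup.le_normalizer.trans hNX).trans he.le)
  obtain ⟨m, hm, c, hc, hgc⟩ := Sigma.trans hG hM hq X hX hX1 hXM g⁻¹ h1
  have hg : g = c⁻¹ * m⁻¹ := by rw [← inv_inv g, hgc, mul_inv_rev]
  have hcN : c ∈ N := hNX (Subgroup.centralizer_le_normalizer _ hc)
  refine hne (le_antisymm (fun y hy => ?_) (fun y hy => ?_))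
  · have hy' : c⁻¹ * y * c ∈ N := N.mul_mem (N.mul_mem (N.inv_mem hcN) hy) hcN
    obtain ⟨z, hz, hze⟩ := he.le hy'
    have hze' : g * z * g⁻¹ = c⁻¹ * y * c := hze
    rw [hg, mul_inv_rev, inv_inv, inv_inv] at hze'
    have h2 : y = m⁻¹ * z * m := by
      calc y = c * (c⁻¹ * y * c) * c⁻¹ := by group
        _ = c * (c⁻¹ * m⁻¹ * z * (m * c)) * c⁻¹ := by rw [hze']
        _ = m⁻¹ * z * m := by group
    rw [h2]
    exact M.mul_mem (M.mul_mem (M.inv_mem hm) hz) hm
  · have h3 : c⁻¹ * y * c ∈ N := he.ge ⟨m * y * m⁻¹, M.mul_mem (M.mul_mem hm hy) (M.inv_mem hm), by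
      show g * (m * y * m⁻¹) * g⁻¹ = c⁻¹ * y * c
      rw [hg]; group⟩
    have := N.mul_mem (N.mul_mem hcN h3) (N.inv_mem hcN)
    simpa [mul_assoc] using this

variable (hG : Cfsg.IsMinSimpleOddOrder G) (hM : IsCoatom M) (hq : q ∈ Cfsg.sigma M) (hX : IsPGroup q X)
  (hNX : Subgroup.normalizer (X : Set G) ≤ N) (S : Sylow q ↥(M ⊓ N))
  (hXS : X ≤ (S : Subgroup ↥(M ⊓ N)).map (M ⊓ N).subtype)
include hG hM hq hX hNX hXS

/-- A `q`-group of `M ∩ N` above the Sylow subgroup equals it. -/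
theorem eq_of_le {U : Subgroup G} (hU : IsPGroup q U) (hUle : U ≤ M ⊓ N)
    (hSU : (S : Subgroup ↥(M ⊓ N)).map (M ⊓ N).subtype ≤ U) :
    U = (S : Subgroup ↥(M ⊓ N)).map (M ⊓ N).subtype :=
  Sigma.sylow_map_eq hU hUle hSU

theorem normalizer_le : Subgroup.normalizer (((S : Subgroup ↥(M ⊓ N)).map (M ⊓ N).subtype : Subgroup G) : Set G) ≤ M := by
  set Sm := (S : Subgroup ↥(M ⊓ N)).map (M ⊓ N).subtype with hSm
  have hSp : IsPGroup q Sm := S.isPGroup'.map _
  have hSle : Sm ≤ M ⊓ N := Subgroup.map_subtype_le _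
  by_cases hc : IsCyclic Sm
  · obtain ⟨T, hT⟩ := (hSp.comap_subtype (K := M)).exists_le_sylow
    set Tm := (T : Subgroup M).map M.subtype with hTm
    have hST : Sm ≤ Tm := fun y hy => ⟨⟨y, (hSle hy).1⟩, hT hy, rfl⟩
    suffices he : Tm = Sm by
      rw [← he]
      exact Sigma.sigma_normalizer hq T
    by_contra hne
    obtain ⟨x, hxT, hxN, hxS⟩ := exists_normalizing (T.isPGroup'.map M.subtype) (lt_of_le_of_ne hST (Ne.symm hne))
    have hxX : x ∈ Subgroup.normalizer (X : Set G) := by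
      exact normalizer_le_of_cyclic hc hXS hxN
    have hU := eq_of_le hG hM hq hX hNX S hXS
      (U := Sm ⊔ Subgroup.zpowers x) ((T.isPGroup'.map M.subtype).to_le (sup_le hST (Subgroup.zpowers_le.2 hxT)))
      (sup_le hSle (Subgroup.zpowers_le.2 ⟨Subgroup.map_subtype_le _ hxT, hNX hxX⟩)) le_sup_left
    exact hxS (hU.le (Subgroup.mem_sup_right (Subgroup.mem_zpowers x)))
  · exact ComplBasics.normalizer_le_of_not_cyclic hG hM hq hSp (hSle.trans inf_le_left) hc

theorem not_dvd_relIndex : ¬ q ∣ ((S : Subgroup ↥(M ⊓ N)).map (M ⊓ N).subtype).relIndex N := by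
  set Sm := (S : Subgroup ↥(M ⊓ N)).map (M ⊓ N).subtype with hSm
  have hSp : IsPGroup q Sm := S.isPGroup'.map _
  have hSle : Sm ≤ M ⊓ N := Subgroup.map_subtype_le _
  obtain ⟨T, hT⟩ := (hSp.comap_subtype (K := N)).exists_le_sylow
  set Tm := (T : Subgroup N).map N.subtype with hTm
  have hST : Sm ≤ Tm := fun y hy => ⟨⟨y, (hSle hy).2⟩, hT hy, rfl⟩
  suffices he : Tm = Sm by
    rw [← he, hTm, Subgroup.relIndex, Subgroup.subgroupOf, Subgroup.comap_map_eq_self_of_injective N.subtype_injective]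
    exact T.not_dvd_index
  by_contra hne
  obtain ⟨x, hxT, hxN, hxS⟩ := exists_normalizing (T.isPGroup'.map N.subtype) (lt_of_le_of_ne hST (Ne.symm hne))
  have hU := eq_of_le hG hM hq hX hNX S hXS (U := Sm ⊔ Subgroup.zpowers x)
    ((T.isPGroup'.map N.subtype).to_le (sup_le hST (Subgroup.zpowers_le.2 hxT)))
    (sup_le hSle (Subgroup.zpowers_le.2 ⟨normalizer_le hG hM hq hX hNX S hXS hxN, Subgroup.map_subtype_le _ hxT⟩)) le_sup_left
  exact hxS (hU.le (Subgroup.mem_sup_right (Subgroup.mem_zpowers x)))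

end Cfsg.Agent.OddOrder.SigmaPartner
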