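/-
`σ(M)`-subgroups are conjugate into `M_σ` (BG 12.16-12.17).
-/
import Cfsg.Agent.Lib.OddOrder.SigmaPartner
import Cfsg.Agent.Lib.OddOrder.DerivedRank
import Cfsg.Agent.Lib.Solvable.Basic

set_option autoImplicit false
set_option linter.style.haveILetI false
set_option linter.unusedSectionVars false

namespace Cfsg.Agent.OddOrder.SigmaConj

open scoped commutatorElement Pointwise

universe u

variable {G : Type u} [Group G] [Finite G] {M N : Subgroup G}

/-- A Sylow subgroup of `G` in two maximal subgroups with a common uniqueness property. -/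
theorem sylow_small (hG : Cfsg.IsMinSimpleOddOrder G) {r : ℕ} [Fact r.Prime] (T : Sylow r G)
    (hM : IsCoatom M) (hN : IsCoatom N) (hTM : (T : Subgroup G) ≤ M) (hTN : (T : Subgroup G) ≤ N) (hne : N ≠ M) :
    Cfsg.PRankLE r 2 (T : Subgroup G) := by
  by_contra hr
  obtain ⟨L, -, hL⟩ := DerivedRank.inUniqueMaximal_of_rank hG T hr
  exact hne ((hL N ⟨hN, hTN⟩).trans (hL M ⟨hM, hTM⟩).symm)

/-- Two nonconjugate maximal subgroups share no prime of `β` and `σ`. -/
theorem conj_of_rank (hG : Cfsg.IsMinSimpleOddOrder G) {r : ℕ} [Fact r.Prime] (hM : IsCoatom M) (hN : IsCoatom N)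
    (hrM : r ∈ Cfsg.sigma M) (hrN : r ∈ Cfsg.sigma N) (hr : ¬ Cfsg.PRankLE r 2 G) :
    ∃ g : G, N = M.map (MulAut.conj g).toMonoidHom := by
  obtain ⟨S⟩ : Nonempty (Sylow r N) := inferInstance
  obtain ⟨T, hT⟩ := Sigma.sigma_sylow hrN S
  have hr' : ¬ Cfsg.PRankLE r 2 (T : Subgroup G) := fun h => hr (LocalFactor.prankLE_of_sylow T h)
  obtain ⟨g, hg⟩ := Sigma.exists_conj_le hrM T.isPGroup'
  obtain ⟨L, -, hL⟩ := DerivedRank.inUniqueMaximal_of_rank hG T hr'
  refine ⟨g⁻¹, (hL N ⟨hN, hT.le.trans (Subgroup.map_subtype_le _)⟩).trans (hL _ ⟨?_, ?_⟩).symm⟩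
  · exact (OrderIso.isCoatom_iff (MulEquiv.mapSubgroup (MulAut.conj g⁻¹)) M).2 hM
  · intro t ht
    exact ⟨g * t * g⁻¹, hg ⟨t, ht, rfl⟩, by simp [mul_assoc]⟩

/-- A prime of `σ` whose Sylow subgroup is normal pins down the conjugacy class. -/
theorem conj_of_normal_sylow (hG : Cfsg.IsMinSimpleOddOrder G) {r : ℕ} [Fact r.Prime] (hM : IsCoatom M)
    (hN : IsCoatom N) (hrM : r ∈ Cfsg.sigma M) (hrN : r ∈ Cfsg.sigma N) (S : Sylow r N)
    (hSn : N ≤ Subgroup.normalizer (((S : Subgroup N).map N.subtype : Subgroup G) : Set G)) :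
    ∃ g : G, N = M.map (MulAut.conj g).toMonoidHom := by
  set Sm := (S : Subgroup N).map N.subtype with hSm
  obtain ⟨T, hT⟩ := Sigma.sigma_sylow hrN S
  obtain ⟨g, hg⟩ := Sigma.exists_conj_le hrM (S.isPGroup'.map N.subtype)
  set Q := Sm.map (MulAut.conj g).toMonoidHom with hQ
  obtain ⟨R, hR⟩ := ((S.isPGroup'.map N.subtype).map (MulAut.conj g).toMonoidHom).comap_subtype (K := M) |>.exists_le_sylow
  obtain ⟨R', hR'⟩ := Sigma.sigma_sylow hrM R
  have hQR : Q = (R : Subgroup M).map M.subtype := by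
    have hle : Q ≤ (R : Subgroup M).map M.subtype := fun y hy => ⟨⟨y, hg hy⟩, hR hy, rfl⟩
    refine Subgroup.eq_of_le_of_card_ge hle ?_
    rw [← hR', hQ, Subgroup.card_map_of_injective (MulAut.conj g).injective, ← (show (T : Subgroup G) = Sm from hT),
      R'.card_eq_multiplicity, T.card_eq_multiplicity]
  have hle : N.map (MulAut.conj g).toMonoidHom ≤ M := by
    refine le_trans ?_ (Sigma.sigma_normalizer hrM R)
    rw [← hQR]
    exact (Subgroup.map_mono hSn).trans (Subgroup.le_normalizer_map _)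
  have hco : IsCoatom (N.map (MulAut.conj g).toMonoidHom) :=
    (OrderIso.isCoatom_iff (MulEquiv.mapSubgroup (MulAut.conj g)) N).2 hN
  refine ⟨g⁻¹, ?_⟩
  rw [(hco.le_iff.1 hle).resolve_left hM.1, Sigma.map_conj_map, inv_mul_cancel, Sigma.map_conj_one]

variable {q : ℕ} [hq : Fact q.Prime]

/-- Invariant subgroups for primes outside `β` are centralized by a Sylow subgroup inside `M'`. -/
theorem sylow_centralizes (hG : Cfsg.IsMinSimpleOddOrder G) (hN : IsCoatom N) {S : Subgroup G} (hS : IsPGroup q S)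
    (hSN : S ≤ ⁅N, N⁆) (hqβ : q ∉ Cfsg.beta N) {r : ℕ} [hr : Fact r.Prime] (hrq : r ≠ q) (hrβ : r ∉ Cfsg.beta N)
    {R : Subgroup G} (hR : IsPGroup r R) (hRN : R ≤ N) (hSR : S ≤ Subgroup.normalizer (R : Set G)) :
    R ≤ Subgroup.centralizer (S : Set G) := by
  have hLL : ⁅N, N⁆ ≤ N := Subgroup.le_normalizer_iff_commutator_le_left.1 Subgroup.le_normalizer
  have hcop : (Nat.card S).Coprime (Nat.card R) := by
    obtain ⟨a, ha⟩ := hS.exists_card_eq
    obtain ⟨b, hb⟩ := hR.exists_card_eq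
    rw [ha, hb]
    exact Nat.coprime_pow_primes a b hq.out hr.out hrq.symm
  haveI := hS.isNilpotent
  have hs := Or.inl (b := Group.IsSolvable R) (inferInstance : Group.IsSolvable S)
  set R1 := ⁅R, S⁆ with hR1
  have hR1p : IsPGroup r R1 := hR.to_le (CoprimeAct.commutator_le_left hSR)
  have hR1n : S ≤ Subgroup.normalizer (R1 : Set G) := Subgroup.normalizer_commutator_ge_right R S
  have hR1L : R1 ≤ ⁅N, N⁆ := Subgroup.commutator_mono hRN (hSN.trans hLL)
  set X := S ⊔ R1 with hX
  have hXnil : Group.IsNilpotent X := by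
    refine BetaCore.isNilpotent hG hN (sup_le hSN hR1L) ((sup_le hSN hR1L).trans hLL) fun t ht hd => ?_
    have hc := SolvBasic.card_sup_mul_card_inf hR1n
    have hdv : Nat.card (R1 ⊔ S : Subgroup G) ∣ Nat.card R1 * Nat.card S := Dvd.intro _ hc
    rw [hX, sup_comm] at hd
    rcases ht.dvd_mul.1 (hd.trans hdv) with h' | h'
    · rw [Set.mem_singleton_iff.1 (Inv.primes_of_isPGroup hR1p t ht h')]
      exact hrβ
    · rw [Set.mem_singleton_iff.1 (Inv.primes_of_isPGroup hS t ht h')]
      exact hqβ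
  have hbot : ⁅R1, S⁆ = ⊥ := by
    rw [Subgroup.commutator_eq_bot_iff_le_centralizer]
    intro d hd
    refine Subgroup.mem_centralizer_iff.2 fun a ha => ?_
    have haX : a ∈ X := Subgroup.mem_sup_left ha
    have hdX : d ∈ X := Subgroup.mem_sup_right hd
    obtain ⟨k, hk⟩ := IsPGroup.iff_orderOf.1 hR1p ⟨d, hd⟩
    rw [Subgroup.orderOf_mk] at hk
    obtain ⟨j, hj⟩ := IsPGroup.iff_orderOf.1 hS ⟨a, ha⟩
    rw [Subgroup.orderOf_mk] at hj
    haveI := hXnil
    have h' := FixedPointFreeThompson.commute_of_nilpotent (G := X) (p := r) (x := ⟨d, hdX⟩) (g := ⟨a, haX⟩)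
      (k := k) (by rw [Subgroup.orderOf_mk, hk]) (by
        rw [Subgroup.orderOf_mk, hj]
        exact Nat.Coprime.pow_left j ((Nat.coprime_primes hq.out hr.out).2 hrq.symm))
    exact congrArg Subtype.val h'
  rw [hR1, CoprimeAct.commutator_commutator hSR hcop hs] at hbot
  exact Subgroup.commutator_eq_bot_iff_le_centralizer.1 hbot

/-- A `σ(M)`-subgroup of a partner `N` moves into `M`. -/
theorem exists_conj_partner (hG : Cfsg.IsMinSimpleOddOrder G) (hM : IsCoatom M) (hqσ : q ∈ Cfsg.sigma M)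
    {X : Subgroup G} (hX : IsPGroup q X) (hX1 : X ≠ ⊥) (hXM : X ≤ M) (hN : IsCoatom N) (hne : N ≠ M)
    (hNX : Subgroup.normalizer (X : Set G) ≤ N) {Y : Subgroup G} (hYN : Y ≤ N)
    (hY : ∀ r : ℕ, r.Prime → r ∣ Nat.card Y → r ∈ Cfsg.sigma M) :
    ∃ g : G, Y.map (MulAut.conj g).toMonoidHom ≤ M := by
  have hnc : ∀ g : G, N ≠ M.map (MulAut.conj g).toMonoidHom := SigmaPartner.not_conj hG hM hqσ hX hX1 hXM hne hNX
  have hXN : X ≤ N := Subgroup.le_normalizer.trans hNX
  obtain ⟨S, hS⟩ := (hX.comap_subtype (K := M ⊓ N)).exists_le_sylow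
  set Sm := (S : Subgroup ↥(M ⊓ N)).map (M ⊓ N).subtype with hSm
  have hXS : X ≤ Sm := fun y hy => ⟨⟨y, hXM hy, hXN hy⟩, hS hy, rfl⟩
  have hSp : IsPGroup q Sm := S.isPGroup'.map _
  have hSle : Sm ≤ M ⊓ N := Subgroup.map_subtype_le _
  have hNS : Subgroup.normalizer (Sm : Set G) ≤ M := SigmaPartner.normalizer_le hG hM hqσ hX hNX S hXS
  obtain ⟨T, hT⟩ := (hSp.comap_subtype (K := N)).exists_le_sylow
  have hTS : (T : Subgroup N).map N.subtype = Sm := by
    set Tm := (T : Subgroup N).map N.subtype with hTm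
    have hle : Sm ≤ Tm := fun y hy => ⟨⟨y, (hSle hy).2⟩, hT hy, rfl⟩
    by_contra hne'
    obtain ⟨x, hxT, hxN, hxS⟩ := SigmaPartner.exists_normalizing (T.isPGroup'.map N.subtype) (lt_of_le_of_ne hle (Ne.symm hne'))
    have hU := SigmaPartner.eq_of_le hG hM hqσ hX hNX S hXS (U := Sm ⊔ Subgroup.zpowers x)
      ((T.isPGroup'.map N.subtype).to_le (sup_le hle (Subgroup.zpowers_le.2 hxT)))
      (sup_le hSle (Subgroup.zpowers_le.2 ⟨hNS hxN, Subgroup.map_subtype_le _ hxT⟩)) le_sup_left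
    exact hxS (hU.le (Subgroup.mem_sup_right (Subgroup.mem_zpowers x)))
  have hqN : q ∣ Nat.card N := by
    haveI : Nontrivial X := (Subgroup.nontrivial_iff_ne_bot X).2 hX1
    obtain ⟨k, hk, hk'⟩ := hX.nontrivial_iff_card.1 inferInstance
    exact (hk' ▸ dvd_pow_self q hk.ne' : q ∣ Nat.card X).trans (Subgroup.card_dvd_of_le hXN)
  by_cases hqN' : q ∈ Cfsg.sigma N
  · -- the Sylow subgroup of `G` lies in both
    obtain ⟨TG, hTG⟩ := Sigma.sigma_sylow hqN' T
    have hTGS : (TG : Subgroup G) = Sm := hTG.trans hTS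
    have hr2 := sylow_small hG TG hM hN (hTGS.le.trans (hSle.trans inf_le_left)) (hTGS.le.trans (hSle.trans inf_le_right)) hne
    have hqβ : q ∉ Cfsg.beta N := fun hb => hb.2.2.1 (LocalFactor.prankLE_of_sylow TG hr2)
    have hSd : Sm ≤ ⁅N, N⁆ := hTS ▸ Sigma.sylow_le_derived hG hN hqN' T
    haveI := MinSimple.isSolvable hG hN.1
    haveI : (Cfsg.pPrimeCore q N).Normal := FittingCores.pPrimeCore_normal q
    set O := (Cfsg.pPrimeCore q N).map N.subtype with hO
    have hON : O ≤ N := Subgroup.map_subtype_le _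
    have hOc : (Nat.card O).Coprime q := by
      rw [hO, Subgroup.card_map_of_injective N.subtype_injective]
      exact FittingCores.pPrimeCore_coprime q
    have hSO : Sm ≤ Subgroup.normalizer (O : Set G) :=
      (hSle.trans inf_le_right).trans (AxB.le_normalizer_map_subtype inferInstance)
    have hcop : (Nat.card Sm).Coprime (Nat.card O) := by
      obtain ⟨k, hk⟩ := hSp.exists_card_eq
      rw [hk]
      exact (hOc.symm).pow_left k
    haveI := hSp.isNilpotent
    set D := M ⊓ N with hD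
    set H := Cfsg.sigmaCore M ⊓ N with hH
    have hHD : H ≤ D := inf_le_inf_right _ (Exceptional.sigmaCore_le M)
    -- `N = O · (M ∩ N)`
    have hsup : O ⊔ D = N := by
      refine le_antisymm (sup_le hON inf_le_right) fun m hm => ?_
      obtain ⟨o, ho, n, hn, he⟩ := PLengthFusion.exists_core_mul (S1410.result hG q N hN.1) T ⟨m, hm⟩
      have hnS : (n : G) ∈ Subgroup.normalizer (Sm : Set G) := by
        rw [← hTS]
        exact Subgroup.le_normalizer_map N.subtype ⟨n, hn, rfl⟩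
      rw [show m = (o : G) * (n : G) from congrArg Subtype.val he]
      exact Subgroup.mul_mem_sup ⟨o, ho, rfl⟩ ⟨hNS hnS, n.2⟩
    have hDn : D ≤ Subgroup.normalizer (O : Set G) := inf_le_right.trans (AxB.le_normalizer_map_subtype inferInstance)
    have hidx : ∀ r : ℕ, r.Prime → r ∈ Cfsg.sigma M → ¬ r ∣ H.relIndex N := by
      intro r hr hrσ hd
      haveI := Fact.mk hr
      rw [← Subgroup.relIndex_mul_relIndex H D N hHD inf_le_right] at hd
      rcases hr.dvd_mul.1 hd with h1 | h1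
      · refine (Sigma.hall hG hM (π := Cfsg.sigma M) (fun a ha => Sigma.alpha_subset_sigma hG hM ha) subset_rfl).1.2.2 r hr hrσ ?_
        refine h1.trans ?_
        have e : H.relIndex D = (Cfsg.sigmaCore M).relIndex D := by
          rw [← Subgroup.inf_relIndex_right H, ← Subgroup.inf_relIndex_right (Cfsg.sigmaCore M)]
          congr 1
          rw [hH, hD, inf_assoc]
          congr 1
          exact inf_eq_right.2 inf_le_right
        rw [e]
        haveI : ((Cfsg.sigmaCore M).subgroupOf M).Normal :=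
          Subgroup.normal_subgroupOf_of_le_normalizer (Exceptional.le_normalizer_sigmaCore M)
        have h2 := Subgroup.relIndex_dvd_index_of_normal ((Cfsg.sigmaCore M).subgroupOf M) (D.subgroupOf M)
        rwa [Subgroup.relIndex_subgroupOf inf_le_left] at h2
      · obtain ⟨R, hRS⟩ := CoprimeAct.exists_invariant_sylow hSO hcop (Or.inl inferInstance) r
        set Rm := (R : Subgroup O).map O.subtype with hRm
        have hRO : Rm ≤ O := Subgroup.map_subtype_le _
        have hRD : Rm ≤ D := by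
          rcases eq_or_ne Rm ⊥ with hb | hb
          · rw [hb]; exact bot_le
          have hrq : r ≠ q := by
            rintro rfl
            haveI : Nontrivial Rm := (Subgroup.nontrivial_iff_ne_bot Rm).2 hb
            obtain ⟨k, hk, hk'⟩ := (R.isPGroup'.map O.subtype).nontrivial_iff_card.1 inferInstance
            exact hr.ne_one (Nat.eq_one_of_dvd_coprimes hOc
              ((hk' ▸ dvd_pow_self r hk.ne' : r ∣ Nat.card Rm).trans (Subgroup.card_dvd_of_le hRO)) dvd_rfl)
          by_cases hrβ : r ∈ Cfsg.beta N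
          · obtain ⟨g, hg⟩ := conj_of_rank hG hM hN hrσ (BetaCore.beta_subset_sigma hG hN hrβ) hrβ.2.2.1
            exact absurd hg (hnc g)
          refine le_inf ?_ (hRO.trans hON)
          exact ((sylow_centralizes hG hN hSp hSd hqβ hrq hrβ (R.isPGroup'.map O.subtype) (hRO.trans hON) hRS).trans
            (Subgroup.centralizer_le_normalizer _)).trans hNS
        have e1 := SolvBasic.card_sup_mul_card_inf hDn
        rw [hsup] at e1
        have e2 : Nat.card D * D.relIndex N = Nat.card N := by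
          rw [← Subgroup.relIndex_bot_left D, ← Subgroup.relIndex_bot_left N]
          exact Subgroup.relIndex_mul_relIndex ⊥ D N bot_le inf_le_right
        have e3 : D.relIndex N * Nat.card (O ⊓ D : Subgroup G) = Nat.card O := by
          refine Nat.eq_of_mul_eq_mul_left (Nat.card_pos (α := D)) ?_
          rw [← mul_assoc, e2, e1, mul_comm]
        obtain ⟨k, hk⟩ := R.isPGroup'.exists_card_eq
        have hkD : r ^ k ∣ Nat.card (O ⊓ D : Subgroup G) := by
          rw [← hk, ← Subgroup.card_map_of_injective (K := (R : Subgroup O)) O.subtype_injective]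
          exact Subgroup.card_dvd_of_le (le_inf hRO hRD)
        have hall' : r ^ (k + 1) ∣ Nat.card O := by
          rw [← e3, pow_succ']
          exact mul_dvd_mul h1 hkD
        have hkey : Nat.card (R : Subgroup O) * (R : Subgroup O).index = Nat.card O := Subgroup.card_mul_index _
        rw [hk] at hkey
        rw [← hkey, pow_succ] at hall'
        exact R.not_dvd_index (Nat.dvd_of_mul_dvd_mul_left (pow_pos hr.pos k) hall')
    have hHp : ∀ r : ℕ, r.Prime → r ∣ Nat.card H → r ∈ Cfsg.sigma M := fun r hr hd =>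
      Exceptional.mem_sigma_of_dvd hr (hd.trans (Subgroup.card_dvd_of_le inf_le_left))
    have hc1 : (Nat.card H).Coprime (H.relIndex N) :=
      Nat.coprime_of_dvd fun r hr h1 h2 => hidx r hr (hHp r hr h1) h2
    have hc2 : (Nat.card Y).Coprime (H.relIndex N) :=
      Nat.coprime_of_dvd fun r hr h1 h2 => hidx r hr (hY r hr h1) h2
    have hHN : H ≤ N := inf_le_right
    obtain ⟨⟨g, hgN⟩, hg⟩ := HallSolv.hall_conj_le (G := N) (m := Nat.card H) (n := H.relIndex N)
      (by
        rw [← Subgroup.relIndex_bot_left H, ← Subgroup.relIndex_bot_left N]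
        exact (Subgroup.relIndex_mul_relIndex ⊥ H N bot_le hHN).symm) hc1 (H := H.subgroupOf N)
      (K := Y.subgroupOf N) (Nat.card_congr (Subgroup.subgroupOfEquivOfLe hHN).toEquiv)
      (by rw [Nat.card_congr (Subgroup.subgroupOfEquivOfLe hYN).toEquiv]; exact hc2)
    refine ⟨g, ?_⟩
    rintro _ ⟨y, hy, rfl⟩
    exact Exceptional.sigmaCore_le M
      (hg (Subgroup.smul_mem_pointwise_smul (⟨y, hYN hy⟩ : N) (MulAut.conj (⟨g, hgN⟩ : N)) (Y.subgroupOf N) hy)).1
  · -- `q ∈ τ₂(N)`
    have hc : ¬ IsCyclic Sm := by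
      intro hc
      obtain ⟨U, hU⟩ := (hSp.comap_subtype (K := M)).exists_le_sylow
      set Um := (U : Subgroup M).map M.subtype with hUm
      have hle : Sm ≤ Um := fun y hy => ⟨⟨y, (hSle hy).1⟩, hU hy, rfl⟩
      have heq : Um = Sm := by
        by_contra hne'
        obtain ⟨x, hxT, hxN, hxS⟩ := SigmaPartner.exists_normalizing (U.isPGroup'.map M.subtype) (lt_of_le_of_ne hle (Ne.symm hne'))
        have hU' := SigmaPartner.eq_of_le hG hM hqσ hX hNX S hXS (U := Sm ⊔ Subgroup.zpowers x)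
          ((U.isPGroup'.map M.subtype).to_le (sup_le hle (Subgroup.zpowers_le.2 hxT)))
          (sup_le hSle (Subgroup.zpowers_le.2 ⟨Subgroup.map_subtype_le _ hxT,
            hNX (SigmaPartner.normalizer_le_of_cyclic hc hXS hxN)⟩)) le_sup_left
        exact hxS (hU'.le (Subgroup.mem_sup_right (Subgroup.mem_zpowers x)))
      refine hqN' ⟨hq.out, hqN, T, ?_⟩
      rw [hTS]
      exact (SigmaPartner.normalizer_le_of_cyclic hc hXS).trans hNX
    have hq2 : q ≠ 2 := Uniq.ne_two_of_dvd hG (hqN.trans N.card_subgroup_dvd_card)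
    obtain ⟨W, -, hWe, hW2⟩ := S0126.result hq2 hSp hc
    haveI := hWe.1
    set A := W.map Sm.subtype with hA'
    have hAe : Cfsg.IsElementaryAbelian q A := ⟨inferInstance, by
      rintro _ ⟨w, hw, rfl⟩
      rw [← map_pow, hWe.2 w hw, map_one]⟩
    have hA : Nat.card A = q ^ 2 := by rw [hA', Subgroup.card_map_of_injective Sm.subtype_injective, hW2]
    have hAD : A ≤ M ⊓ N := (Subgroup.map_subtype_le _).trans hSle
    obtain ⟨A₀, hexc, -⟩ := PlaneUnique.exists_exc hG hN (hAD.trans inf_le_right) hAe hA hqN'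
    obtain ⟨E, hE, hAE⟩ := Exceptional.exists_complement_ge hG hN (Plane.isPGroup hA) (hAD.trans inf_le_right) hqN'
    have hEM : E ≤ M := (hexc.compl_normalizes hE hAE).trans (ComplBasics.normalizer_le_of_not_cyclic hG hM hqσ
      (Plane.isPGroup hA) (hAD.trans inf_le_left) (Plane.not_isCyclic hAe hA))
    obtain ⟨g, -, hg⟩ := ComplBasics.exists_conj_le hG hN hE hYN (Nat.coprime_of_dvd fun r hr h1 h2 => by
      haveI := Fact.mk hr
      have hrN : r ∈ Cfsg.sigma N := Exceptional.mem_sigma_of_dvd hr h2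
      obtain ⟨R, hRn, -⟩ := hexc.exists_core hrN
      obtain ⟨g, hg⟩ := conj_of_normal_sylow hG hM hN (hY r hr h1) hrN R hRn
      exact hnc g hg)
    exact ⟨g, hg.trans hEM⟩

/-- BG Corollary 12.17. -/
theorem exists_conj_le (hG : Cfsg.IsMinSimpleOddOrder G) (hM : IsCoatom M) {Y : Subgroup G} (hY1 : Y ≠ ⊥)
    (hY : ∀ r : ℕ, r.Prime → r ∣ Nat.card Y → r ∈ Cfsg.sigma M) :
    ∃ g : G, Y.map (MulAut.conj g).toMonoidHom ≤ Cfsg.sigmaCore M := by
  have hall := Sigma.hall hG hM (π := Cfsg.sigma M) (fun a ha => Sigma.alpha_subset_sigma hG hM ha) subset_rfl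
  have core : ∀ Z : Subgroup G, Z ≤ M → (∀ r : ℕ, r.Prime → r ∣ Nat.card Z → r ∈ Cfsg.sigma M) →
      Z ≤ Cfsg.sigmaCore M := by
    intro Z hZM hZ x hx
    haveI : ((Cfsg.sigmaCore M).subgroupOf M).Normal :=
      Subgroup.normal_subgroupOf_of_le_normalizer (Exceptional.le_normalizer_sigmaCore M)
    exact Exceptional.le_of_coprime_index (N := (Cfsg.sigmaCore M).subgroupOf M) (X := Z.subgroupOf M)
      (Nat.coprime_of_dvd fun r hr h1 h2 => hall.1.2.2 r hr
        (hZ r hr (by rwa [Nat.card_congr (Subgroup.subgroupOfEquivOfLe hZM).toEquiv] at h1)) h2)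
      (x := ⟨x, hZM hx⟩) hx
  have hYtop : Y ≠ ⊤ := by
    rintro rfl
    have h1 : (Cfsg.sigmaCore M).index = 1 := by
      by_contra hne
      obtain ⟨r, hr, hd⟩ := Nat.exists_prime_and_dvd hne
      refine hall.2.2 r hr (hY r hr ?_) hd
      rw [Subgroup.card_top]
      exact hd.trans (Subgroup.index_dvd_card _)
    exact hM.1 (top_unique ((Subgroup.index_eq_one.1 h1).ge.trans (Exceptional.sigmaCore_le M)))
  haveI := MinSimple.isSolvable hG hYtop
  haveI : Nontrivial Y := (Subgroup.nontrivial_iff_ne_bot Y).2 hY1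
  haveI : Group.IsSolvable (⊤ : Subgroup Y) := inferInstance
  obtain ⟨X', q, hq, hXn, hX1, -, -, -, hXp, -⟩ :=
    SolvBasic.exists_minimal_normal_abelian (G := Y) (N := ⊤) inferInstance top_ne_bot
  haveI := Fact.mk hq
  set X := X'.map Y.subtype with hX
  have hXY : X ≤ Y := Subgroup.map_subtype_le _
  have hYX : Y ≤ Subgroup.normalizer (X : Set G) := AxB.le_normalizer_map_subtype hXn
  have hXb : X ≠ ⊥ := fun h => hX1 ((Subgroup.map_eq_bot_iff_of_injective _ Y.subtype_injective).1 h)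
  have hqσ : q ∈ Cfsg.sigma M := by
    haveI : Nontrivial X := (Subgroup.nontrivial_iff_ne_bot X).2 hXb
    obtain ⟨k, hk, hk'⟩ := (hXp.map Y.subtype).nontrivial_iff_card.1 inferInstance
    exact hY q hq ((hk' ▸ dvd_pow_self q hk.ne' : q ∣ Nat.card X).trans (Subgroup.card_dvd_of_le hXY))
  obtain ⟨g, hg⟩ := Sigma.exists_conj_le hqσ (hXp.map Y.subtype)
  set X₁ := X.map (MulAut.conj g).toMonoidHom with hX₁
  set Y₁ := Y.map (MulAut.conj g).toMonoidHom with hY₁
  have hcard : ∀ a : G, Nat.card (Y.map (MulAut.conj a).toMonoidHom) = Nat.card Y := fun a =>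
    Subgroup.card_map_of_injective (MulAut.conj a).injective
  have hX₁b : X₁ ≠ ⊥ := fun h => hXb ((Subgroup.map_eq_bot_iff_of_injective _ (MulAut.conj g).injective).1 h)
  have hX₁p : IsPGroup q X₁ := (hXp.map Y.subtype).map _
  obtain ⟨N, hN, hNX⟩ := Uniq.exists_maximal_ge
    (MinSimple.normalizer_ne_top hG hX₁b (MinSimple.pSubgroup_ne_top hG hX₁p))
  have hY₁N : Y₁ ≤ N := ((Subgroup.map_mono hYX).trans (Subgroup.le_normalizer_map _)).trans hNX
  rcases eq_or_ne N M with rfl | hne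
  · exact ⟨g, core Y₁ hY₁N fun r hr hd => hY r hr (hcard g ▸ hd)⟩
  obtain ⟨h, hh⟩ := exists_conj_partner hG hM hqσ hX₁p hX₁b hg hN hne hNX hY₁N fun r hr hd => hY r hr (hcard g ▸ hd)
  rw [hY₁, Sigma.map_conj_map] at hh
  exact ⟨h * g, core _ hh fun r hr hd => hY r hr (hcard _ ▸ hd)⟩

end Cfsg.Agent.OddOrder.SigmaConj
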