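/-
The action of a complement on `M_σ` and intersections with conjugates (BG 12.18).
-/
import Cfsg.Agent.Lib.OddOrder.SigmaConj
import Cfsg.Agent.S1423

set_option autoImplicit false
set_option linter.style.haveILetI false
set_option linter.unusedSectionVars false

namespace Cfsg.Agent.OddOrder.SigmaAction

open scoped commutatorElement
open Exceptional

universe u

section Abstract

variable {H : Type*} [Group H] [Finite H] {K E : Subgroup H}

theorem commutator_eq [hKn : K.Normal] [Group.IsSolvable K] (hsup : K ⊔ E = ⊤) (hinf : K ⊓ E = ⊥)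
    (hK : K ≤ commutator H) : ⁅K, E⁆ = K := by
  have hLK : ⁅K, E⁆ ≤ K := Subgroup.le_normalizer_iff_commutator_le_left.1 Subgroup.le_normalizer_of_normal
  haveI hNn : (⁅K, (⊤ : Subgroup H)⁆).Normal := Subgroup.commutator_normal K ⊤
  set N := ⁅K, (⊤ : Subgroup H)⁆ with hN
  have hNK : N ≤ K := Subgroup.le_normalizer_iff_commutator_le_left.1 Subgroup.le_normalizer_of_normal
  set f := QuotientGroup.mk' N with hf
  have hone : ∀ x ∈ N, f x = 1 := fun x hx => (QuotientGroup.eq_one_iff x).2 hx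
  have hcen : ∀ k ∈ K, ∀ y : H, Commute (f k) (f y) := fun k hk y => by
    show f k * f y = f y * f k
    rw [← commutatorElement_eq_one_iff_mul_comm, ← map_commutatorElement]
    exact hone _ (Subgroup.commutator_mem_commutator hk (Subgroup.mem_top y))
  have hder : (commutator H).map f ≤ ⁅E, E⁆.map f := by
    rw [commutator_def, Subgroup.map_commutator, Subgroup.map_commutator]
    refine Subgroup.commutator_le.2 ?_
    rintro _ ⟨a, -, rfl⟩ _ ⟨b, -, rfl⟩
    obtain ⟨k, hk, e, he, rfl⟩ := Subgroup.mem_sup_of_normal_left.1 (hsup.symm ▸ Subgroup.mem_top a : a ∈ K ⊔ E)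
    obtain ⟨l, hl, d, hd, rfl⟩ := Subgroup.mem_sup_of_normal_left.1 (hsup.symm ▸ Subgroup.mem_top b : b ∈ K ⊔ E)
    have e1 : ⁅f (k * e), f (l * d)⁆ = ⁅f e, f d⁆ := by
      rw [map_mul, map_mul]
      have c1 := (hcen k hk d).inv_left
      have c2 := hcen l hl e
      calc ⁅f k * f e, f l * f d⁆ = f k * (f e * f l) * f d * (f e)⁻¹ * (f k)⁻¹ * (f d)⁻¹ * (f l)⁻¹ := by
            rw [commutatorElement_def]; group
        _ = f k * f l * ((f e * f d * (f e)⁻¹) * (f k)⁻¹) * (f d)⁻¹ * (f l)⁻¹ := by rw [← c2.eq]; group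
        _ = f k * f l * ((f k)⁻¹ * (f e * f d * (f e)⁻¹)) * (f d)⁻¹ * (f l)⁻¹ := by
              have c3 : Commute (f k)⁻¹ (f e * f d * (f e)⁻¹) := by
                simpa [map_mul, map_inv] using (hcen k hk (e * d * e⁻¹)).inv_left
              rw [← c3.eq]
        _ = f l * ⁅f e, f d⁆ * (f l)⁻¹ := by
              have c4 := hcen k hk l
              rw [c4.eq, commutatorElement_def]; group
        _ = ⁅f e, f d⁆ := by
              have c5 : Commute (f l) ⁅f e, f d⁆ := by rw [← map_commutatorElement]; exact hcen l hl _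
              rw [c5.eq, mul_inv_cancel_right]
    rw [e1]
    exact Subgroup.commutator_mem_commutator ⟨e, he, rfl⟩ ⟨d, hd, rfl⟩
  have hKN : K ≤ N := fun k hk => by
    obtain ⟨d, hd, he⟩ := hder ⟨k, hK hk, rfl⟩
    have h1 : k * d⁻¹ ∈ N := by
      rw [← QuotientGroup.eq_one_iff]
      show f _ = 1
      rw [map_mul, map_inv, he, mul_inv_cancel]
    have hdE : d ∈ E := (Subgroup.le_normalizer_iff_commutator_le_left.1 Subgroup.le_normalizer) hd
    have hdK : d ∈ K := by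
      have := K.mul_mem (K.inv_mem (hNK h1)) hk
      simpa using this
    have hd1 : d = 1 := Subgroup.mem_bot.1 (hinf ▸ ⟨hdK, hdE⟩)
    simpa [hd1] using h1
  set W := ⁅K, E⁆ ⊔ ⁅K, K⁆ with hW
  have hK1 : K ≤ Subgroup.normalizer ((⁅K, E⁆ : Subgroup H) : Set H) := Subgroup.normalizer_commutator_ge_left K E
  have hW1 : K ≤ Subgroup.normalizer (W : Set H) :=
    (le_inf hK1 (Subgroup.le_normalizer_of_normal (H := ⁅K, K⁆))).trans (Subgroup.normalizer_inf_normalizer_le_normalizer_sup _ _)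
  have hKW : K ≤ W := by
    refine hKN.trans ?_
    rw [hN]
    refine Subgroup.commutator_le.2 fun k hk y _ => ?_
    obtain ⟨l, hl, e, he, rfl⟩ := Subgroup.mem_sup_of_normal_left.1 (hsup.symm ▸ Subgroup.mem_top y : y ∈ K ⊔ E)
    have e1 : ⁅k, l * e⁆ = ⁅k, l⁆ * (l * ⁅k, e⁆ * l⁻¹) := by simp only [commutatorElement_def]; group
    rw [e1]
    exact W.mul_mem (Subgroup.mem_sup_right (Subgroup.commutator_mem_commutator hk hl))
      ((Subgroup.mem_normalizer_iff.1 (hW1 hl) _).1 (Subgroup.mem_sup_left (Subgroup.commutator_mem_commutator hk he)))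
  refine le_antisymm hLK ?_
  set L := (⁅K, E⁆).subgroupOf K with hL
  haveI : L.Normal := Subgroup.normal_subgroupOf_of_le_normalizer hK1
  by_contra hne
  haveI : Nontrivial (K ⧸ L) := QuotientGroup.nontrivial_iff.2 fun h => hne (Subgroup.subgroupOf_eq_top.1 h)
  haveI : Group.IsSolvable (K ⧸ L) := Group.isSolvable_of_surjective (QuotientGroup.mk'_surjective L)
  refine (Group.IsSolvable.commutator_lt_top_of_nontrivial (K ⧸ L)).ne (top_unique fun z _ => ?_)
  induction z using QuotientGroup.induction_on with | H z => ?_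
  obtain ⟨a, ha, b, hb, he⟩ := (SolvBasic.mem_sup_iff_of_le_normalizer
    ((Subgroup.commutator_le.2 fun u hu v hv => by
      rw [commutatorElement_def]
      exact K.mul_mem (K.mul_mem (K.mul_mem hu hv) (K.inv_mem hu)) (K.inv_mem hv) : ⁅K, K⁆ ≤ K).trans hK1)).1 (hKW z.2)
  rw [← Subgroup.map_subtype_commutator] at hb
  obtain ⟨b', hb', rfl⟩ := hb
  have e2 : (QuotientGroup.mk z : K ⧸ L) = QuotientGroup.mk b' := by
    rw [QuotientGroup.eq]
    have : ((z : H))⁻¹ * (b' : H) ∈ ⁅K, E⁆ := by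
      have e3 : ((z : H))⁻¹ * (b' : H) = (b' : H)⁻¹ * a⁻¹ * (b' : H)⁻¹⁻¹ := by
        rw [he, Subgroup.coe_subtype]; group
      rw [e3]
      exact (Subgroup.mem_normalizer_iff.1 (hK1 (K.inv_mem b'.2)) _).1 ((⁅K, E⁆).inv_mem ha)
    exact this
  rw [e2]
  have := Subgroup.mem_map_of_mem (QuotientGroup.mk' L) hb'
  rw [commutator_def, Subgroup.map_commutator, Subgroup.map_top_of_surjective _ (QuotientGroup.mk'_surjective L)] at this
  exact this

theorem fixed_le_derived [hKn : K.Normal] [Group.IsSolvable K] (hcop : (Nat.card E).Coprime (Nat.card K))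
    (hKE : ⁅K, E⁆ = K) : K ⊓ Subgroup.centralizer (E : Set H) ≤ ⁅K, K⁆ := by
  haveI : (⁅K, K⁆).Normal := Subgroup.commutator_normal K K
  set f := QuotientGroup.mk' ⁅K, K⁆ with hf
  haveI : IsMulCommutative (K.map f) := by
    refine .of_setLike_mul_comm ?_
    rintro _ ⟨a, ha, rfl⟩ _ ⟨b, hb, rfl⟩
    rw [← commutatorElement_eq_one_iff_mul_comm, ← map_commutatorElement]
    exact (QuotientGroup.eq_one_iff _).2 (Subgroup.commutator_mem_commutator ha hb)
  have hEK : E.map f ≤ Subgroup.normalizer ((K.map f : Subgroup _) : Set (H ⧸ ⁅K, K⁆)) :=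
    (Subgroup.map_mono Subgroup.le_normalizer_of_normal).trans (Subgroup.le_normalizer_map f)
  have hbot := CoprimeAct.centralizer_inf_commutator_eq_bot hEK
    ((hcop.coprime_dvd_left (Subgroup.card_map_dvd _ f)).coprime_dvd_right (Subgroup.card_map_dvd _ f))
  rw [← Subgroup.map_commutator, hKE, inf_eq_left.2 inf_le_left] at hbot
  intro x hx
  rw [← QuotientGroup.eq_one_iff, ← Subgroup.mem_bot, ← hbot]
  rw [← CoprimeAct.map_inf_centralizer f Subgroup.le_normalizer_of_normal hcop (Or.inr inferInstance)]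
  exact ⟨x, hx, rfl⟩

end Abstract

variable {G : Type u} [Group G] [Finite G] {M E : Subgroup G}

theorem map_commutator_subgroupOf {A B : Subgroup G} (hA : A ≤ M) (hB : B ≤ M) :
    ⁅A.subgroupOf M, B.subgroupOf M⁆.map M.subtype = ⁅A, B⁆ := by
  rw [Subgroup.map_commutator, Subgroup.subgroupOf_map_subtype, Subgroup.subgroupOf_map_subtype,
    inf_eq_left.2 hA, inf_eq_left.2 hB]

theorem sigmaCore_commutator (hG : Cfsg.IsMinSimpleOddOrder G) (hM : IsCoatom M)
    (hE : Cfsg.IsComplIn E (Cfsg.sigmaCore M) M) : ⁅Cfsg.sigmaCore M, E⁆ = Cfsg.sigmaCore M ∧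
      Cfsg.sigmaCore M ⊓ Subgroup.centralizer (E : Set G) ≤ ⁅Cfsg.sigmaCore M, Cfsg.sigmaCore M⁆ := by
  set K := Cfsg.sigmaCore M with hKdef
  have hKM : K ≤ M := sigmaCore_le M
  haveI : (K.subgroupOf M).Normal := Subgroup.normal_subgroupOf_of_le_normalizer (le_normalizer_sigmaCore M)
  haveI := MinSimple.isSolvable hG hM.1
  haveI : Group.IsSolvable (K.subgroupOf M) := inferInstance
  have hsup : K.subgroupOf M ⊔ E.subgroupOf M = ⊤ := by
    rw [← Subgroup.subgroupOf_sup hKM hE.1, sup_comm, Compl.sup_eq hE, Subgroup.subgroupOf_self]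
  have hinf : K.subgroupOf M ⊓ E.subgroupOf M = ⊥ := by
    rw [eq_bot_iff]
    rintro x ⟨h1, h2⟩
    exact Subgroup.mem_bot.2 (Subtype.ext (Subgroup.mem_bot.1
      (hE.2.2.1 ▸ ⟨Subgroup.mem_subgroupOf.1 h2, Subgroup.mem_subgroupOf.1 h1⟩)))
  have hK : K.subgroupOf M ≤ commutator M := fun x hx =>
    BetaCore.le_commutator (Sigma.piCoreOf_le_derived hG hM subset_rfl) (Subgroup.mem_subgroupOf.1 hx)
  have h1 := commutator_eq hsup hinf hK
  have hcop : (Nat.card (E.subgroupOf M)).Coprime (Nat.card (K.subgroupOf M)) := by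
    rw [Nat.card_congr (Subgroup.subgroupOfEquivOfLe hE.1).toEquiv, Nat.card_congr (Subgroup.subgroupOfEquivOfLe hKM).toEquiv]
    exact ComplBasics.coprime_card hG hM hE
  refine ⟨?_, fun x hx => ?_⟩
  · rw [← map_commutator_subgroupOf hKM hE.1, h1, Subgroup.subgroupOf_map_subtype, inf_eq_left.2 hKM]
  · rw [← map_commutator_subgroupOf hKM hKM]
    refine ⟨⟨x, hKM hx.1⟩, fixed_le_derived hcop h1 ⟨hx.1, Subgroup.mem_centralizer_iff.2 fun e he => Subtype.ext ?_⟩, rfl⟩
    exact Subgroup.mem_centralizer_iff.1 hx.2 _ (Subgroup.mem_subgroupOf.1 he)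

theorem centralizer_unique_not_mem (hG : Cfsg.IsMinSimpleOddOrder G) (hM : IsCoatom M) {x : G}
    (hx : x ∈ Cfsg.sigmaCore M) {p : ℕ} (hp : p.Prime) (hxp : orderOf x = p)
    (h : p ∈ Cfsg.beta M ∨ x ∈ ⁅Cfsg.sigmaCore M, Cfsg.sigmaCore M⁆) {g : G}
    (hxg : x ∈ M.map (MulAut.conj g).toMonoidHom) : g ∈ M := by
  haveI := Fact.mk hp
  have hd : p ∣ Nat.card (Cfsg.sigmaCore M) := hxp ▸ Subgroup.orderOf_dvd_natCard _ hx
  have hσ := mem_sigma_of_dvd hp hd
  have hX : Nat.card (Subgroup.zpowers x) = p := by rw [Nat.card_zpowers, hxp]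
  have hXM : Subgroup.zpowers x ≤ M := Subgroup.zpowers_le.2 (sigmaCore_le M hx)
  obtain ⟨⟨hC, -⟩, -, -⟩ := S1423.result hG M hM p hσ (Subgroup.zpowers x) hXM hX default
    (h.imp id fun h' => Subgroup.zpowers_le.2 h')
  obtain ⟨m, hm, c, hc, he⟩ := Sigma.trans hG hM hσ (Subgroup.zpowers x) (IsPGroup.of_card (n := 1) (by rw [hX, pow_one]))
    (fun hb => hp.ne_one (by rw [← hX, hb, Subgroup.card_bot])) hXM g⁻¹ (conj_inv_le (Subgroup.zpowers_le.2 hxg))
  exact (inv_inv g) ▸ M.inv_mem (he ▸ M.mul_mem hm (hC hc))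

theorem inf_conj (hG : Cfsg.IsMinSimpleOddOrder G) (hM : IsCoatom M) {g : G} (hg : g ∉ M) :
    IsCyclic ↥(Cfsg.sigmaCore M ⊓ M.map (MulAut.conj g).toMonoidHom) ∧
      (∀ p : ℕ, p.Prime → p ∣ Nat.card ↥(Cfsg.sigmaCore M ⊓ M.map (MulAut.conj g).toMonoidHom) → p ∉ Cfsg.beta M) ∧
      Cfsg.sigmaCore M ⊓ M.map (MulAut.conj g).toMonoidHom ⊓ ⁅Cfsg.sigmaCore M, Cfsg.sigmaCore M⁆ = ⊥ := by
  set X := Cfsg.sigmaCore M ⊓ M.map (MulAut.conj g).toMonoidHom with hX
  have hder : X ⊓ ⁅Cfsg.sigmaCore M, Cfsg.sigmaCore M⁆ = ⊥ := by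
    by_contra hne
    obtain ⟨p, hp, hd⟩ := Nat.exists_prime_and_dvd fun h1 => hne (Subgroup.card_eq_one.1 h1)
    haveI := Fact.mk hp
    obtain ⟨⟨x, hx⟩, hxp⟩ := exists_prime_orderOf_dvd_card'
      (G := (X ⊓ ⁅Cfsg.sigmaCore M, Cfsg.sigmaCore M⁆ : Subgroup G)) p hd
    rw [Subgroup.orderOf_mk] at hxp
    exact hg (centralizer_unique_not_mem hG hM hx.1.1 hp hxp (Or.inr hx.2) hx.1.2)
  refine ⟨?_, fun p hp hd hβ => ?_, hder⟩
  · haveI : IsMulCommutative X := .of_setLike_mul_comm fun a ha b hb =>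
      commutatorElement_eq_one_iff_mul_comm.1 (Subgroup.mem_bot.1 (hder ▸ ⟨by
        rw [commutatorElement_def]
        exact X.mul_mem (X.mul_mem (X.mul_mem ha hb) (X.inv_mem ha)) (X.inv_mem hb),
        Subgroup.commutator_mem_commutator ha.1 hb.1⟩))
    by_contra hc
    obtain ⟨q, V, hq, hV, hexp⟩ := CoprimeAct.exists_elementary_of_not_isCyclic hc
    haveI := Fact.mk hq
    set A := V.map X.subtype with hA
    have hAe : Cfsg.IsElementaryAbelian q A := by
      refine ⟨inferInstance, ?_⟩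
      rintro _ ⟨v, hv, rfl⟩
      rw [← map_pow]
      have := congrArg Subtype.val (hexp ⟨v, hv⟩)
      simp only [SubmonoidClass.coe_pow, OneMemClass.coe_one] at this
      rw [this, map_one]
    have hAc : Nat.card A = q ^ 2 := by rw [hA, Subgroup.card_map_of_injective X.subtype_injective, hV]
    have hAX : A ≤ X := Subgroup.map_subtype_le _
    have hAM : A ≤ M := (hAX.trans inf_le_left).trans (sigmaCore_le M)
    have hσ : q ∈ Cfsg.sigma M := mem_sigma_of_dvd hq
      ((hAc ▸ dvd_pow_self q two_ne_zero : q ∣ Nat.card A).trans (Subgroup.card_dvd_of_le (hAX.trans inf_le_left)))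
    obtain ⟨m, hm, c, hc', he⟩ := Sigma.trans hG hM hσ A (Plane.isPGroup hAc) (Plane.ne_bot (p := q) hAc) hAM g⁻¹
      (conj_inv_le (hAX.trans inf_le_right))
    exact hg ((inv_inv g) ▸ M.inv_mem (he ▸ M.mul_mem hm (PlaneUnique.centralizer_le hG hM hAM hAe hAc hc')))
  · haveI := Fact.mk hp
    obtain ⟨⟨x, hx⟩, hxp⟩ := exists_prime_orderOf_dvd_card' (G := X) p hd
    rw [Subgroup.orderOf_mk] at hxp
    exact hg (centralizer_unique_not_mem hG hM hx.1 hp hxp (Or.inl hβ) hx.2)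

end Cfsg.Agent.OddOrder.SigmaAction
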