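/-
Prime action of rank one subgroups of a complement on `M_σ` (BG 12.19).
-/
import Cfsg.Agent.Lib.OddOrder.SigmaConj

set_option autoImplicit false
set_option linter.style.haveILetI false
set_option linter.unusedSectionVars false

namespace Cfsg.Agent.OddOrder.PrimeAction

open scoped commutatorElement
open Exceptional

universe u

variable {G : Type u} [Group G] [Finite G] {p : ℕ} [hp : Fact p.Prime] {M : Subgroup G}

theorem sigma_of_conj (g : G) (h : p ∈ Cfsg.sigma (M.map (MulAut.conj g).toMonoidHom)) : p ∈ Cfsg.sigma M := by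
  have h' := h
  obtain ⟨hprime, hd, R, hR⟩ := h'
  obtain ⟨T, hT⟩ := Sigma.sigma_sylow h R
  rw [← hT] at hR
  have hTN : (T : Subgroup G) ≤ M.map (MulAut.conj g).toMonoidHom := hT.le.trans (Subgroup.map_subtype_le _)
  set T' : Sylow p G := g⁻¹ • T with hT'
  have hT'c : (T' : Subgroup G) = (T : Subgroup G).map (MulAut.conj g⁻¹).toMonoidHom := by
    rw [hT', Sylow.coe_subgroup_smul]; rfl
  have hT'M : (T' : Subgroup G) ≤ M := by
    rw [hT'c]; exact conj_inv_le hTN
  refine ⟨hprime, ?_, T'.subtype hT'M, ?_⟩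
  · rwa [Subgroup.card_map_of_injective (MulAut.conj g).injective] at hd
  have e : ((T'.subtype hT'M : Sylow p M) : Subgroup M).map M.subtype = (T' : Subgroup G) := by
    rw [Sylow.coe_subtype, Subgroup.subgroupOf_map_subtype, inf_eq_left.2 hT'M]
  rw [e]
  intro n hn
  have h1 : g * n * g⁻¹ ∈ Subgroup.normalizer ((T : Subgroup G) : Set G) := by
    have h2 := Subgroup.le_normalizer_map (MulAut.conj g).toMonoidHom
      (H := (T' : Subgroup G)) ⟨n, hn, rfl⟩
    rwa [hT'c, map_conj_inv] at h2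
  obtain ⟨m, hm, he⟩ := hR h1
  have he' : g * m * g⁻¹ = g * n * g⁻¹ := he
  rw [← mul_left_cancel (mul_right_cancel he')]
  exact hm

theorem rank_of_conj (g : G) {k : ℕ} (h : Cfsg.PRankLE p k M) :
    Cfsg.PRankLE p k (M.map (MulAut.conj g).toMonoidHom) :=
  NarrowSolvable.prankLE_of_equiv (M.equivMapOfInjective (MulAut.conj g).toMonoidHom (MulAut.conj g).injective) h

variable {q : ℕ} [hq : Fact q.Prime]

/-- Rank one `p`-subgroups act with prime kernel on `M_σ`. -/
theorem le_centralizer (hG : Cfsg.IsMinSimpleOddOrder G) (hM : IsCoatom M) (hp' : p ∉ Cfsg.sigma M)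
    (hr1 : Cfsg.PRankLE p 1 M) {X S : Subgroup G} (hX : Nat.card X = p) (hS : IsPGroup p S)
    (hXS : X ≤ S) (hSX : S ≤ Subgroup.centralizer (X : Set G)) (hqσ : q ∈ Cfsg.sigma M) (hqp : q ≠ p) {Q : Subgroup G}
    (hQ : IsPGroup q Q) (hQX : Q ≤ Subgroup.centralizer (X : Set G))
    (hSQ : S ≤ Subgroup.normalizer (Q : Set G)) : Q ≤ Subgroup.centralizer (S : Set G) := by
  have hX1 : X ≠ ⊥ := fun hb => hp.out.ne_one (by rw [← hX, hb, Subgroup.card_bot])
  obtain ⟨N, hN, hNX⟩ := Uniq.exists_maximal_ge (MinSimple.normalizer_ne_top hG hX1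
    (MinSimple.pSubgroup_ne_top hG (IsPGroup.of_card (n := 1) (by rw [hX, pow_one]))))
  have hXN : X ≤ N := Subgroup.le_normalizer.trans hNX
  have hSN : S ≤ N := hSX.trans ((Subgroup.centralizer_le_normalizer _).trans hNX)
  have hQN : Q ≤ N := hQX.trans ((Subgroup.centralizer_le_normalizer _).trans hNX)
  have hnc : ∀ g : G, N ≠ M.map (MulAut.conj g).toMonoidHom := fun g hg => by
    by_cases hpN : p ∈ Cfsg.sigma N
    · exact hp' (sigma_of_conj g (hg ▸ hpN))
    · exact (S1409.result hG N hN p hpN X hX hNX).1.2 (hg ▸ rank_of_conj g hr1)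
  by_cases hpN : p ∈ Cfsg.sigma N
  · obtain ⟨T, hT⟩ := (hS.comap_subtype (K := N)).exists_le_sylow
    have hST : S ≤ (T : Subgroup N).map N.subtype := fun x hx => ⟨⟨x, hSN hx⟩, hT hx, rfl⟩
    have hSd : S ≤ ⁅N, N⁆ := hST.trans (Sigma.sylow_le_derived hG hN hpN T)
    have hqβ : q ∉ Cfsg.beta N := fun hb => by
      obtain ⟨g, hg⟩ := SigmaConj.conj_of_rank hG hM hN hqσ (BetaCore.beta_subset_sigma hG hN hb) hb.2.2.1
      exact hnc g hg
    by_cases hpβ : p ∈ Cfsg.beta N
    · set B := Cfsg.piCoreOf (Cfsg.beta N) N with hB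
      have hSB : S ≤ B := hST.trans (Subgroup.map_mono (BetaCore.sylow_le_piCore hG hN hpβ T))
      have hNB : N ≤ Subgroup.normalizer (B : Set G) := AxB.le_normalizer_map_subtype (Cfsg.piCore_normal _ _)
      have h1 : ⁅Q, S⁆ ≤ B := (Subgroup.commutator_mono hQN hSB).trans
        (by rw [Subgroup.commutator_comm]; exact Subgroup.le_normalizer_iff_commutator_le_left.1 hNB)
      have h2 : ⁅Q, S⁆ ≤ Q := CoprimeAct.commutator_le_left hSQ
      refine Subgroup.commutator_eq_bot_iff_le_centralizer.1 ?_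
      by_contra hne
      haveI : Nontrivial (⁅Q, S⁆ : Subgroup G) := (Subgroup.nontrivial_iff_ne_bot _).2 hne
      obtain ⟨k, hk, hk'⟩ := (hQ.to_le h2).nontrivial_iff_card.1 inferInstance
      exact hqβ (MinSimple.isPi_piCoreOf q hq.out
        ((hk' ▸ dvd_pow_self q hk.ne' : q ∣ Nat.card (⁅Q, S⁆ : Subgroup G)).trans (Subgroup.card_dvd_of_le h1)))
    · exact SigmaConj.sylow_centralizes hG hN hS hSd hpβ hqp hqβ hQ hQN hSQ
  · obtain ⟨⟨hr2, hr1'⟩, -, -⟩ := S1409.result hG N hN p hpN X hX hNX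
    have hτ : p ∈ Cfsg.tau2 N := ⟨hp.out, hpN, hr2, hr1'⟩
    have hcop : (Nat.card (Q ⊔ S : Subgroup G)).Coprime (Nat.card (Cfsg.sigmaCore N)) := by
      refine ComplBasics.coprime_sigmaCore_of_not_sigma fun r hr hd hrσ => ?_
      have hdv : Nat.card (Q ⊔ S : Subgroup G) ∣ Nat.card Q * Nat.card S :=
        Dvd.intro _ (SolvBasic.card_sup_mul_card_inf hSQ)
      rcases hr.dvd_mul.1 (hd.trans hdv) with h | h
      · have hrq := Set.mem_singleton_iff.1 (Inv.primes_of_isPGroup hQ r hr h)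
        subst hrq
        haveI := Fact.mk hr
        obtain ⟨P, hP⟩ : ∃ P : Sylow r N, N ≤ Subgroup.normalizer (((P : Subgroup N).map N.subtype : Subgroup G) : Set G) := by
          obtain ⟨T⟩ : Nonempty (Sylow p N) := inferInstance
          obtain ⟨A, hAT, hAe, hA⟩ := ComplBasics.exists_plane_sylow hτ T
          obtain ⟨A₀, hexc, -⟩ := PlaneUnique.exists_exc hG hN (hAT.trans (Subgroup.map_subtype_le _)) hAe hA hpN
          obtain ⟨R, hR, -⟩ := hexc.exists_core hrσ
          exact ⟨R, hR⟩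
        obtain ⟨g, hg⟩ := SigmaConj.conj_of_normal_sylow hG hM hN hqσ hrσ P hP
        exact hnc g hg
      · rw [Set.mem_singleton_iff.1 (Inv.primes_of_isPGroup hS r hr h)] at hrσ
        exact hpN hrσ
    obtain ⟨E, hE, hQSE⟩ := ComplBasics.exists_complement_containing hG hN (sup_le hQN hSN) hcop
    obtain ⟨A, hAE, hAe, hA⟩ := TauTwo.exists_plane (p := p) hG hN hE hτ
    obtain ⟨A₀, hexc, -⟩ := PlaneUnique.exists_exc hG hN (hAE.trans hE.1) hAe hA hpN
    have hEA := hexc.compl_normalizes hE hAE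
    obtain ⟨H, hH, hNAH⟩ := Uniq.exists_maximal_ge (MinSimple.normalizer_ne_top hG (Plane.ne_bot (p := p) hA)
      (MinSimple.pSubgroup_ne_top hG (Plane.isPGroup hA)))
    obtain ⟨P, hAP⟩ := hexc.exists_sylow
    obtain ⟨hPC, hPA⟩ := hexc.sylow_central P hAP
    set Pm := (P : Subgroup N).map N.subtype with hPm
    have hPH : Pm ≤ H := hPC.trans ((Subgroup.centralizer_le_normalizer _).trans hNAH)
    have hNP : Subgroup.normalizer (Pm : Set G) ≤ Subgroup.normalizer (A : Set G) := fun g hg => by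
      refine ComplAbelian.mem_normalizer_of_map_le fun a ha => hPA _ ((Subgroup.mem_normalizer_iff.1 hg a).1 (hAP ha)) ?_
      rw [conj_pow, hAe.2 a ha, mul_one, mul_inv_cancel]
    have hpH : p ∈ Cfsg.sigma H := by
      by_contra hpH
      obtain ⟨T, hT⟩ := (P.isPGroup'.map N.subtype).exists_le_sylow
      rcases (show Pm ≤ (T : Subgroup G) from hT).eq_or_lt with he | hlt
      · refine hpH ⟨hp.out, ?_, T.subtype (he ▸ hPH), ?_⟩
        · exact ((hA ▸ dvd_pow_self p two_ne_zero : p ∣ Nat.card A).trans (Subgroup.card_dvd_of_le hAP)).trans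
            (Subgroup.card_dvd_of_le hPH)
        rw [Sylow.coe_subtype, Subgroup.subgroupOf_map_subtype, inf_eq_left.2 (he.ge.trans hPH), ← he]
        exact hNP.trans hNAH
      · obtain ⟨x, hxT, hxN, hxP⟩ := SigmaPartner.exists_normalizing T.isPGroup' hlt
        have hV : IsPGroup p (Pm ⊔ Subgroup.zpowers x : Subgroup G) :=
          T.isPGroup'.to_le (sup_le hlt.le (Subgroup.zpowers_le.2 hxT))
        haveI := ComplBasics.isMulCommutative_of_not_sigma hG hH hpH hV
          (sup_le hPH (Subgroup.zpowers_le.2 (hNAH (hNP hxN))))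
        have hxN' : x ∈ N := hexc.centralizer_le (Subgroup.mem_centralizer_iff.2 fun a ha =>
          congrArg Subtype.val (mul_comm'
            (⟨a, Subgroup.mem_sup_left (hAP ha)⟩ : (Pm ⊔ Subgroup.zpowers x : Subgroup G))
            ⟨x, Subgroup.mem_sup_right (Subgroup.mem_zpowers x)⟩))
        exact hxP ((Sigma.sylow_map_eq hV (sup_le (Subgroup.map_subtype_le _) (Subgroup.zpowers_le.2 hxN')) le_sup_left).le
          (Subgroup.mem_sup_right (Subgroup.mem_zpowers x)))
    have hSH : S ≤ H := ((le_sup_right.trans hQSE).trans hEA).trans hNAH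
    have hQH : Q ≤ H := ((le_sup_left.trans hQSE).trans hEA).trans hNAH
    obtain ⟨T, hT⟩ := (hS.comap_subtype (K := H)).exists_le_sylow
    have hST : S ≤ (T : Subgroup H).map H.subtype := fun x hx => ⟨⟨x, hSH hx⟩, hT hx, rfl⟩
    have hSd : S ≤ ⁅H, H⁆ := hST.trans (Sigma.sylow_le_derived hG hH hpH T)
    have hqβ : q ∉ Cfsg.beta H := fun hb => by
      obtain ⟨g, hg⟩ := SigmaConj.conj_of_rank hG hM hH hqσ (BetaCore.beta_subset_sigma hG hH hb) hb.2.2.1
      exact hp' (sigma_of_conj g (hg ▸ hpH))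
    exact SigmaConj.sylow_centralizes hG hH hS hSd (hexc.maximal.not_beta H) hqp hqβ hQ hQH hSQ

omit hq

/-- The centralizer of a line of a rank one Sylow subgroup centralizes the Sylow subgroup. -/
theorem centralizer_le (hG : Cfsg.IsMinSimpleOddOrder G) (hM : IsCoatom M) (hp' : p ∉ Cfsg.sigma M)
    (hr1 : Cfsg.PRankLE p 1 M) {X S : Subgroup G} (hX : Nat.card X = p) (hS : IsPGroup p S) (hSM : S ≤ M)
    (hXS : X ≤ S) (hSX : S ≤ Subgroup.centralizer (X : Set G)) :
    Cfsg.sigmaCore M ⊓ Subgroup.centralizer (X : Set G) ≤ Subgroup.centralizer (S : Set G) := by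
  set D := Cfsg.sigmaCore M ⊓ Subgroup.centralizer (X : Set G) with hD
  have hSD : S ≤ Subgroup.normalizer (D : Set G) :=
    (le_inf (hSM.trans (le_normalizer_sigmaCore M)) (hSX.trans Subgroup.le_normalizer)).trans
      Subgroup.inf_normalizer_le_normalizer_inf
  have hcop : (Nat.card S).Coprime (Nat.card D) := by
    obtain ⟨k, hk⟩ := hS.exists_card_eq
    rw [hk]
    exact (hp.out.coprime_iff_not_dvd.2 fun h => hp' (mem_sigma_of_dvd hp.out
      (h.trans (Subgroup.card_dvd_of_le inf_le_left)))).pow_left k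
  haveI := hS.isNilpotent
  rw [← Subgroup.subgroupOf_eq_top]
  refine FittingCores.eq_top_of_forall_sylow_le fun r hr => ?_
  haveI := Fact.mk hr
  obtain ⟨R, hR⟩ := CoprimeAct.exists_invariant_sylow hSD hcop (Or.inl inferInstance) r
  refine ⟨R, fun x hx => ?_⟩
  by_cases hx1 : x = 1
  · rw [hx1]; exact one_mem _
  have hd : r ∣ Nat.card (Cfsg.sigmaCore M) := ((R.isPGroup'.card_eq_or_dvd.resolve_left fun e =>
    hx1 (Subgroup.mem_bot.1 (Subgroup.card_eq_one.1 e ▸ hx))).trans (Subgroup.card_subgroup_dvd_card _)).trans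
      (Subgroup.card_dvd_of_le inf_le_left)
  have hrσ := mem_sigma_of_dvd hr hd
  exact le_centralizer hG hM hp' hr1 hX hS hXS hSX hrσ (fun e => hp' (e ▸ hrσ)) (R.isPGroup'.map D.subtype)
    ((Subgroup.map_subtype_le _).trans inf_le_right) hR ⟨x, hx, rfl⟩

/-- A cyclic Sylow subgroup of a complement makes `M` of `p`-rank one. -/
theorem rank_one_of_cyclic (hG : Cfsg.IsMinSimpleOddOrder G) (hM : IsCoatom M) {E : Subgroup G}
    (hE : Cfsg.IsComplIn E (Cfsg.sigmaCore M) M) (S : Sylow p E) (hSc : IsCyclic (S : Subgroup E))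
    (hp' : p ∉ Cfsg.sigma M) : Cfsg.PRankLE p 1 M := by
  by_contra hr1
  unfold Cfsg.PRankLE at hr1
  push Not at hr1
  obtain ⟨B, hBc, hBp, hB⟩ := hr1
  haveI := hBc
  have hBg : IsPGroup p B := fun b => ⟨1, Subtype.ext (by simpa using hBp b b.2)⟩
  obtain ⟨m, -, hle⟩ := TauTwo.exists_conj_le_complement hG hM hE (hBg.map M.subtype) (Subgroup.map_subtype_le _) hp'
  set B' := ((B.map M.subtype).map (MulAut.conj m).toMonoidHom).subgroupOf E with hB'
  have hB'p : IsPGroup p B' := ((hBg.map M.subtype).map _).comap_subtype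
  obtain ⟨T, hT⟩ := hB'p.exists_le_sylow
  haveI := hSc
  haveI : IsCyclic (T : Subgroup E) := isCyclic_of_injective
    (T.equiv S).toMonoidHom (MulEquiv.injective _)
  haveI hBcyc : IsCyclic B' := isCyclic_of_injective (Subgroup.inclusion hT) (Subgroup.inclusion_injective _)
  haveI := hBcyc
  have hc : Nat.card B' = Nat.card B := by
    rw [hB', Nat.card_congr (Subgroup.subgroupOfEquivOfLe hle).toEquiv,
      Subgroup.card_map_of_injective (MulAut.conj m).injective, Subgroup.card_map_of_injective M.subtype_injective]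
  obtain ⟨b, hb⟩ := IsCyclic.exists_generator (α := B')
  have hbp : b ^ p = 1 := by
    obtain ⟨_, ⟨c, hc', rfl⟩, hbe⟩ := Subgroup.mem_subgroupOf.1 b.2
    apply Subtype.ext
    apply Subtype.ext
    push_cast
    rw [← hbe, ← map_pow, ← map_pow, hBp c hc', map_one, map_one]
  rw [← hc, ← orderOf_eq_card_of_forall_mem_zpowers hb, pow_one] at hB
  exact absurd hB (not_lt.2 (Nat.le_of_dvd hp.out.pos (orderOf_dvd_of_pow_eq_one hbp)))

end Cfsg.Agent.OddOrder.PrimeAction
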