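/-
Tools for BG 13.1-13.4: primes of `τ₁(M)` in a second maximal subgroup.
-/
import Cfsg.Agent.Lib.OddOrder.PrimeAction
import Cfsg.Agent.S1411
import Cfsg.Agent.S1418

set_option autoImplicit false
set_option linter.style.haveILetI false
set_option linter.unusedSectionVars false

namespace Cfsg.Agent.OddOrder.TauOne

open scoped commutatorElement
open Exceptional

universe u

variable {G : Type u} [Group G] [Finite G]

section Fixed

variable {p q r : ℕ} [hp : Fact p.Prime] [hq : Fact q.Prime] [hr : Fact r.Prime]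

theorem le_centralizer_of_fixed_elementary (hqp : q ≠ p) (hrq : r ≠ q) (hrp : r ≠ p) (hq2 : q ≠ 2)
    {R Y V : Subgroup G} (hR : Nat.card R = r) (hY : IsPGroup q Y) (hV : Cfsg.IsElementaryAbelian p V)
    (hRY : R ≤ Subgroup.normalizer (Y : Set G)) (hRV : R ≤ Subgroup.normalizer (V : Set G))
    (hYV : Y ≤ Subgroup.normalizer (V : Set G)) (hYR : ⁅Y, R⁆ = Y) (hVY : ⁅V, Y⁆ = V)
    (h : V ⊓ Subgroup.centralizer (R : Set G) ≤ Subgroup.centralizer (Y : Set G)) : V = ⊥ := by
  haveI := hV.1
  have hVp : IsPGroup p V := UniqProp.isPGroup_of_elementary hV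
  have hcop : (Nat.card Y).Coprime (Nat.card V) := by
    obtain ⟨a, ha⟩ := hY.exists_card_eq
    obtain ⟨b, hb⟩ := hVp.exists_card_eq
    rw [ha, hb]
    exact Nat.coprime_pow_primes a b hq.out hp.out hqp
  have hfix : V ⊓ Subgroup.centralizer (R : Set G) = ⊥ := by
    have h0 := CoprimeAct.centralizer_inf_commutator_eq_bot hYV hcop
    rw [hVY, inf_eq_left.2 inf_le_left] at h0
    rw [eq_bot_iff, ← h0]
    exact le_inf inf_le_left h
  have h' := ComplAction.commutator_le_centralizer_of_fixed hp.out hq.out hr.out hqp.symm hrp.symm hrq.symm hq2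
    R Y V hR hY hV hRY hRV hYV hfix
  rw [hYR] at h'
  rw [← hVY]
  exact Subgroup.commutator_eq_bot_iff_le_centralizer.2 (Subgroup.le_centralizer_iff.1 h')

/-- A `q`-group generated by its commutators with `R` centralizes a `p`-group if it centralizes the elements
of order `p` fixed by `R`. -/
theorem le_centralizer_of_fixed (hqp : q ≠ p) (hrq : r ≠ q) (hrp : r ≠ p) (hq2 : q ≠ 2) (hp2 : p ≠ 2)
    {R Y : Subgroup G} (hR : Nat.card R = r) (hY : IsPGroup q Y) (hRY : R ≤ Subgroup.normalizer (Y : Set G))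
    (hYR : ⁅Y, R⁆ = Y) :
    ∀ (n : ℕ) (S : Subgroup G), Nat.card S ≤ n → IsPGroup p S → R ≤ Subgroup.normalizer (S : Set G) →
      Y ≤ Subgroup.normalizer (S : Set G) →
      (∀ x ∈ S, x ^ p = 1 → x ∈ Subgroup.centralizer (R : Set G) → x ∈ Subgroup.centralizer (Y : Set G)) →
      S ≤ Subgroup.centralizer (Y : Set G) := by
  intro n
  induction n with
  | zero => intro S hn; exact absurd hn (not_le.2 Nat.card_pos)
  | succ n ih =>
    intro S hn hS hRS hYS h
    have hcop : (Nat.card Y).Coprime (Nat.card S) := by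
      obtain ⟨a, ha⟩ := hY.exists_card_eq
      obtain ⟨b, hb⟩ := hS.exists_card_eq
      rw [ha, hb]
      exact Nat.coprime_pow_primes a b hq.out hp.out hqp
    haveI := hS.isNilpotent
    set W := ⁅S, Y⁆ with hW
    have hWS : W ≤ S := CoprimeAct.commutator_le_left hYS
    have sub : ∀ U : Subgroup G, U ≤ S → U ≠ S → R ≤ Subgroup.normalizer (U : Set G) →
        Y ≤ Subgroup.normalizer (U : Set G) → U ≤ Subgroup.centralizer (Y : Set G) := fun U hU hne hRU hYU =>
      ih U (by
        have h1 : Nat.card U < Nat.card S := lt_of_le_of_ne (Subgroup.card_le_of_le hU)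
          fun e => hne (Subgroup.eq_of_le_of_card_ge hU e.ge)
        omega) (hS.to_le hU) hRU hYU fun x hx => h x (hU hx)
    rcases eq_or_ne W S with hWeq | hWne
    swap
    · have hRW : R ≤ Subgroup.normalizer (W : Set G) := fun g hg => by
        refine Subgroup.mem_normalizer_iff_map_conj_eq.2 ?_
        rw [hW, Subgroup.map_commutator, Subgroup.mem_normalizer_iff_map_conj_eq.1 (hRS hg),
          Subgroup.mem_normalizer_iff_map_conj_eq.1 (hRY hg)]
      have h1 := sub W hWS hWne hRW (Subgroup.normalizer_commutator_ge_right S Y)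
      have h2 : ⁅W, Y⁆ = ⊥ := Subgroup.commutator_eq_bot_iff_le_centralizer.2 h1
      rw [hW, CoprimeAct.commutator_commutator hYS hcop (Or.inr inferInstance)] at h2
      exact Subgroup.commutator_eq_bot_iff_le_centralizer.1 h2
    rcases eq_or_ne S ⊥ with rfl | hS1
    · exact bot_le
    exfalso
    -- the Frattini subgroup is centralized by `Y` and central
    set F := (frattini S).map S.subtype with hF
    have hFS : F ≤ S := Subgroup.map_subtype_le _
    haveI : Nontrivial S := (Subgroup.nontrivial_iff_ne_bot S).2 hS1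
    have hFne : F ≠ S := fun e => by
      have hc : Nat.card (frattini S) = Nat.card S := by
        rw [← Subgroup.card_map_of_injective (K := frattini S) S.subtype_injective, ← hF, e]
      exact bot_ne_top (frattini_nongenerating (K := (⊥ : Subgroup S)) (by rw [bot_sup_eq]; exact Subgroup.eq_top_of_card_eq _ hc))
    have hnF : ∀ g : G, g ∈ Subgroup.normalizer (S : Set G) → g ∈ Subgroup.normalizer (F : Set G) := fun g hg =>
      Subgroup.mem_normalizer_iff_map_conj_eq.2 (by
        have he := Subgroup.characteristic_iff_map_eq.1 (inferInstance : (frattini S).Characteristic) (S.normalizerMonoidHom ⟨g, hg⟩)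
        rw [hF]
        conv_rhs => rw [← he]
        rw [Subgroup.map_map, Subgroup.map_map]
        rfl)
    have hFY : F ≤ Subgroup.centralizer (Y : Set G) := sub F hFS hFne (fun g hg => hnF g (hRS hg)) (fun g hg => hnF g (hYS hg))
    have hcomm : ∀ x ∈ S, ∀ y ∈ S, ⁅x, y⁆ ∈ F := fun x hx y hy =>
      ⟨⁅(⟨x, hx⟩ : S), ⟨y, hy⟩⁆, SolvStruct.commutator_le_frattini S
        (Subgroup.commutator_mem_commutator (Subgroup.mem_top _) (Subgroup.mem_top _)), rfl⟩
    have hFc : S ≤ Subgroup.centralizer (F : Set G) := by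
      refine Subgroup.commutator_eq_bot_iff_le_centralizer.1 ?_
      rw [← hWeq, hW]
      refine Subgroup.commutator_commutator_eq_bot_of_rotate ?_ ?_
      · rw [Subgroup.commutator_comm Y F, Subgroup.commutator_eq_bot_iff_le_centralizer.2 hFY, Subgroup.commutator_bot_left]
      · refine Subgroup.commutator_eq_bot_iff_le_centralizer.2 ?_
        exact ((CoprimeAct.commutator_le_left (fun g hg => hnF g (Subgroup.le_normalizer hg))).trans hFY)
    have hpowF : ∀ x ∈ S, x ^ p ∈ F := fun x hx => ⟨(⟨x, hx⟩ : S) ^ p, PGroupBasics.pow_mem_frattini hS _, rfl⟩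
    have hcen : ∀ x ∈ S, ∀ y ∈ S, ∀ z ∈ S, Commute z ⁅x, y⁆ := fun x hx y hy z hz =>
      (Subgroup.mem_centralizer_iff.1 (hFc hz) _ (hcomm x hx y hy)).symm
    have hcp : ∀ x ∈ S, ∀ y ∈ S, ⁅x, y⁆ ^ p = 1 := fun x hx y hy => by
      have e : ∀ k : ℕ, ⁅x ^ k, y⁆ = ⁅x, y⁆ ^ k := by
        intro k
        induction k with
        | zero => simp
        | succ k ihk =>
          have hc := hcen x hx y hy (x ^ k) (S.pow_mem hx k)
          calc ⁅x ^ (k + 1), y⁆ = x ^ k * ⁅x, y⁆ * (x ^ k)⁻¹ * ⁅x ^ k, y⁆ := by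
                simp only [pow_succ, commutatorElement_def]; group
            _ = ⁅x, y⁆ ^ (k + 1) := by rw [hc.eq, mul_inv_cancel_right, ihk, pow_succ']
      rw [← e, commutatorElement_eq_one_iff_mul_comm]
      exact Subgroup.mem_centralizer_iff.1 (hFc hy) _ (hpowF x hx)
    let Ω : Subgroup G :=
      { carrier := {x | x ∈ S ∧ x ^ p = 1}
        one_mem' := ⟨S.one_mem, one_pow p⟩
        mul_mem' := fun {a b} ha hb => ⟨S.mul_mem ha.1 hb.1, by
          have hba : ⁅b, a⁆ ^ p.choose 2 = 1 := by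
            obtain ⟨k, hk⟩ : p ∣ p.choose 2 := hp.out.dvd_choose_self two_ne_zero
              (lt_of_le_of_ne hp.out.two_le hp2.symm)
            rw [hk, pow_mul, hcp b hb.1 a ha.1, one_pow]
          have hd : ∀ k : ℕ, (a * b) ^ k = a ^ k * b ^ k * ⁅b, a⁆ ^ k.choose 2 := by
            intro k
            induction k with
            | zero => simp
            | succ k ihk =>
              have hc : ∀ z ∈ S, Commute z ⁅b, a⁆ := fun z hz => hcen b hb.1 a ha.1 z hz
              have hba' : ∀ i : ℕ, b ^ i * a = a * b ^ i * ⁅b, a⁆ ^ i := by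
                intro i
                induction i with
                | zero => simp
                | succ i ihi =>
                  have e1 : b * a = a * b * ⁅b, a⁆ := by
                    rw [((hc a ha.1).mul_left (hc b hb.1)).eq, commutatorElement_def]; group
                  calc b ^ (i + 1) * a = b ^ i * (b * a) := by rw [pow_succ, mul_assoc]
                    _ = b ^ i * a * b * ⁅b, a⁆ := by rw [e1]; group
                    _ = a * b ^ i * ⁅b, a⁆ ^ i * b * ⁅b, a⁆ := by rw [ihi]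
                    _ = a * b ^ (i + 1) * ⁅b, a⁆ ^ (i + 1) := by
                      rw [mul_assoc (a * b ^ i), ← ((hc b hb.1).pow_right i).eq, pow_succ, pow_succ]; group
              calc (a * b) ^ (k + 1) = a ^ k * b ^ k * ⁅b, a⁆ ^ k.choose 2 * (a * b) := by rw [pow_succ, ihk]
                _ = a ^ k * (b ^ k * a) * b * ⁅b, a⁆ ^ k.choose 2 := by
                  rw [mul_assoc (a ^ k * b ^ k), ← (((hc a ha.1).pow_right _).mul_left ((hc b hb.1).pow_right _)).eq]
                  group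
                _ = a ^ k * a * b ^ k * (⁅b, a⁆ ^ k * b) * ⁅b, a⁆ ^ k.choose 2 := by rw [hba' k]; group
                _ = a ^ (k + 1) * b ^ (k + 1) * ⁅b, a⁆ ^ (k + 1).choose 2 := by
                  rw [← ((hc b hb.1).pow_right k).eq, Nat.choose_succ_succ, Nat.choose_one_right, pow_add,
                    pow_succ a, pow_succ b]
                  group
          rw [hd, ha.2, hb.2, hba, one_mul, one_mul]⟩
        inv_mem' := fun {x} hx => ⟨S.inv_mem hx.1, by rw [inv_pow, hx.2, inv_one]⟩ }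
    have hexp : ∀ x ∈ S, x ^ p = 1 := by
      suffices hle : S ≤ Ω from fun x hx => (hle hx).2
      rw [← hWeq, hW]
      refine Subgroup.commutator_le.2 fun x hx a ha => ⟨hWeq.le (Subgroup.commutator_mem_commutator hx ha), ?_⟩
      have hax : a * x⁻¹ * a⁻¹ ∈ S := (Subgroup.mem_normalizer_iff.1 (hYS ha) _).1 (S.inv_mem hx)
      have e1 : ⁅x, a⁆ = x * (a * x⁻¹ * a⁻¹) := by rw [commutatorElement_def]; group
      have e2 : (a * x⁻¹ * a⁻¹) ^ p = (x ^ p)⁻¹ := by
        rw [conj_pow, inv_pow]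
        have := Subgroup.mem_centralizer_iff.1 (hFY (F.inv_mem (hpowF x hx))) a ha
        rw [this, mul_inv_cancel_right]
      -- class two: the `p`-th power is multiplicative
      have hmul : ∀ y ∈ S, (x * y) ^ p = x ^ p * y ^ p := fun y hy => by
        have hd : ∀ k : ℕ, (x * y) ^ k = x ^ k * y ^ k * ⁅y, x⁆ ^ k.choose 2 := by
          intro k
          induction k with
          | zero => simp
          | succ k ihk =>
            have hc : ∀ z ∈ S, Commute z ⁅y, x⁆ := fun z hz => hcen y hy x hx z hz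
            have hba' : ∀ i : ℕ, y ^ i * x = x * y ^ i * ⁅y, x⁆ ^ i := by
              intro i
              induction i with
              | zero => simp
              | succ i ihi =>
                have e3 : y * x = x * y * ⁅y, x⁆ := by
                  rw [((hc x hx).mul_left (hc y hy)).eq, commutatorElement_def]; group
                calc y ^ (i + 1) * x = y ^ i * (y * x) := by rw [pow_succ, mul_assoc]
                  _ = y ^ i * x * y * ⁅y, x⁆ := by rw [e3]; group
                  _ = x * y ^ i * ⁅y, x⁆ ^ i * y * ⁅y, x⁆ := by rw [ihi]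
                  _ = x * y ^ (i + 1) * ⁅y, x⁆ ^ (i + 1) := by
                    rw [mul_assoc (x * y ^ i), ← ((hc y hy).pow_right i).eq, pow_succ, pow_succ]; group
            calc (x * y) ^ (k + 1) = x ^ k * y ^ k * ⁅y, x⁆ ^ k.choose 2 * (x * y) := by rw [pow_succ, ihk]
              _ = x ^ k * (y ^ k * x) * y * ⁅y, x⁆ ^ k.choose 2 := by
                rw [mul_assoc (x ^ k * y ^ k), ← (((hc x hx).pow_right _).mul_left ((hc y hy).pow_right _)).eq]
                group
              _ = x ^ k * x * y ^ k * (⁅y, x⁆ ^ k * y) * ⁅y, x⁆ ^ k.choose 2 := by rw [hba' k]; group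
              _ = x ^ (k + 1) * y ^ (k + 1) * ⁅y, x⁆ ^ (k + 1).choose 2 := by
                rw [← ((hc y hy).pow_right k).eq, Nat.choose_succ_succ, Nat.choose_one_right, pow_add,
                  pow_succ x, pow_succ y]
                group
        obtain ⟨k, hk⟩ : p ∣ p.choose 2 := hp.out.dvd_choose_self two_ne_zero
          (lt_of_le_of_ne hp.out.two_le hp2.symm)
        rw [hd, hk, pow_mul, hcp y hy x hx, one_pow, mul_one]
      rw [e1, hmul _ hax, e2, mul_inv_cancel]
    -- pass to `S/F` inside the normalizer of `F`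
    set H := Subgroup.normalizer (F : Set G) with hH
    have hSH : S ≤ H := fun g hg => hnF g (Subgroup.le_normalizer hg)
    have hRH : R ≤ H := fun g hg => hnF g (hRS hg)
    have hYH : Y ≤ H := fun g hg => hnF g (hYS hg)
    haveI : (F.subgroupOf H).Normal := Subgroup.normal_in_normalizer
    set f := QuotientGroup.mk' (F.subgroupOf H) with hf
    set Sb := (S.subgroupOf H).map f with hSb
    set Rb := (R.subgroupOf H).map f with hRb
    set Yb := (Y.subgroupOf H).map f with hYb
    have hmem : ∀ x : H, f x = 1 ↔ (x : G) ∈ F := fun x => QuotientGroup.eq_one_iff x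
    have hSbe : Cfsg.IsElementaryAbelian p Sb := by
      refine ⟨.of_setLike_mul_comm ?_, ?_⟩
      · rintro _ ⟨a, ha, rfl⟩ _ ⟨b, hb, rfl⟩
        rw [← commutatorElement_eq_one_iff_mul_comm, ← map_commutatorElement, hmem]
        exact hcomm _ ha _ hb
      · rintro _ ⟨a, ha, rfl⟩
        rw [← map_pow, hmem, SubgroupClass.coe_pow, hexp _ (Subgroup.mem_subgroupOf.1 ha)]
        exact one_mem _
    have hRbc : Nat.card Rb = r := by
      rcases (Nat.dvd_prime hr.out).1 ((Subgroup.card_map_dvd _ f).trans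
        (dvd_of_eq (by rw [Nat.card_congr (Subgroup.subgroupOfEquivOfLe hRH).toEquiv, hR]))) with h1 | h1
      · exfalso
        have hle : R ≤ F := fun x hx => (hmem ⟨x, hRH hx⟩).1 (Subgroup.mem_bot.1 (by
          rw [← Subgroup.card_eq_one.1 h1]; exact ⟨_, hx, rfl⟩))
        obtain ⟨b, hb⟩ := hS.exists_card_eq
        have := (Subgroup.card_dvd_of_le (hle.trans hFS))
        rw [hR, hb] at this
        exact hrp ((Nat.prime_dvd_prime_iff_eq hr.out hp.out).1 (hr.out.dvd_of_dvd_pow this))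
      · exact h1
    have hn : ∀ X Z : Subgroup G, X ≤ H → X ≤ Subgroup.normalizer (Z : Set G) →
        (X.subgroupOf H).map f ≤ Subgroup.normalizer (((Z.subgroupOf H).map f : Subgroup _) : Set (H ⧸ F.subgroupOf H)) :=
      fun X Z hX hXZ => (Subgroup.map_mono (fun x hx => Subgroup.mem_normalizer_iff.2 fun y => by
        simp only [Subgroup.mem_subgroupOf]
        exact Subgroup.mem_normalizer_iff.1 (hXZ (Subgroup.mem_subgroupOf.1 hx)) y)).trans (Subgroup.le_normalizer_map f)
    have hcomap : ∀ X Z : Subgroup G, X ≤ H → Z ≤ H → ⁅X.subgroupOf H, Z.subgroupOf H⁆ = (⁅X, Z⁆).subgroupOf H := by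
      intro X Z hX hZ
      refine Subgroup.map_injective H.subtype_injective ?_
      rw [Subgroup.map_commutator, Subgroup.subgroupOf_map_subtype, Subgroup.subgroupOf_map_subtype,
        Subgroup.subgroupOf_map_subtype, inf_eq_left.2 hX, inf_eq_left.2 hZ, inf_eq_left.2]
      exact (Subgroup.commutator_le.2 fun a ha b hb => by
        rw [commutatorElement_def]
        exact H.mul_mem (H.mul_mem (H.mul_mem (hX ha) (hZ hb)) (H.inv_mem (hX ha))) (H.inv_mem (hZ hb)))
    have hbot := le_centralizer_of_fixed_elementary (p := p) (q := q) (r := r) hqp hrq hrp hq2 hRbc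
      ((hY.comap_subtype (K := H)).map f) hSbe (hn R Y hRH hRY) (hn R S hRH hRS) (hn Y S hYH hYS)
      (by show ⁅(Y.subgroupOf H).map f, (R.subgroupOf H).map f⁆ = (Y.subgroupOf H).map f; rw [← Subgroup.map_commutator, hcomap Y R hYH hRH, hYR])
      (by show ⁅(S.subgroupOf H).map f, (Y.subgroupOf H).map f⁆ = (S.subgroupOf H).map f; rw [← Subgroup.map_commutator, hcomap S Y hSH hYH, ← hW, hWeq]) (by
        have hc : (Nat.card (R.subgroupOf H)).Coprime (Nat.card (S.subgroupOf H)) := by
          obtain ⟨b, hb⟩ := hS.exists_card_eq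
          rw [Nat.card_congr (Subgroup.subgroupOfEquivOfLe hRH).toEquiv, Nat.card_congr (Subgroup.subgroupOfEquivOfLe hSH).toEquiv, hR, hb]
          exact ((Nat.coprime_primes hr.out hp.out).2 hrp).pow_right b
        have hnR : R.subgroupOf H ≤ Subgroup.normalizer ((S.subgroupOf H : Subgroup H) : Set H) := fun x hx =>
          Subgroup.mem_normalizer_iff.2 fun y => by
            simp only [Subgroup.mem_subgroupOf]
            exact Subgroup.mem_normalizer_iff.1 (hRS (Subgroup.mem_subgroupOf.1 hx)) y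
        haveI : Group.IsNilpotent (S.subgroupOf H) := (hS.comap_subtype (K := H)).isNilpotent
        rw [hSb, hRb, ← CoprimeAct.map_inf_centralizer f hnR hc (Or.inr inferInstance)]
        rintro _ ⟨x, ⟨hxS, hxR⟩, rfl⟩
        refine Subgroup.mem_centralizer_iff.2 ?_
        rintro _ ⟨y, hy, rfl⟩
        rw [← map_mul, ← map_mul]
        congr 1
        refine Subtype.ext ?_
        have hxc : (x : G) ∈ Subgroup.centralizer (R : Set G) := Subgroup.mem_centralizer_iff.2 fun z hz =>
          congrArg Subtype.val (Subgroup.mem_centralizer_iff.1 hxR ⟨z, hRH hz⟩ hz)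
        exact Subgroup.mem_centralizer_iff.1 (h x hxS (hexp _ hxS) hxc) y hy)
    refine hFne (le_antisymm hFS fun x hx => (hmem ⟨x, hSH hx⟩).1 (Subgroup.mem_bot.1 ?_))
    rw [← hbot]
    exact ⟨_, hx, rfl⟩

end Fixed

variable {p q : ℕ} [hp : Fact p.Prime] [hq : Fact q.Prime] {M H : Subgroup G}

/-- Elements of `M` normalizing a `p`-subgroup centralize it when `p` does not divide `#M'`. -/
theorem centralizes_of_not_dvd {S : Subgroup G} (hS : IsPGroup p S) (hSM : S ≤ M)
    (hpd : ¬ p ∣ Nat.card ↥⁅M, M⁆) {u : G} (hu : u ∈ M) (huS : u ∈ Subgroup.normalizer (S : Set G)) :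
    u ∈ Subgroup.centralizer (S : Set G) := by
  refine Subgroup.mem_centralizer_iff.2 fun s hs => ?_
  have h1 : ⁅u, s⁆ ∈ S := by
    rw [commutatorElement_def]
    exact S.mul_mem ((Subgroup.mem_normalizer_iff.1 huS s).1 hs) (S.inv_mem hs)
  have h2 : ⁅u, s⁆ ∈ ⁅M, M⁆ := Subgroup.commutator_mem_commutator hu (hSM hs)
  obtain ⟨k, hk⟩ := hS.exists_card_eq
  have hcop : (Nat.card S).Coprime (Nat.card (⁅M, M⁆ : Subgroup G)) := by
    rw [hk]; exact (hp.out.coprime_iff_not_dvd.2 hpd).pow_left k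
  exact (commutatorElement_eq_one_iff_mul_comm.1
    (Subgroup.mem_bot.1 (Subgroup.inf_eq_bot_of_coprime hcop ▸ ⟨h1, h2⟩))).symm

/-- A Sylow subgroup is not central in its normalizer. -/
theorem exists_noncentral (hG : Cfsg.IsMinSimpleOddOrder G) (S : Sylow p G) (hS : (S : Subgroup G) ≠ ⊥) :
    ∃ V : Subgroup G, V ≤ Subgroup.normalizer ((S : Subgroup G) : Set G) ∧ (Nat.card V).Coprime p ∧
      (∀ n ∈ Subgroup.normalizer ((S : Subgroup G) : Set G), ∃ s ∈ (S : Subgroup G), ∃ v ∈ V, n = s * v) ∧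
      ¬ V ≤ Subgroup.centralizer ((S : Subgroup G) : Set G) := by
  set N := Subgroup.normalizer ((S : Subgroup G) : Set G) with hN
  have hPN : (S : Subgroup G) ≤ N := Subgroup.le_normalizer
  haveI : ((S : Subgroup G).subgroupOf N).Normal := Subgroup.normal_in_normalizer
  have hidx : ¬ p ∣ ((S : Subgroup G).subgroupOf N).index := fun h => S.not_dvd_index
    (h.trans ((S : Subgroup G).relIndex_dvd_index_of_le hPN))
  have hcop : (Nat.card ((S : Subgroup G).subgroupOf N)).Coprime ((S : Subgroup G).subgroupOf N).index := by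
    obtain ⟨k, hk⟩ := S.isPGroup'.exists_card_eq
    rw [Nat.card_congr (Subgroup.subgroupOfEquivOfLe hPN).toEquiv, hk]
    exact (hp.out.coprime_iff_not_dvd.2 hidx).pow_left k
  obtain ⟨K, hK⟩ := Subgroup.exists_right_complement'_of_coprime hcop
  have hKc : Nat.card K = ((S : Subgroup G).subgroupOf N).index := hK.symm.index_eq_card.symm
  refine ⟨K.map N.subtype, Subgroup.map_subtype_le _, ?_, fun n hn => ?_, fun hle => ?_⟩
  · rw [Subgroup.card_map_of_injective N.subtype_injective, hKc]
    exact (hp.out.coprime_iff_not_dvd.2 hidx).symm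
  · obtain ⟨⟨⟨s, hs⟩, ⟨v, hv⟩⟩, he⟩ := hK.2 ⟨n, hn⟩
    exact ⟨(s : G), Subgroup.mem_subgroupOf.1 hs, (v : G), ⟨v, hv, rfl⟩, (congrArg Subtype.val he).symm⟩
  have hV : Cfsg.IsComplIn (S : Subgroup G) (K.map N.subtype) N := by
    refine ⟨hPN, Subgroup.map_subtype_le _, ?_, fun m hm => ?_⟩
    · rw [Subgroup.eq_bot_iff_forall]
      rintro g ⟨hgP, k, hk, rfl⟩
      have : k ∈ (S : Subgroup G).subgroupOf N ⊓ K := ⟨Subgroup.mem_subgroupOf.2 hgP, hk⟩
      rw [hK.disjoint.eq_bot, Subgroup.mem_bot] at this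
      simp [this]
    · obtain ⟨⟨⟨s, hs⟩, ⟨v, hv⟩⟩, he⟩ := hK.2 ⟨m, hm⟩
      exact ⟨(s : G), Subgroup.mem_subgroupOf.1 hs, (v : G), ⟨v, hv, rfl⟩, (congrArg Subtype.val he).symm⟩
  exact hS ((S1411.result hG p S _ hV).1.trans
    (Subgroup.commutator_eq_bot_iff_le_centralizer.2 (Subgroup.le_centralizer_iff.1 hle)))

/-- Frattini: some `p'`-element normalizing `S` and `T` moves `S`. -/
theorem exists_moving (hG : Cfsg.IsMinSimpleOddOrder G) (S : Sylow p G) (hS : (S : Subgroup G) ≠ ⊥)
    (hSc : IsMulCommutative (S : Subgroup G)) {T : Subgroup G}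
    (hTC : T ≤ Subgroup.centralizer ((S : Subgroup G) : Set G)) (hT : IsPGroup q T)
    (hTmax : ∀ U : Subgroup G, IsPGroup q U → U ≤ Subgroup.centralizer ((S : Subgroup G) : Set G) → T ≤ U → U = T) :
    ∃ u : G, u ∈ Subgroup.normalizer ((S : Subgroup G) : Set G) ∧ u ∈ Subgroup.normalizer (T : Set G) ∧
      u ∉ Subgroup.centralizer ((S : Subgroup G) : Set G) := by
  obtain ⟨V, hVN, -, -, hVC⟩ := exists_noncentral hG S hS
  obtain ⟨v, hv, hvC⟩ := SetLike.not_le_iff_exists.1 hVC
  have hC : ∀ c : G, c ∈ Subgroup.centralizer ((S : Subgroup G) : Set G) ↔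
      v * c * v⁻¹ ∈ Subgroup.centralizer ((S : Subgroup G) : Set G) :=
    Subgroup.mem_normalizer_iff.1 (FitOf.normalizer_le_normalizer_centralizer _ (hVN hv))
  have hle : T.map (MulAut.conj v).toMonoidHom ≤ Subgroup.centralizer ((S : Subgroup G) : Set G) := by
    rintro _ ⟨t, ht, rfl⟩
    exact (hC t).1 (hTC ht)
  obtain ⟨c, hc, he⟩ := Sigma.conj_of_maximal (hT.map (MulAut.conj v).toMonoidHom) hle hT hTC
    (fun U hU hUle hTU => by
      have h1 := hTmax (U.map (MulAut.conj v⁻¹).toMonoidHom) (hU.map _) (by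
        rintro _ ⟨x, hx, rfl⟩
        refine (hC _).2 ?_
        simpa [mul_assoc] using hUle hx) (by
        intro t ht
        exact ⟨v * t * v⁻¹, hTU ⟨t, ht, rfl⟩, by simp [mul_assoc]⟩)
      rw [← h1, map_conj_inv]) hTmax
  have hcN : c ∈ Subgroup.normalizer ((S : Subgroup G) : Set G) := Subgroup.centralizer_le_normalizer _ hc
  refine ⟨c * v, (Subgroup.normalizer ((S : Subgroup G) : Set G)).mul_mem hcN (hVN hv),
    Subgroup.mem_normalizer_iff_map_conj_eq.2 ?_, fun h => hvC ?_⟩
  · show T.map (MulAut.conj (c * v)).toMonoidHom = T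
    rw [← Sigma.map_conj_map]
    exact he.symm
  · have := (Subgroup.centralizer ((S : Subgroup G) : Set G)).mul_mem
      ((Subgroup.centralizer ((S : Subgroup G) : Set G)).inv_mem hc) h
    simpa using this

/-- An abelian Sylow subgroup normalized by `u` inside `L` lies in `L'` unless centralized, when cyclic. -/
theorem centralizes_or_le_derived {L : Subgroup G} (hG : Cfsg.IsMinSimpleOddOrder G) (S : Sylow p G)
    (hS : (S : Subgroup G) ≠ ⊥) (hc : IsCyclic (S : Subgroup G)) (hSL : (S : Subgroup G) ≤ L) {u : G}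
    (huL : u ∈ L) (hu : u ∈ Subgroup.normalizer ((S : Subgroup G) : Set G)) :
    u ∈ Subgroup.centralizer ((S : Subgroup G) : Set G) ∨ (S : Subgroup G) ≤ ⁅L, L⁆ := by
  obtain ⟨V, hVN, hVc, hfac, -⟩ := exists_noncentral hG S hS
  obtain ⟨s, hs, v, hv, rfl⟩ := hfac u hu
  haveI : IsMulCommutative (S : Subgroup G) := IsCyclic.isMulCommutative
  have hsC : s ∈ Subgroup.centralizer ((S : Subgroup G) : Set G) := Subgroup.le_centralizer _ hs
  have hvL : v ∈ L := by simpa using L.mul_mem (L.inv_mem (hSL hs)) huL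
  set A := Subgroup.zpowers v with hA
  have hAS : A ≤ Subgroup.normalizer ((S : Subgroup G) : Set G) := Subgroup.zpowers_le.2 (hVN hv)
  obtain ⟨k, hk⟩ := S.isPGroup'.exists_card_eq
  have hcop : (Nat.card A).Coprime (Nat.card (S : Subgroup G)) := by
    rw [hk]
    exact ((hVc.coprime_dvd_left (Subgroup.card_dvd_of_le (Subgroup.zpowers_le.2 hv))).pow_right k)
  have h0 := CoprimeAct.centralizer_inf_commutator_eq_bot hAS hcop
  have h1 := CoprimeAct.centralizer_sup_commutator hAS hcop
  by_cases hb : ⁅(S : Subgroup G), A⁆ = ⊥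
  · refine Or.inl ((Subgroup.centralizer _).mul_mem hsC ?_)
    exact Subgroup.le_centralizer_iff.1 (Subgroup.commutator_eq_bot_iff_le_centralizer.1 hb) (Subgroup.mem_zpowers v)
  · have hb' : (S : Subgroup G) ⊓ Subgroup.centralizer (A : Set G) = ⊥ := by
      by_contra hne
      exact inf_ne_bot_of_cyclic hc S.isPGroup' inf_le_left (CoprimeAct.commutator_le_left hAS) hne hb h0
    rw [hb', bot_sup_eq] at h1
    exact Or.inr (h1.ge.trans (Subgroup.commutator_mono hSL (Subgroup.zpowers_le.2 hvL)))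

/-- A Sylow `p`-subgroup commuting with any `q`-subgroup of `H'`, primes outside `β(H)`. -/
theorem exists_sylow_centralizing (hG : Cfsg.IsMinSimpleOddOrder G) (hH : IsCoatom H) (hpH : p ∈ Cfsg.sigma H)
    (hpβ : p ∉ Cfsg.beta H) (hqβ : q ∉ Cfsg.beta H) (hqp : q ≠ p) {Z : Subgroup G} (hZ : IsPGroup q Z)
    (hZd : Z ≤ ⁅H, H⁆) : ∃ S : Sylow p G, (S : Subgroup G) ≤ H ∧ Z ≤ Subgroup.centralizer ((S : Subgroup G) : Set G) := by
  set X := ⁅H, H⁆ with hX
  obtain ⟨Hn, hHn, hnil⟩ := BetaCore.exists_nilpotent_hall hG hH (X := X)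
    (Sigma.piCoreOf_le_derived hG hH (BetaCore.beta_subset_sigma hG hH)) le_rfl
  haveI := hnil
  have hHnX : Hn ≤ X := hHn.1
  have into : ∀ {t : ℕ} [Fact t.Prime] {U : Subgroup G}, t ∉ Cfsg.beta H → IsPGroup t U → U ≤ X →
      ∃ x ∈ X, U.map (MulAut.conj x).toMonoidHom ≤ Hn := by
    intro t _ U htβ hU hUX
    obtain ⟨T⟩ : Nonempty (Sylow t (Hn.subgroupOf X)) := inferInstance
    set Ts := (T : Subgroup (Hn.subgroupOf X)).map (Hn.subgroupOf X).subtype with hTs
    have hidx : ¬ t ∣ Ts.index := by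
      rw [hTs, ← Subgroup.relIndex_mul_index (Subgroup.map_subtype_le _ : Ts ≤ Hn.subgroupOf X)]
      intro hd
      rcases (Fact.out : t.Prime).dvd_mul.1 hd with h | h
      · rw [Subgroup.relIndex, show ((T : Subgroup (Hn.subgroupOf X)).map (Hn.subgroupOf X).subtype).subgroupOf (Hn.subgroupOf X) = T from
          Subgroup.comap_map_eq_self_of_injective (Hn.subgroupOf X).subtype_injective _] at h
        exact T.not_dvd_index h
      · exact hHn.2.2 t Fact.out ⟨Fact.out, htβ⟩ h
    set T' : Sylow t X := (T.isPGroup'.map _).toSylow hidx with hT'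
    obtain ⟨U', hU'⟩ := (hU.comap_subtype (K := X)).exists_le_sylow
    obtain ⟨x, hx⟩ := MulAction.exists_smul_eq X U' T'
    refine ⟨x, x.2, ?_⟩
    rintro _ ⟨y, hy, rfl⟩
    have h1 : (MulAut.conj x) ⟨y, hUX hy⟩ ∈ (T' : Subgroup X) := by
      rw [← hx]
      exact Subgroup.smul_mem_pointwise_smul _ _ _ (hU' hy)
    exact Subgroup.mem_subgroupOf.1 (Subgroup.map_subtype_le _ h1)
  obtain ⟨S₀⟩ : Nonempty (Sylow p H) := inferInstance
  obtain ⟨SG, hSG⟩ := Sigma.sigma_sylow hpH S₀
  obtain ⟨a, ha, haS⟩ := into hpβ SG.isPGroup' (hSG.le.trans (Sigma.sylow_le_derived hG hH hpH S₀))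
  obtain ⟨b, hb, hbZ⟩ := into hqβ hZ hZd
  set S := (b⁻¹ * a) • SG with hS
  have hScoe : (S : Subgroup G) = ((SG : Subgroup G).map (MulAut.conj a).toMonoidHom).map (MulAut.conj b⁻¹).toMonoidHom := by
    rw [hS, Sylow.coe_subgroup_smul, Sigma.map_conj_map]; rfl
  have hXH : X ≤ H := Subgroup.le_normalizer_iff_commutator_le_left.1 Subgroup.le_normalizer
  refine ⟨S, ?_, ?_⟩
  · rw [hScoe]
    rintro _ ⟨y, hy, rfl⟩
    exact H.mul_mem (H.mul_mem (H.inv_mem (hXH hb)) (hXH (hHnX (haS hy)))) (H.inv_mem (H.inv_mem (hXH hb)))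
  · intro z hz
    refine Subgroup.mem_centralizer_iff.2 fun s hs => ?_
    rw [hScoe] at hs
    obtain ⟨y, hy, rfl⟩ := hs
    have hyn : y ∈ Hn := haS hy
    have hzn : b * z * b⁻¹ ∈ Hn := hbZ ⟨z, hz, rfl⟩
    obtain ⟨i, hi⟩ := IsPGroup.iff_orderOf.1 (SG.isPGroup'.map (MulAut.conj a).toMonoidHom) ⟨y, hy⟩
    rw [Subgroup.orderOf_mk] at hi
    obtain ⟨j, hj⟩ := IsPGroup.iff_orderOf.1 (hZ.map (MulAut.conj b).toMonoidHom) ⟨b * z * b⁻¹, z, hz, rfl⟩
    rw [← Subgroup.orderOf_coe] at hj
    have hc := congrArg Subtype.val (FixedPointFreeThompson.commute_of_nilpotent (G := Hn) (p := p) (x := ⟨y, hyn⟩)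
      (g := ⟨b * z * b⁻¹, hzn⟩) (k := i) (by rw [← Subgroup.orderOf_coe]; exact hi) (by
        rw [← Subgroup.orderOf_coe, show orderOf (b * z * b⁻¹) = q ^ j from hj]
        exact Nat.Coprime.pow_left j ((Nat.coprime_primes hq.out hp.out).2 hqp)))
    have hc' : y * (b * z * b⁻¹) = b * z * b⁻¹ * y := by first | exact hc | exact hc.symm
    show b⁻¹ * y * b⁻¹⁻¹ * z = z * (b⁻¹ * y * b⁻¹⁻¹)
    calc b⁻¹ * y * b⁻¹⁻¹ * z = b⁻¹ * (y * (b * z * b⁻¹)) * b := by group
      _ = z * (b⁻¹ * y * b⁻¹⁻¹) := by rw [hc']; group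

end Cfsg.Agent.OddOrder.TauOne
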