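/-
A prime of `τ₁(M)` in a nonconjugate maximal subgroup is ideal (BG 13.1).
-/
import Cfsg.Agent.Lib.OddOrder.TauOneBasics

set_option autoImplicit false
set_option linter.style.haveILetI false
set_option linter.unusedSectionVars false

namespace Cfsg.Agent.OddOrder.TauOne

open scoped commutatorElement
open Exceptional

universe u

variable {G : Type u} [Group G] [Finite G]

section General

variable {p : ℕ} [hp : Fact p.Prime] {M : Subgroup G}

theorem isCyclic_of_rank_one (hG : Cfsg.IsMinSimpleOddOrder G) (hr1 : Cfsg.PRankLE p 1 M) {X : Subgroup G}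
    (hX : IsPGroup p X) (hXM : X ≤ M) : IsCyclic X := by
  refine CyclicSylow.isCyclic_of_isPGroup (hG.1.of_dvd_nat X.card_subgroup_dvd_card) hX fun B hB hBp => ?_
  haveI := hB
  have := hr1 (B.map (Subgroup.inclusion hXM)) inferInstance (by
    rintro _ ⟨b, hb, rfl⟩
    rw [← map_pow, hBp b hb, map_one])
  rwa [Subgroup.card_map_of_injective (Subgroup.inclusion_injective _)] at this

theorem sylow_ne_bot (S : Sylow p G) {X : Subgroup G} (hd : p ∣ Nat.card X) : (S : Subgroup G) ≠ ⊥ :=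
  S.ne_bot_of_dvd_card (hd.trans X.card_subgroup_dvd_card)

theorem map_subtype_sylow {H : Subgroup G} (T : Sylow p G) (hT : (T : Subgroup G) ≤ H) :
    ((T.subtype hT : Sylow p H) : Subgroup H).map H.subtype = (T : Subgroup G) := by
  rw [Sylow.coe_subtype, Subgroup.subgroupOf_map_subtype, inf_eq_left.2 hT]

theorem sylow_le_derived' (hG : Cfsg.IsMinSimpleOddOrder G) {H : Subgroup G} (hH : IsCoatom H)
    (hσ : p ∈ Cfsg.sigma H) {X : Subgroup G} (hX : IsPGroup p X) (hXH : X ≤ H) : X ≤ ⁅H, H⁆ := by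
  obtain ⟨T, hT⟩ := (hX.comap_subtype (K := H)).exists_le_sylow
  have h1 : X ≤ (T : Subgroup H).map H.subtype := fun x hx => ⟨⟨x, hXH hx⟩, hT hx, rfl⟩
  exact h1.trans (Sigma.sylow_le_derived hG hH hσ T)

theorem ne_of_nonconj {M N : Subgroup G} (hnc : ∀ g : G, N ≠ M.map (MulAut.conj g).toMonoidHom) : N ≠ M :=
  fun h => hnc 1 (by rw [Sigma.map_conj_one, h])

theorem derived_le_sup {K E L : Subgroup G} (hE : Cfsg.IsComplIn E K L) (hn : L ≤ Subgroup.normalizer (K : Set G)) :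
    ⁅L, L⁆ ≤ K ⊔ ⁅E, E⁆ := by
  have hEn : E ≤ Subgroup.normalizer (K : Set G) := hE.1.trans hn
  refine Subgroup.commutator_le.2 fun a ha b hb => ?_
  have hmem : ∀ x ∈ L, ∃ k ∈ K, ∃ e ∈ E, x = k * e := fun x hx => by
    have hx' : x ∈ E ⊔ K := (Compl.sup_eq hE).ge hx
    rw [sup_comm] at hx'
    exact (SolvBasic.mem_sup_iff_of_le_normalizer hEn).1 hx'
  obtain ⟨k, hk, e, he, rfl⟩ := hmem a ha
  obtain ⟨l, hl, d, hd, rfl⟩ := hmem b hb
  have e1 : ⁅k * e, l * d⁆ = k * (e * l * e⁻¹) * ⁅e, d⁆ * (d * k⁻¹ * d⁻¹) * l⁻¹ := by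
    simp only [commutatorElement_def]; group
  rw [e1]
  exact Subgroup.mul_mem _ (Subgroup.mul_mem _ (Subgroup.mul_mem _ (Subgroup.mem_sup_left
    (K.mul_mem hk ((Subgroup.mem_normalizer_iff.1 (hEn he) _).1 hl)))
    (Subgroup.mem_sup_right (Subgroup.commutator_mem_commutator he hd)))
    (Subgroup.mem_sup_left ((Subgroup.mem_normalizer_iff.1 (hEn hd) _).1 (K.inv_mem hk))))
    (Subgroup.mem_sup_left (K.inv_mem hl))

/-- The overgroup of the normalizer of a plane of `τ₂(N)`. -/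
theorem exists_sigma_overgroup (hG : Cfsg.IsMinSimpleOddOrder G) {N : Subgroup G} (hN : IsCoatom N)
    (hτ : p ∈ Cfsg.tau2 N) {Y : Subgroup G} (hYN : Y ≤ N)
    (hY : (Nat.card Y).Coprime (Nat.card (Cfsg.sigmaCore N))) :
    ∃ H : Subgroup G, IsCoatom H ∧ p ∈ Cfsg.sigma H ∧ p ∉ Cfsg.beta H ∧ Y ≤ H := by
  obtain ⟨E, hE, hYE⟩ := ComplBasics.exists_complement_containing hG hN hYN hY
  obtain ⟨A, hAE, hAe, hA⟩ := TauTwo.exists_plane (p := p) hG hN hE hτ
  obtain ⟨A₀, hexc, -⟩ := PlaneUnique.exists_exc hG hN (hAE.trans hE.1) hAe hA hτ.2.1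
  have hEA := hexc.compl_normalizes hE hAE
  obtain ⟨H, hH, hNAH⟩ := Uniq.exists_maximal_ge (MinSimple.normalizer_ne_top hG (Plane.ne_bot (p := p) hA)
    (MinSimple.pSubgroup_ne_top hG (Plane.isPGroup hA)))
  obtain ⟨P, hAP⟩ := hexc.exists_sylow
  obtain ⟨hPC, hPA⟩ := hexc.sylow_central P hAP
  set Pm := (P : Subgroup N).map N.subtype with hPm
  have hPH : Pm ≤ H := hPC.trans ((Subgroup.centralizer_le_normalizer _).trans hNAH)
  have hNP : Subgroup.normalizer (Pm : Set G) ≤ Subgroup.normalizer (A : Set G) := fun g hg => by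
    refine ComplAbelian.mem_normalizer_of_map_le fun a ha => hPA _ ((Subgroup.mem_normalizer_iff.1 hg a).1 (hAP ha)) ?_
    rw [conj_pow, hAe.2 a ha, mul_one, mul_inv_cancel]
  refine ⟨H, hH, ?_, hexc.maximal.not_beta H, (hYE.trans hEA).trans hNAH⟩
  by_contra hpH
  obtain ⟨T, hT⟩ := (P.isPGroup'.map N.subtype).exists_le_sylow
  rcases (show Pm ≤ (T : Subgroup G) from hT).eq_or_lt with he | hlt
  · refine hpH ⟨hp.out, ?_, T.subtype (he ▸ hPH), ?_⟩
    · exact ((hA ▸ dvd_pow_self p two_ne_zero : p ∣ Nat.card A).trans (Subgroup.card_dvd_of_le hAP)).trans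
        (Subgroup.card_dvd_of_le hPH)
    rw [map_subtype_sylow T (he ▸ hPH), ← he]
    exact hNP.trans hNAH
  · obtain ⟨x, hxT, hxN, hxP⟩ := SigmaPartner.exists_normalizing T.isPGroup' hlt
    have hV : IsPGroup p (Pm ⊔ Subgroup.zpowers x : Subgroup G) :=
      T.isPGroup'.to_le (sup_le hlt.le (Subgroup.zpowers_le.2 hxT))
    haveI := ComplBasics.isMulCommutative_of_not_sigma hG hH hpH hV
      (sup_le hPH (Subgroup.zpowers_le.2 (hNAH (hNP hxN))))
    have hxN' : x ∈ N := hexc.centralizer_le (Subgroup.mem_centralizer_iff.2 fun a ha =>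
      congrArg Subtype.val (mul_comm'
        (⟨a, Subgroup.mem_sup_left (hAP ha)⟩ : (Pm ⊔ Subgroup.zpowers x : Subgroup G))
        ⟨x, Subgroup.mem_sup_right (Subgroup.mem_zpowers x)⟩))
    exact hxP ((Sigma.sylow_map_eq hV (sup_le (Subgroup.map_subtype_le _) (Subgroup.zpowers_le.2 hxN')) le_sup_left).le
      (Subgroup.mem_sup_right (Subgroup.mem_zpowers x)))

/-- A partner of `(M, X)` in which `p ∉ σ` meets `M` in a plane. -/
theorem exists_partner_plane (hG : Cfsg.IsMinSimpleOddOrder G) (hM : IsCoatom M) (hp' : p ∈ Cfsg.sigma M)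
    {X : Subgroup G} (hX : IsPGroup p X) (hX1 : X ≠ ⊥) (hXM : X ≤ M) {N : Subgroup G}
    (hNX : Subgroup.normalizer (X : Set G) ≤ N) (hpN : p ∉ Cfsg.sigma N) :
    ∃ A : Subgroup G, A ≤ M ⊓ N ∧ Cfsg.IsElementaryAbelian p A ∧ Nat.card A = p ^ 2 := by
  have hXN : X ≤ N := Subgroup.le_normalizer.trans hNX
  obtain ⟨S, hS⟩ := (hX.comap_subtype (K := M ⊓ N)).exists_le_sylow
  set Sm := (S : Subgroup ↥(M ⊓ N)).map (M ⊓ N).subtype with hSm
  have hXS : X ≤ Sm := fun y hy => ⟨⟨y, hXM hy, hXN hy⟩, hS hy, rfl⟩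
  have hSp : IsPGroup p Sm := S.isPGroup'.map _
  have hSle : Sm ≤ M ⊓ N := Subgroup.map_subtype_le _
  have hNS : Subgroup.normalizer (Sm : Set G) ≤ M := SigmaPartner.normalizer_le hG hM hp' hX hNX S hXS
  obtain ⟨T, hT⟩ := (hSp.comap_subtype (K := N)).exists_le_sylow
  have hTS : (T : Subgroup N).map N.subtype = Sm := by
    set Tm := (T : Subgroup N).map N.subtype with hTm
    have hle : Sm ≤ Tm := fun y hy => ⟨⟨y, (hSle hy).2⟩, hT hy, rfl⟩
    by_contra hne'
    obtain ⟨x, hxT, hxN, hxS⟩ := SigmaPartner.exists_normalizing (T.isPGroup'.map N.subtype) (lt_of_le_of_ne hle (Ne.symm hne'))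
    have hU := SigmaPartner.eq_of_le hG hM hp' hX hNX S hXS (U := Sm ⊔ Subgroup.zpowers x)
      ((T.isPGroup'.map N.subtype).to_le (sup_le hle (Subgroup.zpowers_le.2 hxT)))
      (sup_le hSle (Subgroup.zpowers_le.2 ⟨hNS hxN, Subgroup.map_subtype_le _ hxT⟩)) le_sup_left
    exact hxS (hU.le (Subgroup.mem_sup_right (Subgroup.mem_zpowers x)))
  haveI : Nontrivial X := (Subgroup.nontrivial_iff_ne_bot X).2 hX1
  obtain ⟨k, hk, hk'⟩ := hX.nontrivial_iff_card.1 inferInstance
  have hpd : p ∣ Nat.card X := hk' ▸ dvd_pow_self p hk.ne'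
  have hc : ¬ IsCyclic Sm := by
    intro hc
    obtain ⟨U, hU⟩ := (hSp.comap_subtype (K := M)).exists_le_sylow
    set Um := (U : Subgroup M).map M.subtype with hUm
    have hle : Sm ≤ Um := fun y hy => ⟨⟨y, (hSle hy).1⟩, hU hy, rfl⟩
    refine hpN ⟨hp.out, hpd.trans (Subgroup.card_dvd_of_le hXN), T, ?_⟩
    rw [hTS]
    exact (SigmaPartner.normalizer_le_of_cyclic hc hXS).trans hNX
  obtain ⟨W, -, hWe, hW2⟩ := S0126.result (Uniq.ne_two_of_dvd hG (hpd.trans X.card_subgroup_dvd_card)) hSp hc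
  haveI := hWe.1
  refine ⟨W.map Sm.subtype, (Subgroup.map_subtype_le _).trans hSle, ⟨inferInstance, ?_⟩, ?_⟩
  · rintro _ ⟨w, hw, rfl⟩
    rw [← map_pow, hWe.2 w hw, map_one]
  · rw [Subgroup.card_map_of_injective Sm.subtype_injective, hW2]

end General

variable {p q : ℕ} [hp : Fact p.Prime] [hq : Fact q.Prime] {M H : Subgroup G}

/-- Frattini contradiction: a Sylow `p`-subgroup of `G` inside `M`. -/
theorem sylow_false (hG : Cfsg.IsMinSimpleOddOrder G) (hp1 : p ∈ Cfsg.tau1 M) (S : Sylow p G)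
    (hSM : (S : Subgroup G) ≤ M) {T : Subgroup G}
    (hTC : T ≤ Subgroup.centralizer ((S : Subgroup G) : Set G)) (hT : IsPGroup q T)
    (hTmax : ∀ U : Subgroup G, IsPGroup q U → U ≤ Subgroup.centralizer ((S : Subgroup G) : Set G) → T ≤ U → U = T)
    (hN : Subgroup.normalizer (T : Set G) ≤ M) : False := by
  obtain ⟨-, -, hd, hd', hr1⟩ := hp1
  haveI := isCyclic_of_rank_one hG hr1 S.isPGroup' hSM
  obtain ⟨u, huS, huT, huC⟩ := exists_moving hG S (sylow_ne_bot S hd) IsCyclic.isMulCommutative hTC hT hTmax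
  exact huC (centralizes_of_not_dvd S.isPGroup' hSM hd' (hN huT) huS)

/-- A Sylow `p`-subgroup does not commute with a Sylow `q`-subgroup, `p ∈ τ₁(M)`, `q ∈ σ(M)`. -/
theorem pair_false (hG : Cfsg.IsMinSimpleOddOrder G) (hM : IsCoatom M) (hp1 : p ∈ Cfsg.tau1 M)
    (hqσ : q ∈ Cfsg.sigma M) (S : Sylow p G) (T : Sylow q G)
    (hTS : (T : Subgroup G) ≤ Subgroup.centralizer ((S : Subgroup G) : Set G)) : False := by
  obtain ⟨g, hg⟩ := Sigma.exists_conj_le hqσ T.isPGroup'
  have hTc : ((g • T : Sylow q G) : Subgroup G) = (T : Subgroup G).map (MulAut.conj g).toMonoidHom := by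
    rw [Sylow.coe_subgroup_smul]; rfl
  have hSc : ((g • S : Sylow p G) : Subgroup G) = (S : Subgroup G).map (MulAut.conj g).toMonoidHom := by
    rw [Sylow.coe_subgroup_smul]; rfl
  have hTS' : ((g • T : Sylow q G) : Subgroup G) ≤ Subgroup.centralizer (((g • S : Sylow p G) : Subgroup G) : Set G) := by
    rw [hTc, hSc]
    rintro _ ⟨t, ht, rfl⟩
    refine Subgroup.mem_centralizer_iff.2 ?_
    rintro _ ⟨s, hs, rfl⟩
    rw [← map_mul, ← map_mul, Subgroup.mem_centralizer_iff.1 (hTS ht) s hs]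
  have hN : Subgroup.normalizer (((g • T : Sylow q G) : Subgroup G) : Set G) ≤ M := by
    have hTM : ((g • T : Sylow q G) : Subgroup G) ≤ M := hTc.le.trans hg
    have := Sigma.sigma_normalizer hqσ ((g • T : Sylow q G).subtype hTM)
    rwa [map_subtype_sylow (g • T) hTM] at this
  refine sylow_false hG hp1 (g • S) ?_ hTS' (g • T : Sylow q G).isPGroup'
    (fun U hU _ hle => (g • T : Sylow q G).is_maximal' hU hle) hN
  exact ((Subgroup.le_centralizer_iff.1 hTS').trans (Subgroup.centralizer_le_normalizer _)).trans hN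

/-- BG 13.1(c): a prime of `τ₁(M)` in `σ(H)` meeting a centralized `σ(M)`-element of `H'` is in `β(H)`. -/
theorem not_beta_false (hG : Cfsg.IsMinSimpleOddOrder G) (hM : IsCoatom M) (hp1 : p ∈ Cfsg.tau1 M)
    (hqσ : q ∈ Cfsg.sigma M) (hqp : q ≠ p) (hH : IsCoatom H)
    (hnc : ∀ g : G, H ≠ M.map (MulAut.conj g).toMonoidHom) (hpH : p ∈ Cfsg.sigma H) (hpβ : p ∉ Cfsg.beta H)
    {P Z : Subgroup G} (hP : Nat.card P = p) (hPM : P ≤ M) (hPH : P ≤ H) (hZ : Nat.card Z = q) (hZM : Z ≤ M)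
    (hZC : Z ≤ Subgroup.centralizer (P : Set G)) (hZd : Z ≤ ⁅H, H⁆) : False := by
  have hZH : Z ≤ H := hZd.trans (Subgroup.le_normalizer_iff_commutator_le_left.1 Subgroup.le_normalizer)
  have hZ1 : Z ≠ ⊥ := fun hb => hq.out.ne_one (by rw [← hZ, hb, Subgroup.card_bot])
  have hP1 : P ≠ ⊥ := fun hb => hp.out.ne_one (by rw [← hP, hb, Subgroup.card_bot])
  have hZp : IsPGroup q Z := IsPGroup.of_card (n := 1) (by rw [hZ, pow_one])
  have hPp : IsPGroup p P := IsPGroup.of_card (n := 1) (by rw [hP, pow_one])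
  have hPC : P ≤ Subgroup.centralizer (Z : Set G) := Subgroup.le_centralizer_iff.1 hZC
  have hqβ : q ∉ Cfsg.beta H := fun hb => by
    obtain ⟨g, hg⟩ := SigmaConj.conj_of_rank hG hM hH hqσ (BetaCore.beta_subset_sigma hG hH hb) hb.2.2.1
    exact hnc g hg
  by_cases hqH : q ∈ Cfsg.sigma H
  · obtain ⟨T₀⟩ : Nonempty (Sylow q H) := inferInstance
    obtain ⟨T, hT⟩ := Sigma.sigma_sylow hqH T₀
    obtain ⟨S, -, hTS⟩ := exists_sylow_centralizing hG hH hpH hpβ hqβ hqp T.isPGroup'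
      (hT.le.trans (Sigma.sylow_le_derived hG hH hqH T₀))
    exact pair_false hG hM hp1 hqσ S T hTS
  have hPσ : P ≤ Cfsg.sigmaCore H := le_sigmaCore hG hH hpH hPp hPH
  obtain ⟨L, hL, hNL⟩ := Uniq.exists_maximal_ge
    (MinSimple.normalizer_ne_top hG hZ1 (MinSimple.pSubgroup_ne_top hG hZp))
  have hCL : Subgroup.centralizer (Z : Set G) ≤ L := (Subgroup.centralizer_le_normalizer _).trans hNL
  by_cases hr1 : Cfsg.PRankLE q 1 H
  swap
  · have hr2 : Cfsg.PRankLE q 2 H := by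
      by_contra h
      exact hqH (Sigma.alpha_subset_sigma hG hH ⟨hq.out, h⟩)
    have hτ : q ∈ Cfsg.tau2 H := ⟨hq.out, hqH, hr2, hr1⟩
    obtain ⟨E, hE, hZE⟩ := exists_complement_ge hG hH hZp hZH hqH
    obtain ⟨A, hAE, hAe, hA⟩ := TauTwo.exists_plane (p := q) hG hH hE hτ
    obtain ⟨⟨-, hall⟩, -, hun⟩ := S1418.result hG H hH E hE q hτ A ⟨hAE, hAe, hA⟩
    obtain ⟨-, huniq⟩ := hun Z (hall Z hZE hZ) hZ fun hb => hP1 (le_bot_iff.1 ((le_inf hPσ hPC).trans hb.le))
    have hLH : L = H := huniq L hL hCL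
    obtain ⟨C, hCle, hCe, hC⟩ := exists_partner_plane hG hM hqσ hZp hZ1 hZM (hLH ▸ hNL) hqH
    have hbot := PlaneUnique.inf_eq_bot hG hH (hCle.trans inf_le_right) hCe hC hqH hM (hCle.trans inf_le_left)
      (ne_of_nonconj hnc).symm
    exact hP1 (le_bot_iff.1 ((le_inf hPσ hPM).trans hbot.le))
  -- `q` of rank one in `H`
  obtain ⟨S, hSH, hZS⟩ := exists_sylow_centralizing hG hH hpH hpβ hqβ hqp hZp hZd
  have hSL : (S : Subgroup G) ≤ L := (Subgroup.le_centralizer_iff.1 hZS).trans hCL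
  obtain ⟨-, -, hd, hd', hM1⟩ := id hp1
  have hS1 := sylow_ne_bot S hd
  have hCS : Subgroup.centralizer ((S : Subgroup G) : Set G) ≤ H := by
    refine (Subgroup.centralizer_le_normalizer _).trans ?_
    have := Sigma.sigma_normalizer hpH (S.subtype hSH)
    rwa [map_subtype_sylow S hSH] at this
  obtain ⟨T, hZT, hTp, hTC, hTmax⟩ := Sigma.exists_maximal_p (p := q) hZp hZS
  have hTL : Subgroup.normalizer (T : Set G) ≤ L :=
    (SigmaPartner.normalizer_le_of_cyclic (isCyclic_of_rank_one hG hr1 hTp (hTC.trans hCS)) hZT).trans hNL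
  rcases eq_or_ne L M with hLM | hLM
  · exact sylow_false hG hp1 S (hSL.trans hLM.le) hTC hTp hTmax (hTL.trans hLM.le)
  have hncL : ∀ g : G, L ≠ M.map (MulAut.conj g).toMonoidHom := SigmaPartner.not_conj hG hM hqσ hZp hZ1 hZM hLM hNL
  have hPL : P ≤ L := hPC.trans hCL
  -- a nontrivial cyclic `S` in `L` lies in `L'`
  have hder : IsCyclic (S : Subgroup G) → (S : Subgroup G) ≤ ⁅L, L⁆ := fun hc => by
    haveI := hc
    obtain ⟨u, huS, huT, huC⟩ := exists_moving hG S hS1 IsCyclic.isMulCommutative hTC hTp hTmax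
    exact (centralizes_or_le_derived hG S hS1 hc hSL (hTL huT) huS).resolve_left huC
  by_cases hqL : q ∈ Cfsg.sigma L
  · have hqβL : q ∉ Cfsg.beta L := fun hb => by
      obtain ⟨g, hg⟩ := SigmaConj.conj_of_rank hG hM hL hqσ (BetaCore.beta_subset_sigma hG hL hb) hb.2.2.1
      exact hncL g hg
    by_cases hpL : p ∈ Cfsg.sigma L
    · have hpβL : p ∉ Cfsg.beta L := fun hb => hpβ ⟨⟨hp.out, fun hr => hb.2.2.1 (LocalFactor.prankLE_of_sylow S
        (NarrowSolvable.prankLE_of_equiv (Subgroup.subgroupOfEquivOfLe hSH) (RankTwo.prankLE_mono hr)))⟩, hb.2⟩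
      obtain ⟨T₀⟩ : Nonempty (Sylow q L) := inferInstance
      obtain ⟨TG, hTG⟩ := Sigma.sigma_sylow hqL T₀
      obtain ⟨S', -, hTS⟩ := exists_sylow_centralizing hG hL hpL hpβL hqβL hqp TG.isPGroup'
        (hTG.le.trans (Sigma.sylow_le_derived hG hL hqL T₀))
      exact pair_false hG hM hp1 hqσ S' TG hTS
    · by_cases hrL : Cfsg.PRankLE p 1 L
      · obtain ⟨T', -, hST⟩ := exists_sylow_centralizing (p := q) (q := p) hG hL hqL hqβL
          (fun hb => hpL (BetaCore.beta_subset_sigma hG hL hb)) hqp.symm S.isPGroup'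
          (hder (isCyclic_of_rank_one hG hrL S.isPGroup' hSL))
        exact pair_false hG hM hp1 hqσ S T' (Subgroup.le_centralizer_iff.1 hST)
      · have hτ : p ∈ Cfsg.tau2 L := ⟨hp.out, hpL, by
          by_contra h
          exact hpL (Sigma.alpha_subset_sigma hG hL ⟨hp.out, h⟩), hrL⟩
        obtain ⟨U⟩ : Nonempty (Sylow p L) := inferInstance
        obtain ⟨A, hAU, hAe, hA⟩ := ComplBasics.exists_plane_sylow hτ U
        obtain ⟨A₀, hexc, -⟩ := PlaneUnique.exists_exc hG hL (hAU.trans (Subgroup.map_subtype_le _)) hAe hA hpL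
        obtain ⟨R, hR, -⟩ := hexc.exists_core hqL
        obtain ⟨g, hg⟩ := SigmaConj.conj_of_normal_sylow hG hM hL hqσ hqL R hR
        exact hncL g hg
  · obtain ⟨A, hAle, hAe, hA⟩ := exists_partner_plane hG hM hqσ hZp hZ1 hZM hNL hqL
    by_cases hpL : p ∈ Cfsg.sigma L
    · have hbot := PlaneUnique.inf_eq_bot hG hL (hAle.trans inf_le_right) hAe hA hqL hM (hAle.trans inf_le_left) hLM.symm
      exact hP1 (le_bot_iff.1 ((le_inf (le_sigmaCore hG hL hpL hPp hPL) hPM).trans hbot.le))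
    · obtain ⟨A₀, hexc, -⟩ := PlaneUnique.exists_exc hG hL (hAle.trans inf_le_right) hAe hA hqL
      obtain ⟨E, hE, hAE⟩ := exists_complement_ge hG hL (Plane.isPGroup hA) (hAle.trans inf_le_right) hqL
      have hEM : E ≤ M := (hexc.compl_normalizes hE hAE).trans (ComplBasics.normalizer_le_of_not_cyclic hG hM hqσ
        (Plane.isPGroup hA) (hAle.trans inf_le_left) (Plane.not_isCyclic hAe hA))
      obtain ⟨m, hm, hmS⟩ := TauTwo.exists_conj_le_complement hG hL hE S.isPGroup' hSL hpL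
      set S' := (S : Subgroup G).map (MulAut.conj m).toMonoidHom with hS'
      have hc : IsCyclic (S : Subgroup G) := by
        haveI := isCyclic_of_rank_one hG hM1 (S.isPGroup'.map (MulAut.conj m).toMonoidHom) (hmS.trans hEM)
        exact isCyclic_of_surjective _ ((S : Subgroup G).equivMapOfInjective (MulAut.conj m).toMonoidHom
          (MulAut.conj m).injective).symm.surjective
      have hSd : S' ≤ ⁅L, L⁆ := by
        refine (Subgroup.map_mono (hder hc)).trans ?_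
        have hmap : L.map (MulAut.conj m).toMonoidHom = L :=
          Subgroup.mem_normalizer_iff_map_conj_eq.1 (Subgroup.le_normalizer hm)
        rw [Subgroup.map_commutator, hmap]
      have hSE : S' ≤ ⁅E, E⁆ := by
        intro x hx
        have h1 := derived_le_sup hE (le_normalizer_sigmaCore L) (hSd hx)
        have hEn : ⁅E, E⁆ ≤ Subgroup.normalizer (Cfsg.sigmaCore L : Set G) :=
          (Subgroup.le_normalizer_iff_commutator_le_left.1 Subgroup.le_normalizer).trans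
            (hE.1.trans (le_normalizer_sigmaCore L))
        obtain ⟨k, hk, e, he, hxe⟩ := (SolvBasic.mem_sup_iff_of_le_normalizer hEn).1 h1
        have heE : e ∈ E := (Subgroup.le_normalizer_iff_commutator_le_left.1 Subgroup.le_normalizer) he
        have hkE : k ∈ E := by
          have := E.mul_mem (hmS hx) (E.inv_mem heE)
          simpa [hxe] using this
        have hk1 : k = 1 := Subgroup.mem_bot.1 (hE.2.2.1 ▸ ⟨hkE, hk⟩)
        rwa [hxe, hk1, one_mul]
      refine hd' (dvd_trans ?_ (Subgroup.card_dvd_of_le (hSE.trans (Subgroup.commutator_mono hEM hEM))))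
      rw [hS', Subgroup.card_map_of_injective (MulAut.conj m).injective]
      exact S.isPGroup'.card_eq_or_dvd.resolve_left fun e => hS1 (Subgroup.card_eq_one.1 e)

end Cfsg.Agent.OddOrder.TauOne
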