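/-
Centralizers of elements of order `p ∈ τ₁(M)` in `M_σ` (BG 13.4).
-/
import Cfsg.Agent.Lib.OddOrder.TauOnePartner

set_option autoImplicit false
set_option linter.style.haveILetI false
set_option linter.unusedSectionVars false

namespace Cfsg.Agent.OddOrder.TauOne

open scoped commutatorElement
open Exceptional

universe u

variable {G : Type u} [Group G] [Finite G]

/-- A counterexample: `R ≤ C(P)` moves an invariant `q`-subgroup of `C(P)`. -/
structure Fail (p r q : ℕ) (M P R Q : Subgroup G) : Prop where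
  minSimple : Cfsg.IsMinSimpleOddOrder G
  coatom : IsCoatom M
  tau1 : p ∈ Cfsg.tau1 M
  not_sigma : r ∉ Cfsg.sigma M
  sigma : q ∈ Cfsg.sigma M
  ne : r ≠ p
  cardP : Nat.card P = p
  cardR : Nat.card R = r
  P_le : P ≤ M
  R_le : R ≤ M
  RP : R ≤ Subgroup.centralizer (P : Set G)
  pgroup : IsPGroup q Q
  Q_le : Q ≤ M
  QP : Q ≤ Subgroup.centralizer (P : Set G)
  norm : R ≤ Subgroup.normalizer (Q : Set G)
  moved : ¬ Q ≤ Subgroup.centralizer (R : Set G)

/-- What a counterexample forces. -/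
structure Partner (p r q : ℕ) (M P R Q N : Subgroup G) : Prop where
  coatom : IsCoatom N
  P_le : Subgroup.centralizer (P : Set G) ≤ N
  nonconj : ∀ g : G, N ≠ M.map (MulAut.conj g).toMonoidHom
  beta : p ∈ Cfsg.beta N
  r_sigma : r ∉ Cfsg.sigma N
  r_rank : Cfsg.PRankLE r 1 N
  q_sigma : q ∈ Cfsg.sigma N
  not_beta : q ∉ Cfsg.beta M
  not_betaN : q ∉ Cfsg.beta N
  moved_le : ⁅Q, R⁆ ≤ ⁅N, N⁆
  unique : Subgroup.centralizer ((⁅Q, R⁆ : Subgroup G) : Set G) ≤ N
  r_tau1 : r ∈ Cfsg.tau1 M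

variable {p r q : ℕ} [hp : Fact p.Prime] [hr : Fact r.Prime] [hq : Fact q.Prime] {M P R Q : Subgroup G}

/-- A prime of rank two in the partner would centralize. -/
theorem rank_one_partner (hG : Cfsg.IsMinSimpleOddOrder G) (hM : IsCoatom M) (hrM : r ∉ Cfsg.sigma M)
    (hqσ : q ∈ Cfsg.sigma M) (hqr : q ≠ r) {N : Subgroup G} (hN : IsCoatom N)
    (hnc : ∀ g : G, N ≠ M.map (MulAut.conj g).toMonoidHom) (hrN : r ∉ Cfsg.sigma N) (hR : IsPGroup r R)
    (hRN : R ≤ N) (hQ : IsPGroup q Q) (hQN : Q ≤ N) (hRQ : R ≤ Subgroup.normalizer (Q : Set G))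
    (hmoved : ¬ Q ≤ Subgroup.centralizer (R : Set G)) : Cfsg.PRankLE r 1 N := by
  by_contra hr1
  have hr2 : Cfsg.PRankLE r 2 N := by
    by_contra h
    exact hrN (Sigma.alpha_subset_sigma hG hN ⟨hr.out, h⟩)
  have hτ : r ∈ Cfsg.tau2 N := ⟨hr.out, hrN, hr2, hr1⟩
  obtain ⟨U⟩ : Nonempty (Sylow r N) := inferInstance
  obtain ⟨A, hAU, hAe, hA⟩ := ComplBasics.exists_plane_sylow hτ U
  obtain ⟨A₀, hexc, -⟩ := PlaneUnique.exists_exc hG hN (hAU.trans (Subgroup.map_subtype_le _)) hAe hA hrN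
  have hqN : q ∉ Cfsg.sigma N := fun hσ => by
    obtain ⟨T, hT, -⟩ := hexc.exists_core hσ
    obtain ⟨g, hg⟩ := SigmaConj.conj_of_normal_sylow hG hM hN hqσ hσ T hT
    exact hnc g hg
  obtain ⟨H, hH, hrH, -, hle⟩ := exists_sigma_overgroup hG hN hτ (sup_le hQN hRN) (by
    refine ComplBasics.coprime_sigmaCore_of_not_sigma fun t ht hd htσ => ?_
    have hdv : Nat.card (Q ⊔ R : Subgroup G) ∣ Nat.card Q * Nat.card R :=
      Dvd.intro _ (SolvBasic.card_sup_mul_card_inf hRQ)
    rcases ht.dvd_mul.1 (hd.trans hdv) with h | h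
    · exact hqN (Set.mem_singleton_iff.1 (Inv.primes_of_isPGroup hQ t ht h) ▸ htσ)
    · exact hrN (Set.mem_singleton_iff.1 (Inv.primes_of_isPGroup hR t ht h) ▸ htσ))
  have hncH : ∀ g : G, H ≠ M.map (MulAut.conj g).toMonoidHom := fun g hg =>
    hrM (PrimeAction.sigma_of_conj g (hg ▸ hrH))
  have hqβ : q ∉ Cfsg.beta H := fun hb => by
    obtain ⟨g, hg⟩ := SigmaConj.conj_of_rank hG hM hH hqσ (BetaCore.beta_subset_sigma hG hH hb) hb.2.2.1
    exact hncH g hg
  exact hmoved (SigmaConj.sylow_centralizes hG hH hR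
    (sylow_le_derived' hG hH hrH hR (le_sup_right.trans hle)) (fun hb => hexc.maximal.not_beta H hb)
    hqr hqβ hQ (le_sup_left.trans hle) hRQ)

namespace Fail

variable (h : Fail p r q M P R Q)
include h

theorem q_ne_p : q ≠ p := fun e => h.tau1.2.1 (e ▸ h.sigma)

theorem q_ne_r : q ≠ r := fun e => h.not_sigma (e ▸ h.sigma)

theorem P_ne : P ≠ ⊥ := fun hb => hp.out.ne_one (by rw [← h.cardP, hb, Subgroup.card_bot])

theorem R_pgroup : IsPGroup r R := IsPGroup.of_card (n := 1) (by rw [h.cardR, pow_one])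

theorem P_pgroup : IsPGroup p P := IsPGroup.of_card (n := 1) (by rw [h.cardP, pow_one])

theorem commutator_le : ⁅Q, R⁆ ≤ Q := CoprimeAct.commutator_le_left h.norm

theorem commutator_ne : ⁅Q, R⁆ ≠ ⊥ := fun hb => h.moved (Subgroup.commutator_eq_bot_iff_le_centralizer.1 hb)

theorem coprime : (Nat.card R).Coprime (Nat.card Q) := by
  obtain ⟨k, hk⟩ := h.pgroup.exists_card_eq
  rw [h.cardR, hk]
  exact ((Nat.coprime_primes hr.out hq.out).2 h.q_ne_r.symm).pow_right k

theorem commutator_eq : ⁅⁅Q, R⁆, R⁆ = ⁅Q, R⁆ := by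
  haveI := h.R_pgroup.isNilpotent
  exact CoprimeAct.commutator_commutator h.norm h.coprime (Or.inl inferInstance)

theorem not_of_beta {N : Subgroup G} (hN : IsCoatom N) (hQN : Q ≤ N) (hRN : R ≤ N) (hqβ : q ∉ Cfsg.beta N)
    (hRd : R ≤ ⁅N, N⁆) : False := by
  by_cases hrβ : r ∈ Cfsg.beta N
  · obtain ⟨U, hU⟩ := (h.R_pgroup.comap_subtype (K := N)).exists_le_sylow
    set B := Cfsg.piCoreOf (Cfsg.beta N) N with hB
    have hRU : R ≤ (U : Subgroup N).map N.subtype := fun x hx => ⟨⟨x, hRN hx⟩, hU hx, rfl⟩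
    have hRB : R ≤ B := hRU.trans (Subgroup.map_mono (BetaCore.sylow_le_piCore h.minSimple hN hrβ U))
    have hNB : N ≤ Subgroup.normalizer (B : Set G) := AxB.le_normalizer_map_subtype (Cfsg.piCore_normal _ _)
    have h1 : ⁅Q, R⁆ ≤ B := (Subgroup.commutator_mono hQN hRB).trans
      (by rw [Subgroup.commutator_comm]; exact Subgroup.le_normalizer_iff_commutator_le_left.1 hNB)
    haveI : Nontrivial (⁅Q, R⁆ : Subgroup G) := (Subgroup.nontrivial_iff_ne_bot _).2 h.commutator_ne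
    obtain ⟨k, hk, hk'⟩ := (h.pgroup.to_le h.commutator_le).nontrivial_iff_card.1 inferInstance
    exact hqβ (MinSimple.isPi_piCoreOf q hq.out
      ((hk' ▸ dvd_pow_self q hk.ne' : q ∣ Nat.card (⁅Q, R⁆ : Subgroup G)).trans (Subgroup.card_dvd_of_le h1)))
  · exact h.moved (SigmaConj.sylow_centralizes h.minSimple hN h.R_pgroup hRd hrβ h.q_ne_r hqβ h.pgroup hQN h.norm)

theorem exists_z {X : Subgroup G} (hX : X ≤ Q) (hX1 : X ≠ ⊥) :
    ∃ Z : Subgroup G, Z ≤ X ∧ Nat.card Z = q := by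
  haveI : Nontrivial X := (Subgroup.nontrivial_iff_ne_bot X).2 hX1
  obtain ⟨k, hk, hk'⟩ := (h.pgroup.to_le hX).nontrivial_iff_card.1 inferInstance
  obtain ⟨x, hx⟩ := exists_prime_orderOf_dvd_card' (G := X) q (hk' ▸ dvd_pow_self q hk.ne')
  refine ⟨Subgroup.zpowers (x : G), Subgroup.zpowers_le.2 x.2, ?_⟩
  rw [Nat.card_zpowers, Subgroup.orderOf_coe, hx]

set_option maxHeartbeats 1000000 in
/-- The structure forced by a counterexample. -/
theorem exists_partner : ∃ N : Subgroup G, Partner p r q M P R Q N := by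
  have hG := h.minSimple
  have hM := h.coatom
  obtain ⟨-, hpσ, -, -, hp1⟩ := id h.tau1
  obtain ⟨N, hN, hNP⟩ := Uniq.exists_maximal_ge (MinSimple.normalizer_ne_top hG h.P_ne
    (MinSimple.pSubgroup_ne_top hG h.P_pgroup))
  have hCN : Subgroup.centralizer (P : Set G) ≤ N := (Subgroup.centralizer_le_normalizer _).trans hNP
  have hPN : P ≤ N := Subgroup.le_normalizer.trans hNP
  have hRN : R ≤ N := h.RP.trans hCN
  have hQN : Q ≤ N := h.QP.trans hCN
  have hnc : ∀ g : G, N ≠ M.map (MulAut.conj g).toMonoidHom := fun g hg => by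
    by_cases hpN : p ∈ Cfsg.sigma N
    · exact hpσ (PrimeAction.sigma_of_conj g (hg ▸ hpN))
    · exact (S1409.result hG N hN p hpN P h.cardP hNP).1.2 (hg ▸ PrimeAction.rank_of_conj g hp1)
  have hncq : ∀ H : Subgroup G, IsCoatom H → (∀ g : G, H ≠ M.map (MulAut.conj g).toMonoidHom) →
      q ∉ Cfsg.beta H := fun H hH hncH hb => by
    obtain ⟨g, hg⟩ := SigmaConj.conj_of_rank hG hM hH h.sigma (BetaCore.beta_subset_sigma hG hH hb) hb.2.2.1
    exact hncH g hg
  obtain ⟨Z, hZQ, hZc⟩ := h.exists_z h.commutator_le h.commutator_ne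
  have hZ1 : Z ≠ ⊥ := fun hb => hq.out.ne_one (by rw [← hZc, hb, Subgroup.card_bot])
  have hZp : IsPGroup q Z := IsPGroup.of_card (n := 1) (by rw [hZc, pow_one])
  have hZM : Z ≤ M := (hZQ.trans h.commutator_le).trans h.Q_le
  have hZC : Z ≤ Subgroup.centralizer (P : Set G) := (hZQ.trans h.commutator_le).trans h.QP
  -- `p ∈ σ(N)`
  have hpN : p ∈ Cfsg.sigma N := by
    by_contra hpN
    obtain ⟨⟨hr2, hr1⟩, -, -⟩ := S1409.result hG N hN p hpN P h.cardP hNP
    have hτ : p ∈ Cfsg.tau2 N := ⟨hp.out, hpN, hr2, hr1⟩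
    obtain ⟨U⟩ : Nonempty (Sylow p N) := inferInstance
    obtain ⟨A, hAU, hAe, hA⟩ := ComplBasics.exists_plane_sylow hτ U
    obtain ⟨A₀, hexc, -⟩ := PlaneUnique.exists_exc hG hN (hAU.trans (Subgroup.map_subtype_le _)) hAe hA hpN
    have hqN : q ∉ Cfsg.sigma N := fun hσ => by
      obtain ⟨T, hT, -⟩ := hexc.exists_core hσ
      obtain ⟨g, hg⟩ := SigmaConj.conj_of_normal_sylow hG hM hN h.sigma hσ T hT
      exact hnc g hg
    have hrN : r ∉ Cfsg.sigma N := fun hσ => h.not_of_beta hN hQN hRN (hncq N hN hnc)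
      (sylow_le_derived' hG hN hσ h.R_pgroup hRN)
    have hPQR : Q ⊔ R ≤ Subgroup.normalizer (P : Set G) :=
      (sup_le h.QP h.RP).trans (Subgroup.centralizer_le_normalizer _)
    obtain ⟨H, hH, hpH, hpβ, hle⟩ := exists_sigma_overgroup hG hN hτ (sup_le hPN (sup_le hQN hRN)) (by
      refine ComplBasics.coprime_sigmaCore_of_not_sigma fun t ht hd htσ => ?_
      have hd1 : Nat.card (P ⊔ (Q ⊔ R) : Subgroup G) ∣ Nat.card P * Nat.card (Q ⊔ R : Subgroup G) :=
        Dvd.intro _ (SolvBasic.card_sup_mul_card_inf hPQR)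
      have hd2 : Nat.card (Q ⊔ R : Subgroup G) ∣ Nat.card Q * Nat.card R :=
        Dvd.intro _ (SolvBasic.card_sup_mul_card_inf h.norm)
      rcases ht.dvd_mul.1 (hd.trans (hd1.trans (mul_dvd_mul_left _ hd2))) with h' | h'
      · exact hpN (Set.mem_singleton_iff.1 (Inv.primes_of_isPGroup h.P_pgroup t ht h') ▸ htσ)
      rcases ht.dvd_mul.1 h' with h'' | h''
      · exact hqN (Set.mem_singleton_iff.1 (Inv.primes_of_isPGroup h.pgroup t ht h'') ▸ htσ)
      · exact hrN (Set.mem_singleton_iff.1 (Inv.primes_of_isPGroup h.R_pgroup t ht h'') ▸ htσ))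
    have hncH : ∀ g : G, H ≠ M.map (MulAut.conj g).toMonoidHom := fun g hg =>
      hpσ (PrimeAction.sigma_of_conj g (hg ▸ hpH))
    exact not_beta_false hG hM h.tau1 h.sigma h.q_ne_p hH hncH hpH hpβ h.cardP h.P_le (le_sup_left.trans hle)
      hZc hZM hZC (hZQ.trans (Subgroup.commutator_mono ((le_sup_left.trans le_sup_right).trans hle)
        ((le_sup_right.trans le_sup_right).trans hle)))
  have hQd : ⁅Q, R⁆ ≤ ⁅N, N⁆ := Subgroup.commutator_mono hQN hRN
  have hpβ : p ∈ Cfsg.beta N := by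
    by_contra hpβ
    exact not_beta_false hG hM h.tau1 h.sigma h.q_ne_p hN hnc hpN hpβ h.cardP h.P_le hPN hZc hZM hZC (hZQ.trans hQd)
  have hqβN := hncq N hN hnc
  have hrN : r ∉ Cfsg.sigma N := fun hσ => h.not_of_beta hN hQN hRN hqβN (sylow_le_derived' hG hN hσ h.R_pgroup hRN)
  have hrN1 : Cfsg.PRankLE r 1 N := rank_one_partner hG hM h.not_sigma h.sigma h.q_ne_r hN hnc hrN h.R_pgroup hRN
    h.pgroup hQN h.norm h.moved
  -- the maximal subgroup over `N(R)`
  obtain ⟨L, hL, hNR⟩ := Uniq.exists_maximal_ge (MinSimple.normalizer_ne_top hG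
    (fun hb => hr.out.ne_one (by rw [← h.cardR, hb, Subgroup.card_bot]))
    (MinSimple.pSubgroup_ne_top hG h.R_pgroup))
  have hCL : Subgroup.centralizer (R : Set G) ≤ L := (Subgroup.centralizer_le_normalizer _).trans hNR
  have hRL : R ≤ L := Subgroup.le_normalizer.trans hNR
  have hPL : P ≤ L := (Subgroup.le_centralizer_iff.1 h.RP).trans hCL
  have hLN : L ≠ N := fun e => (S1409.result hG N hN r hrN R h.cardR (e ▸ hNR)).1.2 hrN1
  obtain ⟨x, hx, hx1⟩ := Plane.exists_ne_one h.cardP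
  have hxp : orderOf x = p := by rw [← Nat.card_zpowers, Plane.zpowers_eq h.cardP hx hx1, h.cardP]
  have hpL : p ∉ Cfsg.sigma L := fun hσ => hLN (Plane.eq_of_ideal hG hL hN hpβ.2 hσ
    (BetaCore.beta_subset_sigma hG hN hpβ) hxp (hPL hx) (hPN hx))
  have hpL1 : Cfsg.PRankLE p 1 L := by
    by_contra hp1L
    have hτ : p ∈ Cfsg.tau2 L := ⟨hp.out, hpL, by
      by_contra h'
      exact hpL (Sigma.alpha_subset_sigma hG hL ⟨hp.out, h'⟩), hp1L⟩
    obtain ⟨E, hE, hPE⟩ := exists_complement_ge hG hL h.P_pgroup hPL hpL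
    obtain ⟨A, hAE, hAe, hA⟩ := TauTwo.exists_plane (p := p) hG hL hE hτ
    have hPA : P ≤ A := (S1418.result hG L hL E hE p hτ A ⟨hAE, hAe, hA⟩).1.2 P hPE h.cardP
    haveI := hAe.1
    have hAN : A ≤ N := ((Subgroup.le_centralizer A).trans (Subgroup.centralizer_le hPA)).trans hCN
    have hbot := PlaneUnique.inf_eq_bot hG hL (hAE.trans hE.1) hAe hA hpL hN hAN hLN.symm
    have hrL : r ∉ Cfsg.sigma L := fun hσ => hr.out.ne_one (by
      rw [← h.cardR, le_bot_iff.1 ((le_inf (le_sigmaCore hG hL hσ h.R_pgroup hRL) hRN).trans hbot.le), Subgroup.card_bot])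
    obtain ⟨⟨hr2', hr1'⟩, -, -⟩ := S1409.result hG L hL r hrL R h.cardR hNR
    obtain ⟨B, hBE, hBe, hB⟩ := TauTwo.exists_plane (p := r) hG hL hE ⟨hr.out, hrL, hr2', hr1'⟩
    have hBA := ComplBasics.centralizes_plane hG hL hE hτ hAE hAe hA h.ne ⟨hr.out, hrL, hr2', hr1'⟩
      (Plane.isPGroup hB) hBE
    have hBN : B ≤ N := (hBA.trans (Subgroup.centralizer_le hPA)).trans hCN
    exact UniqProp.not_rankLE hBN hBe (k := 1) (by
      rw [pow_one, hB, pow_two]; exact lt_mul_of_one_lt_left hr.out.pos hr.out.one_lt) hrN1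
  -- an invariant Sylow subgroup of `N_β`
  set B := Cfsg.piCoreOf (Cfsg.beta N) N with hB
  have hNB : N ≤ Subgroup.normalizer (B : Set G) := AxB.le_normalizer_map_subtype (Cfsg.piCore_normal _ _)
  have hBN : B ≤ N := Subgroup.map_subtype_le _
  set Y := ⁅Q, R⁆ with hY
  have hYQ : Y ≤ Q := h.commutator_le
  have hYp : IsPGroup q Y := h.pgroup.to_le hYQ
  have hRY : R ≤ Subgroup.normalizer (Y : Set G) := Subgroup.normalizer_commutator_ge_right Q R
  set A := Y ⊔ R with hAdef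
  have hAP : A ≤ Subgroup.centralizer (P : Set G) := sup_le (hYQ.trans h.QP) h.RP
  have hcop : (Nat.card A).Coprime (Nat.card B) := by
    refine Nat.coprime_of_dvd fun t ht hdA hdB => ?_
    have htβ := MinSimple.isPi_piCoreOf t ht hdB
    have hdv : Nat.card A ∣ Nat.card Y * Nat.card R := Dvd.intro _ (SolvBasic.card_sup_mul_card_inf hRY)
    rcases ht.dvd_mul.1 (hdA.trans hdv) with h' | h'
    · exact hqβN (Set.mem_singleton_iff.1 (Inv.primes_of_isPGroup hYp t ht h') ▸ htβ)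
    · exact hrN (BetaCore.beta_subset_sigma hG hN
        (Set.mem_singleton_iff.1 (Inv.primes_of_isPGroup h.R_pgroup t ht h') ▸ htβ))
  obtain ⟨U, hU⟩ := (h.P_pgroup.comap_subtype (K := N)).exists_le_sylow
  have hPU : P ≤ (U : Subgroup N).map N.subtype := fun y hy => ⟨⟨y, hPN hy⟩, hU hy, rfl⟩
  have hPB : P ≤ B := hPU.trans (Subgroup.map_mono (BetaCore.sylow_le_piCore hG hN hpβ U))
  haveI := MinSimple.isSolvable hG hN.1
  have hBsolv : Group.IsSolvable B := SolvBasic.isSolvable_of_le hBN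
  obtain ⟨S, hPS, hAS⟩ := CoprimeAct.exists_invariant_sylow_ge ((hAP.trans hCN).trans hNB) hcop (Or.inr hBsolv)
    hPB h.P_pgroup (hAP.trans (Subgroup.centralizer_le_normalizer _))
  set Sm := (S : Subgroup B).map B.subtype with hSm
  have hSp : IsPGroup p Sm := S.isPGroup'.map _
  have hSidx : ¬ p ∣ Sm.index := by
    rw [← Subgroup.relIndex_mul_index (Subgroup.map_subtype_le _ : Sm ≤ B)]
    intro hd
    rcases hp.out.dvd_mul.1 hd with h' | h'
    · rw [Subgroup.relIndex, show Sm.subgroupOf B = S from Subgroup.comap_map_eq_self_of_injective B.subtype_injective _] at h'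
      exact S.not_dvd_index h'
    · exact (BetaCore.hall hG hN).2.2 p hp.out hpβ h'
  have hSN : Sm ≤ N := (Subgroup.map_subtype_le _).trans hBN
  have hp2 : p ≠ 2 := Uniq.ne_two_of_dvd hG (h.cardP ▸ P.card_subgroup_dvd_card)
  have hq2 : q ≠ 2 := Uniq.ne_two_of_dvd hG (hZc ▸ Z.card_subgroup_dvd_card)
  have hYS : Sm ≤ Subgroup.centralizer (Y : Set G) := by
    refine le_centralizer_of_fixed h.q_ne_p h.q_ne_r.symm h.ne hq2 hp2 h.cardR hYp hRY h.commutator_eq
      (Nat.card Sm) Sm le_rfl hSp (le_sup_right.trans hAS) (le_sup_left.trans hAS) fun y hy hyp hyR => ?_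
    by_cases hy1 : y = 1
    · rw [hy1]; exact one_mem _
    set D := Sm ⊓ Subgroup.centralizer (R : Set G) with hD
    have hDc : IsCyclic D := isCyclic_of_rank_one hG hpL1 (hSp.to_le inf_le_left) (inf_le_right.trans hCL)
    have hyD : Subgroup.zpowers y ≤ D := Subgroup.zpowers_le.2 ⟨hy, hyR⟩
    have hne := inf_ne_bot_of_cyclic hDc (hSp.to_le inf_le_left) hyD
      (le_inf hPS (Subgroup.le_centralizer_iff.1 h.RP)) (fun e => hy1 (Subgroup.zpowers_eq_bot.1 e)) h.P_ne
    have hyc : Nat.card (Subgroup.zpowers y) = p := by rw [Nat.card_zpowers, orderOf_eq_prime hyp hy1]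
    obtain ⟨w, hw, hw1⟩ := (Subgroup.bot_or_exists_ne_one _).resolve_left hne
    have hyP : y ∈ P := by
      rw [← Plane.zpowers_eq h.cardP hw.2 hw1, Plane.zpowers_eq hyc hw.1 hw1]
      exact Subgroup.mem_zpowers y
    exact Subgroup.le_centralizer_iff.1 (hYQ.trans h.QP) hyP
  obtain ⟨T, hT⟩ : ∃ T : Sylow p G, (T : Subgroup G) = Sm := ⟨hSp.toSylow hSidx, rfl⟩
  have hTrank : ¬ Cfsg.PRankLE p 2 (T : Subgroup G) := fun hr' => hpβ.2.2.1 (LocalFactor.prankLE_of_sylow T hr')
  have huniq : ∀ L' : Subgroup G, IsCoatom L' → Subgroup.centralizer (Y : Set G) ≤ L' → L' = N := fun L' hL' hle => by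
    obtain ⟨L₁, -, hL₁⟩ := DerivedRank.inUniqueMaximal_of_rank hG T hTrank
    exact (hL₁ L' ⟨hL', hT.le.trans (hYS.trans hle)⟩).trans (hL₁ N ⟨hN, hT.le.trans hSN⟩).symm
  have hCY : Subgroup.centralizer (Y : Set G) ≤ N := by
    obtain ⟨L', hL', hle⟩ := Uniq.exists_maximal_ge (X := Subgroup.centralizer (Y : Set G)) (by
      obtain ⟨z, hz, hz1⟩ := (Subgroup.bot_or_exists_ne_one Y).resolve_left h.commutator_ne
      exact fun e => MinSimple.centralizer_singleton_ne_top hG hz1 (top_unique (e ▸ Subgroup.centralizer_le (Set.singleton_subset_iff.2 hz))))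
    exact huniq L' hL' hle ▸ hle
  have hCZY : Subgroup.centralizer (Y : Set G) ≤ Subgroup.centralizer (Z : Set G) := Subgroup.centralizer_le hZQ
  obtain ⟨LZ, hLZ, hNZ⟩ := Uniq.exists_maximal_ge
    (MinSimple.normalizer_ne_top hG hZ1 (MinSimple.pSubgroup_ne_top hG hZp))
  have hLZN : LZ = N := huniq LZ hLZ ((hCZY.trans (Subgroup.centralizer_le_normalizer _)).trans hNZ)
  have hNZN : Subgroup.normalizer (Z : Set G) ≤ N := hLZN ▸ hNZ
  -- `q ∈ σ(N)`
  have hqN : q ∈ Cfsg.sigma N := by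
    by_contra hqN
    obtain ⟨C, hCle, hCe, hC⟩ := exists_partner_plane hG hM h.sigma hZp hZ1 hZM hNZN hqN
    have hbot := PlaneUnique.inf_eq_bot hG hN (hCle.trans inf_le_right) hCe hC hqN hM (hCle.trans inf_le_left)
      (ne_of_nonconj hnc).symm
    exact h.P_ne (le_bot_iff.1 ((le_inf (le_sigmaCore hG hN hpN h.P_pgroup hPN) h.P_le).trans hbot.le))
  have hqβM : q ∉ Cfsg.beta M := fun hb => by
    obtain ⟨g, hg⟩ := SigmaConj.conj_of_rank hG hM hN h.sigma hqN hb.2.2.1
    exact hnc g hg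
  -- `r ∈ τ₁(M)`
  have hrd : ¬ R ≤ ⁅M, M⁆ := fun hd => h.not_of_beta hM h.Q_le h.R_le hqβM hd
  have hrM1 : Cfsg.PRankLE r 1 M := by
    by_contra hr1
    have hr2 : Cfsg.PRankLE r 2 M := by
      by_contra h'
      exact h.not_sigma (Sigma.alpha_subset_sigma hG hM ⟨hr.out, h'⟩)
    obtain ⟨V⟩ : Nonempty (Sylow r M) := inferInstance
    obtain ⟨A', hAV, hAe, hA⟩ := ComplBasics.exists_plane_sylow ⟨hr.out, h.not_sigma, hr2, hr1⟩ V
    obtain ⟨A₀, hexc, -⟩ := PlaneUnique.exists_exc hG hM (hAV.trans (Subgroup.map_subtype_le _)) hAe hA h.not_sigma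
    obtain ⟨T', hT', -⟩ := hexc.exists_core h.sigma
    obtain ⟨g, hg⟩ := SigmaConj.conj_of_normal_sylow hG hN hM hqN h.sigma T' hT'
    exact hnc g⁻¹ (by rw [hg, Sigma.map_conj_map, inv_mul_cancel, Sigma.map_conj_one])
  have hrMd : ¬ r ∣ Nat.card (⁅M, M⁆ : Subgroup G) := fun hd => by
    haveI : (commutator M).Normal := inferInstance
    obtain ⟨V, hV⟩ := (h.R_pgroup.comap_subtype (K := M)).exists_le_sylow
    set Vm := (V : Subgroup M).map M.subtype with hVm
    have hRV : R ≤ Vm := fun y hy => ⟨⟨y, h.R_le hy⟩, hV hy, rfl⟩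
    have hVp : IsPGroup r Vm := V.isPGroup'.map _
    have hVc := isCyclic_of_rank_one hG hrM1 hVp (Subgroup.map_subtype_le _)
    have hdV : r ∣ Nat.card (commutator M) := by
      rwa [← Subgroup.map_subtype_commutator, Subgroup.card_map_of_injective M.subtype_injective] at hd
    obtain ⟨W⟩ : Nonempty (Sylow r (commutator M)) := inferInstance
    obtain ⟨V', hV'⟩ := (W.isPGroup'.map (commutator M).subtype).exists_le_sylow
    obtain ⟨m, hm⟩ := MulAction.exists_smul_eq M V' V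
    set W' := ((W : Subgroup (commutator M)).map (commutator M).subtype).map (MulAut.conj m).toMonoidHom with hW'
    have hW'V : W' ≤ (V : Subgroup M) := by
      rw [← hm, Sylow.coe_subgroup_smul]
      exact Subgroup.map_mono hV'
    have hW'c : W' ≤ commutator M := by
      rintro _ ⟨w, hw, rfl⟩
      exact (inferInstance : (commutator M).Normal).conj_mem w (Subgroup.map_subtype_le _ hw) m
    have hW'ne : W'.map M.subtype ≠ ⊥ := fun hb => by
      rw [Subgroup.map_eq_bot_iff_of_injective _ M.subtype_injective,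
        Subgroup.map_eq_bot_iff_of_injective _ (MulAut.conj m).injective,
        Subgroup.map_eq_bot_iff_of_injective _ (commutator M).subtype_injective] at hb
      exact W.ne_bot_of_dvd_card hdV hb
    have hR1 : R ≠ ⊥ := fun hb => hr.out.ne_one (by rw [← h.cardR, hb, Subgroup.card_bot])
    have hne := inf_ne_bot_of_cyclic hVc hVp (Subgroup.map_mono hW'V) hRV hW'ne hR1
    obtain ⟨w, hw, hw1⟩ := (Subgroup.bot_or_exists_ne_one _).resolve_left hne
    refine hrd ?_
    rw [← Plane.zpowers_eq h.cardR hw.2 hw1, Subgroup.zpowers_le]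
    have hwd := Subgroup.map_mono (f := M.subtype) hW'c hw.1
    rwa [Subgroup.map_subtype_commutator] at hwd
  exact ⟨N, hN, hCN, hnc, hpβ, hrN, hrN1, hqN, hqβM, hqβN, hQd, hCY,
    ⟨hr.out, h.not_sigma, (h.cardR ▸ dvd_rfl : r ∣ Nat.card R).trans (Subgroup.card_dvd_of_le h.R_le), hrMd, hrM1⟩⟩

set_option maxHeartbeats 1000000 in
theorem false : False := by
  have hG := h.minSimple
  have hM := h.coatom
  obtain ⟨N, hN⟩ := h.exists_partner
  have hncM : ∀ g : G, M ≠ N.map (MulAut.conj g).toMonoidHom := fun g hg =>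
    hN.nonconj g⁻¹ (by rw [hg, Sigma.map_conj_map, inv_mul_cancel, Sigma.map_conj_one])
  set Y := ⁅Q, R⁆ with hY
  have hYp : IsPGroup q Y := h.pgroup.to_le h.commutator_le
  have hRY : R ≤ Subgroup.normalizer (Y : Set G) := Subgroup.normalizer_commutator_ge_right Q R
  have hMM : ⁅M, M⁆ ≤ M := Subgroup.le_normalizer_iff_commutator_le_left.1 Subgroup.le_normalizer
  -- `β(M)` is not empty
  obtain ⟨s, hsβ⟩ : ∃ s, s ∈ Cfsg.beta M := by
    by_contra hno
    push Not at hno
    have hnil : Group.IsNilpotent (⁅M, M⁆ : Subgroup G) :=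
      BetaCore.isNilpotent hG hM le_rfl hMM fun t _ _ => hno t
    obtain ⟨T⟩ : Nonempty (Sylow q M) := inferInstance
    have hidx : ¬ q ∣ ((T : Subgroup M).map M.subtype).relIndex M := by
      rw [Subgroup.relIndex, show ((T : Subgroup M).map M.subtype).subgroupOf M = T from
        Subgroup.comap_map_eq_self_of_injective M.subtype_injective _]
      exact T.not_dvd_index
    have hTd := Sigma.sylow_le_derived hG hM h.sigma T
    have hn : M ≤ Subgroup.normalizer (((T : Subgroup M).map M.subtype : Subgroup G) : Set G) :=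
      (Subgroup.le_normalizer_iff_commutator_le_left.2 (Subgroup.commutator_mono hMM le_rfl)).trans
        (Exceptional.normalizer_le_of_nilpotent hnil hTd (T.isPGroup'.map _) fun hd => hidx
          (hd.trans (Dvd.intro _ (Subgroup.relIndex_mul_relIndex _ _ _ hTd hMM))))
    obtain ⟨g, hg⟩ := SigmaConj.conj_of_normal_sylow hG hN.coatom hM hN.q_sigma h.sigma T hn
    exact hncM g hg
  haveI := Fact.mk hsβ.1.1
  have hsσ := BetaCore.beta_subset_sigma hG hM hsβ
  set B := Cfsg.piCoreOf (Cfsg.beta M) M with hB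
  have hBM : B ≤ M := Subgroup.map_subtype_le _
  have hMB : M ≤ Subgroup.normalizer (B : Set G) := AxB.le_normalizer_map_subtype (Cfsg.piCore_normal _ _)
  set A := Y ⊔ R with hAdef
  have hAM : A ≤ M := sup_le (h.commutator_le.trans h.Q_le) h.R_le
  have hcop : (Nat.card A).Coprime (Nat.card B) := by
    refine Nat.coprime_of_dvd fun t ht hdA hdB => ?_
    have htβ := MinSimple.isPi_piCoreOf t ht hdB
    have hdv : Nat.card A ∣ Nat.card Y * Nat.card R := Dvd.intro _ (SolvBasic.card_sup_mul_card_inf hRY)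
    rcases ht.dvd_mul.1 (hdA.trans hdv) with h' | h'
    · exact hN.not_beta (Set.mem_singleton_iff.1 (Inv.primes_of_isPGroup hYp t ht h') ▸ htβ)
    · exact h.not_sigma (BetaCore.beta_subset_sigma hG hM
        (Set.mem_singleton_iff.1 (Inv.primes_of_isPGroup h.R_pgroup t ht h') ▸ htβ))
  haveI := MinSimple.isSolvable hG hM.1
  obtain ⟨W, hW⟩ := CoprimeAct.exists_invariant_sylow (hAM.trans hMB) hcop
    (Or.inr (SolvBasic.isSolvable_of_le hBM)) s
  set Wm := (W : Subgroup B).map B.subtype with hWm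
  have hWp : IsPGroup s Wm := W.isPGroup'.map _
  have hWM : Wm ≤ M := (Subgroup.map_subtype_le _).trans hBM
  have hWidx : ¬ s ∣ Wm.index := by
    rw [← Subgroup.relIndex_mul_index (Subgroup.map_subtype_le _ : Wm ≤ B)]
    intro hd
    rcases hsβ.1.1.dvd_mul.1 hd with h' | h'
    · rw [Subgroup.relIndex, show Wm.subgroupOf B = W from Subgroup.comap_map_eq_self_of_injective B.subtype_injective _] at h'
      exact W.not_dvd_index h'
    · exact (BetaCore.hall hG hM).2.2 s hsβ.1.1 hsβ h'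
  have hsq : q ≠ s := fun e => hN.not_beta (e ▸ hsβ)
  have hsr : r ≠ s := fun e => h.not_sigma (e ▸ hsσ)
  have hq2 : q ≠ 2 := Uniq.ne_two_of_dvd hG (h.sigma.2.1.trans M.card_subgroup_dvd_card)
  have hs2 : s ≠ 2 := Uniq.ne_two_of_dvd hG (hsσ.2.1.trans M.card_subgroup_dvd_card)
  -- an element fixed by `R`, moved by `Y`
  obtain ⟨w, hwW, hwR, hwY⟩ : ∃ w ∈ Wm, w ∈ Subgroup.centralizer (R : Set G) ∧ w ∉ Subgroup.centralizer (Y : Set G) := by
    by_contra hc
    push Not at hc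
    have hle := le_centralizer_of_fixed hsq h.q_ne_r.symm hsr hq2 hs2 h.cardR hYp hRY h.commutator_eq
      (Nat.card Wm) Wm le_rfl hWp (le_sup_right.trans hW) (le_sup_left.trans hW) fun x hx _ hxR => hc x hx hxR
    refine hsβ.2.2.1 (LocalFactor.prankLE_of_sylow (hWp.toSylow hWidx) ?_)
    exact SigmaConj.sylow_small hG (hWp.toSylow hWidx) hM hN.coatom hWM (hle.trans hN.unique) (ne_of_nonconj hN.nonconj)
  have hsN : s ∉ Cfsg.beta N := fun hb => by
    obtain ⟨g, hg⟩ := SigmaConj.conj_of_rank hG hM hN.coatom hsσ (BetaCore.beta_subset_sigma hG hN.coatom hb) hb.2.2.1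
    exact hN.nonconj g hg
  have hwP : w ∉ Subgroup.centralizer (P : Set G) := fun hwP => by
    have hYN : Y ≤ N := (h.commutator_le.trans h.QP).trans hN.P_le
    have hc := SigmaConj.sylow_centralizes hG hN.coatom hYp hN.moved_le hN.not_betaN hsq.symm hsN
      (R := Wm ⊓ N) (hWp.to_le inf_le_left) inf_le_right
      ((le_inf (le_sup_left.trans hW) (hYN.trans Subgroup.le_normalizer)).trans Subgroup.inf_normalizer_le_normalizer_inf)
    exact hwY (hc ⟨hwW, hN.P_le hwP⟩)
  -- the symmetric counterexample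
  set D := B ⊓ Subgroup.centralizer (R : Set G) with hD
  have hPR : P ≤ Subgroup.centralizer (R : Set G) := Subgroup.le_centralizer_iff.1 h.RP
  have hPD : P ≤ Subgroup.normalizer (D : Set G) :=
    (le_inf (h.P_le.trans hMB) (hPR.trans Subgroup.le_normalizer)).trans Subgroup.inf_normalizer_le_normalizer_inf
  have hcopD : (Nat.card P).Coprime (Nat.card D) := by
    rw [h.cardP]
    exact hp.out.coprime_iff_not_dvd.2 fun hd => h.tau1.2.1 (BetaCore.beta_subset_sigma hG hM
      (MinSimple.isPi_piCoreOf p hp.out (hd.trans (Subgroup.card_dvd_of_le inf_le_left))))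
  haveI := h.P_pgroup.isNilpotent
  obtain ⟨t, ht, V, hV, hVP⟩ : ∃ (t : ℕ) (_ : Fact t.Prime) (V : Sylow t D),
      P ≤ Subgroup.normalizer (((V : Subgroup D).map D.subtype : Subgroup G) : Set G) ∧
      ¬ (V : Subgroup D).map D.subtype ≤ Subgroup.centralizer (P : Set G) := by
    by_contra hc
    push Not at hc
    refine hwP (?_ : w ∈ Subgroup.centralizer (P : Set G))
    have hle : D ≤ Subgroup.centralizer (P : Set G) := by
      rw [← Subgroup.subgroupOf_eq_top]
      refine FittingCores.eq_top_of_forall_sylow_le fun t ht => ?_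
      haveI := Fact.mk ht
      obtain ⟨V, hV⟩ := CoprimeAct.exists_invariant_sylow hPD hcopD (Or.inl inferInstance) t
      exact ⟨V, fun x hx => hc t inferInstance V hV ⟨x, hx, rfl⟩⟩
    exact hle ⟨Subgroup.map_subtype_le _ hwW, hwR⟩
  haveI := ht
  have hVne : (V : Subgroup D).map D.subtype ≠ ⊥ := fun hb => hVP (hb.le.trans bot_le)
  have htβ : t ∈ Cfsg.beta M := by
    haveI : Nontrivial ((V : Subgroup D).map D.subtype : Subgroup G) := (Subgroup.nontrivial_iff_ne_bot _).2 hVne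
    obtain ⟨k, hk, hk'⟩ := (V.isPGroup'.map D.subtype).nontrivial_iff_card.1 inferInstance
    exact MinSimple.isPi_piCoreOf t ht.out ((hk' ▸ dvd_pow_self t hk.ne').trans
      (Subgroup.card_dvd_of_le ((Subgroup.map_subtype_le _).trans inf_le_left)))
  have h' : Fail r p t M R P ((V : Subgroup D).map D.subtype) := ⟨hG, hM, hN.r_tau1, h.tau1.2.1,
    BetaCore.beta_subset_sigma hG hM htβ, h.ne.symm, h.cardR, h.cardP, h.R_le, h.P_le, hPR, V.isPGroup'.map _,
    ((Subgroup.map_subtype_le _).trans inf_le_left).trans hBM, (Subgroup.map_subtype_le _).trans inf_le_right, hV, hVP⟩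
  obtain ⟨L, hL⟩ := h'.exists_partner
  obtain ⟨g, hg⟩ := SigmaConj.conj_of_rank hG hM hL.coatom (BetaCore.beta_subset_sigma hG hM htβ) hL.q_sigma htβ.2.2.1
  exact hL.nonconj g hg

end Fail

omit hr hq

/-- BG 13.4. -/
theorem centralizer_le (hG : Cfsg.IsMinSimpleOddOrder G) (hM : IsCoatom M) (hp1 : p ∈ Cfsg.tau1 M)
    (hP : Nat.card P = p) (hPM : P ≤ M) {r : ℕ} (hr : r.Prime) (hR : Nat.card R = r) (hrσ : r ∉ Cfsg.sigma M)
    (hRM : R ≤ M) (hRP : R ≤ Subgroup.centralizer (P : Set G)) :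
    Cfsg.sigmaCore M ⊓ Subgroup.centralizer (P : Set G) ≤ Subgroup.centralizer (R : Set G) := by
  haveI := Fact.mk hr
  rcases eq_or_ne r p with rfl | hne
  · have hPn : R ≤ Subgroup.normalizer (P : Set G) := hRP.trans (Subgroup.centralizer_le_normalizer _)
    have hp' : IsPGroup r (P ⊔ R : Subgroup G) :=
      (IsPGroup.of_card (n := 1) (by rw [hP, pow_one])).to_sup_of_normal_left'
        (IsPGroup.of_card (n := 1) (by rw [hR, pow_one])) hPn
    have hne' := inf_ne_bot_of_cyclic (isCyclic_of_rank_one hG hp1.2.2.2.2 hp' (sup_le hPM hRM)) hp'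
      le_sup_left le_sup_right (fun hb => hr.ne_one (by rw [← hP, hb, Subgroup.card_bot]))
      (fun hb => hr.ne_one (by rw [← hR, hb, Subgroup.card_bot]))
    obtain ⟨w, hw, hw1⟩ := (Subgroup.bot_or_exists_ne_one _).resolve_left hne'
    rw [← Plane.zpowers_eq hR hw.2 hw1, Plane.zpowers_eq hP hw.1 hw1]
    exact inf_le_right
  set D := Cfsg.sigmaCore M ⊓ Subgroup.centralizer (P : Set G) with hD
  have hRD : R ≤ Subgroup.normalizer (D : Set G) :=
    (le_inf (hRM.trans (le_normalizer_sigmaCore M)) (hRP.trans Subgroup.le_normalizer)).trans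
      Subgroup.inf_normalizer_le_normalizer_inf
  have hcop : (Nat.card R).Coprime (Nat.card D) := by
    rw [hR]
    exact hr.coprime_iff_not_dvd.2 fun h => hrσ (mem_sigma_of_dvd hr (h.trans (Subgroup.card_dvd_of_le inf_le_left)))
  haveI := (IsPGroup.of_card (n := 1) (by rw [hR, pow_one]) : IsPGroup r R).isNilpotent
  rw [← Subgroup.subgroupOf_eq_top]
  refine FittingCores.eq_top_of_forall_sylow_le fun q hq => ?_
  haveI := Fact.mk hq
  obtain ⟨V, hV⟩ := CoprimeAct.exists_invariant_sylow hRD hcop (Or.inl inferInstance) q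
  refine ⟨V, fun x hx => ?_⟩
  by_cases hx1 : x = 1
  · rw [hx1]; exact one_mem _
  by_contra hxR
  have hd : q ∣ Nat.card (Cfsg.sigmaCore M) := ((V.isPGroup'.card_eq_or_dvd.resolve_left fun e =>
    hx1 (Subgroup.mem_bot.1 (Subgroup.card_eq_one.1 e ▸ hx))).trans (Subgroup.card_subgroup_dvd_card _)).trans
      (Subgroup.card_dvd_of_le inf_le_left)
  refine Fail.false (p := p) (r := r) (q := q) (M := M) (P := P) (R := R) (Q := (V : Subgroup D).map D.subtype)
    ⟨hG, hM, hp1, hrσ, mem_sigma_of_dvd hq hd, hne, hP, hR, hPM, hRM, hRP, V.isPGroup'.map _, ?_,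
      (Subgroup.map_subtype_le _).trans inf_le_right, hV, fun hle => hxR (hle ⟨x, hx, rfl⟩)⟩
  exact ((Subgroup.map_subtype_le _).trans inf_le_left).trans (sigmaCore_le M)

end Cfsg.Agent.OddOrder.TauOne
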