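/-
Primes of τ₂(M) with abelian Sylow subgroups (BG 12.8).
-/
import Cfsg.Agent.Lib.OddOrder.ComplBasics
import Cfsg.Agent.Lib.OddOrder.ComplReduce
import Cfsg.Agent.Lib.OddOrder.FittingOf
import Cfsg.Agent.Lib.LocalEven.OmegaOne
import Cfsg.Agent.S1411

set_option autoImplicit false
set_option linter.style.haveILetI false
set_option linter.unusedSectionVars false

namespace Cfsg.Agent.OddOrder.TauTwoAb

open scoped commutatorElement
open Exceptional

universe u

variable {G : Type u} [Group G] [Finite G] {p : ℕ} [hp : Fact p.Prime]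

/-- Abelian Sylow subgroups are all abelian, and each plane lies in one. -/
theorem exists_abelian_sylow (hS : ¬ ∀ S : Sylow p G, ¬ IsMulCommutative (S : Subgroup G)) {A : Subgroup G}
    (hA : IsPGroup p A) : ∃ S : Sylow p G, A ≤ (S : Subgroup G) ∧ IsMulCommutative (S : Subgroup G) := by
  push Not at hS
  obtain ⟨T, hT⟩ := hS
  obtain ⟨S, hAS⟩ := hA.exists_le_sylow
  refine ⟨S, hAS, .of_setLike_mul_comm fun a ha b hb => ?_⟩
  haveI := hT
  have h' := mul_comm' ((S.equiv T) ⟨a, ha⟩) ((S.equiv T) ⟨b, hb⟩)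
  rw [← map_mul, ← map_mul] at h'
  exact congrArg Subtype.val ((S.equiv T).injective h')

theorem normalizer_le_fittingOf (X : Subgroup G) :
    Subgroup.normalizer (X : Set G) ≤ Subgroup.normalizer (Cfsg.fittingOf X : Set G) := by
  intro g hg
  refine ComplAbelian.mem_normalizer_of_map_le ?_
  rintro _ ⟨y, hy, rfl⟩
  have he := Subgroup.characteristic_iff_comap_eq.1 (FittingCores.fitting_characteristic (G := X))
    (X.normalizerMonoidHom ⟨g, hg⟩)
  rw [← he] at hy
  exact ⟨_, hy, rfl⟩

/-- Data for the abelian case. -/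
structure Data (p : ℕ) (M E A : Subgroup G) (S : Sylow p G) : Prop where
  minSimple : Cfsg.IsMinSimpleOddOrder G
  coatom : IsCoatom M
  compl : Cfsg.IsComplIn E (Cfsg.sigmaCore M) M
  tau2 : p ∈ Cfsg.tau2 M
  le : A ≤ E
  elem : Cfsg.IsElementaryAbelian p A
  card : Nat.card A = p ^ 2
  le_sylow : A ≤ (S : Subgroup G)
  comm : IsMulCommutative (S : Subgroup G)

namespace Data

variable {M E A : Subgroup G} {S : Sylow p G} (d : Data p M E A S)
include d

theorem le_M : A ≤ M := d.le.trans d.compl.1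

theorem sylow_le_centralizer : (S : Subgroup G) ≤ Subgroup.centralizer (A : Set G) := by
  haveI := d.comm
  exact (Subgroup.le_centralizer _).trans (Subgroup.centralizer_le d.le_sylow)

theorem centralizer_le : Subgroup.centralizer (A : Set G) ≤ E := by
  obtain ⟨-, ⟨hC, hNE, -⟩, -⟩ := S1418.result d.minSimple M d.coatom E d.compl p d.tau2 A ⟨d.le, d.elem, d.card⟩
  exact hC.trans hNE.le

theorem compl_eq : M ⊓ Subgroup.normalizer (A : Set G) = E :=
  (S1418.result d.minSimple M d.coatom E d.compl p d.tau2 A ⟨d.le, d.elem, d.card⟩).2.1.2.1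

theorem normalizer_not_le : ¬ Subgroup.normalizer (A : Set G) ≤ M :=
  (S1418.result d.minSimple M d.coatom E d.compl p d.tau2 A ⟨d.le, d.elem, d.card⟩).2.1.2.2

theorem compl_le_normalizer : E ≤ Subgroup.normalizer (A : Set G) :=
  (S1418.result d.minSimple M d.coatom E d.compl p d.tau2 A ⟨d.le, d.elem, d.card⟩).1.1

theorem line_mem {X : Subgroup G} (hXE : X ≤ E) (hX : Nat.card X = p) : X ≤ A :=
  (S1418.result d.minSimple M d.coatom E d.compl p d.tau2 A ⟨d.le, d.elem, d.card⟩).1.2 X hXE hX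

theorem sylow_le : (S : Subgroup G) ≤ E := d.sylow_le_centralizer.trans d.centralizer_le

theorem mem_of_pow {x : G} (hx : x ∈ E) (hxp : x ^ p = 1) : x ∈ A := by
  by_cases hx1 : x = 1
  · rw [hx1]; exact one_mem _
  exact d.line_mem (Subgroup.zpowers_le.2 hx) (by rw [Nat.card_zpowers]; exact orderOf_eq_prime hxp hx1)
    (Subgroup.mem_zpowers x)

theorem normalizer_sylow_le : Subgroup.normalizer ((S : Subgroup G) : Set G) ≤ Subgroup.normalizer (A : Set G) :=
  fun n hn => ComplAbelian.mem_normalizer_of_map_le fun a ha => d.mem_of_pow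
    (d.sylow_le ((Subgroup.mem_normalizer_iff.1 hn a).1 (d.le_sylow ha)))
    (by rw [conj_pow, d.elem.2 a ha, mul_one, mul_inv_cancel])

theorem sylow_le_derived :
    (S : Subgroup G) ≤ ⁅Subgroup.normalizer (A : Set G), Subgroup.normalizer (A : Set G)⁆ := by
  have hSb : (S : Subgroup G) ≠ ⊥ := fun e => Plane.ne_bot (p := p) d.card (le_bot_iff.1 (e ▸ d.le_sylow))
  set N := Subgroup.normalizer ((S : Subgroup G) : Set G) with hN
  haveI : ((S : Subgroup G).subgroupOf N).Normal := Subgroup.normal_in_normalizer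
  have hcop : (Nat.card ((S : Subgroup G).subgroupOf N)).Coprime ((S : Subgroup G).subgroupOf N).index := by
    obtain ⟨k, hk⟩ := S.isPGroup'.exists_card_eq
    rw [Nat.card_congr (Subgroup.subgroupOfEquivOfLe Subgroup.le_normalizer).toEquiv, hk]
    exact (hp.out.coprime_iff_not_dvd.2 fun h => S.not_dvd_index
      (h.trans ((S : Subgroup G).relIndex_dvd_index_of_le Subgroup.le_normalizer))).pow_left k
  obtain ⟨K, hK⟩ := Subgroup.exists_right_complement'_of_coprime hcop
  have hV : Cfsg.IsComplIn (S : Subgroup G) (K.map N.subtype) N := by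
    refine ⟨Subgroup.le_normalizer, Subgroup.map_subtype_le _, ?_, fun m hm => ?_⟩
    · rw [Subgroup.eq_bot_iff_forall]
      rintro g ⟨hgP, k, hk, rfl⟩
      have : k ∈ (S : Subgroup G).subgroupOf N ⊓ K := ⟨Subgroup.mem_subgroupOf.2 hgP, hk⟩
      rw [hK.disjoint.eq_bot, Subgroup.mem_bot] at this
      simp [this]
    · obtain ⟨⟨⟨s, hs⟩, ⟨v, hv⟩⟩, he⟩ := hK.2 ⟨m, hm⟩
      exact ⟨(s : G), Subgroup.mem_subgroupOf.1 hs, (v : G), ⟨v, hv, rfl⟩, (congrArg Subtype.val he).symm⟩
  exact ((S1411.result d.minSimple p S _ hV).2).trans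
    (Subgroup.commutator_mono d.normalizer_sylow_le d.normalizer_sylow_le)

theorem centralizer_normal :
    Subgroup.normalizer (A : Set G) ≤ Subgroup.normalizer (Subgroup.centralizer (A : Set G) : Set G) :=
  FitOf.normalizer_le_normalizer_centralizer _

/-- `S` centralizes the Fitting subgroup of `C_G(A)`. -/
theorem sylow_centralizes_fitting :
    (S : Subgroup G) ≤ Subgroup.centralizer (Cfsg.fittingOf (Subgroup.centralizer (A : Set G)) : Set G) := by
  have hG := d.minSimple
  set C := Subgroup.centralizer (A : Set G) with hC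
  set F := Cfsg.fittingOf C with hF
  have hFC : F ≤ C := FitOf.fittingOf_le C
  have hFE : F ≤ E := hFC.trans d.centralizer_le
  have hNF : Subgroup.normalizer (A : Set G) ≤ Subgroup.normalizer (F : Set G) :=
    d.centralizer_normal.trans (normalizer_le_fittingOf C)
  haveI hFn : Group.IsNilpotent F := FitOf.fittingOf_nilpotent C
  rw [Subgroup.le_centralizer_iff, ← Subgroup.subgroupOf_eq_top]
  refine FittingCores.eq_top_of_forall_sylow_le fun r hr => ?_
  haveI := Fact.mk hr
  refine ⟨default, fun x hx => ?_⟩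
  set R : Sylow r F := default with hR
  set Rm := (R : Subgroup F).map F.subtype with hRm
  suffices hSR : (S : Subgroup G) ≤ Subgroup.centralizer (Rm : Set G) from
    Subgroup.mem_subgroupOf.2 (Subgroup.le_centralizer_iff.1 hSR ⟨x, hx, rfl⟩)
  have hRE : Rm ≤ E := (Subgroup.map_subtype_le _).trans hFE
  have hNR : Subgroup.normalizer (A : Set G) ≤ Subgroup.normalizer (Rm : Set G) := by
    refine hNF.trans (Exceptional.normalizer_le_of_nilpotent hFn (Subgroup.map_subtype_le _)
      (R.isPGroup'.map F.subtype) ?_)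
    rw [hRm, Subgroup.relIndex, Subgroup.subgroupOf, Subgroup.comap_map_eq_self_of_injective F.subtype_injective]
    exact R.not_dvd_index
  by_cases hR1 : Rm = ⊥
  · intro s _
    rw [hR1]
    exact Subgroup.mem_centralizer_iff.2 fun b hb => by rw [Subgroup.mem_bot.1 hb, one_mul, mul_one]
  have hrR : r ∣ Nat.card Rm := (R.isPGroup'.map F.subtype).card_eq_or_dvd.resolve_left fun e =>
    hR1 (Subgroup.card_eq_one.1 e)
  have hrσ : r ∉ Cfsg.sigma M := not_dvd_complement hG d.coatom d.compl hr (hrR.trans (Subgroup.card_dvd_of_le hRE))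
  by_cases hr1 : Cfsg.PRankLE r 1 M
  · haveI hcyc : IsCyclic Rm := by
      refine CyclicSylow.isCyclic_of_isPGroup (hG.1.of_dvd_nat Rm.card_subgroup_dvd_card)
        (R.isPGroup'.map F.subtype) fun B hB hBp => ?_
      haveI := hB
      have := hr1 (B.map (Subgroup.inclusion (hRE.trans d.compl.1))) inferInstance (by
        rintro _ ⟨b, hb, rfl⟩
        rw [← map_pow, hBp b hb, map_one])
      rwa [Subgroup.card_map_of_injective (Subgroup.inclusion_injective _)] at this
    obtain ⟨⟨c, hc⟩, hgen⟩ := hcyc.exists_generator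
    have hgen' : ∀ y ∈ Rm, ∃ k : ℤ, c ^ k = y := fun y hy => by
      obtain ⟨k, hk⟩ := Subgroup.mem_zpowers_iff.1 (hgen ⟨y, hy⟩)
      exact ⟨k, by simpa using congrArg Subtype.val hk⟩
    refine d.sylow_le_derived.trans (Subgroup.commutator_le.2 fun g hg h hh => ?_)
    have hconj : ∀ n ∈ Subgroup.normalizer (A : Set G), ∃ a : ℤ, n * c * n⁻¹ = c ^ a := fun n hn => by
      obtain ⟨a, ha⟩ := hgen' _ ((Subgroup.mem_normalizer_iff.1 (hNR hn) c).1 hc)
      exact ⟨a, ha.symm⟩
    obtain ⟨a, ha⟩ := hconj g hg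
    obtain ⟨b, hb⟩ := hconj h hh
    have e1 : g * h * c * (g * h)⁻¹ = h * g * c * (h * g)⁻¹ := by
      rw [show g * h * c * (g * h)⁻¹ = g * (h * c * h⁻¹) * g⁻¹ by group,
        show h * g * c * (h * g)⁻¹ = h * (g * c * g⁻¹) * h⁻¹ by group, hb, ← conj_zpow, ha,
        ← zpow_mul, ← conj_zpow, hb, ← zpow_mul, mul_comm]
    have e2 : ⁅g, h⁆ * c * ⁅g, h⁆⁻¹ = c := by
      have e3 : (h * g)⁻¹ ∈ Subgroup.normalizer (A : Set G) := inv_mem (mul_mem hh hg)
      obtain ⟨m, hm⟩ := hconj _ e3
      have e4 : (g * h) * c ^ m * (g * h)⁻¹ = (h * g) * c ^ m * (h * g)⁻¹ := by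
        rw [← conj_zpow, ← conj_zpow, e1]
      rw [← hm] at e4
      calc ⁅g, h⁆ * c * ⁅g, h⁆⁻¹ = (g * h) * ((h * g)⁻¹ * c * ((h * g)⁻¹)⁻¹) * (g * h)⁻¹ := by
            simp only [commutatorElement_def]; group
        _ = (h * g) * ((h * g)⁻¹ * c * ((h * g)⁻¹)⁻¹) * (h * g)⁻¹ := e4
        _ = c := by group
    refine Subgroup.mem_centralizer_iff.2 fun y hy => ?_
    obtain ⟨k, rfl⟩ := hgen' y hy
    exact ((show Commute ⁅g, h⁆ c from mul_inv_eq_iff_eq_mul.1 e2).zpow_right k).symm.eq
  · have hr2 : Cfsg.PRankLE r 2 M := by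
      by_contra hcon
      exact hrσ (Sigma.alpha_subset_sigma hG d.coatom ⟨hr, hcon⟩)
    haveI := ComplBasics.isMulCommutative_of_not_sigma hG d.coatom hrσ (R.isPGroup'.map F.subtype)
      (hRE.trans d.compl.1)
    rcases eq_or_ne r p with rfl | hrp
    · intro s hs
      refine Subgroup.mem_centralizer_iff.2 fun y hy => ?_
      -- the `p`-part lies in the abelian group `S R`
      set T := Rm ⊔ (S : Subgroup G) with hT
      have hTp : IsPGroup r T := (R.isPGroup'.map F.subtype).to_sup_of_normal_left' S.isPGroup'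
        (d.sylow_le.trans (d.compl_le_normalizer.trans hNR))
      have hTE : T ≤ M := (sup_le hRE d.sylow_le).trans d.compl.1
      haveI := ComplBasics.isMulCommutative_of_not_sigma hG d.coatom hrσ hTp hTE
      exact congrArg (fun t : T => (t : G))
        (mul_comm' (⟨y, Subgroup.mem_sup_left hy⟩ : T) ⟨s, Subgroup.mem_sup_right hs⟩)
    · have hrτ : r ∈ Cfsg.tau2 M := ⟨hr, hrσ, hr2, hr1⟩
      obtain ⟨B, hBE, hBe, hB⟩ := TauTwo.exists_plane (p := r) hG d.coatom d.compl hrτ
      have hSB : (S : Subgroup G) ≤ Subgroup.centralizer (B : Set G) :=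
        ComplBasics.centralizes_plane hG d.coatom d.compl hrτ hBE hBe hB hrp.symm d.tau2 S.isPGroup' d.sylow_le
      intro s hs
      refine Subgroup.mem_centralizer_iff.2 fun y hy => Eq.symm ?_
      refine LEOmega.commute_of_omega (Uniq.ne_two_of_dvd hG (hrR.trans Rm.card_subgroup_dvd_card))
        ?_ _ Rm le_rfl (R.isPGroup'.map F.subtype) (hNR (d.compl_le_normalizer (d.sylow_le hs))) ?_ y hy
      · obtain ⟨k, hk⟩ := S.isPGroup'.exists_card_eq
        obtain ⟨j, -, hj⟩ := (Nat.dvd_prime_pow hp.out).1 (hk ▸ Subgroup.orderOf_dvd_natCard _ hs)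
        rw [hj]
        exact ((Nat.coprime_primes hp.out hr).2 hrp.symm).pow_left j
      · intro a ha har
        by_cases ha1 : a = 1
        · rw [ha1, mul_one, one_mul]
        have haB : a ∈ B := (S1418.result hG M d.coatom E d.compl r hrτ B ⟨hBE, hBe, hB⟩).1.2 _
          (Subgroup.zpowers_le.2 (hRE ha)) (by rw [Nat.card_zpowers]; exact orderOf_eq_prime har ha1)
          (Subgroup.mem_zpowers a)
        exact (Subgroup.mem_centralizer_iff.1 (hSB hs) a haB).symm

/-- BG 12.8(a): `S` is normal in `N_G(A)`. -/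
theorem normalizer_le : Subgroup.normalizer (A : Set G) ≤ Subgroup.normalizer ((S : Subgroup G) : Set G) := by
  have hG := d.minSimple
  set C := Subgroup.centralizer (A : Set G) with hC
  haveI : Group.IsSolvable C :=
    MinSimple.isSolvable hG (fun e => d.coatom.1 (top_le_iff.1 (e ▸ d.centralizer_le.trans d.compl.1)))
  set F := Cfsg.fittingOf C with hF
  have hSF : (S : Subgroup G) ≤ F :=
    (le_inf d.sylow_le_centralizer d.sylow_centralizes_fitting).trans (FitOf.inf_centralizer_fittingOf_le C)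
  refine (d.centralizer_normal.trans (normalizer_le_fittingOf C)).trans
    (Exceptional.normalizer_le_of_nilpotent (FitOf.fittingOf_nilpotent C) hSF S.isPGroup' ?_)
  exact fun h => S.not_dvd_index (h.trans (Subgroup.relIndex_dvd_index_of_le hSF))

theorem normalizer_eq : Subgroup.normalizer (A : Set G) = Subgroup.normalizer ((S : Subgroup G) : Set G) :=
  le_antisymm d.normalizer_le d.normalizer_sylow_le

theorem compl_le_normalizer_sylow : E ≤ Subgroup.normalizer ((S : Subgroup G) : Set G) :=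
  d.compl_le_normalizer.trans d.normalizer_le

theorem le_sylow_of_le {X : Subgroup G} (hX : IsPGroup p X) (hXE : X ≤ E) : X ≤ (S : Subgroup G) := by
  have hp' : IsPGroup p ((S : Subgroup G) ⊔ X : Subgroup G) := S.isPGroup'.to_sup_of_normal_left' hX
    (hXE.trans d.compl_le_normalizer_sylow)
  exact le_sup_right.trans (S.3 hp' le_sup_left).le

end Data

end Cfsg.Agent.OddOrder.TauTwoAb
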