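/-
The action of a complement on the lines of a plane of τ₂(M), abelian case (BG 12.8–12.12).
-/
import Cfsg.Agent.Lib.OddOrder.TauTwoAbelian
import Cfsg.Agent.Lib.OddOrder.PrimeAction
import Cfsg.Agent.Lib.OddOrder.RankTwoAut
import Cfsg.Agent.Lib.OddOrder.FpfCentral
import Mathlib.RingTheory.RootsOfUnity.PrimitiveRoots

set_option autoImplicit false
set_option linter.style.haveILetI false
set_option linter.unusedSectionVars false

namespace Cfsg.Agent.OddOrder.TauTwoAb

open scoped commutatorElement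
open Exceptional

universe u

section Lines

variable {G : Type u} [Group G] [Finite G] {p : ℕ} [hp : Fact p.Prime]

theorem eq_of_mem_mem {L₁ L₂ : Subgroup G} (h1 : Nat.card L₁ = p) (h2 : Nat.card L₂ = p) {a : G}
    (ha1 : a ∈ L₁) (ha2 : a ∈ L₂) (ha : a ≠ 1) : L₁ = L₂ := by
  rw [← Plane.zpowers_eq h1 ha1 ha, Plane.zpowers_eq h2 ha2 ha]

/-- An element fixing three lines of a plane fixes all of them. -/
theorem fix_all_of_three {A L₁ L₂ L₃ : Subgroup G} (hAe : Cfsg.IsElementaryAbelian p A) (hA : Nat.card A = p ^ 2)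
    (h1 : Nat.card L₁ = p) (h2 : Nat.card L₂ = p) (h3 : Nat.card L₃ = p) (h1A : L₁ ≤ A) (h2A : L₂ ≤ A)
    (h3A : L₃ ≤ A) (h12 : L₁ ≠ L₂) (h13 : L₁ ≠ L₃) (h23 : L₂ ≠ L₃) {u : G}
    (hu1 : u ∈ Subgroup.normalizer (L₁ : Set G)) (hu2 : u ∈ Subgroup.normalizer (L₂ : Set G))
    (hu3 : u ∈ Subgroup.normalizer (L₃ : Set G)) {L : Subgroup G} (hLA : L ≤ A) :
    u ∈ Subgroup.normalizer (L : Set G) := by
  haveI := hAe.1
  have hcomm : ∀ x ∈ A, ∀ y ∈ A, Commute x y := fun x hx y hy =>
    congrArg Subtype.val (mul_comm' (⟨x, hx⟩ : A) ⟨y, hy⟩)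
  have hsup : L₁ ⊔ L₂ = A := by
    refine Subgroup.eq_of_le_of_card_ge (sup_le h1A h2A) ?_
    obtain ⟨j, hj, hjc⟩ := (Nat.dvd_prime_pow hp.out).1 (hA ▸ Subgroup.card_dvd_of_le (sup_le h1A h2A))
    by_contra hlt
    have : j ≠ 2 := by rintro rfl; exact hlt (by rw [hA, hjc])
    have hle : Nat.card (L₁ ⊔ L₂ : Subgroup G) ≤ p := by
      rw [hjc]; exact (Nat.pow_le_pow_right hp.out.pos (by omega : j ≤ 1)).trans (pow_one p).le
    exact h12 ((Subgroup.eq_of_le_of_card_ge le_sup_left (hle.trans h1.ge)).trans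
      (Subgroup.eq_of_le_of_card_ge le_sup_right (hle.trans h2.ge)).symm)
  have hdec : ∀ x ∈ A, ∃ a ∈ L₁, ∃ b ∈ L₂, x = a * b := fun x hx => by
    obtain ⟨a, ha, b, hb, e⟩ := (SolvBasic.mem_sup_iff_of_le_normalizer
      (h2A.trans ((Subgroup.le_centralizer A).trans ((Subgroup.centralizer_le h1A).trans
        (Subgroup.centralizer_le_normalizer _))))).1 (hsup.symm ▸ hx : x ∈ L₁ ⊔ L₂)
    exact ⟨a, ha, b, hb, e⟩
  have huniq : ∀ a ∈ L₁, ∀ b ∈ L₂, ∀ a' ∈ L₁, ∀ b' ∈ L₂, a * b = a' * b' → a = a' ∧ b = b' := by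
    intro a ha b hb a' ha' b' hb' e
    have hm : a'⁻¹ * a = b' * b⁻¹ :=
      calc a'⁻¹ * a = a'⁻¹ * (a * b) * b⁻¹ := by group
        _ = a'⁻¹ * (a' * b') * b⁻¹ := by rw [e]
        _ = b' * b⁻¹ := by group
    have h1' : a'⁻¹ * a = 1 := by
      by_contra hne
      exact h12 (eq_of_mem_mem h1 h2 (L₁.mul_mem (L₁.inv_mem ha') ha) (hm ▸ L₂.mul_mem hb' (L₂.inv_mem hb)) hne)
    have ha_eq : a = a' := (inv_mul_eq_one.1 h1').symm
    exact ⟨ha_eq, mul_left_cancel (ha_eq ▸ e)⟩
  obtain ⟨c, hc, hc1⟩ := Plane.exists_ne_one h3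
  obtain ⟨a, ha, b, hb, rfl⟩ := hdec c (h3A hc)
  have ha1 : a ≠ 1 := fun e => h23 (eq_of_mem_mem h2 h3 hb (by simpa [e] using hc) (by simpa [e] using hc1))
  have hb1 : b ≠ 1 := fun e => h13 (eq_of_mem_mem h1 h3 ha (by simpa [e] using hc) (by simpa [e] using hc1))
  have hconj := (Subgroup.mem_normalizer_iff.1 hu3 _).1 hc
  rw [← Plane.zpowers_eq h3 hc hc1] at hconj
  obtain ⟨m, hm⟩ := Subgroup.mem_zpowers_iff.1 hconj
  have he : u * a * u⁻¹ * (u * b * u⁻¹) = a ^ m * b ^ m := by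
    rw [← (hcomm a (h1A ha) b (h2A hb)).mul_zpow, hm]; group
  obtain ⟨hua, hub⟩ := huniq _ ((Subgroup.mem_normalizer_iff.1 hu1 _).1 ha) _
    ((Subgroup.mem_normalizer_iff.1 hu2 _).1 hb) _ (L₁.zpow_mem ha m) _ (L₂.zpow_mem hb m) he
  refine ComplAbelian.mem_normalizer_of_map_le fun y hy => ?_
  obtain ⟨a', ha', b', hb', rfl⟩ := hdec y (hLA hy)
  obtain ⟨i, rfl⟩ := Subgroup.mem_zpowers_iff.1 ((Plane.zpowers_eq h1 ha ha1).symm ▸ ha' : a' ∈ Subgroup.zpowers a)
  obtain ⟨j, rfl⟩ := Subgroup.mem_zpowers_iff.1 ((Plane.zpowers_eq h2 hb hb1).symm ▸ hb' : b' ∈ Subgroup.zpowers b)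
  have : u * (a ^ i * b ^ j) * u⁻¹ = (a ^ i * b ^ j) ^ m := by
    rw [((hcomm a (h1A ha) b (h2A hb)).zpow_zpow i j).mul_zpow, ← zpow_mul, ← zpow_mul, mul_comm i, mul_comm j,
      zpow_mul, zpow_mul, ← hua, ← hub, conj_zpow, conj_zpow]
    group
  rw [this]
  exact L.zpow_mem hy m

/-- Commuting automorphisms of a plane, one of them fixing no line: the elements of prime order form
one subgroup. -/
theorem pow_mem_of_no_line {A : Type u} [CommGroup A] [Finite A] (hA : Nat.card A = p ^ 2) {r : ℕ} [hr : Fact r.Prime]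
    {Γ : Type u} [CommGroup Γ] (φ : Γ →* MulAut A) {g w b : Γ}
    (hg : ∀ L : Subgroup A, Nat.card L = p → ∃ x ∈ L, φ g x ∉ L)
    (hw : φ w ≠ 1) (hwr : φ w ^ r = 1) (hbr : φ b ^ r = 1) : ∃ i : ℕ, φ b = φ w ^ i := by
  classical
  let τ : MulAut A →* AddMonoid.End (Additive A) :=
    { toFun := fun f => MonoidHom.toAdditive f.toMonoidHom
      map_one' := rfl
      map_mul' := fun _ _ => rfl }
  have hτi : Function.Injective τ := fun f f' h => MulEquiv.ext fun a =>
    congrArg Additive.toMul (congrFun (congrArg DFunLike.coe h) (Additive.ofMul a))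
  set s : Set (AddMonoid.End (Additive A)) := Set.range fun γ : Γ => τ (φ γ) with hs
  have hcomm : ∀ x ∈ s, ∀ y ∈ s, x * y = y * x := by
    rintro _ ⟨x, rfl⟩ _ ⟨y, rfl⟩
    rw [← map_mul, ← map_mul, ← map_mul, ← map_mul, mul_comm]
  letI : CommRing (Subring.closure s) := Subring.closureCommRingOfComm hcomm
  set gg : Subring.closure s := ⟨τ (φ g), Subring.subset_closure ⟨g, rfl⟩⟩ with hgg
  have hker : ∀ x : Subring.closure s, x ≠ 0 → ∀ a : Additive A, (x : AddMonoid.End (Additive A)) a = 0 → a = 0 := by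
    intro x hx a ha
    by_contra ha0
    let K : Subgroup A :=
      { carrier := {c | (x : AddMonoid.End (Additive A)) (Additive.ofMul c) = 0}
        one_mem' := map_zero _
        mul_mem' := fun {c d} hc hd => by
          show (x : AddMonoid.End (Additive A)) (Additive.ofMul c + Additive.ofMul d) = 0
          rw [map_add, hc, hd, add_zero]
        inv_mem' := fun {c} hc => by
          show (x : AddMonoid.End (Additive A)) (-Additive.ofMul c) = 0
          rw [map_neg, hc, neg_zero] }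
    have hKne : K ≠ ⊥ := fun e => ha0 (by
      have hm : Additive.toMul a ∈ K := ha
      rw [e, Subgroup.mem_bot] at hm
      exact hm)
    have hKtop : K ≠ ⊤ := fun e => hx (Subtype.ext (AddMonoidHom.ext fun c => by
      have hm : Additive.toMul c ∈ K := e ▸ Subgroup.mem_top _
      exact hm))
    obtain ⟨j, hj, hjc⟩ := (Nat.dvd_prime_pow hp.out).1 (hA ▸ Subgroup.card_subgroup_dvd_card K)
    have hj0 : j ≠ 0 := by rintro rfl; exact hKne (Subgroup.card_eq_one.1 (by rw [hjc, pow_zero]))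
    have hj2 : j ≠ 2 := by rintro rfl; exact hKtop (Subgroup.eq_top_of_card_eq K (by rw [hjc, hA]))
    obtain ⟨c, hc, hcK⟩ := hg K (by rw [hjc, show j = 1 by omega, pow_one])
    refine hcK ?_
    have e : x * gg = gg * x := mul_comm x gg
    have e' := congrFun (congrArg DFunLike.coe (congrArg Subtype.val e)) (Additive.ofMul c)
    show (x : AddMonoid.End (Additive A)) (τ (φ g) (Additive.ofMul c)) = 0
    refine e'.trans ?_
    show τ (φ g) ((x : AddMonoid.End (Additive A)) (Additive.ofMul c)) = 0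
    rw [show (x : AddMonoid.End (Additive A)) (Additive.ofMul c) = 0 from hc, map_zero]
  haveI : Nontrivial A := Finite.one_lt_card_iff_nontrivial.1 (hA ▸ Nat.one_lt_pow two_ne_zero hp.out.one_lt)
  haveI : Nontrivial (Subring.closure s) := ⟨0, 1, fun e => by
    obtain ⟨a, ha⟩ := exists_ne (1 : A)
    exact ha (congrArg Additive.toMul
      (congrFun (congrArg DFunLike.coe (congrArg Subtype.val e)) (Additive.ofMul a))).symm⟩
  haveI : NoZeroDivisors (Subring.closure s) := ⟨fun {x y} hxy => by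
    by_contra hcon
    push Not at hcon
    exact hcon.2 (Subtype.ext (AddMonoidHom.ext fun a => hker x hcon.1 _
      (congrFun (congrArg DFunLike.coe (congrArg Subtype.val hxy)) a)))⟩
  haveI : IsDomain (Subring.closure s) := NoZeroDivisors.to_isDomain _
  set ω : Subring.closure s := ⟨τ (φ w), Subring.subset_closure ⟨w, rfl⟩⟩ with hω
  set β : Subring.closure s := ⟨τ (φ b), Subring.subset_closure ⟨b, rfl⟩⟩ with hβ
  have hpowτ : ∀ (γ : Γ) (k : ℕ),
      (((⟨τ (φ γ), Subring.subset_closure ⟨γ, rfl⟩⟩ : Subring.closure s) ^ k : Subring.closure s) :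
        AddMonoid.End (Additive A)) = τ (φ γ ^ k) := fun γ k => by
    rw [SubmonoidClass.coe_pow, map_pow]
  have hωo : orderOf ω = r := by
    refine orderOf_eq_prime (Subtype.ext ?_) fun e => hw (hτi ?_)
    · rw [hpowτ, hwr, map_one]; rfl
    · rw [map_one]; exact congrArg Subtype.val e
  have hprim : IsPrimitiveRoot ω r := hωo ▸ IsPrimitiveRoot.orderOf ω
  haveI : NeZero r := ⟨hr.out.ne_zero⟩
  obtain ⟨i, -, hi⟩ := hprim.eq_pow_of_pow_eq_one (ξ := β) (Subtype.ext (by rw [hpowτ, hbr, map_one]; rfl))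
  refine ⟨i, hτi ?_⟩
  rw [← hpowτ]
  exact (congrArg Subtype.val hi).symm

end Lines

namespace Data

variable {G : Type u} [Group G] [Finite G] {p : ℕ} [hp : Fact p.Prime]
variable {M E A : Subgroup G} {S : Sylow p G} (d : Data p M E A S)
include d

theorem commutator_mem {n m : G} (hn : n ∈ Subgroup.normalizer (A : Set G))
    (hm : m ∈ Subgroup.normalizer (A : Set G)) : ⁅n, m⁆ ∈ Subgroup.centralizer (A : Set G) := by
  have hG := d.minSimple
  set N := Subgroup.normalizer (A : Set G) with hN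
  haveI : Group.IsSolvable N := MinSimple.isSolvable hG (MinSimple.normalizer_ne_top hG
    (Plane.ne_bot (p := p) d.card) (MinSimple.pSubgroup_ne_top hG (Plane.isPGroup d.card)))
  haveI := d.elem.1
  open scoped IsMulCommutative in
  have hpow := RankTwoAut.act_derived (p := p) (Plane.p_ne_two hG d.card) (hG.1.of_dvd_nat N.card_subgroup_dvd_card)
    (V := A) (fun v => Subtype.ext (d.elem.2 v v.2)) d.card.le A.normalizerMonoidHom
    (a := ⁅(⟨n, hn⟩ : N), ⟨m, hm⟩⁆) (Subgroup.commutator_mem_commutator (Subgroup.mem_top _) (Subgroup.mem_top _))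
  set x : N := ⁅(⟨n, hn⟩ : N), ⟨m, hm⟩⁆ with hx
  set K := (A.normalizerMonoidHom).ker with hK
  have hxp : x ^ p ∈ K := by rw [hK, MonoidHom.mem_ker, map_pow]; exact hpow
  have hidx : ¬ p ∣ K.index := fun h => by
    refine S.not_dvd_index (h.trans ?_)
    have hSN : (S : Subgroup G) ≤ N := d.sylow_le_centralizer.trans (Subgroup.centralizer_le_normalizer _)
    have h1 : (S : Subgroup G).subgroupOf N ≤ K := fun s hs =>
      (Subgroup.normalizerMonoidHom_ker A).ge (d.sylow_le_centralizer hs)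
    exact (Subgroup.index_dvd_of_le h1).trans ((S : Subgroup G).relIndex_dvd_index_of_le hSN)
  have ho : orderOf (x : N ⧸ K) = 1 := Nat.eq_one_of_dvd_coprimes (hp.out.coprime_iff_not_dvd.2 hidx)
    (orderOf_dvd_of_pow_eq_one (by rw [← QuotientGroup.mk_pow]; exact (QuotientGroup.eq_one_iff _).2 hxp))
    (by rw [Subgroup.index_eq_card]; exact orderOf_dvd_natCard _)
  exact (Subgroup.normalizerMonoidHom_ker A).le ((QuotientGroup.eq_one_iff x).1 (orderOf_eq_one_iff.1 ho))

/-- A line fixed by a nonscalar element is fixed by `N_G(A)`. -/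
theorem line_invariant {u : G} (hu : u ∈ Subgroup.normalizer (A : Set G)) {L : Subgroup G} (hLA : L ≤ A)
    (hL : Nat.card L = p) (huL : u ∈ Subgroup.normalizer (L : Set G)) {L₀ : Subgroup G} (hL₀A : L₀ ≤ A)
    (huL₀ : u ∉ Subgroup.normalizer (L₀ : Set G)) :
    Subgroup.normalizer (A : Set G) ≤ Subgroup.normalizer (L : Set G) := by
  intro n hn
  have himg : ∀ X : Subgroup G, X ≤ A → u ∈ Subgroup.normalizer (X : Set G) →
      u ∈ Subgroup.normalizer ((X.map (MulAut.conj n).toMonoidHom : Subgroup G) : Set G) := by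
    intro X hXA hX
    refine ComplAbelian.mem_normalizer_of_map_le ?_
    rintro _ ⟨x, hx, rfl⟩
    have hux := (Subgroup.mem_normalizer_iff.1 hX x).1 hx
    refine ⟨u * x * u⁻¹, hux, ?_⟩
    have hc := Subgroup.mem_centralizer_iff.1 (d.commutator_mem (inv_mem hn) hu) _ (hXA hux)
    show n * (u * x * u⁻¹) * n⁻¹ = u * (n * x * n⁻¹) * u⁻¹
    have e : u * (n * x * n⁻¹) * u⁻¹ = n * (⁅n⁻¹, u⁆ * (u * x * u⁻¹) * ⁅n⁻¹, u⁆⁻¹) * n⁻¹ := by
      simp only [commutatorElement_def]; group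
    rw [e, ← hc, mul_inv_cancel_right]
  have hmap : ∀ X : Subgroup G, X ≤ A → X.map (MulAut.conj n).toMonoidHom ≤ A := fun X hXA =>
    (Subgroup.map_mono hXA).trans (Subgroup.mem_normalizer_iff_map_conj_eq.1 hn).le
  set L' := L.map (MulAut.conj n).toMonoidHom with hL'
  set L'' := L'.map (MulAut.conj n).toMonoidHom with hL''
  have hL'c : Nat.card L' = p := by rw [hL', Subgroup.card_map_of_injective (MulAut.conj n).injective, hL]
  have hL''c : Nat.card L'' = p := by rw [hL'', Subgroup.card_map_of_injective (MulAut.conj n).injective, hL'c]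
  by_contra hnL
  have h1 : L ≠ L' := fun e => hnL (Subgroup.mem_normalizer_iff_map_conj_eq.2 e.symm)
  have h2 : L' ≠ L'' := fun e => h1 (Subgroup.map_injective (MulAut.conj n).injective e)
  have h3 : L ≠ L'' := fun e => hnL (by
    have h : n * n ∈ Subgroup.normalizer (L : Set G) :=
      Subgroup.mem_normalizer_iff_map_conj_eq.2 ((Sigma.map_conj_map L n n).symm.trans e.symm)
    obtain ⟨k, hk⟩ := (hG_odd d.minSimple n)
    have : (n * n) ^ (k + 1) = n := by
      rw [← pow_two, ← pow_mul, show 2 * (k + 1) = orderOf n + 1 by omega, pow_succ, pow_orderOf_eq_one, one_mul]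
    exact this ▸ pow_mem h (k + 1))
  exact huL₀ (fix_all_of_three d.elem d.card hL hL'c hL''c hLA (hmap L hLA) (hmap L' (hmap L hLA)) h1 h3 h2
    huL (himg L hLA huL) (himg L' (hmap L hLA) (himg L hLA huL)) hL₀A)
where
  hG_odd {G : Type u} [Group G] [Finite G] (hG : Cfsg.IsMinSimpleOddOrder G) (n : G) : Odd (orderOf n) :=
    hG.1.of_dvd_nat (orderOf_dvd_natCard n)

/-- A line fixed by `N_G(A)` acts without fixed points on `M_σ`. -/
theorem line_regular {L : Subgroup G} (hLA : L ≤ A) (hL : Nat.card L = p)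
    (hNL : Subgroup.normalizer (A : Set G) ≤ Subgroup.normalizer (L : Set G)) :
    Cfsg.sigmaCore M ⊓ Subgroup.centralizer (L : Set G) = ⊥ := by
  by_contra hne
  obtain ⟨-, huniq⟩ := (S1418.result d.minSimple M d.coatom E d.compl p d.tau2 A ⟨d.le, d.elem, d.card⟩).2.2
    L hLA hL hne
  obtain ⟨H, hH, hNH⟩ := Uniq.exists_maximal_ge (MinSimple.normalizer_ne_top d.minSimple
    (fun hb : L = ⊥ => hp.out.ne_one (by rw [← hL, hb, Subgroup.card_bot]))
    (MinSimple.pSubgroup_ne_top d.minSimple (IsPGroup.of_card (n := 1) (by rw [hL, pow_one]))))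
  exact d.normalizer_not_le (hNL.trans (huniq H hH ((Subgroup.centralizer_le_normalizer _).trans hNH) ▸ hNH))

/-- A `τ₁ ∪ τ₃` element of a complement fixes a line. -/
theorem exists_fixed_line {U₀ : Subgroup G} (hU₀ : U₀ ≤ E)
    (hreg : ∀ x ∈ U₀, (orderOf x).Prime → Cfsg.PRankLE (orderOf x) 1 M →
      Cfsg.sigmaCore M ⊓ Subgroup.centralizer ({x} : Set G) = ⊥)
    {r : ℕ} [hr : Fact r.Prime] {u : G} (huU : u ∈ U₀) (hu : IsPGroup r (Subgroup.zpowers u)) :
    ∃ L : Subgroup G, L ≤ A ∧ Nat.card L = p ∧ u ∈ Subgroup.normalizer (L : Set G) := by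
  have hG := d.minSimple
  have huE : u ∈ E := hU₀ huU
  by_contra hno
  push Not at hno
  have hEA := d.compl_le_normalizer
  have huA : u ∉ Subgroup.centralizer (A : Set G) := fun hc => by
    obtain ⟨A₁, hA₁, hA₁c, -⟩ := (S1417.result hG M d.coatom p d.tau2 A ⟨d.le_M, d.elem, d.card⟩).2.2.2.2.2
    exact hno A₁ hA₁ hA₁c (Subgroup.centralizer_le_normalizer _ (Subgroup.centralizer_le hA₁ hc))
  set U := Subgroup.zpowers u with hU
  have hUE : U ≤ E := Subgroup.zpowers_le.2 huE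
  have hrp : r ≠ p := by
    rintro rfl
    exact huA (d.sylow_le_centralizer (d.le_sylow_of_le hu hUE (Subgroup.mem_zpowers u)))
  have hu1 : u ≠ 1 := fun e => huA (e ▸ one_mem _)
  obtain ⟨k, hk⟩ : ∃ k, orderOf u = r ^ k := by
    obtain ⟨k, hk⟩ := hu.exists_card_eq
    exact ⟨k, by rw [← hk, hU, Nat.card_zpowers]⟩
  obtain ⟨j, rfl⟩ : ∃ j, k = j + 1 := Nat.exists_eq_succ_of_ne_zero fun e =>
    hu1 (orderOf_eq_one_iff.1 (by rw [hk, e, pow_zero]))
  have hrσ : r ∉ Cfsg.sigma M := not_dvd_complement hG d.coatom d.compl hr.out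
    (((dvd_pow_self r (Nat.succ_ne_zero j)).trans (hk ▸ dvd_rfl)).trans (Subgroup.orderOf_dvd_natCard E huE))
  have hr1 : Cfsg.PRankLE r 1 M := by
    by_contra hr1
    have hr2 : Cfsg.PRankLE r 2 M := by
      by_contra hcon
      exact hrσ (Sigma.alpha_subset_sigma hG d.coatom ⟨hr.out, hcon⟩)
    exact huA (ComplBasics.centralizes_plane hG d.coatom d.compl d.tau2 d.le d.elem d.card hrp
      ⟨hr.out, hrσ, hr2, hr1⟩ hu hUE (Subgroup.mem_zpowers u))
  set v := u ^ r ^ j with hv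
  have hvE : v ∈ E := E.pow_mem huE _
  have hvo : orderOf v = r := by
    rw [hv, orderOf_pow' u (pow_ne_zero _ hr.out.ne_zero), hk, Nat.gcd_eq_right (pow_dvd_pow r (Nat.le_succ j)),
      Nat.pow_div (Nat.le_succ j) hr.out.pos]
    simp
  obtain ⟨A₀, hexc, -⟩ := PlaneUnique.exists_exc hG d.coatom d.le_M d.elem d.card d.tau2.2.1
  by_cases hvA : v ∈ Subgroup.centralizer (A : Set G)
  swap
  · -- `v` moves `A`
    set B := Subgroup.zpowers v with hB
    have hBc : Nat.card B = r := by rw [hB, Nat.card_zpowers, hvo]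
    have hBA : B ≤ Subgroup.normalizer (A : Set G) := Subgroup.zpowers_le.2 (hEA hvE)
    have hfix := hreg v (U₀.pow_mem huU _) (hvo ▸ hr.out) (by rwa [hvo])
    set D := ⁅A, B⁆ with hD
    have hDA : D ≤ A := CoprimeAct.commutator_le_left hBA
    have hDC : D ≤ Subgroup.centralizer (Cfsg.sigmaCore M : Set G) := by
      rw [Subgroup.le_centralizer_iff, ← Subgroup.subgroupOf_eq_top]
      refine FittingCores.eq_top_of_forall_sylow_le fun q hq => ?_
      haveI := Fact.mk hq
      refine ⟨default, fun x hx => ?_⟩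
      set Q₀ : Sylow q (Cfsg.sigmaCore M) := default with hQ₀
      by_cases hx1 : x = 1
      · rw [hx1]; exact one_mem _
      have hqσ : q ∈ Cfsg.sigma M := mem_sigma_of_dvd hq ((Q₀.isPGroup'.card_eq_or_dvd.resolve_left fun e =>
        hx1 (Subgroup.mem_bot.1 (Subgroup.card_eq_one.1 e ▸ hx))).trans (Subgroup.card_subgroup_dvd_card _))
      obtain ⟨Q, hn, hall, hQK, -⟩ := hexc.exists_core hqσ
      set Qm := (Q : Subgroup M).map M.subtype with hQm
      have hxQ : (x : G) ∈ Qm := hall ((Q₀ : Subgroup (Cfsg.sigmaCore M)).map (Cfsg.sigmaCore M).subtype)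
        ((Subgroup.map_subtype_le _).trans (sigmaCore_le M)) (Q₀.isPGroup'.map _) ⟨x, hx, rfl⟩
      have hle := FpfCentral.commutator_le (fun e : q = r => hrσ (e ▸ hqσ))
        (fun e : p = q => d.tau2.2.1 (e ▸ hqσ)) hrp.symm (Plane.p_ne_two hG d.card) hBc
        (Plane.isPGroup d.card) (Q.isPGroup'.map M.subtype) hBA
        (((Subgroup.zpowers_le.2 hvE).trans d.compl.1).trans hn) (d.le_M.trans hn)
        (le_bot_iff.1 ((inf_le_inf hQK (Plane.centralizer_zpowers v).le).trans hfix.le))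
      rw [Subgroup.mem_subgroupOf]
      exact Subgroup.mem_centralizer_iff.2 fun y hy => (Subgroup.mem_centralizer_iff.1 (hle hy) _ hxQ).symm
    have hD1 : D ≠ ⊥ := fun hb => hvA (Subgroup.le_centralizer_iff.1
      (Subgroup.commutator_eq_bot_iff_le_centralizer.1 hb) (Subgroup.mem_zpowers v))
    have huD : u ∈ Subgroup.normalizer (D : Set G) := by
      refine ComplAbelian.mem_normalizer_of_map_le fun x hx => ?_
      have hx' : u * x * u⁻¹ ∈ D.map (MulAut.conj u).toMonoidHom := ⟨x, hx, rfl⟩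
      have eA : A.map (MulAut.conj u).toMonoidHom = A := Subgroup.mem_normalizer_iff_map_conj_eq.1 (hEA huE)
      rw [hD, Subgroup.map_commutator, eA] at hx'
      refine Subgroup.commutator_mono le_rfl ?_ hx'
      rw [hB, MonoidHom.map_zpowers]
      refine Subgroup.zpowers_le.2 ?_
      show u * v * u⁻¹ ∈ B
      rw [hv, (Commute.self_pow u _).eq, mul_inv_cancel_right]
      exact Subgroup.mem_zpowers v
    obtain ⟨i, hi, hic⟩ := (Nat.dvd_prime_pow hp.out).1 (d.card ▸ Subgroup.card_dvd_of_le hDA)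
    have hi0 : i ≠ 0 := by rintro rfl; exact hD1 (Subgroup.card_eq_one.1 (by rw [hic, pow_zero]))
    rcases (show i = 1 ∨ i = 2 by omega) with rfl | rfl
    · exact hno D hDA (by rw [hic, pow_one]) huD
    · have hDeq : D = A := Subgroup.eq_of_le_of_card_ge hDA (by rw [hic, d.card])
      refine hexc.sigmaCore_ne_bot ?_
      rw [← hexc.inf_centralizer_eq_bot, eq_comm, inf_eq_left, ← hDeq]
      exact Subgroup.le_centralizer_iff.1 hDC
  -- `v` centralizes `A`
  obtain ⟨L, hL, hNL⟩ := Uniq.exists_maximal_ge (MinSimple.normalizer_ne_top hG (Plane.ne_bot (p := p) d.card)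
    (MinSimple.pSubgroup_ne_top hG (Plane.isPGroup d.card)))
  have hSL : (S : Subgroup G) ≤ L := d.sylow_le.trans (hEA.trans hNL)
  have hAL : A ≤ L := Subgroup.le_normalizer.trans hNL
  have huL : u ∈ L := hNL (hEA huE)
  have hpL : p ∈ Cfsg.sigma L := by
    refine ⟨hp.out, (d.card ▸ dvd_pow_self p two_ne_zero : p ∣ Nat.card A).trans (Subgroup.card_dvd_of_le hAL),
      S.subtype hSL, ?_⟩
    rw [Sylow.coe_subtype, Subgroup.subgroupOf_map_subtype, inf_eq_left.2 hSL]
    exact d.normalizer_sylow_le.trans hNL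
  have hpβ := hexc.maximal.not_beta L
  have hUA : U ≤ Subgroup.normalizer (A : Set G) := Subgroup.zpowers_le.2 (hEA huE)
  have hUL : U ≤ L := Subgroup.zpowers_le.2 huL
  by_cases hrL : r ∈ Cfsg.sigma L
  · obtain ⟨T, hT⟩ := (hu.comap_subtype (K := L)).exists_le_sylow
    have hUT : U ≤ (T : Subgroup L).map L.subtype := fun x hx => ⟨⟨x, hUL hx⟩, hT hx, rfl⟩
    refine huA ?_
    by_cases hrβ : r ∈ Cfsg.beta L
    · set B := Cfsg.piCoreOf (Cfsg.beta L) L with hB
      have hUB : U ≤ B := hUT.trans (Subgroup.map_mono (BetaCore.sylow_le_piCore hG hL hrβ T))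
      have hLB : L ≤ Subgroup.normalizer (B : Set G) := AxB.le_normalizer_map_subtype (Cfsg.piCore_normal _ _)
      have h1 : ⁅A, U⁆ ≤ B := (Subgroup.commutator_mono hAL hUB).trans
        (by rw [Subgroup.commutator_comm]; exact Subgroup.le_normalizer_iff_commutator_le_left.1 hLB)
      have hbot : ⁅A, U⁆ = ⊥ := le_bot_iff.1 ((le_inf (CoprimeAct.commutator_le_left hUA) h1).trans
        (Subgroup.inf_eq_bot_of_coprime (Nat.coprime_of_dvd fun t ht hdA hdB => hpβ (by
          rw [d.card] at hdA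
          exact (Nat.prime_dvd_prime_iff_eq ht hp.out).1 (ht.dvd_of_dvd_pow hdA) ▸
            MinSimple.isPi_piCoreOf t ht hdB))).le)
      exact Subgroup.le_centralizer_iff.1 (Subgroup.commutator_eq_bot_iff_le_centralizer.1 hbot)
        (Subgroup.mem_zpowers u)
    · exact Subgroup.le_centralizer_iff.1 (SigmaConj.sylow_centralizes hG hL hu
        (hUT.trans (Sigma.sylow_le_derived hG hL hrL T)) hrβ hrp.symm hpβ (Plane.isPGroup d.card) hAL hUA)
        (Subgroup.mem_zpowers u)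
  set X := Subgroup.zpowers v with hX
  have hXc : Nat.card X = r := by rw [hX, Nat.card_zpowers, hvo]
  have hvU : v ∈ U := Subgroup.pow_mem _ (Subgroup.mem_zpowers u) _
  have hAσ : A ≤ Cfsg.sigmaCore L := le_sigmaCore hG hL hpL (Plane.isPGroup d.card) hAL
  by_cases hrL1 : Cfsg.PRankLE r 1 L
  · have hUX : U ≤ Subgroup.centralizer (X : Set G) := by
      rw [hX, Plane.centralizer_zpowers]
      exact Subgroup.zpowers_le.2 (Subgroup.mem_centralizer_singleton_iff.2 (Commute.self_pow u _).eq)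
    have h := PrimeAction.centralizer_le hG hL hrL hrL1 hXc hu hUL (Subgroup.zpowers_le.2 hvU) hUX
    refine huA (Subgroup.le_centralizer_iff.1 ((le_inf hAσ ?_).trans h) (Subgroup.mem_zpowers u))
    rw [hX, Plane.centralizer_zpowers]
    exact fun a ha => Subgroup.mem_centralizer_singleton_iff.2 (Subgroup.mem_centralizer_iff.1 hvA a ha)
  -- `r ∈ τ₂(L)`
  have hrL2 : Cfsg.PRankLE r 2 L := by
    by_contra hcon
    exact hrL (Sigma.alpha_subset_sigma hG hL ⟨hr.out, hcon⟩)
  have hrτ : r ∈ Cfsg.tau2 L := ⟨hr.out, hrL, hrL2, hrL1⟩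
  obtain ⟨T, hT⟩ := (hu.comap_subtype (K := L)).exists_le_sylow
  set Tm := (T : Subgroup L).map L.subtype with hTm
  have hUT : U ≤ Tm := fun x hx => ⟨⟨x, hUL hx⟩, hT hx, rfl⟩
  obtain ⟨B, hBT, hBe, hB⟩ := ComplBasics.exists_plane_sylow hrτ T
  have hBL : B ≤ L := hBT.trans (Subgroup.map_subtype_le _)
  obtain ⟨B₀, hexcL, -⟩ := PlaneUnique.exists_exc hG hL hBL hBe hB hrL
  haveI hTab := ComplBasics.isMulCommutative_of_not_sigma hG hL hrL (T.isPGroup'.map L.subtype)
    (Subgroup.map_subtype_le _)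
  -- `L = N_G(A)`
  have hLN : L ≤ Subgroup.normalizer (A : Set G) := by
    obtain ⟨Q, hQn, hQall, -, -⟩ := hexcL.exists_core (q := p) hpL
    have hQS : (Q : Subgroup L).map L.subtype = (S : Subgroup G) :=
      S.3 (Q.isPGroup'.map L.subtype) (hQall _ hSL S.isPGroup')
    exact (hQn.trans (le_of_eq (by rw [hQS]))).trans d.normalizer_sylow_le
  -- `B ≤ E`
  have hBE : B ≤ E := by
    classical
    intro b hb
    have hbN : b ∈ Subgroup.normalizer (A : Set G) := hLN (hBL hb)
    haveI := d.elem.1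
    set Γ := Tm.subgroupOf (Subgroup.normalizer (A : Set G)) with hΓ
    haveI : IsMulCommutative Γ := .of_setLike_mul_comm fun x hx y hy => Subtype.ext (by
      exact congrArg (fun t : Tm => (t : G)) (mul_comm' (⟨_, hx⟩ : Tm) ⟨_, hy⟩))
    let gΓ : Γ := ⟨⟨u, hEA huE⟩, hUT (Subgroup.mem_zpowers u)⟩
    let bΓ : Γ := ⟨⟨b, hbN⟩, hBT hb⟩
    let φ : Γ →* MulAut A := A.normalizerMonoidHom.comp Γ.subtype
    -- the least power of `u` inducing an automorphism of order `r`
    have hex : ∃ i, u ^ r ^ i ∈ Subgroup.centralizer (A : Set G) := ⟨j, hvA⟩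
    obtain ⟨i, hi⟩ : ∃ i, Nat.find hex = i + 1 := Nat.exists_eq_succ_of_ne_zero fun e => huA (by
      simpa [e] using Nat.find_spec hex)
    have hwne : φ (gΓ ^ r ^ i) ≠ 1 := fun e => Nat.find_min hex (show i < Nat.find hex by omega) (by
      simpa [φ, gΓ, Subgroup.mem_subgroupOf] using (Subgroup.normalizerMonoidHom_ker A).le (MonoidHom.mem_ker.2 e))
    have hwr : φ (gΓ ^ r ^ i) ^ r = 1 := by
      rw [← map_pow, ← pow_mul, ← pow_succ, ← hi]
      exact MonoidHom.mem_ker.1 ((Subgroup.normalizerMonoidHom_ker A).ge (by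
        simpa [φ, gΓ, Subgroup.mem_subgroupOf] using Nat.find_spec hex))
    have hbr : φ bΓ ^ r = 1 := by
      rw [← map_pow, show bΓ ^ r = 1 from Subtype.ext (Subtype.ext (by simpa [bΓ] using hBe.2 b hb)), map_one]
    open scoped IsMulCommutative in
    obtain ⟨n, hn⟩ := pow_mem_of_no_line (p := p) (r := r) d.card φ (g := gΓ) (b := bΓ) (fun L₁ hL₁ => by
      by_contra hcon
      push Not at hcon
      refine hno (L₁.map A.subtype) (Subgroup.map_subtype_le _)
        (by rw [Subgroup.card_map_of_injective A.subtype_injective, hL₁]) (ComplAbelian.mem_normalizer_of_map_le ?_)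
      rintro _ ⟨x, hx, rfl⟩
      exact ⟨_, hcon x hx, rfl⟩) hwne hwr hbr
    rw [← map_pow, ← pow_mul] at hn
    have hd : bΓ * (gΓ ^ (r ^ i * n))⁻¹ ∈ φ.ker := by
      rw [MonoidHom.mem_ker, map_mul, map_inv, hn, mul_inv_cancel]
    have hdC : b * (u ^ (r ^ i * n))⁻¹ ∈ Subgroup.centralizer (A : Set G) := by
      simpa [φ, bΓ, gΓ, Subgroup.mem_subgroupOf] using (Subgroup.normalizerMonoidHom_ker A).le (MonoidHom.mem_ker.2 (MonoidHom.mem_ker.1 hd))
    have := E.mul_mem (d.centralizer_le hdC) (E.pow_mem huE (r ^ i * n))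
    rwa [inv_mul_cancel_right] at this
  exact UniqProp.not_rankLE (hBE.trans d.compl.1) hBe (k := 1) (by
    rw [pow_one, hB, pow_two]; exact lt_mul_of_one_lt_left hr.out.pos hr.out.one_lt) hr1

end Data

end Cfsg.Agent.OddOrder.TauTwoAb
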