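/-
An invariant cyclic subgroup of maximal order acting without fixed points on `M_σ` (BG 12.12(b)).
-/
import Cfsg.Agent.Lib.OddOrder.TauTwoLines

set_option autoImplicit false
set_option linter.style.haveILetI false
set_option linter.unusedSectionVars false

namespace Cfsg.Agent.OddOrder.TauTwoAb

open Exceptional

universe u

variable {G : Type u} [Group G] [Finite G] {p : ℕ} [hp : Fact p.Prime]

/-- An invariant line below an element lifts to an invariant cyclic subgroup of the same order. -/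
theorem exists_cyclic_lift {H L : Subgroup G} (hcop : (Nat.card H).Coprime p) (hL : Nat.card L = p)
    (hHL : H ≤ Subgroup.normalizer (L : Set G)) :
    ∀ (k : ℕ) (S : Subgroup G), IsMulCommutative S → H ≤ Subgroup.normalizer (S : Set G) → L ≤ S →
      (∃ x ∈ S, orderOf x = p ^ (k + 1) ∧ x ^ p ^ k ∈ L) →
      ∃ c ∈ S, orderOf c = p ^ (k + 1) ∧ c ^ p ^ k ∈ L ∧ H ≤ Subgroup.normalizer (Subgroup.zpowers c : Set G) := by
  intro k
  induction k with
  | zero =>
    rintro S - - - ⟨x, hx, hxo, hxL⟩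
    simp only [zero_add, pow_one, pow_zero] at hxo hxL
    refine ⟨x, hx, by simpa using hxo, by simpa using hxL, ?_⟩
    rw [Plane.zpowers_eq hL hxL fun e => hp.out.ne_one (by rw [← hxo, e, orderOf_one])]
    exact hHL
  | succ k ih =>
    rintro S hS hHS hLS ⟨x, hx, hxo, hxL⟩
    haveI := hS
    have hcommS : ∀ a ∈ S, ∀ b ∈ S, Commute a b := fun a ha b hb =>
      congrArg Subtype.val (mul_comm' (⟨a, ha⟩ : S) ⟨b, hb⟩)
    have hpow : ∀ n : ℕ, (x ^ p) ^ p ^ n = x ^ p ^ (n + 1) := fun n => by rw [← pow_mul, ← pow_succ']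
    let S' : Subgroup G :=
      { carrier := {y | ∃ s ∈ S, s ^ p = y}
        one_mem' := ⟨1, one_mem S, one_pow p⟩
        mul_mem' := by
          rintro _ _ ⟨s, hs, rfl⟩ ⟨t, ht, rfl⟩
          exact ⟨s * t, S.mul_mem hs ht, (hcommS s hs t ht).mul_pow p⟩
        inv_mem' := by
          rintro _ ⟨s, hs, rfl⟩
          exact ⟨s⁻¹, S.inv_mem hs, inv_pow s p⟩ }
    have hS'S : S' ≤ S := by rintro _ ⟨s, hs, rfl⟩; exact S.pow_mem hs p
    obtain ⟨c', ⟨y, hy, hyc⟩, hco, hcL, hHc⟩ := ih S'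
      (.of_setLike_mul_comm fun a ha b hb => hcommS a (hS'S ha) b (hS'S hb))
      (fun h hh => ComplAbelian.mem_normalizer_of_map_le (by
        rintro _ ⟨s, hs, rfl⟩
        exact ⟨h * s * h⁻¹, (Subgroup.mem_normalizer_iff.1 (hHS hh) s).1 hs, conj_pow⟩))
      (by
        intro a ha
        have hne : x ^ p ^ (k + 1) ≠ 1 := pow_ne_one_of_lt_orderOf (pow_ne_zero _ hp.out.ne_zero)
          (by rw [hxo]; exact Nat.pow_lt_pow_right hp.out.one_lt (Nat.lt_succ_self _))
        rw [← Plane.zpowers_eq hL hxL hne] at ha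
        obtain ⟨i, rfl⟩ := Subgroup.mem_zpowers_iff.1 ha
        exact S'.zpow_mem (show x ^ p ^ (k + 1) ∈ S' from ⟨x ^ p ^ k, S.pow_mem hx _, by rw [← pow_mul, ← pow_succ]⟩) i)
      ⟨x ^ p, ⟨x, hx, rfl⟩, by
        rw [orderOf_pow' x hp.out.ne_zero, hxo, Nat.gcd_eq_right (dvd_pow_self p (Nat.succ_ne_zero _)),
          pow_succ p (k + 1), Nat.mul_div_cancel _ hp.out.pos],
        by rw [hpow]; exact hxL⟩
    have hconjc : ∀ h : H, ∃ a : ℤ, c' ^ a = h * c' * (h : G)⁻¹ := fun h =>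
      Subgroup.mem_zpowers_iff.1 ((Subgroup.mem_normalizer_iff.1 (hHc h.2) c').1 (Subgroup.mem_zpowers c'))
    choose a ha using hconjc
    classical
    have := Fintype.ofFinite H
    open scoped IsMulCommutative in
    obtain ⟨Y, hY1, hY2⟩ : ∃ Y : S, (Y : G) ^ p = c' ^ Nat.card H ∧
        ∀ g : H, ∃ l ∈ L, (g : G) * Y * (g : G)⁻¹ = (Y : G) ^ a g * l := by
      let f : H → S := fun h => ⟨h * y ^ a h⁻¹ * (h : G)⁻¹,
        (Subgroup.mem_normalizer_iff.1 (hHS h.2) _).1 (S.zpow_mem hy _)⟩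
      refine ⟨∏ h, f h, ?_, fun g => ?_⟩
      · have e : ∀ h, f h ^ p = ⟨c', hyc ▸ S.pow_mem hy p⟩ := fun h => Subtype.ext (by
          have h2 : c' ^ a h⁻¹ = (h : G)⁻¹ * c' * (h : G) := by rw [ha h⁻¹]; simp
          show (h * y ^ a h⁻¹ * (h : G)⁻¹) ^ p = c'
          rw [conj_pow, ← zpow_natCast (y ^ a h⁻¹) p, ← zpow_mul, mul_comm (a h⁻¹), zpow_mul, zpow_natCast, hyc, h2]
          group)
        have e2 := Finset.prod_congr (M := S) (s₁ := Finset.univ) rfl fun h _ => e h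
        rw [Finset.prod_pow, Finset.prod_const, Finset.card_univ, ← Nat.card_eq_fintype_card] at e2
        exact congrArg Subtype.val e2
      · have hex : ∀ h : H, ∃ l : S, (l : G) ∈ L ∧
            (⟨g * (f h : G) * (g : G)⁻¹, (Subgroup.mem_normalizer_iff.1 (hHS g.2) _).1 (f h).2⟩ : S) =
              f (g * h) ^ a g * l := fun h => by
          have hmod : a h⁻¹ ≡ a (g * h)⁻¹ * a g [ZMOD orderOf c'] := by
            have h2 : c' ^ a h⁻¹ = c' ^ (a (g * h)⁻¹ * a g) := by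
              rw [zpow_mul, ha (g * h)⁻¹, conj_zpow, ha g, ha h⁻¹]
              simp [mul_assoc]
            exact zpow_eq_zpow_iff_modEq.1 h2
          obtain ⟨e, he⟩ := Int.modEq_iff_dvd.1 hmod.symm
          have hyP : y ^ (orderOf c') ∈ L := by
            rw [hco, pow_succ', pow_mul, hyc]
            exact hcL
          have hlL : (g * h : H).1 * (y ^ orderOf c') ^ e * ((g * h : H) : G)⁻¹ ∈ L :=
            (Subgroup.mem_normalizer_iff.1 (hHL (g * h).2) _).1 (L.zpow_mem hyP e)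
          refine ⟨⟨_, hLS hlL⟩, hlL, Subtype.ext ?_⟩
          show g * (h * y ^ a h⁻¹ * (h : G)⁻¹) * (g : G)⁻¹ =
            ((f (g * h) ^ a g : S) : G) * _
          rw [SubgroupClass.coe_zpow]
          show _ = (((g * h : H) : G) * y ^ a (g * h)⁻¹ * ((g * h : H) : G)⁻¹) ^ a g * _
          rw [conj_zpow, ← zpow_mul, show a h⁻¹ = a (g * h)⁻¹ * a g + (orderOf c' : ℤ) * e by rw [← he]; ring,
            zpow_add, zpow_mul, zpow_mul y (orderOf c' : ℤ), zpow_natCast]
          simp [mul_assoc]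
        choose l hlL hl using hex
        refine ⟨((∏ h, l h : S) : G), ?_, ?_⟩
        · exact Finset.prod_induction l (fun s : S => (s : G) ∈ L) (fun s t hs ht => L.mul_mem hs ht) L.one_mem
            fun h _ => hlL h
        let cg : S →* S :=
          { toFun := fun s => ⟨g * (s : G) * (g : G)⁻¹, (Subgroup.mem_normalizer_iff.1 (hHS g.2) _).1 s.2⟩
            map_one' := Subtype.ext (by simp)
            map_mul' := fun s t => Subtype.ext (by simp [mul_assoc]) }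
        have e : cg (∏ h, f h) = (∏ h, f h) ^ a g * ∏ h, l h := by
          rw [map_prod]
          refine (Finset.prod_congr rfl fun h _ => hl h).trans ?_
          rw [Finset.prod_mul_distrib, Finset.prod_zpow]
          congr 1
          exact congrArg (· ^ a g) (Equiv.prod_comp (Equiv.mulLeft g) f)
        have := congrArg (fun s : S => (s : G)) e
        exact this.trans (by simp)
    have hck : c' ^ p ^ k ≠ 1 := pow_ne_one_of_lt_orderOf (pow_ne_zero _ hp.out.ne_zero)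
      (by rw [hco]; exact Nat.pow_lt_pow_right hp.out.one_lt (Nat.lt_succ_self k))
    have hYP : (Y : G) ^ p ^ (k + 1) = (c' ^ p ^ k) ^ Nat.card H := by
      rw [pow_succ', pow_mul, hY1, ← pow_mul, ← pow_mul, mul_comm]
    have hYL : (Y : G) ^ p ^ (k + 1) ∈ L := hYP ▸ L.pow_mem hcL _
    have hYne : (Y : G) ^ p ^ (k + 1) ≠ 1 := by
      rw [hYP]
      intro e
      have ho : orderOf (c' ^ p ^ k) = p := by
        rw [orderOf_pow' c' (pow_ne_zero _ hp.out.ne_zero), hco, Nat.gcd_eq_right (pow_dvd_pow p (Nat.le_succ k)),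
          Nat.pow_div (Nat.le_succ k) hp.out.pos]
        simp
      exact hp.out.ne_one (Nat.eq_one_of_dvd_coprimes hcop.symm dvd_rfl (ho ▸ orderOf_dvd_of_pow_eq_one e))
    have hLY : L ≤ Subgroup.zpowers (Y : G) :=
      (Plane.zpowers_eq hL hYL hYne).ge.trans (Subgroup.zpowers_le.2 (Subgroup.pow_mem _ (Subgroup.mem_zpowers _) _))
    refine ⟨Y, Y.2, orderOf_eq_prime_pow hYne ?_, hYL, fun g hg => ComplAbelian.mem_normalizer_of_map_le ?_⟩
    · rw [pow_succ p (k + 1), pow_mul]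
      have h2 : orderOf ((Y : G) ^ p ^ (k + 1)) ∣ p := (Subgroup.orderOf_dvd_natCard L hYL).trans hL.dvd
      exact orderOf_dvd_iff_pow_eq_one.1 h2
    · rintro _ ⟨i, rfl⟩
      obtain ⟨l, hl, he⟩ := hY2 ⟨g, hg⟩
      show g * (Y : G) ^ i * g⁻¹ ∈ Subgroup.zpowers (Y : G)
      rw [← conj_zpow, show g * (Y : G) * g⁻¹ = _ from he]
      exact Subgroup.zpow_mem _ (Subgroup.mul_mem _ (Subgroup.zpow_mem _ (Subgroup.mem_zpowers _) _) (hLY hl)) i

namespace Data

variable {M E A : Subgroup G} {S : Sylow p G} (d : Data p M E A S)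
include d

/-- An element of `E` not fixing every line exists of prime power order if at all. -/
theorem exists_nonscalar {U₀ L₀ : Subgroup G} {u : G} (hu : u ∈ U₀) (hu₀ : u ∉ Subgroup.normalizer (L₀ : Set G)) :
    ∃ (r : ℕ) (v : G), r.Prime ∧ v ∈ U₀ ∧ IsPGroup r (Subgroup.zpowers v) ∧ v ∉ Subgroup.normalizer (L₀ : Set G) := by
  by_contra hno
  push Not at hno
  refine hu₀ ?_
  have htop : (Subgroup.normalizer (L₀ : Set G)).subgroupOf U₀ = ⊤ :=
    FittingCores.eq_top_of_forall_sylow_le fun r hr => ⟨default, fun x hx => by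
      haveI := Fact.mk hr
      refine Subgroup.mem_subgroupOf.2 (hno r (x : G) hr x.2 ?_)
      exact ((default : Sylow r U₀).isPGroup'.map U₀.subtype).to_le
        (Subgroup.zpowers_le.2 ⟨x, hx, rfl⟩)⟩
  have := (htop.symm ▸ Subgroup.mem_top (⟨u, hu⟩ : U₀) :
    (⟨u, hu⟩ : U₀) ∈ (Subgroup.normalizer (L₀ : Set G)).subgroupOf U₀)
  exact this

/-- BG 12.12(b): the regular part of a Sylow subgroup. -/
theorem exists_regular_cyclic {U₀ : Subgroup G} (hU₀ : U₀ ≤ E) (hSU : (S : Subgroup G) ≤ U₀)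
    (hreg : ∀ x ∈ U₀, (orderOf x).Prime → Cfsg.PRankLE (orderOf x) 1 M →
      Cfsg.sigmaCore M ⊓ Subgroup.centralizer ({x} : Set G) = ⊥) :
    ∃ c ∈ (S : Subgroup G), (∀ s ∈ (S : Subgroup G), s ^ orderOf c = 1) ∧
      U₀ ≤ Subgroup.normalizer (Subgroup.zpowers c : Set G) ∧
      ∀ z ∈ Subgroup.zpowers c, z ≠ 1 → Cfsg.sigmaCore M ⊓ Subgroup.centralizer ({z} : Set G) = ⊥ := by
  have hG := d.minSimple
  set Sg := (S : Subgroup G) with hSg
  haveI := d.comm
  have hcommS : ∀ a ∈ Sg, ∀ b ∈ Sg, Commute a b := fun a ha b hb =>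
    congrArg Subtype.val (mul_comm' (⟨a, ha⟩ : Sg) ⟨b, hb⟩)
  -- the exponent
  obtain ⟨x, hxe⟩ : ∃ x : Sg, orderOf x = Monoid.exponent Sg := by
    open scoped IsMulCommutative in
    exact Monoid.exists_orderOf_eq_exponent Monoid.ExponentExists.of_finite
  obtain ⟨n, hn⟩ := S.isPGroup'.exists_card_eq
  obtain ⟨k', -, hk'⟩ := (Nat.dvd_prime_pow hp.out).1 (hn ▸ orderOf_dvd_natCard x : orderOf x ∣ p ^ n)
  have hall : ∀ s ∈ Sg, s ^ p ^ k' = 1 := fun s hs => by
    have := Monoid.pow_exponent_eq_one (⟨s, hs⟩ : Sg)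
    rw [← hxe, hk'] at this
    exact congrArg Subtype.val this
  obtain ⟨k, rfl⟩ : ∃ k, k' = k + 1 := Nat.exists_eq_succ_of_ne_zero fun e => by
    subst e
    exact Plane.ne_bot (p := p) d.card (eq_bot_iff.2 fun a ha => by simpa using hall a (d.le_sylow ha))
  let W : Subgroup G :=
    { carrier := {y | ∃ s ∈ Sg, s ^ p ^ k = y}
      one_mem' := ⟨1, one_mem Sg, one_pow _⟩
      mul_mem' := by
        rintro _ _ ⟨s, hs, rfl⟩ ⟨t, ht, rfl⟩
        exact ⟨s * t, Sg.mul_mem hs ht, (hcommS s hs t ht).mul_pow _⟩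
      inv_mem' := by
        rintro _ ⟨s, hs, rfl⟩
        exact ⟨s⁻¹, Sg.inv_mem hs, inv_pow s _⟩ }
  have hWA : W ≤ A := by
    rintro _ ⟨s, hs, rfl⟩
    exact d.mem_of_pow (E.pow_mem (d.sylow_le hs) _) (by rw [← pow_mul, ← pow_succ]; exact hall s hs)
  have hWne : W ≠ ⊥ := fun e => by
    have hm : (x : G) ^ p ^ k ∈ W := ⟨x, x.2, rfl⟩
    rw [e, Subgroup.mem_bot] at hm
    have := orderOf_dvd_of_pow_eq_one hm
    rw [Subgroup.orderOf_coe, hk'] at this
    exact absurd ((Nat.pow_dvd_pow_iff_le_right hp.out.one_lt).1 this) (by omega)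
  -- the line
  obtain ⟨L, hLA, hL, hEL, hLreg, hLx⟩ : ∃ L : Subgroup G, L ≤ A ∧ Nat.card L = p ∧
      U₀ ≤ Subgroup.normalizer (L : Set G) ∧ Cfsg.sigmaCore M ⊓ Subgroup.centralizer (L : Set G) = ⊥ ∧
      ∃ y ∈ W, y ≠ 1 ∧ y ∈ L := by
    obtain ⟨i, hi, hic⟩ := (Nat.dvd_prime_pow hp.out).1 (d.card ▸ Subgroup.card_dvd_of_le hWA)
    have hi0 : i ≠ 0 := by rintro rfl; exact hWne (Subgroup.card_eq_one.1 (by rw [hic, pow_zero]))
    rcases (show i = 1 ∨ i = 2 by omega) with rfl | rfl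
    · have hW : Nat.card W = p := by rw [hic, pow_one]
      have hNW : Subgroup.normalizer (A : Set G) ≤ Subgroup.normalizer (W : Set G) := fun g hg =>
        ComplAbelian.mem_normalizer_of_map_le (by
          rintro _ ⟨s, hs, rfl⟩
          exact ⟨g * s * g⁻¹, (Subgroup.mem_normalizer_iff.1 (d.normalizer_le hg) s).1 hs, conj_pow⟩)
      obtain ⟨y, hy, hy1⟩ := Plane.exists_ne_one hW
      exact ⟨W, hWA, hW, hU₀.trans (d.compl_le_normalizer.trans hNW), d.line_regular hWA hW hNW, y, hy, hy1, hy⟩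
    · have hWA' : W = A := Subgroup.eq_of_le_of_card_ge hWA (by rw [hic, d.card])
      suffices h : ∃ L : Subgroup G, L ≤ A ∧ Nat.card L = p ∧ U₀ ≤ Subgroup.normalizer (L : Set G) ∧
          Cfsg.sigmaCore M ⊓ Subgroup.centralizer (L : Set G) = ⊥ by
        obtain ⟨L, hLA, hL, hEL, hreg'⟩ := h
        obtain ⟨y, hy, hy1⟩ := Plane.exists_ne_one hL
        exact ⟨L, hLA, hL, hEL, hreg', y, hWA' ▸ hLA hy, hy1, hy⟩
      by_cases hsc : ∀ u ∈ U₀, ∀ L₀ : Subgroup G, L₀ ≤ A → Nat.card L₀ = p → u ∈ Subgroup.normalizer (L₀ : Set G)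
      · obtain ⟨A₁, hA₁, hA₁c, hA₁r⟩ :=
          (S1417.result hG M d.coatom p d.tau2 A ⟨d.le_M, d.elem, d.card⟩).2.2.2.2.2
        exact ⟨A₁, hA₁, hA₁c, fun u hu => hsc u hu A₁ hA₁ hA₁c, hA₁r⟩
      push Not at hsc
      obtain ⟨u, hu, L₀, hL₀A, -, hu₀⟩ := hsc
      obtain ⟨r, v, hr, hv, hvp, hv₀⟩ := d.exists_nonscalar hu hu₀
      haveI := Fact.mk hr
      obtain ⟨L, hLA, hL, hvL⟩ := d.exists_fixed_line hU₀ hreg hv hvp
      have hNL := d.line_invariant (d.compl_le_normalizer (hU₀ hv)) hLA hL hvL hL₀A hv₀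
      exact ⟨L, hLA, hL, hU₀.trans (d.compl_le_normalizer.trans hNL), d.line_regular hLA hL hNL⟩
  obtain ⟨_, ⟨s, hs, rfl⟩, hy1, hyL⟩ := hLx
  have hso : orderOf s = p ^ (k + 1) := orderOf_eq_prime_pow hy1 (hall s hs)
  -- a complement of `S` in `U₀`
  have hidx : ¬ p ∣ (Sg.subgroupOf U₀).index := fun h => S.not_dvd_index
    (h.trans (Sg.relIndex_dvd_index_of_le hSU))
  haveI : (Sg.subgroupOf U₀).Normal :=
    (Subgroup.normal_subgroupOf_iff_le_normalizer hSU).2 (hU₀.trans d.compl_le_normalizer_sylow)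
  obtain ⟨K, hK⟩ := Subgroup.exists_right_complement'_of_coprime
    (show (Nat.card (Sg.subgroupOf U₀)).Coprime (Sg.subgroupOf U₀).index by
      rw [Nat.card_congr (Subgroup.subgroupOfEquivOfLe hSU).toEquiv, hn]
      exact (hp.out.coprime_iff_not_dvd.2 hidx).pow_left n)
  set H := K.map U₀.subtype with hH
  have hHU : H ≤ U₀ := Subgroup.map_subtype_le _
  have hcop : (Nat.card H).Coprime p := by
    rw [hH, Subgroup.card_map_of_injective U₀.subtype_injective, ← hK.symm.index_eq_card]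
    exact (hp.out.coprime_iff_not_dvd.2 hidx).symm
  obtain ⟨c, hcS, hco, hcL, hHc⟩ := exists_cyclic_lift hcop hL (hHU.trans hEL) k Sg d.comm
    ((hHU.trans hU₀).trans d.compl_le_normalizer_sylow) (hLA.trans d.le_sylow) ⟨s, hs, hso, hyL⟩
  have hcne : c ^ p ^ k ≠ 1 := pow_ne_one_of_lt_orderOf (pow_ne_zero _ hp.out.ne_zero)
    (by rw [hco]; exact Nat.pow_lt_pow_right hp.out.one_lt (Nat.lt_succ_self k))
  refine ⟨c, hcS, fun t ht => by rw [hco]; exact hall t ht, fun e he => ?_, fun z hz hz1 => ?_⟩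
  · obtain ⟨⟨⟨a, ha⟩, ⟨b, hb⟩⟩, hab⟩ := hK.2 ⟨e, he⟩
    have he' : e = (a : G) * b := (congrArg Subtype.val hab).symm
    rw [he']
    refine mul_mem ?_ (hHc ⟨b, hb, rfl⟩)
    exact Subgroup.centralizer_le_normalizer _ (Subgroup.mem_centralizer_iff.2 fun t ht =>
      (hcommS t (Subgroup.zpowers_le.2 hcS ht) _ ha).eq)
  -- a power of `z` generates `L`
  obtain ⟨w, hwz, hwo⟩ : ∃ w ∈ Subgroup.zpowers z, orderOf w = p := by
    have hzc := Subgroup.orderOf_dvd_natCard _ hz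
    rw [Nat.card_zpowers, hco] at hzc
    obtain ⟨i, -, hi⟩ := (Nat.dvd_prime_pow hp.out).1 hzc
    obtain ⟨i, rfl⟩ := Nat.exists_eq_succ_of_ne_zero (fun e : i = 0 =>
      hz1 (orderOf_eq_one_iff.1 (by rw [hi, e, pow_zero])))
    refine ⟨z ^ p ^ i, Subgroup.pow_mem _ (Subgroup.mem_zpowers z) _, ?_⟩
    rw [orderOf_pow' z (pow_ne_zero _ hp.out.ne_zero), hi, Nat.gcd_eq_right (pow_dvd_pow p (Nat.le_succ i)),
      Nat.pow_div (Nat.le_succ i) hp.out.pos]
    simp
  have hw1 : w ≠ 1 := fun e => hp.out.ne_one (by rw [← hwo, e, orderOf_one])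
  have hwL : w ∈ L := by
    set C := A ⊓ Subgroup.zpowers c with hC
    have hwC : w ∈ C := ⟨d.mem_of_pow (d.sylow_le (Subgroup.zpowers_le.2 hcS (Subgroup.zpowers_le.2 hz hwz)))
      (hwo ▸ pow_orderOf_eq_one w), Subgroup.zpowers_le.2 hz hwz⟩
    have hLC : L ≤ C := le_inf hLA ((Plane.zpowers_eq hL hcL hcne).ge.trans
      (Subgroup.zpowers_le.2 (Subgroup.pow_mem _ (Subgroup.mem_zpowers c) _)))
    haveI : IsCyclic C := isCyclic_of_injective (Subgroup.inclusion (inf_le_right : C ≤ Subgroup.zpowers c))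
      (Subgroup.inclusion_injective _)
    have hcard : Nat.card C ∣ p := by
      rw [← IsCyclic.exponent_eq_card]
      exact Monoid.exponent_dvd_of_forall_pow_eq_one fun t => Subtype.ext (d.elem.2 t t.2.1)
    exact (Subgroup.eq_of_le_of_card_ge hLC ((Nat.le_of_dvd hp.out.pos hcard).trans hL.ge)).ge hwC
  refine le_bot_iff.1 (le_trans ?_ hLreg.le)
  refine le_inf inf_le_left ?_
  rw [← Plane.zpowers_eq hL hwL hw1, Plane.centralizer_zpowers, ← Plane.centralizer_zpowers z]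
  exact inf_le_right.trans (Subgroup.centralizer_le (by simpa using hwz))

end Data

end Cfsg.Agent.OddOrder.TauTwoAb
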