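/-
A prime of τ₂(M) with nonabelian Sylow subgroups in G (BG Theorem 12.7).
-/
import Cfsg.Agent.Lib.OddOrder.TauTwo

set_option autoImplicit false
set_option linter.style.haveILetI false
set_option linter.unusedSectionVars false

namespace Cfsg.Agent.OddOrder.TauTwo

open scoped commutatorElement Pointwise
open Exceptional

universe u

variable {G : Type u} [Group G] [Finite G] {p : ℕ} [hp : Fact p.Prime]

/-- `O_r(M)` for `r ∉ σ(M)` is trivial unless `r ∈ τ₂(M)`. -/
theorem pCoreOf_eq_bot (hG : Cfsg.IsMinSimpleOddOrder G) {M : Subgroup G} (hM : IsCoatom M) {r : ℕ}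
    [hr : Fact r.Prime] (hσ : r ∉ Cfsg.sigma M) (hτ : r ∉ Cfsg.tau2 M) : Cfsg.pCoreOf r M = ⊥ := by
  by_contra hne
  set Y := Cfsg.pCoreOf r M with hY
  have hYp : IsPGroup r Y := FitOf.isPGroup_pCoreOf r M
  have hYM : Y ≤ M := FitOf.pCoreOf_le r M
  have hr2 : Cfsg.PRankLE r 2 M := by
    by_contra h
    exact hσ (Sigma.alpha_subset_sigma hG hM ⟨hr.out, h⟩)
  have hr1 : Cfsg.PRankLE r 1 M := not_not.1 fun h => hτ ⟨hr.out, hσ, hr2, h⟩
  haveI hcyc : IsCyclic Y := by
    refine CyclicSylow.isCyclic_of_isPGroup (hG.1.of_dvd_nat Y.card_subgroup_dvd_card) hYp fun B hB hBp => ?_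
    haveI := hB
    have := hr1 (B.map (Subgroup.inclusion hYM)) inferInstance (by
      rintro _ ⟨b, hb, rfl⟩
      rw [← map_pow, hBp b hb, map_one])
    rwa [Subgroup.card_map_of_injective (Subgroup.inclusion_injective _)] at this
  haveI : Nontrivial Y := (Subgroup.nontrivial_iff_ne_bot Y).2 hne
  obtain ⟨n, hn, hn'⟩ := hYp.nontrivial_iff_card.1 inferInstance
  obtain ⟨z, hz⟩ := exists_prime_orderOf_dvd_card' (G := ↥Y) r (hn' ▸ dvd_pow_self r hn.ne')
  set x : G := (z : G) with hx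
  have hxr : orderOf x = r := by rw [hx, Subgroup.orderOf_coe, hz]
  set X := Subgroup.zpowers x with hX
  have hXc : Nat.card X = r := by rw [hX, Nat.card_zpowers, hxr]
  have hx1 : x ≠ 1 := fun e => hr.out.ne_one (by rw [← hxr, e, orderOf_one])
  have hMX : M ≤ Subgroup.normalizer (X : Set G) := fun m hm => by
    rw [Subgroup.mem_normalizer_iff_map_conj_eq]
    have hXY : X ≤ Y := Subgroup.zpowers_le.2 z.2
    have hmY : X.map (MulAut.conj m).toMonoidHom ≤ Y := by
      rintro _ ⟨y, hy, rfl⟩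
      exact (Subgroup.mem_normalizer_iff.1 (FitOf.le_normalizer_pCoreOf r M hm) y).1 (hXY hy)
    have hc' : Nat.card (X.map (MulAut.conj m).toMonoidHom) = r := by
      rw [Subgroup.card_map_of_injective (MulAut.conj m).injective, hXc]
    have hne' := inf_ne_bot_of_cyclic hcyc hYp hmY hXY
      (fun e => hr.out.ne_one (by rw [← hc', e, Subgroup.card_bot]))
      (fun e => hx1 (Subgroup.zpowers_eq_bot.1 e))
    obtain ⟨⟨w, hw⟩, hw1⟩ := Subgroup.ne_bot_iff_exists_ne_one.1 hne'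
    have hw1' : w ≠ 1 := fun e => hw1 (Subtype.ext e)
    exact (Plane.zpowers_eq (p := r) hc' hw.1 hw1').symm.trans (Plane.zpowers_eq (p := r) hXc hw.2 hw1')
  have hNX : Subgroup.normalizer (X : Set G) ≤ M := ((hM.le_iff_eq (MinSimple.normalizer_ne_top hG
    (fun e => hx1 (Subgroup.zpowers_eq_bot.1 e))
    (MinSimple.pSubgroup_ne_top hG (IsPGroup.of_card (n := 1) (by rw [hXc, pow_one]))))).1 hMX).le
  exact (S1409.result hG M hM r hσ X hXc hNX).1.2 hr1

variable {M E A : Subgroup G}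

/-- BG Theorem 12.7. -/
theorem structure_nonabelian (hG : Cfsg.IsMinSimpleOddOrder G) (hM : IsCoatom M)
    (hE : Cfsg.IsComplIn E (Cfsg.sigmaCore M) M) (hp' : p ∈ Cfsg.tau2 M)
    (hS : ∀ S : Sylow p G, ¬ IsMulCommutative (S : Subgroup G))
    (hAE : A ≤ E) (hAe : Cfsg.IsElementaryAbelian p A) (hA : Nat.card A = p ^ 2) :
    Cfsg.tau2 M = {p} ∧
      (Nat.card ↥(A ⊓ Subgroup.centralizer (Cfsg.sigmaCore M : Set G)) = p ∧
        Cfsg.fittingOf M = Cfsg.sigmaCore M ⊔ (A ⊓ Subgroup.centralizer (Cfsg.sigmaCore M : Set G))) ∧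
      ∀ a ∈ A, a ∉ A ⊓ Subgroup.centralizer (Cfsg.sigmaCore M : Set G) →
        Cfsg.sigmaCore M ⊓ Subgroup.centralizer ({a} : Set G) = ⊥ ∧
          ¬ Subgroup.centralizer ({a} : Set G) ≤ M := by
  obtain ⟨-, hpσ, hr2, hr1⟩ := id hp'
  have hAM : A ≤ M := hAE.trans hE.1
  obtain ⟨A₀, h, -⟩ := PlaneUnique.exists_exc hG hM hAM hAe hA hpσ
  haveI := hAe.1
  have hmax := h.maximal
  obtain ⟨P, hP⟩ := h.exists_sylow
  set Pm := (P : Subgroup M).map M.subtype with hPm
  obtain ⟨S, hPS⟩ := (P.isPGroup'.map M.subtype).exists_le_sylow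
  obtain ⟨hPC, hom⟩ := h.sylow_central P hP
  have hPab : IsMulCommutative Pm := by
    have := h.sylow_abelian P hP
    haveI := this
    exact inferInstanceAs (IsMulCommutative ((P : Subgroup M).map M.subtype))
  have hSM : (S : Subgroup G) ⊓ M = Pm :=
    Sigma.sylow_map_eq (S.isPGroup'.to_le inf_le_left) inf_le_right (le_inf hPS (Subgroup.map_subtype_le _))
  have hlt : Pm < (S : Subgroup G) := lt_of_le_of_ne hPS fun e => hS S (e ▸ hPab)
  obtain ⟨u, huS, huN, huP⟩ := LocalFactor.exists_normalizing S.isPGroup' hlt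
  have huM : u ∉ M := fun hu => huP (hSM.le ⟨huS, hu⟩)
  have huA : u ∈ Subgroup.normalizer (A : Set G) := ComplAbelian.mem_normalizer_of_map_le fun a ha =>
    hom _ ((Subgroup.mem_normalizer_iff.1 huN a).1 (hP ha)) (by rw [conj_pow, hAe.2 a ha, mul_one, mul_inv_cancel])
  set N := (S : Subgroup G) ⊓ Subgroup.normalizer (A : Set G) with hNdef
  have hAN : A ≤ N := le_inf (hP.trans hPS) Subgroup.le_normalizer
  have hconj : ∀ g ∈ Subgroup.normalizer (A : Set G), A ≤ M.map (MulAut.conj g).toMonoidHom := fun g hg a ha => by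
    obtain ⟨b, hb, he⟩ := (Subgroup.mem_normalizer_iff_map_conj_eq.1 hg).ge ha
    exact ⟨b, hAM hb, he⟩
  have hA₀u : ¬ A₀ ≤ Subgroup.centralizer ({u} : Set G) := fun hle => huM (h.centralizer_line_le
    (Subgroup.mem_centralizer_iff.2 fun b hb => Subgroup.mem_centralizer_singleton_iff.1 (hle hb)))
  -- the lines other than `A₀`
  have hlines : ∀ a ∈ A, a ∉ A₀ → Cfsg.sigmaCore M ⊓ Subgroup.centralizer ({a} : Set G) = ⊥ ∧
      (a ∈ Subgroup.centralizer ({u} : Set G) ∨ ∃ b ∈ A₀, ∃ v : G, v ∉ M ∧ a = v * b * v⁻¹) := by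
    intro a ha haA₀
    have ha1 : a ≠ 1 := fun e => haA₀ (e ▸ one_mem _)
    by_cases hau : a ∈ Subgroup.centralizer ({u} : Set G)
    · refine ⟨h.inf_centralizer_fixed huM (hconj u huA) ha ha1 (Subgroup.centralizer_le_normalizer _ ?_), Or.inl hau⟩
      rw [Plane.centralizer_zpowers, Subgroup.mem_centralizer_singleton_iff]
      exact (Subgroup.mem_centralizer_singleton_iff.1 hau).symm
    obtain ⟨b, hb, hb1, i, hab⟩ := line_conj hAe hA (S.isPGroup'.to_le inf_le_left) hAN inf_le_right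
      (⟨huS, huA⟩ : u ∈ N) h.line_le h.line_card ha hau hA₀u
    have hvM : u ^ i ∉ M := fun hv => haA₀ (by
      have hvP : u ^ i ∈ Pm := hSM.le ⟨Subgroup.zpow_mem _ huS i, hv⟩
      rw [hab, ← Subgroup.mem_centralizer_iff.1 (hPC hvP) b (h.line_le hb), mul_inv_cancel_right]
      exact hb)
    refine ⟨?_, Or.inr ⟨b, hb, u ^ i, hvM, hab⟩⟩
    have hm := h.inf_centralizer_moved (g := (u ^ i)⁻¹) (fun e => hvM (by simpa using M.inv_mem e))
      (hconj _ (inv_mem (Subgroup.zpow_mem _ huA i)))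
    rw [inv_inv] at hm
    have hc : Nat.card (A₀.map (MulAut.conj (u ^ i)).toMonoidHom) = p := by
      rw [Subgroup.card_map_of_injective (MulAut.conj (u ^ i)).injective, h.line_card]
    rwa [← Plane.zpowers_eq hc ⟨b, hb, hab.symm⟩ ha1, Plane.centralizer_zpowers] at hm
  -- `A₀` centralizes `M_σ`
  have hσA₀ : Cfsg.sigmaCore M ≤ Subgroup.centralizer (A₀ : Set G) := by
    refine Plane.le_of_fixed hAe hA (hAM.trans (le_normalizer_sigmaCore M)) (coprime_sigmaCore hA hpσ)
      fun a ha ha1 => ?_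
    by_cases haA₀ : a ∈ A₀
    · rw [← Plane.centralizer_zpowers, Plane.zpowers_eq h.line_card haA₀ ha1]
      exact inf_le_right
    · rw [(hlines a ha haA₀).1]
      exact bot_le
  have hinf : A ⊓ Subgroup.centralizer (Cfsg.sigmaCore M : Set G) = A₀ := by
    refine le_antisymm (fun a ha => ?_) (le_inf h.line_le (Subgroup.le_centralizer_iff.1 hσA₀))
    by_contra haA₀
    refine h.sigmaCore_ne_bot (le_bot_iff.1 fun y hy => ?_)
    rw [← (hlines a ha.1 haA₀).1]
    exact ⟨hy, Subgroup.mem_centralizer_singleton_iff.2 (Subgroup.mem_centralizer_iff.1 ha.2 y hy)⟩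
  have hnotC : ∀ a ∈ A, a ∉ A₀ → ¬ Subgroup.centralizer ({a} : Set G) ≤ M := by
    intro a ha haA₀ hle
    rcases (hlines a ha haA₀).2 with hau | ⟨b, hb, v, hvM, hab⟩
    · exact huM (hle (Subgroup.mem_centralizer_singleton_iff.2 (Subgroup.mem_centralizer_singleton_iff.1 hau).symm))
    obtain ⟨q, hq⟩ := exists_sigma hG hM fun e => Plane.ne_bot (p := p) hA (le_bot_iff.1 (e ▸ hAM))
    haveI := Fact.mk hq.1
    obtain ⟨Q, -, -, hQK, -⟩ := h.exists_core hq
    refine conj_not_le hG hM hq Q hvM ?_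
    rintro _ ⟨y, hy, rfl⟩
    refine hle (Subgroup.mem_centralizer_singleton_iff.2 ?_)
    have hcy : b * y = y * b := Subgroup.mem_centralizer_iff.1 (hσA₀ (hQK hy)) b hb
    simp only [MulEquiv.coe_toMonoidHom, MulAut.conj_apply]
    rw [hab]
    calc v * y * v⁻¹ * (v * b * v⁻¹) = v * (y * b) * v⁻¹ := by group
      _ = v * (b * y) * v⁻¹ := by rw [hcy]
      _ = v * b * v⁻¹ * (v * y * v⁻¹) := by group
  have hτ2 : Cfsg.tau2 M = {p} := by
    refine Set.eq_singleton_iff_unique_mem.2 ⟨hp', fun q hq => by_contra fun hqp => ?_⟩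
    haveI := Fact.mk hq.1
    obtain ⟨B, hBE, hBe, hB⟩ := exists_plane hG hM hE hq
    obtain ⟨B₀, hb', -⟩ := PlaneUnique.exists_exc hG hM (hBE.trans hE.1) hBe hB hq.2.1
    have hEA := h.compl_normalizes hE hAE
    have hEB := hb'.compl_normalizes hE hBE
    have hBA : B ≤ Subgroup.centralizer (A : Set G) := fun b hb => Subgroup.mem_centralizer_iff.2 fun a ha =>
      AxB.commute_of_coprime (hAE.trans hEB) (hBE.trans hEA)
        (by rw [hA, hB]; exact Nat.coprime_pow_primes 2 2 hp.out hq.1 (Ne.symm hqp)) ha hb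
    have hqB : q ∣ Nat.card B := hB ▸ dvd_pow_self q two_ne_zero
    obtain ⟨R, hR, hBR⟩ := Inv.exists_max (H := (⊤ : Subgroup G)) (π := {q})
      (Inv.mem_inv_iff.2 ⟨Plane.isPGroup hB, hAE.trans hEB⟩)
    obtain ⟨hRq, -, -⟩ := Inv.mem_max_iff.1 hR
    obtain ⟨S₁, hAS₁, hS₁⟩ := hmax.exists_sylow_le_derived hG hqp
      (hqB.trans (Subgroup.card_dvd_of_le hBA)) hR
    have hR1 : R ≠ ⊥ := fun e => Plane.ne_bot (p := q) hB (le_bot_iff.1 (e ▸ hBR))
    have hBsub : Cfsg.IsElementaryAbelian q (B.subgroupOf R) :=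
      ⟨.of_setLike_mul_comm fun a ha b hb => by
        haveI := hBe.1
        have h' := mul_comm' (⟨(a : G), ha⟩ : B) ⟨(b : G), hb⟩
        refine Subtype.ext ?_
        exact congrArg (fun t : B => (t : G)) h',
        fun a ha => Subtype.ext (by simpa using hBe.2 a ha)⟩
    have hRn : Cfsg.IsNarrow q R := by
      refine NarrowBasics.isNarrow_of_maximal_pair (Plane.p_ne_two hG hB) hRq hBsub
        (by rw [Nat.card_congr (Subgroup.subgroupOfEquivOfLe hBR).toEquiv, hB]) fun C hC hle => ?_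
      have hCe : Cfsg.IsElementaryAbelian q (C.map R.subtype) := by
        haveI := hC.1
        refine ⟨inferInstance, ?_⟩
        rintro _ ⟨c, hc, rfl⟩
        rw [← map_pow, hC.2 c hc, map_one]
      have heq := hb'.maximal.max _ hCe fun b hb => ⟨⟨b, hBR hb⟩, hle hb, rfl⟩
      refine le_antisymm (fun c hc => ?_) hle
      exact Subgroup.mem_subgroupOf.2 (heq.le ⟨c, hc, rfl⟩)
    have hS₁C : (S₁ : Subgroup G) ≤ Subgroup.centralizer (B : Set G) :=
      (le_centralizer_of_narrow hG hqp hRq hR1 hRn S₁.isPGroup' hS₁).trans (Subgroup.centralizer_le hBR)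
    have hS₁M : (S₁ : Subgroup G) ≤ M := hS₁C.trans hb'.centralizer_le
    obtain ⟨P₁, hP₁⟩ := (S₁.isPGroup'.comap_subtype (K := M)).exists_le_sylow
    have heq : (P₁ : Subgroup M).map M.subtype = (S₁ : Subgroup G) :=
      S₁.3 (P₁.isPGroup'.map _) fun x hx => ⟨⟨x, hS₁M hx⟩, hP₁ hx, rfl⟩
    haveI := h.sylow_abelian P₁ (heq ▸ hAS₁)
    refine hS S₁ ?_
    rw [← heq]
    infer_instance
  refine ⟨hτ2, ⟨hinf.symm ▸ h.line_card, ?_⟩, fun a ha hne => ⟨(hlines a ha (hinf ▸ hne)).1, hnotC a ha (hinf ▸ hne)⟩⟩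
  -- the Fitting subgroup
  rw [hinf]
  refine le_antisymm (FitOf.fittingOf_le_iff.2 fun r hr => ?_) (sup_le ?_ ?_)
  · haveI := Fact.mk hr
    have hYM := FitOf.pCoreOf_le r M
    by_cases hrσ : r ∈ Cfsg.sigma M
    · exact (le_sigmaCore hG hM hrσ (FitOf.isPGroup_pCoreOf r M) hYM).trans le_sup_left
    by_cases hrp : r = p
    · subst hrp
      refine le_trans ?_ le_sup_right
      have hYP : Cfsg.pCoreOf r M ≤ Pm := fun y hy => by
        obtain ⟨y', hy', rfl⟩ := hy
        exact ⟨y', FittingCores.pCore_le_sylow P hy', rfl⟩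
      have hYC : Cfsg.pCoreOf r M ≤ Subgroup.centralizer (Cfsg.sigmaCore M : Set G) := fun y hy =>
        Subgroup.mem_centralizer_iff.2 fun c hc => (AxB.commute_of_coprime
          (hYM.trans (le_normalizer_sigmaCore M))
          ((sigmaCore_le M).trans (FitOf.le_normalizer_pCoreOf r M)) (by
            obtain ⟨k, hk⟩ := (FitOf.isPGroup_pCoreOf r M).exists_card_eq
            rw [hk]
            exact (hr.coprime_iff_not_dvd.2 fun hd => hrσ (mem_sigma_of_dvd hr hd)).pow_left k) hy hc).symm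
      intro y hy
      have hyA : y ^ r = 1 := by
        obtain ⟨k, hk⟩ := IsPGroup.iff_orderOf.1 (FitOf.isPGroup_pCoreOf r M) ⟨y, hy⟩
        rw [Subgroup.orderOf_mk] at hk
        by_contra hy1
        have hk2 : 2 ≤ k := by
          by_contra hlt
          exact hy1 (orderOf_dvd_iff_pow_eq_one.1 (hk ▸ (pow_dvd_pow r (by omega : k ≤ 1)).trans (pow_one r).dvd))
        set c := y ^ r ^ (k - 2) with hc
        have hco : orderOf c = r ^ 2 := by
          rw [hc, orderOf_pow_of_dvd (pow_ne_zero _ hr.ne_zero) (hk ▸ pow_dvd_pow r (by omega)), hk,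
            Nat.pow_div (by omega) hr.pos, show k - (k - 2) = 2 by omega]
        have hcY : c ∈ Cfsg.pCoreOf r M := Subgroup.pow_mem _ hy _
        have hcp : (c ^ r) ^ r = 1 := by rw [← pow_mul, ← pow_two, ← hco, pow_orderOf_eq_one]
        have hc1 : c ^ r ≠ 1 := fun e => by
          have := orderOf_dvd_of_pow_eq_one e
          rw [hco] at this
          have := Nat.le_of_dvd hr.pos this
          nlinarith [hr.one_lt]
        have hcS := pow_central hG hmax S (hP.trans hPS) (hPS (hYP hcY)) (hPC (hYP hcY)) hcp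
        have hcA₀ : c ^ r ∈ A₀ := hinf.le ⟨hom _ (Subgroup.pow_mem _ (hYP hcY) r) hcp,
          Subgroup.pow_mem _ (hYC hcY) r⟩
        refine huP (hSM.le ⟨huS, h.centralizer_line_le ?_⟩)
        rw [← Plane.zpowers_eq h.line_card hcA₀ hc1, Plane.centralizer_zpowers,
          Subgroup.mem_centralizer_singleton_iff]
        exact Subgroup.mem_centralizer_iff.1 hcS u huS
      exact hinf.le ⟨hom y (hYP hy) hyA, hYC hy⟩
    · have hrτ : r ∉ Cfsg.tau2 M := fun hτ => hrp (Set.mem_singleton_iff.1 (hτ2 ▸ hτ))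
      rw [pCoreOf_eq_bot hG hM hrσ hrτ]
      exact bot_le
  · haveI := h.isNilpotent
    exact FitOf.le_fittingOf (sigmaCore_le M) (le_normalizer_sigmaCore M)
  · haveI : Group.IsNilpotent A₀ := (IsPGroup.of_card (n := 1) (by rw [h.line_card, pow_one]) : IsPGroup p A₀).isNilpotent
    refine FitOf.le_fittingOf (h.line_le.trans hAM) ?_
    refine (Compl.sup_eq hE).ge.trans (sup_le ?_ (hσA₀.trans (Subgroup.centralizer_le_normalizer _)))
    rw [← hinf]
    exact (le_inf (h.compl_normalizes hE hAE) ((hE.1.trans (le_normalizer_sigmaCore M)).trans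
      (FitOf.normalizer_le_normalizer_centralizer _))).trans Subgroup.inf_normalizer_le_normalizer_inf

end Cfsg.Agent.OddOrder.TauTwo
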