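/-
The τ₂(M)-core of a complement and the regular subgroup of full exponent (BG 12.12).
-/
import Cfsg.Agent.Lib.OddOrder.TauTwoCyclic
import Cfsg.Agent.Lib.OddOrder.TauTwoNonabelian
import Cfsg.Agent.Lib.Solvable.Gaschutz

set_option autoImplicit false
set_option linter.style.haveILetI false
set_option linter.unusedSectionVars false

namespace Cfsg.Agent.OddOrder.TauTwoAb

open Exceptional

universe u

variable {G : Type u} [Group G] [Finite G] {M E : Subgroup G}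

/-- No element of prime order and rank one of `E` has a fixed point on `M_σ`. -/
abbrev Regular (M E : Subgroup G) : Prop :=
  ∀ x ∈ E, (orderOf x).Prime → Cfsg.PRankLE (orderOf x) 1 M →
    Cfsg.sigmaCore M ⊓ Subgroup.centralizer ({x} : Set G) = ⊥

theorem exists_prime_power_of_dvd {e : G} {q k : ℕ} (hk : q ^ k ∣ orderOf e) :
    ∃ f ∈ Subgroup.zpowers e, orderOf f = q ^ k := by
  obtain ⟨m, hm⟩ := hk
  refine ⟨e ^ m, Subgroup.pow_mem _ (Subgroup.mem_zpowers e) _, ?_⟩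
  have hm0 : m ≠ 0 := fun h => (orderOf_pos e).ne' (by rw [hm, h, mul_zero])
  rw [orderOf_pow' e hm0, hm, Nat.gcd_eq_right (dvd_mul_left m _), Nat.mul_div_cancel _ (Nat.pos_of_ne_zero hm0)]

theorem mem_tau2 (hG : Cfsg.IsMinSimpleOddOrder G) (hM : IsCoatom M) (hE : Cfsg.IsComplIn E (Cfsg.sigmaCore M) M)
    {U : Subgroup G} (hUE : U ≤ E) (hreg : Regular M U) {e x : G} (he : e ∈ U) (hx : x ∈ Cfsg.sigmaCore M) (hx1 : x ≠ 1)
    (hex : Commute e x) {q : ℕ} (hq : q.Prime) (hqe : q ∣ orderOf e) : q ∈ Cfsg.tau2 M := by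
  haveI := Fact.mk hq
  have hqσ : q ∉ Cfsg.sigma M :=
    not_dvd_complement hG hM hE hq (hqe.trans (Subgroup.orderOf_dvd_natCard E (hUE he)))
  refine ⟨hq, hqσ, ?_, fun hr1 => hx1 ?_⟩
  · by_contra hcon
    exact hqσ (Sigma.alpha_subset_sigma hG hM ⟨hq, hcon⟩)
  obtain ⟨f, hf, hfo⟩ := exists_prime_power_of_dvd (e := e) (q := q) (k := 1) (by rwa [pow_one])
  rw [pow_one] at hfo
  have hb := hreg f (Subgroup.zpowers_le.2 he hf) (hfo ▸ hq) (hfo ▸ hr1)
  obtain ⟨i, rfl⟩ := Subgroup.mem_zpowers_iff.1 hf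
  exact Subgroup.mem_bot.1 (hb ▸ ⟨hx, Subgroup.mem_centralizer_singleton_iff.2 (hex.zpow_left i).symm.eq⟩)

/-- Equality of exponents from prime power orders. -/
theorem exponent_eq {E₀ : Subgroup G} (hle : E₀ ≤ E)
    (h : ∀ q : ℕ, q.Prime → ∀ f ∈ E, (∃ k, orderOf f = q ^ k) → f ^ Monoid.exponent E₀ = 1) :
    Monoid.exponent E₀ = Monoid.exponent E := by
  refine Nat.dvd_antisymm (Monoid.exponent_dvd_of_forall_pow_eq_one fun a => Subtype.ext ?_)
    (Monoid.exponent_dvd_of_forall_pow_eq_one fun e => Subtype.ext ?_)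
  · exact (congrArg Subtype.val (Monoid.pow_exponent_eq_one (⟨(a : G), hle a.2⟩ : E)) :)
  show (e : G) ^ Monoid.exponent E₀ = 1
  refine orderOf_dvd_iff_pow_eq_one.1 ((Nat.dvd_iff_prime_pow_dvd_dvd _ _).2 fun q k hq hk => ?_)
  obtain ⟨f, hf, hfo⟩ := exists_prime_power_of_dvd hk
  rw [← hfo]
  exact orderOf_dvd_of_pow_eq_one (h q hq f (Subgroup.zpowers_le.2 e.2 hf) ⟨k, hfo⟩)

/-- Exponents modulo a normal subgroup with complement `H`. -/
theorem pow_mem_of_decomp {K H E₀ : Subgroup G} (hn : E ≤ Subgroup.normalizer (K : Set G)) (hKE : K ≤ E)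
    (hHE : H ≤ E) (hH₀ : H ≤ E₀) {a h : G} (ha : a ∈ K) (hh : h ∈ H) :
    (a * h) ^ Monoid.exponent E₀ ∈ K := by
  haveI : (K.subgroupOf E).Normal := (Subgroup.normal_subgroupOf_iff_le_normalizer hKE).2 hn
  set m := QuotientGroup.mk' (K.subgroupOf E) with hm
  have e : m ((⟨a, hKE ha⟩ * ⟨h, hHE hh⟩ : E) ^ Monoid.exponent E₀) = 1 := by
    rw [map_pow, map_mul, show m ⟨a, hKE ha⟩ = 1 from (QuotientGroup.eq_one_iff _).2 (Subgroup.mem_subgroupOf.2 ha),
      one_mul, ← map_pow, show (⟨h, hHE hh⟩ : E) ^ Monoid.exponent E₀ = 1 from Subtype.ext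
        (congrArg Subtype.val (Monoid.pow_exponent_eq_one (⟨h, hH₀ hh⟩ : E₀)) :), map_one]
  exact Subgroup.mem_subgroupOf.1 ((QuotientGroup.eq_one_iff _).1 e)

theorem eq_one_of_coprime_pow {q k : ℕ} (hq : q.Prime) {f : G} (hf : orderOf f = q ^ k) {n : ℕ} {K : Subgroup G}
    (hfn : f ^ n ∈ K) (hK : ¬ q ∣ Nat.card K) : f ^ n = 1 :=
  orderOf_eq_one_iff.1 (Nat.eq_one_of_dvd_coprimes ((hq.coprime_iff_not_dvd.2 hK).pow_left k)
    (hf ▸ orderOf_pow_dvd n) (Subgroup.orderOf_dvd_natCard K hfn))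

section Nonabelian

variable {p : ℕ} [hp : Fact p.Prime] {A : Subgroup G}
  (hG : Cfsg.IsMinSimpleOddOrder G) (hM : IsCoatom M) (hE : Cfsg.IsComplIn E (Cfsg.sigmaCore M) M)
  (hp' : p ∈ Cfsg.tau2 M) (hS : ∀ S : Sylow p G, ¬ IsMulCommutative (S : Subgroup G))
  (hAE : A ≤ E) (hAe : Cfsg.IsElementaryAbelian p A) (hA : Nat.card A = p ^ 2)

include hG hM hE hp' hS hAE hAe hA

/-- The line centralizing `M_σ` has no `p`th roots in `E`. -/
theorem no_root {x : G} (hx : x ∈ E) (hxA : x ^ p ∈ A ⊓ Subgroup.centralizer (Cfsg.sigmaCore M : Set G)) :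
    x ^ p = 1 := by
  obtain ⟨hAC, hA₀⟩ := (⟨hxA.1, hxA.2⟩ : _ ∧ _)
  by_contra hne
  obtain ⟨⟨hEA, -⟩, -, hline⟩ := S1418.result hG M hM E hE p hp' A ⟨hAE, hAe, hA⟩
  obtain ⟨A₁, hexc, -⟩ := PlaneUnique.exists_exc hG hM (hAE.trans hE.1) hAe hA hp'.2.1
  have hpp : (x ^ p) ^ p = 1 := hAe.2 _ hAC
  have hxg : IsPGroup p (Subgroup.zpowers x) := by
    obtain ⟨i, -, hi⟩ := (Nat.dvd_prime_pow hp.out).1 (orderOf_dvd_of_pow_eq_one (by rw [pow_two, pow_mul]; exact hpp) :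
      orderOf x ∣ p ^ 2)
    exact IsPGroup.of_card (n := i) (by rw [Nat.card_zpowers, hi])
  set T := Subgroup.zpowers x ⊔ A with hT
  have hTp : IsPGroup p T := hxg.to_sup_of_normal_right' (Plane.isPGroup hA) (Subgroup.zpowers_le.2 (hEA hx))
  haveI := ComplBasics.isMulCommutative_of_not_sigma hG hM hp'.2.1 hTp
    ((sup_le (Subgroup.zpowers_le.2 hx) hAE).trans hE.1)
  obtain ⟨S, hTS⟩ := hTp.exists_le_sylow
  have hxC : x ∈ Subgroup.centralizer (A : Set G) := (Subgroup.le_centralizer T).trans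
    (Subgroup.centralizer_le (le_sup_right : A ≤ T)) (Subgroup.mem_sup_left (Subgroup.mem_zpowers x))
  have hcen := TauTwo.pow_central hG hexc.maximal S (le_sup_right.trans hTS)
    (hTS (Subgroup.mem_sup_left (Subgroup.mem_zpowers x))) hxC hpp
  set L := Subgroup.zpowers (x ^ p) with hL
  have hLc : Nat.card L = p := by rw [hL, Nat.card_zpowers]; exact orderOf_eq_prime hpp hne
  obtain ⟨hCL, -⟩ := hline L (Subgroup.zpowers_le.2 hAC) hLc (fun hb => hexc.sigmaCore_ne_bot (by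
    rw [← hb, eq_comm, inf_eq_left, hL, Plane.centralizer_zpowers]
    exact fun y hy => Subgroup.mem_centralizer_singleton_iff.2 (Subgroup.mem_centralizer_iff.1 hA₀ y hy)))
  have hSM : (S : Subgroup G) ≤ M := fun s hs => hCL (by
    rw [hL, Plane.centralizer_zpowers]
    exact Subgroup.mem_centralizer_singleton_iff.2 (Subgroup.mem_centralizer_iff.1 hcen s hs))
  exact hS S (ComplBasics.isMulCommutative_of_not_sigma hG hM hp'.2.1 S.isPGroup' hSM)

theorem mem_line {e x : G} (he : e ∈ E) (hτe : ∀ q : ℕ, q.Prime → q ∣ orderOf e → q ∈ Cfsg.tau2 M)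
    (hx : x ∈ Cfsg.sigmaCore M) (hx1 : x ≠ 1) (hex : Commute e x) : e ∈ A ⊓ Subgroup.centralizer (Cfsg.sigmaCore M : Set G) := by
  obtain ⟨hτ, ⟨hA₀c, -⟩, hlines⟩ := TauTwo.structure_nonabelian hG hM hE hp' hS hAE hAe hA
  set A₀ := A ⊓ Subgroup.centralizer (Cfsg.sigmaCore M : Set G) with hA₀
  obtain ⟨⟨-, hAll⟩, -, -⟩ := S1418.result hG M hM E hE p hp' A ⟨hAE, hAe, hA⟩
  obtain ⟨k, hk'⟩ : ∃ k, orderOf e = p ^ k := ⟨_, Nat.eq_prime_pow_of_unique_prime_dvd (orderOf_pos e).ne'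
    fun {q} hq hqe => Set.mem_singleton_iff.1 (hτ ▸ hτe q hq hqe)⟩
  have hcases : ∀ f ∈ E, orderOf f = p → Commute f x → f ∈ A₀ := fun f hf hfo hfx => by
    by_contra hfA
    have hfA' : f ∈ A := hAll _ (Subgroup.zpowers_le.2 hf) (by rw [Nat.card_zpowers, hfo]) (Subgroup.mem_zpowers f)
    exact hx1 (Subgroup.mem_bot.1 ((hlines f hfA' hfA).1 ▸
      ⟨hx, Subgroup.mem_centralizer_singleton_iff.2 hfx.symm.eq⟩))
  rcases k with _ | _ | k
  · rw [pow_zero] at hk'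
    rw [orderOf_eq_one_iff.1 hk']
    exact one_mem _
  · exact hcases e he (by simpa using hk') hex
  · exfalso
    have ho : orderOf (e ^ p ^ (k + 1)) = p := by
      rw [orderOf_pow' e (pow_ne_zero _ hp.out.ne_zero), hk', Nat.gcd_eq_right (pow_dvd_pow p (by omega)),
        Nat.pow_div (by omega) hp.out.pos]
      simp
    have hm := hcases _ (E.pow_mem he _) ho (hex.pow_left _)
    have h1 : e ^ p ^ (k + 1) = (e ^ p ^ k) ^ p := by rw [← pow_mul, ← pow_succ]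
    rw [h1] at ho hm
    rw [no_root hG hM hE hp' hS hAE hAe hA (E.pow_mem he _) hm, orderOf_one] at ho
    exact hp.out.ne_one ho.symm

/-- A complement of the line. -/
theorem exists_complement_line {U : Subgroup G} (hUE : U ≤ E) (hA₀U : A ⊓ Subgroup.centralizer (Cfsg.sigmaCore M : Set G) ≤ U) :
    ∃ H : Subgroup G, H ≤ U ∧
    (∀ f ∈ U, ∃ a ∈ A ⊓ Subgroup.centralizer (Cfsg.sigmaCore M : Set G), ∃ h ∈ H, f = a * h) ∧
      H ⊓ (A ⊓ Subgroup.centralizer (Cfsg.sigmaCore M : Set G)) = ⊥ := by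
  obtain ⟨-, ⟨hA₀c, -⟩, -⟩ := TauTwo.structure_nonabelian hG hM hE hp' hS hAE hAe hA
  set A₀ := A ⊓ Subgroup.centralizer (Cfsg.sigmaCore M : Set G) with hA₀
  obtain ⟨⟨hEA, -⟩, -, -⟩ := S1418.result hG M hM E hE p hp' A ⟨hAE, hAe, hA⟩
  have hA₀E : A₀ ≤ E := inf_le_left.trans hAE
  have hEA₀ : E ≤ Subgroup.normalizer (A₀ : Set G) :=
    (le_inf hEA ((hE.1.trans (le_normalizer_sigmaCore M)).trans (FitOf.normalizer_le_normalizer_centralizer _))).trans
      Subgroup.inf_normalizer_le_normalizer_inf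
  set K := A₀.subgroupOf U with hK
  haveI : K.Normal := (Subgroup.normal_subgroupOf_iff_le_normalizer hA₀U).2 (hUE.trans hEA₀)
  have hKc : Nat.card K = p := by rw [hK, Nat.card_congr (Subgroup.subgroupOfEquivOfLe hA₀U).toEquiv, hA₀c]
  haveI : IsMulCommutative K := by
    haveI : IsCyclic K := isCyclic_of_prime_card hKc
    exact IsCyclic.commutative
  obtain ⟨P, hP⟩ := (IsPGroup.of_card (n := 1) (by rw [hKc, pow_one]) : IsPGroup p K).exists_le_sylow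
  set Pg := (P : Subgroup U).map U.subtype with hPg
  haveI hPab := ComplBasics.isMulCommutative_of_not_sigma hG hM hp'.2.1 (P.isPGroup'.map U.subtype)
    ((Subgroup.map_subtype_le _).trans (hUE.trans hE.1))
  have hcomm : ∀ a ∈ (P : Subgroup U), ∀ b ∈ (P : Subgroup U), Commute a b := fun a ha b hb =>
    Subtype.ext (congrArg Subtype.val (mul_comm' (⟨(a : G), ⟨a, ha, rfl⟩⟩ : Pg) ⟨b, ⟨b, hb, rfl⟩⟩) :)
  obtain ⟨a, ha, ha1⟩ := Plane.exists_ne_one hKc
  let Pp : Subgroup U :=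
    { carrier := {y | ∃ s ∈ (P : Subgroup U), s ^ p = y}
      one_mem' := ⟨1, one_mem _, one_pow p⟩
      mul_mem' := by
        rintro _ _ ⟨s, hs, rfl⟩ ⟨t, ht, rfl⟩
        exact ⟨s * t, mul_mem hs ht, (hcomm s hs t ht).mul_pow p⟩
      inv_mem' := by
        rintro _ ⟨s, hs, rfl⟩
        exact ⟨s⁻¹, inv_mem hs, inv_pow s p⟩ }
  have hPp : Pp ≤ (P : Subgroup U) := by rintro _ ⟨s, hs, rfl⟩; exact pow_mem hs p
  have haPp : a ∉ Pp := by
    rintro ⟨s, -, hs⟩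
    have h2 : (s : G) ^ p = (a : G) := congrArg Subtype.val hs
    exact ha1 (Subtype.ext (h2.symm.trans (no_root hG hM hE hp' hS hAE hAe hA (hUE s.2)
      (h2 ▸ (Subgroup.mem_subgroupOf.1 ha : (a : G) ∈ A₀)))))
  obtain ⟨Q, ⟨hQP, hPQ, haQ⟩, hmax⟩ := (Set.toFinite {Q : Subgroup U | Q ≤ (P : Subgroup U) ∧ Pp ≤ Q ∧ a ∉ Q}).exists_maximal
    ⟨Pp, hPp, le_rfl, haPp⟩
  have hQK : Q ⊓ K = ⊥ := by
    rw [Subgroup.eq_bot_iff_forall]
    rintro y ⟨hyQ, hyK⟩
    by_contra hy1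
    exact haQ (Subgroup.zpowers_le.2 hyQ ((Plane.zpowers_eq hKc hyK hy1).ge ha))
  have hPn : (P : Subgroup U) ≤ Subgroup.normalizer (Q : Set U) := fun g hg =>
    Subgroup.centralizer_le_normalizer _ (Subgroup.mem_centralizer_iff.2 fun q hq => (hcomm q (hQP hq) g hg).eq)
  have hsup : K ⊔ Q = (P : Subgroup U) := by
    refine le_antisymm (sup_le hP hQP) fun y hy => ?_
    by_cases hyQ : y ∈ Q
    · exact Subgroup.mem_sup_right hyQ
    have hmem : a ∈ Q ⊔ Subgroup.zpowers y := by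
      by_contra hn
      exact hyQ (hmax ⟨sup_le hQP (Subgroup.zpowers_le.2 hy), hPQ.trans le_sup_left, hn⟩ le_sup_left
        (Subgroup.mem_sup_right (Subgroup.mem_zpowers y)))
    obtain ⟨q, hq, _, ⟨i, rfl⟩, he⟩ := (SolvBasic.mem_sup_iff_of_le_normalizer
      ((Subgroup.zpowers_le.2 hy).trans hPn)).1 hmem
    have hyp : y ^ (p : ℤ) ∈ Q := hPQ ⟨y, hy, (zpow_natCast y p).symm⟩
    have hi : ¬ (p : ℤ) ∣ i := fun ⟨j, hj⟩ => haQ (by
      rw [he, show (fun n : ℤ => y ^ n) i = (y ^ (p : ℤ)) ^ j by simp only; rw [← zpow_mul, ← hj]]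
      exact Q.mul_mem hq (Q.zpow_mem hyp j))
    obtain ⟨b, c, hbc⟩ := ((Nat.prime_iff_prime_int.1 hp.out).coprime_iff_not_dvd.2 hi)
    have hyi : y ^ i ∈ K ⊔ Q := by
      rw [show y ^ i = q⁻¹ * a by rw [he]; simp]
      exact mul_mem (Subgroup.mem_sup_right (Q.inv_mem hq)) (Subgroup.mem_sup_left ha)
    have : y = (y ^ (p : ℤ)) ^ b * (y ^ i) ^ c := by
      rw [← zpow_mul, ← zpow_mul, ← zpow_add, mul_comm (p : ℤ) b, mul_comm i c, hbc, zpow_one]
    rw [this]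
    exact mul_mem (Subgroup.zpow_mem _ (Subgroup.mem_sup_right hyp) b) (Subgroup.zpow_mem _ hyi c)
  obtain ⟨H, hH⟩ := SolvGaschutz.existence (U := (P : Subgroup U)) hP (by
    rw [hKc]; exact hp.out.coprime_iff_not_dvd.2 P.not_dvd_index) hQP hQK hsup
  refine ⟨H.map U.subtype, Subgroup.map_subtype_le _, fun f hf => ?_, ?_⟩
  · obtain ⟨⟨⟨c, hc⟩, ⟨h, hh⟩⟩, he⟩ := hH.2 ⟨f, hf⟩
    exact ⟨c, Subgroup.mem_subgroupOf.1 hc, h, ⟨h, hh, rfl⟩, (congrArg Subtype.val he).symm⟩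
  · rw [Subgroup.eq_bot_iff_forall]
    rintro g ⟨⟨h, hh, rfl⟩, hg⟩
    have hm : h ∈ K ⊓ H := ⟨Subgroup.mem_subgroupOf.2 hg, hh⟩
    rw [hH.disjoint.eq_bot, Subgroup.mem_bot] at hm
    simp [hm]

/-- BG 12.12, nonabelian case. -/
theorem main_nonabelian {U : Subgroup G} (hUE : U ≤ E) (hUp : ∀ q ∈ Cfsg.tau2 M, ¬ q ∣ U.relIndex E)
    (hreg : Regular M U) :
    (∃ A₀ : Subgroup G, A₀ ≤ U ∧ E ≤ Subgroup.normalizer (A₀ : Set G) ∧ IsMulCommutative A₀ ∧
        ∀ x ∈ Cfsg.sigmaCore M, x ≠ 1 → U ⊓ Subgroup.centralizer ({x} : Set G) ≤ A₀) ∧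
      ∃ E₀ : Subgroup G, E₀ ≤ U ∧ Monoid.exponent E₀ = Monoid.exponent U ∧
        ∀ e ∈ E₀, e ≠ 1 → Cfsg.sigmaCore M ⊓ Subgroup.centralizer ({e} : Set G) = ⊥ := by
  obtain ⟨-, ⟨hA₀c, -⟩, -⟩ := TauTwo.structure_nonabelian hG hM hE hp' hS hAE hAe hA
  obtain ⟨⟨hEA, -⟩, -, -⟩ := S1418.result hG M hM E hE p hp' A ⟨hAE, hAe, hA⟩
  set A₀ := A ⊓ Subgroup.centralizer (Cfsg.sigmaCore M : Set G) with hA₀
  have hA₀E : A₀ ≤ E := inf_le_left.trans hAE
  have hEA₀ : E ≤ Subgroup.normalizer (A₀ : Set G) :=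
    (le_inf hEA ((hE.1.trans (le_normalizer_sigmaCore M)).trans (FitOf.normalizer_le_normalizer_centralizer _))).trans
      Subgroup.inf_normalizer_le_normalizer_inf
  haveI : IsCyclic A₀ := isCyclic_of_prime_card hA₀c
  have hAU : A ≤ U := by
    haveI : (A.subgroupOf E).Normal := (Subgroup.normal_subgroupOf_iff_le_normalizer hAE).2 hEA
    have hAc : Nat.card (A.subgroupOf E) = p ^ 2 := by
      rw [Nat.card_congr (Subgroup.subgroupOfEquivOfLe hAE).toEquiv, hA]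
    obtain ⟨T⟩ : Nonempty (Sylow p (U.subgroupOf E : Subgroup E)) := inferInstance
    set T' := (T : Subgroup (U.subgroupOf E : Subgroup E)).map (U.subgroupOf E).subtype with hT'
    obtain ⟨P, hP⟩ := (T.isPGroup'.map (U.subgroupOf E).subtype).exists_le_sylow
    have heq : (P : Subgroup E) = T' := by
      refine (Subgroup.eq_of_le_of_card_ge hP (Nat.le_of_dvd Nat.card_pos ?_)).symm
      obtain ⟨a, ha⟩ := P.isPGroup'.exists_card_eq
      rw [Subgroup.card_map_of_injective (Subgroup.subtype_injective _), ha]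
      refine T.pow_dvd_card_of_pow_dvd_card ?_
      have h1 : p ^ a ∣ Nat.card (U.subgroupOf E) * (U.subgroupOf E).index := by
        rw [Subgroup.card_mul_index, ← ha]; exact Subgroup.card_subgroup_dvd_card _
      exact ((hp.out.coprime_iff_not_dvd.2 (hUp p hp')).pow_left a).dvd_of_dvd_mul_right h1
    intro a ha
    have hm : (⟨a, hAE ha⟩ : E) ∈ (P : Subgroup E) :=
      (P.3 ((IsPGroup.of_card hAc).to_sup_of_normal_left P.isPGroup') le_sup_right).le (Subgroup.mem_sup_left (Subgroup.mem_subgroupOf.2 ha))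
    rw [heq] at hm
    exact Subgroup.mem_subgroupOf.1 (Subgroup.map_subtype_le _ hm)
  have hA₀U : A₀ ≤ U := inf_le_left.trans hAU
  refine ⟨⟨A₀, hA₀U, hEA₀, IsCyclic.commutative, fun x hx hx1 e he =>
    mem_line hG hM hE hp' hS hAE hAe hA (hUE he.1) (fun q hq hqe => mem_tau2 hG hM hE hUE hreg he.1 hx hx1
      (Subgroup.mem_centralizer_singleton_iff.1 he.2) hq hqe) hx hx1 (Subgroup.mem_centralizer_singleton_iff.1 he.2)⟩, ?_⟩
  obtain ⟨H, hHE, hdec, hinf⟩ := exists_complement_line hG hM hE hp' hS hAE hAe hA hUE hA₀U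
  refine ⟨H, hHE, exponent_eq hHE fun q hq f hf ⟨k, hk⟩ => ?_, fun e he he1 => ?_⟩
  · haveI := Fact.mk hq
    obtain ⟨a, ha, h, hh, he⟩ := hdec f hf
    have hfn : f ^ Monoid.exponent H ∈ A₀ := by
      rw [he]; exact pow_mem_of_decomp (hUE.trans hEA₀) hA₀U hHE le_rfl ha hh
    by_cases hqp : q = p
    · subst hqp
      have hpn : q ∣ Monoid.exponent H := by
        obtain ⟨T, hT⟩ : ∃ T : Subgroup G, T ≤ U ∧ A ≤ T := ⟨U, le_rfl, hAU⟩
        obtain ⟨u, hu, hu1⟩ : ∃ u ∈ A, u ∉ A₀ := SetLike.not_le_iff_exists.1 fun hle => by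
          have := Subgroup.card_dvd_of_le hle
          rw [hA, hA₀c] at this
          have := Nat.le_of_dvd hp.out.pos this
          nlinarith [hp.out.two_le]
        obtain ⟨b, hb, v, hv, hbv⟩ := hdec u (hT.1 (hT.2 hu))
        have hvA : v ∈ A := by
          rw [show v = b⁻¹ * u by rw [hbv]; simp]
          exact A.mul_mem (A.inv_mem hb.1) hu
        have hv1 : v ≠ 1 := fun e => hu1 (by rw [hbv, e, mul_one]; exact hb)
        have := Monoid.order_dvd_exponent (⟨v, hv⟩ : H)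
        rwa [Subgroup.orderOf_mk, orderOf_eq_prime (hAe.2 v hvA) hv1] at this
      obtain ⟨n, hn⟩ := hpn
      rw [hn, mul_comm, pow_mul] at hfn ⊢
      exact no_root hG hM hE hp' hS hAE hAe hA (E.pow_mem (hUE hf) n) hfn
    · exact eq_one_of_coprime_pow hq hk hfn (by rw [hA₀c]; exact fun hd => hqp ((Nat.prime_dvd_prime_iff_eq hq hp.out).1 hd))
  · rw [Subgroup.eq_bot_iff_forall]
    rintro x ⟨hx, hxe⟩
    by_contra hx1
    have hex := (Subgroup.mem_centralizer_singleton_iff.1 hxe).symm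
    exact he1 (Subgroup.mem_bot.1 (hinf ▸ ⟨he, mem_line hG hM hE hp' hS hAE hAe hA (hUE (hHE he))
      (fun q hq hqe => mem_tau2 hG hM hE hUE hreg (hHE he) hx hx1 hex hq hqe) hx hx1 hex⟩))

end Nonabelian

/-- The `τ₂`-core of a complement, abelian case. -/
theorem core_abelian (hG : Cfsg.IsMinSimpleOddOrder G) (hM : IsCoatom M) (hE : Cfsg.IsComplIn E (Cfsg.sigmaCore M) M)
    (hdata : ∀ p ∈ Cfsg.tau2 M, ∃ (A : Subgroup G) (S : Sylow p G), ∀ _ : Fact p.Prime, Data p M E A S) :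
    IsMulCommutative (Cfsg.piCoreOf (Cfsg.tau2 M) E) ∧
      ∀ e ∈ E, (∀ q : ℕ, q.Prime → q ∣ orderOf e → q ∈ Cfsg.tau2 M) → e ∈ Cfsg.piCoreOf (Cfsg.tau2 M) E := by
  choose A S hd using hdata
  set A₀ := Cfsg.piCoreOf (Cfsg.tau2 M) E with hA₀
  have hA₀E : A₀ ≤ E := MinSimple.piCoreOf_le
  have hEA₀ : E ≤ Subgroup.normalizer (A₀ : Set G) := Subgroup.le_normalizer.trans MinSimple.normalizer_le
  have hS_le : ∀ p (hp : p ∈ Cfsg.tau2 M), (S p hp : Subgroup G) ≤ A₀ := fun p hp => by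
    haveI := Fact.mk hp.1
    exact MinSimple.le_piCoreOf (hd p hp ⟨hp.1⟩).sylow_le (hd p hp ⟨hp.1⟩).compl_le_normalizer_sylow fun q hq hqd =>
      Set.mem_singleton_iff.1 (Inv.primes_of_isPGroup (S p hp).isPGroup' q hq hqd) ▸ hp
  have hnil : Group.IsNilpotent A₀ := by
    refine ((Group.isNilpotent_of_finite_tfae (G := A₀)).out 0 3).2 fun q hq R => ?_
    haveI := hq
    by_cases hR : (R : Subgroup A₀) = ⊥
    · rw [hR]; infer_instance
    have hqτ : q ∈ Cfsg.tau2 M := MinSimple.isPi_piCoreOf q hq.out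
      ((R.isPGroup'.card_eq_or_dvd.resolve_left fun e => hR (Subgroup.card_eq_one.1 e)).trans
        (Subgroup.card_subgroup_dvd_card _))
    have d := hd q hqτ hq
    set SA := (S q hqτ : Subgroup G).subgroupOf A₀ with hSA
    haveI : SA.Normal := (Subgroup.normal_subgroupOf_iff_le_normalizer (hS_le q hqτ)).2
      (hA₀E.trans d.compl_le_normalizer_sylow)
    have hle : (R : Subgroup A₀) ≤ SA := fun r hr => Subgroup.mem_subgroupOf.2
      (d.le_sylow_of_le (R.isPGroup'.map A₀.subtype) ((Subgroup.map_subtype_le _).trans hA₀E) ⟨r, hr, rfl⟩)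
    rw [← R.3 ((S q hqτ).isPGroup'.comap_subtype) hle]
    exact ‹SA.Normal›
  have hab : IsMulCommutative A₀ := ComplBasics.nilpotent_abelian hG hM (hA₀E.trans hE.1) hnil fun q hq hd' =>
    (MinSimple.isPi_piCoreOf q hq hd').2.1
  have hmemA₀ : ∀ e ∈ E, (∀ q : ℕ, q.Prime → q ∣ orderOf e → q ∈ Cfsg.tau2 M) → e ∈ A₀ := by
    intro e he hτ
    have htop : A₀.subgroupOf (Subgroup.zpowers e) = ⊤ :=
      FittingCores.eq_top_of_forall_sylow_le fun q hq => ⟨default, fun x hx => by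
        haveI := Fact.mk hq
        by_cases hx1 : x = 1
        · rw [hx1]; exact one_mem _
        have hqτ : q ∈ Cfsg.tau2 M := hτ q hq (by
          rw [← Nat.card_zpowers]
          exact ((default : Sylow q (Subgroup.zpowers e)).isPGroup'.card_eq_or_dvd.resolve_left fun h =>
            hx1 (Subgroup.mem_bot.1 (Subgroup.card_eq_one.1 h ▸ hx))).trans (Subgroup.card_subgroup_dvd_card _))
        exact Subgroup.mem_subgroupOf.2 (hS_le q hqτ ((hd q hqτ ⟨hqτ.1⟩).le_sylow_of_le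
          ((default : Sylow q (Subgroup.zpowers e)).isPGroup'.map (Subgroup.zpowers e).subtype)
          ((Subgroup.map_subtype_le _).trans (Subgroup.zpowers_le.2 he)) ⟨x, hx, rfl⟩))⟩
    have hm : (⟨e, Subgroup.mem_zpowers e⟩ : Subgroup.zpowers e) ∈ A₀.subgroupOf (Subgroup.zpowers e) :=
      htop.symm ▸ Subgroup.mem_top _
    exact hm
  exact ⟨hab, hmemA₀⟩

/-- BG 12.12, abelian case. -/
theorem main_abelian (hG : Cfsg.IsMinSimpleOddOrder G) (hM : IsCoatom M) (hE : Cfsg.IsComplIn E (Cfsg.sigmaCore M) M)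
    {U : Subgroup G} (hUE : U ≤ E) (hUp : ∀ q ∈ Cfsg.tau2 M, ¬ q ∣ U.relIndex E) (hreg : Regular M U)
    (hdata : ∀ p ∈ Cfsg.tau2 M, ∃ (A : Subgroup G) (S : Sylow p G), ∀ _ : Fact p.Prime, Data p M E A S) :
    (∃ A₀ : Subgroup G, A₀ ≤ U ∧ E ≤ Subgroup.normalizer (A₀ : Set G) ∧ IsMulCommutative A₀ ∧
        ∀ x ∈ Cfsg.sigmaCore M, x ≠ 1 → U ⊓ Subgroup.centralizer ({x} : Set G) ≤ A₀) ∧
      ∃ E₀ : Subgroup G, E₀ ≤ U ∧ Monoid.exponent E₀ = Monoid.exponent U ∧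
        ∀ e ∈ E₀, e ≠ 1 → Cfsg.sigmaCore M ⊓ Subgroup.centralizer ({e} : Set G) = ⊥ := by
  obtain ⟨hab, hmemA₀⟩ := core_abelian hG hM hE hdata
  choose A S hd using hdata
  set A₀ := Cfsg.piCoreOf (Cfsg.tau2 M) E with hA₀
  have hA₀E : A₀ ≤ E := MinSimple.piCoreOf_le
  have hEA₀ : E ≤ Subgroup.normalizer (A₀ : Set G) := Subgroup.le_normalizer.trans MinSimple.normalizer_le
  have hS_le : ∀ p (hp : p ∈ Cfsg.tau2 M), (S p hp : Subgroup G) ≤ A₀ := fun p hp => by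
    haveI := Fact.mk hp.1
    exact MinSimple.le_piCoreOf (hd p hp ⟨hp.1⟩).sylow_le (hd p hp ⟨hp.1⟩).compl_le_normalizer_sylow fun q hq hqd =>
      Set.mem_singleton_iff.1 (Inv.primes_of_isPGroup (S p hp).isPGroup' q hq hqd) ▸ hp
  have hSU : ∀ p (hp : p ∈ Cfsg.tau2 M), (S p hp : Subgroup G) ≤ U := fun p hp => by
    haveI := Fact.mk hp.1
    obtain ⟨T⟩ : Nonempty (Sylow p U) := inferInstance
    have hle : (T : Subgroup U).map U.subtype ≤ (S p hp : Subgroup G) := (hd p hp ⟨hp.1⟩).le_sylow_of_le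
      (T.isPGroup'.map U.subtype) ((Subgroup.map_subtype_le _).trans hUE)
    refine le_trans (le_of_eq (Subgroup.eq_of_le_of_card_ge hle (Nat.le_of_dvd Nat.card_pos ?_)).symm)
      (Subgroup.map_subtype_le _)
    obtain ⟨a, ha⟩ := (S p hp).isPGroup'.exists_card_eq
    rw [Subgroup.card_map_of_injective U.subtype_injective, ha]
    refine T.pow_dvd_card_of_pow_dvd_card ?_
    have h1 : p ^ a ∣ Nat.card U * U.relIndex E := by
      rw [← Subgroup.relIndex_bot_left U, Subgroup.relIndex_mul_relIndex ⊥ U E bot_le hUE, Subgroup.relIndex_bot_left,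
        ← ha]
      exact Subgroup.card_dvd_of_le (hd p hp ⟨hp.1⟩).sylow_le
    exact ((hp.1.coprime_iff_not_dvd.2 (hUp p hp)).pow_left a).dvd_of_dvd_mul_right h1
  have hA₀U : A₀ ≤ U := by
    rw [← Subgroup.subgroupOf_eq_top]
    refine FittingCores.eq_top_of_forall_sylow_le fun q hq => ⟨default, fun x hx => Subgroup.mem_subgroupOf.2 ?_⟩
    haveI := Fact.mk hq
    by_cases hx1 : x = 1
    · rw [hx1]; exact one_mem _
    have hqτ : q ∈ Cfsg.tau2 M := MinSimple.isPi_piCoreOf q hq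
      (((default : Sylow q A₀).isPGroup'.card_eq_or_dvd.resolve_left fun h =>
        hx1 (Subgroup.mem_bot.1 (Subgroup.card_eq_one.1 h ▸ hx))).trans (Subgroup.card_subgroup_dvd_card _))
    exact hSU q hqτ ((hd q hqτ ⟨hqτ.1⟩).le_sylow_of_le ((default : Sylow q A₀).isPGroup'.map A₀.subtype)
      ((Subgroup.map_subtype_le _).trans hA₀E) ⟨x, hx, rfl⟩)
  have hUA₀ := hUE.trans hEA₀
  refine ⟨⟨A₀, hA₀U, hEA₀, hab, fun x hx hx1 e he => hmemA₀ e (hUE he.1) fun q hq hqe =>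
    mem_tau2 hG hM hE hUE hreg he.1 hx hx1 (Subgroup.mem_centralizer_singleton_iff.1 he.2) hq hqe⟩, ?_⟩
  -- the regular generators
  have hcyc : ∀ p (hp : p ∈ Cfsg.tau2 M), ∃ c ∈ (S p hp : Subgroup G), (∀ s ∈ (S p hp : Subgroup G), s ^ orderOf c = 1) ∧
      U ≤ Subgroup.normalizer (Subgroup.zpowers c : Set G) ∧
      ∀ z ∈ Subgroup.zpowers c, z ≠ 1 → Cfsg.sigmaCore M ⊓ Subgroup.centralizer ({z} : Set G) = ⊥ := fun p hp => by
    haveI := Fact.mk hp.1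
    exact (hd p hp ⟨hp.1⟩).exists_regular_cyclic hUE (hSU p hp) hreg
  choose c hcS hcexp hcN hcreg using hcyc
  set W := Subgroup.closure {y : G | ∃ p, ∃ hp : p ∈ Cfsg.tau2 M, y = c p hp} with hW
  have hWA : W ≤ A₀ := (Subgroup.closure_le _).2 (by
    rintro _ ⟨p, hp, rfl⟩
    exact hS_le p hp (hcS p hp))
  have hEW : U ≤ Subgroup.normalizer (W : Set G) := fun g hg => by
    refine ComplAbelian.mem_normalizer_of_map_le fun y hy => ?_
    have hm : g * y * g⁻¹ ∈ W.map (MulAut.conj g).toMonoidHom := ⟨y, hy, rfl⟩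
    refine (show W.map (MulAut.conj g).toMonoidHom ≤ W from ?_) hm
    rw [hW, MonoidHom.map_closure, Subgroup.closure_le]
    rintro _ ⟨_, ⟨p, hp, rfl⟩, rfl⟩
    have hmem : (MulAut.conj g) (c p hp) ∈ Subgroup.zpowers (c p hp) :=
      (Subgroup.mem_normalizer_iff.1 (hcN p hp hg) (c p hp)).1 (Subgroup.mem_zpowers _)
    have hle : Subgroup.zpowers (c p hp) ≤ W := Subgroup.zpowers_le.2 (Subgroup.subset_closure ⟨p, hp, rfl⟩)
    rw [hW] at hle
    exact hle hmem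
  set K := A₀.subgroupOf U with hK
  haveI : K.Normal := (Subgroup.normal_subgroupOf_iff_le_normalizer hA₀U).2 hUA₀
  have hKcard : Nat.card K = Nat.card A₀ := Nat.card_congr (Subgroup.subgroupOfEquivOfLe hA₀U).toEquiv
  obtain ⟨Hc, hHc⟩ := Subgroup.exists_right_complement'_of_coprime (N := K) (Nat.coprime_of_dvd fun q hq hqK hqi => by
    haveI := Fact.mk hq
    have hqτ := MinSimple.isPi_piCoreOf q hq (hKcard ▸ hqK)
    refine (S q hqτ).not_dvd_index ((hqi.trans ?_).trans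
      ((S q hqτ : Subgroup G).relIndex_dvd_index_of_le (hSU q hqτ)))
    exact Subgroup.index_dvd_of_le fun s hs => Subgroup.mem_subgroupOf.2 (hS_le q hqτ (Subgroup.mem_subgroupOf.1 hs)))
  set H := Hc.map U.subtype with hH
  have hHE : H ≤ U := Subgroup.map_subtype_le _
  have hdec : ∀ f ∈ U, ∃ a ∈ A₀, ∃ h ∈ H, f = a * h := fun f hf => by
    obtain ⟨⟨⟨a, ha⟩, ⟨h, hh⟩⟩, he⟩ := hHc.2 ⟨f, hf⟩
    exact ⟨a, Subgroup.mem_subgroupOf.1 ha, h, ⟨h, hh, rfl⟩, (congrArg Subtype.val he).symm⟩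
  refine ⟨H ⊔ W, sup_le hHE (hWA.trans hA₀U), exponent_eq (sup_le hHE (hWA.trans hA₀U)) fun q hq f hf ⟨k, hk⟩ => ?_,
    fun e he he1 => ?_⟩
  · haveI := Fact.mk hq
    by_cases hqτ : q ∈ Cfsg.tau2 M
    · have hfS : f ∈ (S q hqτ : Subgroup G) := (hd q hqτ ⟨hqτ.1⟩).le_sylow_of_le
        (IsPGroup.of_card (n := k) (by rw [Nat.card_zpowers, hk])) (Subgroup.zpowers_le.2 (hUE hf)) (Subgroup.mem_zpowers f)
      have h1 := Monoid.order_dvd_exponent (⟨c q hqτ, Subgroup.mem_sup_right (Subgroup.subset_closure ⟨q, hqτ, rfl⟩)⟩ :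
        (H ⊔ W : Subgroup G))
      rw [Subgroup.orderOf_mk] at h1
      obtain ⟨j, hj⟩ := h1
      rw [hj, pow_mul, hcexp q hqτ f hfS, one_pow]
    · obtain ⟨a, ha, h, hh, he⟩ := hdec f hf
      exact eq_one_of_coprime_pow hq hk (he ▸ pow_mem_of_decomp hUA₀ hA₀U hHE le_sup_left ha hh)
        fun hd' => hqτ (MinSimple.isPi_piCoreOf q hq hd')
  rw [Subgroup.eq_bot_iff_forall]
  rintro x ⟨hx, hxe⟩
  by_contra hx1
  have hex : Commute e x := (Subgroup.mem_centralizer_singleton_iff.1 hxe).symm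
  have heU : e ∈ U := sup_le hHE (hWA.trans hA₀U) he
  have heE : e ∈ E := hUE heU
  have hτ : ∀ q : ℕ, q.Prime → q ∣ orderOf e → q ∈ Cfsg.tau2 M := fun q hq hqe =>
    mem_tau2 hG hM hE hUE hreg heU hx hx1 hex hq hqe
  obtain ⟨h, hh, w, hw, rfl⟩ := (SolvBasic.mem_sup_iff_of_le_normalizer (hHE.trans hEW)).1
    (show e ∈ W ⊔ H by rwa [sup_comm])
  have hwA : w ∈ A₀ := by
    have h1 := hmemA₀ _ heE hτ
    simpa using A₀.mul_mem (A₀.inv_mem (hWA hh)) h1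
  have hw1 : w = 1 := by
    obtain ⟨h', hh', rfl⟩ := hw
    have hm : h' ∈ K ⊓ Hc := ⟨Subgroup.mem_subgroupOf.2 hwA, hh'⟩
    rw [hHc.disjoint.eq_bot, Subgroup.mem_bot] at hm
    simp [hm]
  subst hw1
  rw [mul_one] at *
  obtain ⟨p, hp, hpe⟩ := Nat.exists_prime_and_dvd (fun e1 => he1 (orderOf_eq_one_iff.1 e1))
  haveI := Fact.mk hp
  have hpτ := hτ p hp hpe
  obtain ⟨f, hf, hfo⟩ := exists_prime_power_of_dvd (e := h) (q := p) (k := 1) (by rwa [pow_one])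
  rw [pow_one] at hfo
  have hfW : f ∈ W := Subgroup.zpowers_le.2 hh hf
  haveI := hab
  let D : Subgroup G :=
    { carrier := {a | a ∈ A₀ ∧ (orderOf a).Coprime p}
      one_mem' := ⟨one_mem _, by rw [orderOf_one]; exact Nat.coprime_one_left p⟩
      mul_mem' := fun {a b} ha hb => ⟨A₀.mul_mem ha.1 hb.1,
        Nat.Coprime.coprime_dvd_left ((Commute.orderOf_mul_dvd_lcm (congrArg Subtype.val
          (mul_comm' (⟨a, ha.1⟩ : A₀) ⟨b, hb.1⟩) :)).trans (Nat.lcm_dvd_mul _ _)) (ha.2.mul_left hb.2)⟩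
      inv_mem' := fun {a} ha => ⟨A₀.inv_mem ha.1, by rw [orderOf_inv]; exact ha.2⟩ }
  have hWD : W ≤ D ⊔ Subgroup.zpowers (c p hpτ) := (Subgroup.closure_le _).2 (by
    rintro _ ⟨q, hq, rfl⟩
    rcases eq_or_ne q p with rfl | hqp
    · exact Subgroup.mem_sup_right (Subgroup.mem_zpowers _)
    refine Subgroup.mem_sup_left ⟨hS_le q hq (hcS q hq), ?_⟩
    haveI := Fact.mk hq.1
    obtain ⟨i, hi⟩ := (S q hq).isPGroup'.exists_card_eq
    exact Nat.Coprime.coprime_dvd_left (hi ▸ Subgroup.orderOf_dvd_natCard _ (hcS q hq))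
      (((Nat.coprime_primes hq.1 hp).2 hqp).pow_left i))
  have hcn : Subgroup.zpowers (c p hpτ) ≤ Subgroup.normalizer (D : Set G) := by
    refine le_trans ?_ (Subgroup.centralizer_le_normalizer _)
    refine Subgroup.zpowers_le.2 (Subgroup.mem_centralizer_iff.2 fun a ha => ?_)
    exact congrArg Subtype.val (mul_comm' (⟨a, ha.1⟩ : A₀) ⟨_, hS_le p hpτ (hcS p hpτ)⟩)
  obtain ⟨dd, hdd, y, hy, rfl⟩ := (SolvBasic.mem_sup_iff_of_le_normalizer hcn).1 (hWD hfW)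
  have hyS : y ∈ (S p hpτ : Subgroup G) := Subgroup.zpowers_le.2 (hcS p hpτ) hy
  have hdd1 : dd = 1 := by
    obtain ⟨i, hi⟩ := (S p hpτ).isPGroup'.exists_card_eq
    refine orderOf_eq_one_iff.1 (Nat.eq_one_of_dvd_coprimes (hdd.2.pow_right (1 + i)) dvd_rfl ?_)
    have h1 : Commute (dd * y) y⁻¹ :=
      ((show Commute dd y from congrArg Subtype.val (mul_comm' (⟨dd, hdd.1⟩ : A₀) ⟨y, hS_le p hpτ hyS⟩)).mul_left
        (Commute.refl y)).inv_right
    have h2 := h1.orderOf_mul_dvd_lcm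
    rw [mul_inv_cancel_right] at h2
    refine h2.trans ((Nat.lcm_dvd_mul _ _).trans ?_)
    rw [hfo, orderOf_inv, pow_add, pow_one]
    exact Nat.mul_dvd_mul_left p (hi ▸ Subgroup.orderOf_dvd_natCard _ hyS)
  subst hdd1
  rw [one_mul] at hf hfo
  have hy1 : y ≠ 1 := fun e1 => hp.ne_one (by rw [← hfo, e1, orderOf_one])
  obtain ⟨j, rfl⟩ := Subgroup.mem_zpowers_iff.1 hf
  exact hx1 (Subgroup.mem_bot.1 ((hcreg p hpτ _ hy hy1) ▸
    ⟨hx, Subgroup.mem_centralizer_singleton_iff.2 (hex.zpow_left j).symm.eq⟩))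

end Cfsg.Agent.OddOrder.TauTwoAb
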