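/-
Subgroups of prime order of `M_σ` centralized by elements of order `p ∈ τ₁(M)` (BG 13.6).
-/
import Cfsg.Agent.Lib.OddOrder.TauOne
import Cfsg.Agent.Lib.OddOrder.TauTwoCore
import Cfsg.Agent.Lib.OddOrder.SigmaAction
import Cfsg.Agent.Lib.Solvable.Hall

set_option autoImplicit false
set_option linter.style.haveILetI false
set_option linter.unusedSectionVars false

namespace Cfsg.Agent.OddOrder.TauOne

open scoped commutatorElement
open Exceptional

universe u

variable {G : Type u} [Group G] [Finite G] {M P : Subgroup G}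

/-- A Frattini complement: a complement of `M_σ` normalizing a Sylow subgroup of `M_σ` normalized by `P`. -/
theorem exists_complement_normalizing (hG : Cfsg.IsMinSimpleOddOrder G) (hM : IsCoatom M)
    (hcopP : (Nat.card P).Coprime (Nat.card (Cfsg.sigmaCore M))) (hPM : P ≤ M) {q : ℕ} [hq : Fact q.Prime]
    (T : Sylow q (Cfsg.sigmaCore M))
    (hPT : P ≤ Subgroup.normalizer (((T : Subgroup (Cfsg.sigmaCore M)).map (Cfsg.sigmaCore M).subtype : Subgroup G) : Set G)) :
    ∃ E : Subgroup G, Cfsg.IsComplIn E (Cfsg.sigmaCore M) M ∧ P ≤ E ∧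
      E ≤ Subgroup.normalizer (((T : Subgroup (Cfsg.sigmaCore M)).map (Cfsg.sigmaCore M).subtype : Subgroup G) : Set G) := by
  set Tm := (T : Subgroup (Cfsg.sigmaCore M)).map (Cfsg.sigmaCore M).subtype with hTm
  set H := M ⊓ Subgroup.normalizer (Tm : Set G) with hH
  have hKM := sigmaCore_le M
  have hMK := le_normalizer_sigmaCore M
  have hHK : H ≤ Subgroup.normalizer (Cfsg.sigmaCore M : Set G) := inf_le_left.trans hMK
  have hTK : Tm ≤ Cfsg.sigmaCore M := Subgroup.map_subtype_le _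
  have hsup : Cfsg.sigmaCore M ⊔ H = M := by
    refine le_antisymm (sup_le hKM inf_le_left) fun m hm => ?_
    have hle : Tm.map (MulAut.conj m).toMonoidHom ≤ Cfsg.sigmaCore M := by
      rintro _ ⟨t, ht, rfl⟩
      exact (Subgroup.mem_normalizer_iff.1 (hMK hm) t).1 (hTK ht)
    obtain ⟨T', hT'⟩ := CoprimeAct.exists_sylow_of_card (p := q) hle (by
      rw [Subgroup.card_map_of_injective (MulAut.conj m).injective, hTm, CoprimeAct.card_map_sylow])
    obtain ⟨k, hk⟩ := MulAction.exists_smul_eq (Cfsg.sigmaCore M) T T'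
    have h1 : Tm.map (MulAut.conj (k : G)).toMonoidHom = Tm.map (MulAut.conj m).toMonoidHom := by
      rw [← hT', ← hk, Sylow.coe_subgroup_smul, hTm]
      exact (SolvBasic.map_subtype_conjSmul k _).symm
    have h2 : (k : G)⁻¹ * m ∈ Subgroup.normalizer (Tm : Set G) := by
      rw [Subgroup.mem_normalizer_iff_map_conj_eq]
      exact (Sigma.map_conj_map _ _ _).symm.trans ((congrArg _ h1.symm).trans ((Sigma.map_conj_map _ _ _).trans
        (by rw [inv_mul_cancel, Sigma.map_conj_one])))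
    have h3 : (k : G) * ((k : G)⁻¹ * m) ∈ Cfsg.sigmaCore M ⊔ H :=
      mul_mem (Subgroup.mem_sup_left k.2) (Subgroup.mem_sup_right ⟨M.mul_mem (M.inv_mem (hKM k.2)) hm, h2⟩)
    rwa [mul_inv_cancel_left] at h3
  set J := Cfsg.sigmaCore M ⊓ H with hJ
  have hJcard : Nat.card H = J.relIndex H * Nat.card J := by
    rw [mul_comm, ← Subgroup.relIndex_bot_left J, ← Subgroup.relIndex_bot_left H]
    exact (Subgroup.relIndex_mul_relIndex _ _ _ bot_le inf_le_right).symm
  have hMcard : Nat.card M = Nat.card (Cfsg.sigmaCore M) * J.relIndex H := by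
    have h := SolvBasic.card_sup_mul_card_inf hHK
    rw [hsup, ← hJ, hJcard, ← mul_assoc] at h
    exact Nat.eq_of_mul_eq_mul_right Nat.card_pos h
  have hKidx : (Cfsg.sigmaCore M).relIndex M = J.relIndex H := by
    refine Nat.eq_of_mul_eq_mul_left (Nat.card_pos : 0 < Nat.card (Cfsg.sigmaCore M)) ?_
    rw [← hMcard, ← Subgroup.relIndex_bot_left (Cfsg.sigmaCore M), ← Subgroup.relIndex_bot_left M]
    exact Subgroup.relIndex_mul_relIndex _ _ _ bot_le hKM
  have hcopK : (J.relIndex H).Coprime (Nat.card (Cfsg.sigmaCore M)) := by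
    obtain ⟨E, hE⟩ := exists_complement hG hM
    rw [← hKidx, Compl.relIndex_right hE]
    exact ComplBasics.coprime_card hG hM hE
  have hcop : (J.relIndex H).Coprime (Nat.card J) :=
    hcopK.coprime_dvd_right (Subgroup.card_dvd_of_le inf_le_left)
  haveI := MinSimple.isSolvable hG hM.1
  haveI : Group.IsSolvable H := SolvBasic.isSolvable_of_le (inf_le_left : H ≤ M)
  have hPH : P ≤ H := le_inf hPM hPT
  obtain ⟨F, hF, hPF⟩ := HallSolv.exists_hall_ge (G := H) hJcard hcop (K := P.subgroupOf H) (by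
    rw [Nat.card_congr (Subgroup.subgroupOfEquivOfLe hPH).toEquiv]
    exact hcopP.coprime_dvd_right (Subgroup.card_dvd_of_le inf_le_left))
  set E := F.map H.subtype with hE
  have hEc : Nat.card E = J.relIndex H := by rw [hE, Subgroup.card_map_of_injective H.subtype_injective, hF]
  have hEH : E ≤ H := Subgroup.map_subtype_le _
  have hEinf : E ⊓ Cfsg.sigmaCore M = ⊥ := by
    refine Subgroup.inf_eq_bot_of_coprime ?_
    rw [hEc]
    exact hcopK
  have hsupE : Cfsg.sigmaCore M ⊔ E = M := by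
    refine Subgroup.eq_of_le_of_card_ge (sup_le hKM (hEH.trans inf_le_left)) ?_
    have h := SolvBasic.card_sup_mul_card_inf (hEH.trans hHK)
    rw [inf_comm, hEinf, Subgroup.card_bot, mul_one, hEc, ← hMcard] at h
    exact h.ge
  refine ⟨E, ⟨hEH.trans inf_le_left, hKM, hEinf, fun m hm => ?_⟩, fun x hx => ⟨⟨x, hPH hx⟩, hPF hx, rfl⟩,
    hEH.trans inf_le_right⟩
  have hm' : m⁻¹ ∈ Cfsg.sigmaCore M ⊔ E := hsupE.symm ▸ M.inv_mem hm
  obtain ⟨k, hk, e, he, hke⟩ := (SolvBasic.mem_sup_iff_of_le_normalizer (hEH.trans hHK)).1 hm'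
  exact ⟨e⁻¹, E.inv_mem he, k⁻¹, (Cfsg.sigmaCore M).inv_mem hk, by rw [← mul_inv_rev, ← hke, inv_inv]⟩

variable {p : ℕ} [hp : Fact p.Prime]

set_option maxHeartbeats 1000000 in
/-- BG 13.6. -/
theorem centralized_cases (hG : Cfsg.IsMinSimpleOddOrder G) (hM : IsCoatom M) (hp1 : p ∈ Cfsg.tau1 M)
    (hP : Nat.card P = p) (hPM : P ≤ M) {q : ℕ} [hq : Fact q.Prime] {X : Subgroup G} (hX : Nat.card X = q)
    (hXσ : X ≤ Cfsg.sigmaCore M) (hXP : X ≤ Subgroup.centralizer (P : Set G)) :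
    q ∈ Cfsg.beta M ∨ X ≤ ⁅Cfsg.sigmaCore M, Cfsg.sigmaCore M⁆ := by
  refine or_iff_not_imp_left.2 fun hqβ => ?_
  obtain ⟨-, hpσ, -, hpd, hpr⟩ := id hp1
  have hPp : IsPGroup p P := IsPGroup.of_card (n := 1) (by rw [hP, pow_one])
  have hP1 : P ≠ ⊥ := fun hb => hp.out.ne_one (by rw [← hP, hb, Subgroup.card_bot])
  have hX1 : X ≠ ⊥ := fun hb => hq.out.ne_one (by rw [← hX, hb, Subgroup.card_bot])
  have hqσ : q ∈ Cfsg.sigma M := mem_sigma_of_dvd hq.out (hX ▸ Subgroup.card_dvd_of_le hXσ)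
  have hcopP : (Nat.card P).Coprime (Nat.card (Cfsg.sigmaCore M)) := by
    rw [hP]
    exact hp.out.coprime_iff_not_dvd.2 fun hd => hpσ (mem_sigma_of_dvd hp.out hd)
  haveI := hPp.isNilpotent
  obtain ⟨T, hXT, hPT⟩ := CoprimeAct.exists_invariant_sylow_ge (hPM.trans (le_normalizer_sigmaCore M)) hcopP
    (Or.inl inferInstance) hXσ (IsPGroup.of_card (n := 1) (by rw [hX, pow_one]))
    ((Subgroup.le_centralizer_iff.1 hXP).trans (Subgroup.centralizer_le_normalizer _))
  obtain ⟨E, hE, hPE, hET⟩ := exists_complement_normalizing hG hM hcopP hPM T hPT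
  set Tm := (T : Subgroup (Cfsg.sigmaCore M)).map (Cfsg.sigmaCore M).subtype with hTm
  have hTmM : Tm ≤ M := (Subgroup.map_subtype_le _).trans (sigmaCore_le M)
  have hEE : ⁅E, E⁆ ≤ E := Subgroup.le_normalizer_iff_commutator_le_left.1 Subgroup.le_normalizer
  -- `E'` centralizes the Sylow subgroup
  have hEd : ⁅E, E⁆ ≤ Subgroup.centralizer (Tm : Set G) := by
    rw [← Subgroup.subgroupOf_eq_top]
    refine FittingCores.eq_top_of_forall_sylow_le fun r hr => ⟨default, fun x hx => ?_⟩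
    haveI := Fact.mk hr
    by_cases hx1 : x = 1
    · rw [hx1]; exact one_mem _
    set R := ((default : Sylow r ↥⁅E, E⁆) : Subgroup ↥⁅E, E⁆).map ⁅E, E⁆.subtype with hR
    have hrσ : r ∉ Cfsg.sigma M := not_dvd_complement hG hM hE hr
      ((((default : Sylow r ↥⁅E, E⁆).isPGroup'.card_eq_or_dvd.resolve_left fun h =>
        hx1 (Subgroup.mem_bot.1 (Subgroup.card_eq_one.1 h ▸ hx))).trans (Subgroup.card_subgroup_dvd_card _)).trans
          (Subgroup.card_dvd_of_le hEE))
    have hc := SigmaConj.sylow_centralizes hG hM ((default : Sylow r ↥⁅E, E⁆).isPGroup'.map _)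
      ((Subgroup.map_subtype_le _).trans (Subgroup.commutator_mono hE.1 hE.1))
      (fun hb => hrσ (BetaCore.beta_subset_sigma hG hM hb)) (fun e : q = r => hrσ (e ▸ hqσ)) hqβ
      (T.isPGroup'.map _) hTmM (((Subgroup.map_subtype_le _).trans hEE).trans hET)
    exact Subgroup.mem_subgroupOf.2 (Subgroup.le_centralizer_iff.1 hc ⟨x, hx, rfl⟩)
  have hXd : ⁅E, E⁆ ≤ Subgroup.centralizer (X : Set G) := hEd.trans (Subgroup.centralizer_le hXT)
  have hp' : ¬ p ∣ Nat.card (⁅E, E⁆ : Subgroup G) := fun hd =>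
    hpd (hd.trans (Subgroup.card_dvd_of_le (Subgroup.commutator_mono hE.1 hE.1)))
  have hXK : X ≤ Cfsg.sigmaCore M ⊓ Subgroup.centralizer (P : Set G) := le_inf hXσ hXP
  -- `E` centralizes `X`
  suffices hEX : E ≤ Subgroup.centralizer (X : Set G) from
    (le_inf hXσ (Subgroup.le_centralizer_iff.1 hEX)).trans (SigmaAction.sigmaCore_commutator hG hM hE).2
  rw [← Subgroup.subgroupOf_eq_top]
  refine FittingCores.eq_top_of_forall_sylow_le fun r hr => ?_
  haveI := Fact.mk hr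
  obtain ⟨R₀⟩ : Nonempty (Sylow r E) := inferInstance
  by_cases hR₀ : (R₀ : Subgroup E) = ⊥
  · exact ⟨R₀, hR₀.le.trans bot_le⟩
  have hrd : r ∣ Nat.card E := ((R₀.isPGroup'.card_eq_or_dvd).resolve_left fun h =>
    hR₀ (Subgroup.card_eq_one.1 h)).trans (Subgroup.card_subgroup_dvd_card _)
  have hrσ : r ∉ Cfsg.sigma M := not_dvd_complement hG hM hE hr hrd
  -- a Sylow subgroup normalized by `P`
  obtain ⟨R, hRc, hRE, hPR⟩ : ∃ R : Subgroup G, Nat.card R = r ^ (Nat.card E).factorization r ∧ R ≤ E ∧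
      P ≤ Subgroup.normalizer (R : Set G) := by
    rcases eq_or_ne r p with hrp | hne
    · subst hrp
      obtain ⟨S, hS⟩ := (hPp.comap_subtype (K := E)).exists_le_sylow
      refine ⟨_, CoprimeAct.card_map_sylow S, Subgroup.map_subtype_le _, ?_⟩
      have hPS : P ≤ (S : Subgroup E).map E.subtype := fun x hx => ⟨⟨x, hPE hx⟩, hS hx, rfl⟩
      exact hPS.trans Subgroup.le_normalizer
    · set R' := (R₀ : Subgroup E).map E.subtype with hR'
      set K' := ⁅E, E⁆ ⊔ R' with hK'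
      have hK'E : K' ≤ E := sup_le hEE (Subgroup.map_subtype_le _)
      have hR'n : R' ≤ Subgroup.normalizer ((⁅E, E⁆ : Subgroup G) : Set G) :=
        (Subgroup.map_subtype_le _).trans (Subgroup.normalizer_commutator_ge_left E E)
      have hEK' : E ≤ Subgroup.normalizer (K' : Set G) := Subgroup.le_normalizer_iff_commutator_le_left.2
        ((Subgroup.commutator_mono hK'E le_rfl).trans le_sup_left)
      have hcop : (Nat.card P).Coprime (Nat.card K') := by
        rw [hP]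
        refine hp.out.coprime_iff_not_dvd.2 fun hd => ?_
        rcases hp.out.dvd_mul.1 (hd.trans (Dvd.intro _ (SolvBasic.card_sup_mul_card_inf hR'n))) with h | h
        · exact hp' h
        · exact hne (Set.mem_singleton_iff.1 (Inv.primes_of_isPGroup (R₀.isPGroup'.map E.subtype) p hp.out h)).symm
      obtain ⟨S, hS⟩ := CoprimeAct.exists_invariant_sylow (hPE.trans hEK') hcop (Or.inl inferInstance) r
      refine ⟨_, ?_, (Subgroup.map_subtype_le _).trans hK'E, hS⟩
      rw [CoprimeAct.card_map_sylow]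
      refine congrArg _ (le_antisymm ?_ ?_)
      · exact (Nat.factorization_le_iff_dvd Nat.card_pos.ne' Nat.card_pos.ne').2 (Subgroup.card_dvd_of_le hK'E) r
      · exact (hr.pow_dvd_iff_le_factorization Nat.card_pos.ne').1
          (CoprimeAct.card_map_sylow R₀ ▸ Subgroup.card_dvd_of_le (le_sup_right : R' ≤ K'))
  obtain ⟨RS, hRS⟩ := CoprimeAct.exists_sylow_of_card hRE hRc
  refine ⟨RS, fun x hx => Subgroup.mem_subgroupOf.2 ?_⟩
  suffices h : R ≤ Subgroup.centralizer (X : Set G) from h (hRS ▸ ⟨x, hx, rfl⟩)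
  have hRp : IsPGroup r R := IsPGroup.of_card hRc
  have hRM : R ≤ M := hRE.trans hE.1
  have hR1 : R ≠ ⊥ := fun hb => by
    rw [hb, Subgroup.card_bot, eq_comm, Nat.pow_eq_one] at hRc
    rcases hRc with h | h
    · exact hr.ne_one h
    · exact (hr.factorization_pos_of_dvd Nat.card_pos.ne' hrd).ne' h
  have hcomm : ⁅R, P⁆ ≤ R ⊓ ⁅E, E⁆ := le_inf (CoprimeAct.commutator_le_left hPR) (Subgroup.commutator_mono hRE hPE)
  have hRn : R ≤ Subgroup.normalizer ((⁅E, E⁆ : Subgroup G) : Set G) :=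
    hRE.trans (Subgroup.normalizer_commutator_ge_left E E)
  by_cases hr1 : Cfsg.PRankLE r 1 M
  · haveI hRcyc : IsCyclic R := isCyclic_of_rank_one hG hr1 hRp hRM
    haveI : Nontrivial R := (Subgroup.nontrivial_iff_ne_bot R).2 hR1
    obtain ⟨k, hk, hk'⟩ := hRp.nontrivial_iff_card.1 inferInstance
    obtain ⟨z, hz⟩ := exists_prime_orderOf_dvd_card' (G := R) r (hk' ▸ dvd_pow_self r hk.ne')
    set L := Subgroup.zpowers (z : G) with hL
    have hLc : Nat.card L = r := by rw [hL, Nat.card_zpowers, Subgroup.orderOf_coe, hz]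
    have hLR : L ≤ R := Subgroup.zpowers_le.2 z.2
    have hRL : R ≤ Subgroup.centralizer (L : Set G) := (Subgroup.le_centralizer R).trans (Subgroup.centralizer_le hLR)
    have hXL : X ≤ Subgroup.centralizer (L : Set G) := by
      by_cases hint : R ⊓ ⁅E, E⁆ = ⊥
      · have hRP : R ≤ Subgroup.centralizer (P : Set G) :=
          Subgroup.commutator_eq_bot_iff_le_centralizer.1 (le_bot_iff.1 (hcomm.trans hint.le))
        exact hXK.trans (centralizer_le hG hM hp1 hP hPM hr hLc hrσ (hLR.trans hRM) (hLR.trans hRP))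
      · obtain ⟨w, hw, hw1⟩ := (Subgroup.bot_or_exists_ne_one _).resolve_left
          (inf_ne_bot_of_cyclic hRcyc hRp hLR inf_le_left
            (fun e => hr.ne_one (by rw [← hLc, e, Subgroup.card_bot])) hint)
        refine Subgroup.le_centralizer_iff.1 ?_
        rw [← Plane.zpowers_eq hLc hw.1 hw1, Subgroup.zpowers_le]
        exact hXd hw.2.2
    exact Subgroup.le_centralizer_iff.1 ((le_inf hXσ hXL).trans
      (PrimeAction.centralizer_le hG hM hrσ hr1 hLc hRp hRM hLR hRL))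
  -- `r ∈ τ₂(M)`
  have hr2 : Cfsg.PRankLE r 2 M := by
    by_contra h
    exact hrσ (Sigma.alpha_subset_sigma hG hM ⟨hr, h⟩)
  have hτ : r ∈ Cfsg.tau2 M := ⟨hr, hrσ, hr2, hr1⟩
  have hrp : r ≠ p := fun e => hr1 (e ▸ hpr)
  have hcopR : (Nat.card P).Coprime (Nat.card R) := by
    rw [hP, hRc]
    exact ((Nat.coprime_primes hp.out hr).2 hrp.symm).pow_right _
  rw [← CoprimeAct.commutator_sup_centralizer hPR hcopR (Or.inl inferInstance)]
  refine sup_le ((hcomm.trans inf_le_right).trans hXd) fun e he => ?_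
  obtain ⟨B, hBE, hBe, hB⟩ := TauTwo.exists_plane (p := r) hG hM hE hτ
  obtain ⟨⟨hEB, hall⟩, -, -⟩ := S1418.result hG M hM E hE r hτ B ⟨hBE, hBe, hB⟩
  obtain ⟨x, hxX, hx1⟩ := Plane.exists_ne_one hX
  -- fixed elements of order `r`
  have hfix : ∀ b ∈ R, b ∈ Subgroup.centralizer (P : Set G) → orderOf b = r →
      b ∈ B ∧ X ≤ Subgroup.centralizer ((Subgroup.zpowers b : Subgroup G) : Set G) := fun b hb hbP hbo => by
    have hbc : Nat.card (Subgroup.zpowers b) = r := by rw [Nat.card_zpowers, hbo]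
    exact ⟨hall _ (Subgroup.zpowers_le.2 (hRE hb)) hbc (Subgroup.mem_zpowers b),
      hXK.trans (centralizer_le hG hM hp1 hP hPM hr hbc hrσ (Subgroup.zpowers_le.2 (hRM hb)) (Subgroup.zpowers_le.2 hbP))⟩
  by_cases hS : ∀ S : Sylow r G, ¬ IsMulCommutative (S : Subgroup G)
  · have hA₀ : ∀ b ∈ R, b ∈ Subgroup.centralizer (P : Set G) → orderOf b = r →
        b ∈ B ⊓ Subgroup.centralizer (Cfsg.sigmaCore M : Set G) := fun b hb hbP hbo => by
      obtain ⟨-, hXb⟩ := hfix b hb hbP hbo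
      refine TauTwoAb.mem_line hG hM hE hτ hS hBE hBe hB (hRE hb) (fun t ht htd => ?_) (hXσ hxX) hx1
        (Subgroup.mem_centralizer_iff.1 (hXb hxX) b (Subgroup.mem_zpowers b))
      rw [hbo, Nat.prime_dvd_prime_iff_eq ht hr] at htd
      exact htd ▸ hτ
    by_cases he1 : e = 1
    · rw [he1]; exact one_mem _
    obtain ⟨k, hk⟩ := IsPGroup.iff_orderOf.1 hRp ⟨e, he.1⟩
    rw [Subgroup.orderOf_mk] at hk
    have hk1 : k = 1 := by
      rcases k with _ | _ | k
      · exact absurd (orderOf_eq_one_iff.1 (by simpa using hk)) he1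
      · rfl
      exfalso
      have ho : orderOf (e ^ r ^ (k + 1)) = r := by
        rw [orderOf_pow' e (pow_ne_zero _ hr.ne_zero), hk, Nat.gcd_eq_right (pow_dvd_pow r (by omega)),
          Nat.pow_div (by omega) hr.pos]
        simp
      have hm := hA₀ _ (R.pow_mem he.1 _) (Subgroup.pow_mem _ he.2 _) ho
      have h1 : e ^ r ^ (k + 1) = (e ^ r ^ k) ^ r := by rw [← pow_mul, ← pow_succ]
      rw [h1] at ho hm
      rw [TauTwoAb.no_root hG hM hE hτ hS hBE hBe hB (E.pow_mem (hRE he.1) _) hm, orderOf_one] at ho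
      exact hr.ne_one ho.symm
    exact Subgroup.centralizer_le hXσ (hA₀ e he.1 he.2 (by rw [hk, hk1, pow_one])).2
  -- abelian Sylow subgroups: `P` has no fixed points on `R`
  obtain ⟨S, hBS, hSc⟩ := TauTwoAb.exists_abelian_sylow hS (Plane.isPGroup hB)
  have d : TauTwoAb.Data r M E B S := ⟨hG, hM, hE, hτ, hBE, hBe, hB, hBS, hSc⟩
  suffices h0 : R ⊓ Subgroup.centralizer (P : Set G) = ⊥ by
    have he1 : e = 1 := Subgroup.mem_bot.1 (h0.le he)
    rw [he1]; exact one_mem _
  by_contra hne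
  haveI : Nontrivial (R ⊓ Subgroup.centralizer (P : Set G) : Subgroup G) := (Subgroup.nontrivial_iff_ne_bot _).2 hne
  obtain ⟨k, hk, hk'⟩ := (hRp.to_le (inf_le_left : R ⊓ Subgroup.centralizer (P : Set G) ≤ R)).nontrivial_iff_card.1 inferInstance
  obtain ⟨⟨b, hbR, hbP⟩, hb⟩ := exists_prime_orderOf_dvd_card'
    (G := (R ⊓ Subgroup.centralizer (P : Set G) : Subgroup G)) r (hk' ▸ dvd_pow_self r hk.ne')
  replace hb : orderOf b = r := (Subgroup.orderOf_coe _).trans hb
  obtain ⟨hbB, hXb⟩ := hfix b hbR hbP hb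
  set L := Subgroup.zpowers b with hL
  have hLB : L ≤ B := Subgroup.zpowers_le.2 hbB
  have hLc : Nat.card L = r := by rw [hL, Nat.card_zpowers, hb]
  haveI := hBe.1
  obtain ⟨u, hu, hu1⟩ := Plane.exists_ne_one hP
  have hbu : u * b = b * u := Subgroup.mem_centralizer_iff.1 hbP u hu
  by_cases hBP : B ≤ Subgroup.centralizer (P : Set G)
  · have hbot : Cfsg.sigmaCore M ⊓ Subgroup.centralizer (B : Set G) = ⊥ :=
      (S1417.result hG M hM r hτ B ⟨d.le_M, hBe, hB⟩).2.2.2.1
    refine hX1 (le_bot_iff.1 (hbot ▸ le_inf hXσ ?_))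
    refine Subgroup.le_centralizer_iff.1 fun c hc => ?_
    by_cases hc1 : c = 1
    · rw [hc1]; exact one_mem _
    exact Subgroup.le_centralizer_iff.1 (hXK.trans (centralizer_le hG hM hp1 hP hPM hr (Plane.zpowers_card hBe hc hc1)
      hrσ (Subgroup.zpowers_le.2 (d.le_M hc)) (Subgroup.zpowers_le.2 (hBP hc)))) (Subgroup.mem_zpowers c)
  obtain ⟨c, hcB, hc⟩ := SetLike.not_le_iff_exists.1 hBP
  have hcu : u * c ≠ c * u := fun h => hc (by
    rw [← Plane.zpowers_eq hP hu hu1, Plane.centralizer_zpowers]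
    exact Subgroup.mem_centralizer_singleton_iff.2 h.symm)
  have hc1 : c ≠ 1 := fun h => hcu (by rw [h, mul_one, one_mul])
  have hcc : Nat.card (Subgroup.zpowers c) = r := Plane.zpowers_card hBe hcB hc1
  have hsep : ∀ a : G, a ∈ L → a ∈ Subgroup.zpowers c → a = 1 := fun a ha ha' => by
    by_contra ha1
    have h1 : c ∈ L := by
      rw [← Plane.zpowers_eq hLc ha ha1, Plane.zpowers_eq hcc ha' ha1]
      exact Subgroup.mem_zpowers c
    obtain ⟨i, hi⟩ := Subgroup.mem_zpowers_iff.1 h1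
    exact hcu (hi ▸ ((show Commute u b from hbu).zpow_right i).eq)
  have hbcm : b * c = c * b := congrArg Subtype.val (mul_comm' (⟨b, hbB⟩ : B) ⟨c, hcB⟩)
  obtain ⟨L₀, hL₀B, huL₀⟩ : ∃ L₀ : Subgroup G, L₀ ≤ B ∧ u ∉ Subgroup.normalizer (L₀ : Set G) := by
    by_contra hcon
    push Not at hcon
    have h1 := (Subgroup.mem_normalizer_iff.1 (hcon _ (Subgroup.zpowers_le.2 hcB)) c).1 (Subgroup.mem_zpowers c)
    have h2 := (Subgroup.mem_normalizer_iff.1 (hcon _ (Subgroup.zpowers_le.2 (B.mul_mem hbB hcB))) (b * c)).1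
      (Subgroup.mem_zpowers _)
    obtain ⟨i, hi⟩ := Subgroup.mem_zpowers_iff.1 h1
    obtain ⟨j, hj⟩ := Subgroup.mem_zpowers_iff.1 h2
    have h3 : b * c ^ i = b ^ j * c ^ j := by
      rw [← (show Commute b c from hbcm).mul_zpow, hj, hi]
      calc b * (u * c * u⁻¹) = b * u * c * u⁻¹ := by group
        _ = u * b * c * u⁻¹ := by rw [hbu]
        _ = u * (b * c) * u⁻¹ := by group
    have h4 : b ^ (1 - j) = c ^ (j - i) := by
      have hbc' : ∀ m n : ℤ, b ^ m * c ^ n = c ^ n * b ^ m := fun m n =>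
        ((show Commute b c from hbcm).zpow_zpow m n).eq
      calc b ^ (1 - j) = b ^ (-j) * (b * c ^ i) * c ^ (-i) := by group
        _ = b ^ (-j) * (b ^ j * c ^ j) * c ^ (-i) := by rw [h3]
        _ = c ^ (j - i) := by group
    have h5 : b ^ (1 - j) = 1 := hsep _ (Subgroup.zpow_mem _ (Subgroup.mem_zpowers b) _)
      (h4 ▸ Subgroup.zpow_mem _ (Subgroup.mem_zpowers c) _)
    have hd1 : (r : ℤ) ∣ 1 - j := hb ▸ orderOf_dvd_iff_zpow_eq_one.2 h5
    have hco : orderOf c = r := by rw [← Nat.card_zpowers, hcc]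
    have hd2 : (r : ℤ) ∣ j - i := hco ▸ orderOf_dvd_iff_zpow_eq_one.2 (h4 ▸ h5)
    have h6 : c ^ (1 - i) = 1 := by
      refine orderOf_dvd_iff_zpow_eq_one.1 ?_
      rw [hco, show (1 : ℤ) - i = (1 - j) + (j - i) by ring]
      exact dvd_add hd1 hd2
    rw [zpow_sub, zpow_one, hi, mul_inv_eq_one] at h6
    exact hcu (eq_mul_inv_iff_mul_eq.1 h6).symm
  refine hX1 (le_bot_iff.1 ?_)
  rw [← d.line_regular hLB hLc (d.line_invariant (hEB (hPE hu)) hLB hLc (Subgroup.centralizer_le_normalizer _ ?_) hL₀B huL₀)]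
  · exact le_inf hXσ hXb
  · rw [hL, Plane.centralizer_zpowers]
    exact Subgroup.mem_centralizer_singleton_iff.2 hbu

end Cfsg.Agent.OddOrder.TauOne
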