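/-
The sets `σ(M)` of nonconjugate maximal subgroups are disjoint (BG 13.9).
-/
import Cfsg.Agent.Lib.OddOrder.TauOnePrime
import Cfsg.Agent.S1415
import Cfsg.Agent.S1422
import Cfsg.Agent.S1423

set_option autoImplicit false
set_option linter.style.haveILetI false
set_option linter.unusedSectionVars false

namespace Cfsg.Agent.OddOrder.SigmaDisj

open scoped commutatorElement
open Exceptional TauOne

universe u

variable {G : Type u} [Group G] [Finite G]

theorem line_le_derived (hG : Cfsg.IsMinSimpleOddOrder G) {p : ℕ} [hp : Fact p.Prime] {N P : Subgroup G}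
    (hr1 : Cfsg.PRankLE p 1 N) (hP : Nat.card P = p) (hPN : P ≤ N) (hd : p ∣ Nat.card (⁅N, N⁆ : Subgroup G)) :
    P ≤ ⁅N, N⁆ := by
  obtain ⟨⟨x, hx⟩, hxp⟩ := exists_prime_orderOf_dvd_card' (G := (⁅N, N⁆ : Subgroup G)) p hd
  rw [Subgroup.orderOf_mk] at hxp
  have hNN : ⁅N, N⁆ ≤ N := Subgroup.le_normalizer_iff_commutator_le_left.1 Subgroup.le_normalizer
  have hXc : Nat.card (Subgroup.zpowers x) = p := by rw [Nat.card_zpowers, hxp]
  obtain ⟨V, hV⟩ := ((IsPGroup.of_card (n := 1) (by rw [hP, pow_one]) : IsPGroup p P).comap_subtype (K := N)).exists_le_sylow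
  obtain ⟨V', hV'⟩ :=
    ((IsPGroup.of_card (n := 1) (by rw [hXc, pow_one]) : IsPGroup p (Subgroup.zpowers x)).comap_subtype (K := N)).exists_le_sylow
  obtain ⟨m, hm, he⟩ := Sigma.exists_sylow_conj V' V
  have hPV : P ≤ (V : Subgroup N).map N.subtype := fun y hy => ⟨⟨y, hPN hy⟩, hV hy, rfl⟩
  have hxV : m * x * m⁻¹ ∈ (V : Subgroup N).map N.subtype := by
    rw [he]
    exact ⟨x, ⟨⟨x, hNN hx⟩, hV' (Subgroup.mem_zpowers x), rfl⟩, rfl⟩
  have hxd : m * x * m⁻¹ ∈ ⁅N, N⁆ :=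
    (Subgroup.mem_normalizer_iff.1 (Subgroup.normalizer_commutator_ge_left N N hm) x).1 hx
  have hy1 : m * x * m⁻¹ ≠ 1 := fun e => hp.out.ne_one (by
    rw [← hxp, conj_eq_one_iff.1 e, orderOf_one])
  obtain ⟨w, hw, hw1⟩ := (Subgroup.bot_or_exists_ne_one _).resolve_left
    (inf_ne_bot_of_cyclic (isCyclic_of_rank_one hG hr1 (V.isPGroup'.map N.subtype) (Subgroup.map_subtype_le _))
      (V.isPGroup'.map N.subtype) hPV (Subgroup.zpowers_le.2 hxV)
      (fun e => hp.out.ne_one (by rw [← hP, e, Subgroup.card_bot])) (fun e => hy1 (Subgroup.zpowers_eq_bot.1 e)))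
  rw [← Plane.zpowers_eq hP hw.1 hw1, Subgroup.zpowers_le]
  exact (Subgroup.zpowers_le.2 hxd) hw.2

/-- In a group with cyclic Sylow `t`-subgroups, the line of a nontrivial `O_t` is normal. -/
theorem line_normal {t : ℕ} [ht : Fact t.Prime] {H : Subgroup G}
    (hcyc : ∀ R : Subgroup G, R ≤ H → IsPGroup t R → IsCyclic R) (hne : Cfsg.pCoreOf t H ≠ ⊥)
    {z : G} (hz : z ∈ H) (hzt : orderOf z = t) : H ≤ Subgroup.normalizer (Subgroup.zpowers z : Set G) := by
  set Y := Cfsg.pCoreOf t H with hY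
  set Z := Subgroup.zpowers z with hZ
  have hYH : Y ≤ H := FitOf.pCoreOf_le t H
  have hYp : IsPGroup t Y := FitOf.isPGroup_pCoreOf t H
  have hZc : Nat.card Z = t := by rw [hZ, Nat.card_zpowers, hzt]
  have hZp : IsPGroup t Z := IsPGroup.of_card (n := 1) (by rw [hZc, pow_one])
  have hZH : Z ≤ H := Subgroup.zpowers_le.2 hz
  have hZ1 : Z ≠ ⊥ := fun e => ht.out.ne_one (by rw [← hZc, e, Subgroup.card_bot])
  have hYZ : IsPGroup t (Y ⊔ Z : Subgroup G) :=
    hYp.to_sup_of_normal_left' hZp (hZH.trans (FitOf.le_normalizer_pCoreOf t H))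
  obtain ⟨w, hw, hw1⟩ := (Subgroup.bot_or_exists_ne_one _).resolve_left
    (inf_ne_bot_of_cyclic (hcyc _ (sup_le hYH hZH) hYZ) hYZ le_sup_left le_sup_right hne hZ1)
  have hzY : Z ≤ Y := by
    rw [← Plane.zpowers_eq hZc hw.2 hw1]
    exact Subgroup.zpowers_le.2 hw.1
  intro n hn
  rw [Subgroup.mem_normalizer_iff_map_conj_eq]
  have hnY : Z.map (MulAut.conj n).toMonoidHom ≤ Y := (Subgroup.map_mono hzY).trans
    (Subgroup.mem_normalizer_iff_map_conj_eq.1 (FitOf.le_normalizer_pCoreOf t H hn)).le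
  have hnc : Nat.card (Z.map (MulAut.conj n).toMonoidHom) = t := by
    rw [Subgroup.card_map_of_injective (MulAut.conj n).injective, hZc]
  obtain ⟨v, hv, hv1⟩ := (Subgroup.bot_or_exists_ne_one _).resolve_left
    (inf_ne_bot_of_cyclic (hcyc _ hYH hYp) hYp hnY hzY
      (fun e => ht.out.ne_one (by rw [← hnc, e, Subgroup.card_bot])) hZ1)
  exact (Plane.zpowers_eq hnc hv.1 hv1).symm.trans (Plane.zpowers_eq hZc hv.2 hv1)

theorem exists_normalizing_line {C : Subgroup G} [hsol : Group.IsSolvable C] {r r' : ℕ} [hr : Fact r.Prime]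
    [hr' : Fact r'.Prime] (hne : r ≠ r') (hc : ∀ R : Subgroup G, R ≤ C → IsPGroup r R → IsCyclic R)
    (hc' : ∀ R : Subgroup G, R ≤ C → IsPGroup r' R → IsCyclic R)
    {z z' : G} (hz : z ∈ C) (hz' : z' ∈ C) (hzr : orderOf z = r) (hzr' : orderOf z' = r') :
    (∃ c ∈ C, c * z' * c⁻¹ ∈ Subgroup.normalizer (Subgroup.zpowers z : Set G)) ∨
      ∃ c ∈ C, c * z * c⁻¹ ∈ Subgroup.normalizer (Subgroup.zpowers z' : Set G) := by
  set N₁ := Nat.card C / r ^ (Nat.card C).factorization r with hN₁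
  set a := (Nat.card C).factorization r
  set b := N₁.factorization r'
  set n := N₁ / r' ^ b with hn
  have h1 : r ^ a * N₁ = Nat.card C := Nat.ordProj_mul_ordCompl_eq_self _ _
  have h2 : r' ^ b * n = N₁ := Nat.ordProj_mul_ordCompl_eq_self _ _
  have hcard : Nat.card C = r ^ a * r' ^ b * n := by rw [mul_assoc, h2, h1]
  have hN0 : N₁ ≠ 0 := fun h => Nat.card_pos.ne' (h1.symm.trans (by rw [h, mul_zero]))
  have hrn : ¬ r ∣ n := fun h => Nat.not_dvd_ordCompl hr.out Nat.card_pos.ne' (h.trans (Dvd.intro_left _ h2))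
  have hr'n : ¬ r' ∣ n := Nat.not_dvd_ordCompl hr'.out hN0
  have hcr : r.Coprime n := hr.out.coprime_iff_not_dvd.2 hrn
  have hcr' : r'.Coprime n := hr'.out.coprime_iff_not_dvd.2 hr'n
  have hmn : (r ^ a * r' ^ b).Coprime n := (hcr.pow_left _).mul_left (hcr'.pow_left _)
  have hK : Nat.card (Subgroup.zpowers (⟨z, hz⟩ : C)) = r := by rw [Nat.card_zpowers, Subgroup.orderOf_mk, hzr]
  have hK' : Nat.card (Subgroup.zpowers (⟨z', hz'⟩ : C)) = r' := by rw [Nat.card_zpowers, Subgroup.orderOf_mk, hzr']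
  obtain ⟨H₀, hH₀, hzH₀⟩ := HallSolv.exists_hall_ge hcard hmn (K := Subgroup.zpowers (⟨z, hz⟩ : C)) (by rw [hK]; exact hcr)
  obtain ⟨g, hg⟩ := HallSolv.hall_conj_le hcard hmn hH₀ (K := Subgroup.zpowers (⟨z', hz'⟩ : C)) (by rw [hK']; exact hcr')
  set H := H₀.map C.subtype with hH
  have hHC : H ≤ C := Subgroup.map_subtype_le _
  have hzH : z ∈ H := ⟨⟨z, hz⟩, hzH₀ (Subgroup.mem_zpowers _), rfl⟩
  set w := (g : G) * z' * (g : G)⁻¹ with hw
  have hwH : w ∈ H := ⟨_, hg (Subgroup.smul_mem_pointwise_smul _ (MulAut.conj g) _ (Subgroup.mem_zpowers _)), rfl⟩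
  have hwo : orderOf w = r' := by rw [hw, ← MulAut.conj_apply, MulEquiv.orderOf_eq, hzr']
  haveI : Group.IsSolvable H := SolvBasic.isSolvable_of_le hHC
  haveI : Nontrivial H := (Subgroup.nontrivial_iff_ne_bot H).2 fun e => hr.out.ne_one (by
    have h0 : z = 1 := Subgroup.mem_bot.1 (e.le hzH)
    rw [← hzr, h0, orderOf_one])
  have hF : Cfsg.fittingOf H ≠ ⊥ := fun e => FittingCores.fitting_ne_bot (G := H)
    ((Subgroup.map_eq_bot_iff_of_injective _ H.subtype_injective).1 e)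
  obtain ⟨t, ht, htd⟩ := Nat.exists_prime_and_dvd fun e => hF (Subgroup.card_eq_one.1 e)
  have hcases : t = r ∨ t = r' := by
    have hd : t ∣ r ^ a * r' ^ b := by
      rw [← hH₀, ← Subgroup.card_map_of_injective C.subtype_injective]
      exact htd.trans (Subgroup.card_dvd_of_le (FitOf.fittingOf_le H))
    rcases ht.dvd_mul.1 hd with h | h
    · exact Or.inl ((Nat.prime_dvd_prime_iff_eq ht hr.out).1 (ht.dvd_of_dvd_pow h))
    · exact Or.inr ((Nat.prime_dvd_prime_iff_eq ht hr'.out).1 (ht.dvd_of_dvd_pow h))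
  have hne' := FitOf.pCoreOf_ne_bot_of_dvd ht htd
  rcases hcases with rfl | rfl
  · exact Or.inl ⟨g, g.2, line_normal (fun R hR => hc R (hR.trans hHC)) hne' hzH hzr hwH⟩
  · refine Or.inr ⟨(g : G)⁻¹, inv_mem g.2, ComplAbelian.mem_normalizer_of_map_le ?_⟩
    intro y hy
    obtain ⟨i, rfl⟩ := Subgroup.mem_zpowers_iff.1 hy
    have h3 := (Subgroup.mem_normalizer_iff.1 (line_normal (fun R hR => hc' R (hR.trans hHC)) hne' hwH hwo hzH) (w ^ i)).1
      (Subgroup.zpow_mem _ (Subgroup.mem_zpowers w) i)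
    obtain ⟨j, hj⟩ := Subgroup.mem_zpowers_iff.1 h3
    refine Subgroup.mem_zpowers_iff.2 ⟨j, ?_⟩
    simp only [hw, conj_zpow] at hj
    calc z' ^ j = (g : G)⁻¹ * ((g : G) * z' ^ j * (g : G)⁻¹) * g := by group
      _ = (g : G)⁻¹ * (z * ((g : G) * z' ^ i * (g : G)⁻¹) * z⁻¹) * g := by rw [hj]
      _ = _ := by group

/-- Two nonconjugate maximal subgroups over the normalizer of a Sylow subgroup. -/
structure Pair (q : ℕ) (S : Sylow q G) (M N : Subgroup G) : Prop where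
  minSimple : Cfsg.IsMinSimpleOddOrder G
  coatomM : IsCoatom M
  coatomN : IsCoatom N
  nonconj : ∀ g : G, N ≠ M.map (MulAut.conj g).toMonoidHom
  sigmaM : q ∈ Cfsg.sigma M
  sigmaN : q ∈ Cfsg.sigma N
  normM : Subgroup.normalizer ((S : Subgroup G) : Set G) ≤ M
  normN : Subgroup.normalizer ((S : Subgroup G) : Set G) ≤ N

namespace Pair

variable {q : ℕ} [hq : Fact q.Prime] {S : Sylow q G} {M N : Subgroup G} (h : Pair q S M N)
include h

theorem symm : Pair q S N M := ⟨h.minSimple, h.coatomN, h.coatomM,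
  fun g hg => h.nonconj g⁻¹ (by rw [hg, Sigma.map_conj_map, inv_mul_cancel, Sigma.map_conj_one]),
  h.sigmaN, h.sigmaM, h.normN, h.normM⟩

theorem ne : M ≠ N := fun e => h.nonconj 1 (by rw [Sigma.map_conj_one, e])

theorem S_le : (S : Subgroup G) ≤ M := Subgroup.le_normalizer.trans h.normM

theorem S_le_core : (S : Subgroup G) ≤ Cfsg.sigmaCore M :=
  le_sigmaCore h.minSimple h.coatomM h.sigmaM S.isPGroup' h.S_le

theorem S_ne : (S : Subgroup G) ≠ ⊥ :=
  S.ne_bot_of_dvd_card (h.sigmaM.2.1.trans M.card_subgroup_dvd_card)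

theorem nonconj_beta {r : ℕ} (hr : r ∈ Cfsg.beta M) : r ∉ Cfsg.sigma N := fun hσ => by
  haveI := Fact.mk hr.1.1
  obtain ⟨g, hg⟩ := SigmaConj.conj_of_rank h.minSimple h.coatomM h.coatomN
    (BetaCore.beta_subset_sigma h.minSimple h.coatomM hr) hσ hr.2.2.1
  exact h.nonconj g hg

theorem not_beta : q ∉ Cfsg.beta M := fun hb => h.nonconj_beta hb h.sigmaN

theorem not_unique : ¬ Cfsg.InUniqueMaximal (S : Subgroup G) := fun hu => by
  obtain ⟨L, -, hL⟩ := hu
  exact h.ne ((hL M ⟨h.coatomM, h.S_le⟩).trans (hL N ⟨h.coatomN, h.symm.S_le⟩).symm)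

theorem exists_compl : ∃ E : Subgroup G, Cfsg.IsComplIn E (Cfsg.sigmaCore M) M ∧
    E ≤ Subgroup.normalizer ((S : Subgroup G) : Set G) := by
  obtain ⟨E, hE, -, hEn⟩ := TauOne.exists_complement_normalizing h.minSimple h.coatomM (P := ⊥)
    (by rw [Subgroup.card_bot]; exact Nat.coprime_one_left _) bot_le (S.subtype h.S_le_core) bot_le
  rw [Sylow.coe_subtype, Subgroup.map_subgroupOf_eq_of_le h.S_le_core] at hEn
  exact ⟨E, hE, hEn⟩

theorem tau2_empty (r : ℕ) : r ∉ Cfsg.tau2 M := fun hr => by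
  haveI := Fact.mk hr.1
  obtain ⟨E, hE, hEn⟩ := h.exists_compl
  obtain ⟨A, hAE, hAe, hA⟩ := TauTwo.exists_plane (p := r) h.minSimple h.coatomM hE hr
  have hbot := PlaneUnique.inf_eq_bot h.minSimple h.coatomM (hAE.trans hE.1) hAe hA hr.2.1 h.coatomN
    ((hAE.trans hEn).trans h.normN) h.ne.symm
  exact h.S_ne (le_bot_iff.1 (hbot ▸ le_inf h.S_le_core h.symm.S_le))

theorem exists_line : ∃ (p : ℕ) (P : Subgroup G), p ∈ Cfsg.tau1 M ∧ Nat.card P = p ∧
    P ≤ Subgroup.normalizer ((S : Subgroup G) : Set G) := by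
  have hG := h.minSimple
  obtain ⟨E, hE, hEn⟩ := h.exists_compl
  by_contra hno
  push Not at hno
  have h3 : ∀ r : ℕ, r.Prime → r ∣ Nat.card E → r ∈ Cfsg.tau3 M := by
    intro r hr hd
    haveI := Fact.mk hr
    have hσ := not_dvd_complement hG h.coatomM hE hr hd
    have hr2 : Cfsg.PRankLE r 2 M := by
      by_contra hh
      exact hσ (Sigma.alpha_subset_sigma hG h.coatomM ⟨hr, hh⟩)
    have hr1 : Cfsg.PRankLE r 1 M := not_not.1 fun hh => h.tau2_empty r ⟨hr, hσ, hr2, hh⟩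
    refine ⟨hr, hσ, not_not.1 fun hnd => ?_, hr1⟩
    obtain ⟨⟨x, hx⟩, hxr⟩ := exists_prime_orderOf_dvd_card' (G := E) r hd
    rw [Subgroup.orderOf_mk] at hxr
    exact hno r (Subgroup.zpowers x) ⟨hr, hσ, hd.trans (Subgroup.card_dvd_of_le hE.1), hnd, hr1⟩
      (by rw [Nat.card_zpowers, hxr]) (Subgroup.zpowers_le.2 (hEn hx))
  obtain ⟨-, -, hall⟩ := S1415.result hG M h.coatomM E hE
  obtain ⟨-, hEd, -⟩ := hall E ⟨le_rfl, h3, fun r hr _ hd => hr.ne_one (Nat.dvd_one.1 (by rwa [Subgroup.relIndex_self] at hd))⟩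
  haveI := MinSimple.isSolvable hG h.coatomM.1
  haveI : Group.IsSolvable E := SolvBasic.isSolvable_of_le hE.1
  have hEbot : E = ⊥ := by
    by_contra hne
    haveI : Nontrivial E := (Subgroup.nontrivial_iff_ne_bot E).2 hne
    refine (Group.IsSolvable.commutator_lt_top_of_nontrivial E).ne (eq_top_iff.2 fun x _ => ?_)
    exact BetaCore.le_commutator le_rfl (hEd x.2)
  have hc := (SigmaAction.sigmaCore_commutator hG h.coatomM hE).1
  rw [hEbot, Subgroup.commutator_bot_right] at hc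
  exact h.S_ne (le_bot_iff.1 (hc ▸ h.S_le_core))

variable {p : ℕ} [hp : Fact p.Prime] {P : Subgroup G}

theorem fixed_trivial (hp1 : p ∈ Cfsg.tau1 M) (hP : Nat.card P = p)
    (hPS : P ≤ Subgroup.normalizer ((S : Subgroup G) : Set G)) :
    (S : Subgroup G) ⊓ Subgroup.centralizer (P : Set G) = ⊥ := by
  by_contra hne
  haveI : Nontrivial ((S : Subgroup G) ⊓ Subgroup.centralizer (P : Set G) : Subgroup G) :=
    (Subgroup.nontrivial_iff_ne_bot _).2 hne
  obtain ⟨k, hk, hk'⟩ := (S.isPGroup'.to_le (inf_le_left :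
    (S : Subgroup G) ⊓ Subgroup.centralizer (P : Set G) ≤ S)).nontrivial_iff_card.1 inferInstance
  obtain ⟨x, hx⟩ := exists_prime_orderOf_dvd_card'
    (G := ((S : Subgroup G) ⊓ Subgroup.centralizer (P : Set G) : Subgroup G)) q (hk' ▸ dvd_pow_self q hk.ne')
  have hXc : Nat.card (Subgroup.zpowers (x : G)) = q := by rw [Nat.card_zpowers, Subgroup.orderOf_coe, hx]
  have hXS : Subgroup.zpowers (x : G) ≤ (S : Subgroup G) := Subgroup.zpowers_le.2 x.2.1
  have hcases := TauOne.centralized_cases h.minSimple h.coatomM hp1 hP (hPS.trans h.normM) hXc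
    (hXS.trans h.S_le_core) (Subgroup.zpowers_le.2 x.2.2)
  obtain ⟨-, hu, -⟩ := S1423.result h.minSimple M h.coatomM q h.sigmaM _ (hXS.trans h.S_le) hXc
    (S.subtype h.S_le_core) hcases
  rw [Sylow.coe_subtype, Subgroup.map_subgroupOf_eq_of_le h.S_le_core] at hu
  exact h.not_unique hu

theorem not_le_derived (hP : Nat.card P = p) (hPS : P ≤ Subgroup.normalizer ((S : Subgroup G) : Set G))
    (hqp : q ≠ p) (hfix : (S : Subgroup G) ⊓ Subgroup.centralizer (P : Set G) = ⊥) : ¬ P ≤ ⁅M, M⁆ := fun hd => by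
  have hG := h.minSimple
  have hPp : IsPGroup p P := IsPGroup.of_card (n := 1) (by rw [hP, pow_one])
  have hPM : P ≤ M := hPS.trans h.normM
  refine h.S_ne (le_bot_iff.1 (le_trans (le_inf le_rfl ?_) hfix.le))
  by_cases hpβ : p ∈ Cfsg.beta M
  · obtain ⟨U, hU⟩ := (hPp.comap_subtype (K := M)).exists_le_sylow
    set B := Cfsg.piCoreOf (Cfsg.beta M) M with hB
    have hPU : P ≤ (U : Subgroup M).map M.subtype := fun x hx => ⟨⟨x, hPM hx⟩, hU hx, rfl⟩
    have hPB : P ≤ B := hPU.trans (Subgroup.map_mono (BetaCore.sylow_le_piCore hG h.coatomM hpβ U))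
    have hMB : M ≤ Subgroup.normalizer (B : Set G) := AxB.le_normalizer_map_subtype (Cfsg.piCore_normal _ _)
    have h1 : ⁅(S : Subgroup G), P⁆ ≤ B := (Subgroup.commutator_mono h.S_le hPB).trans
      (by rw [Subgroup.commutator_comm]; exact Subgroup.le_normalizer_iff_commutator_le_left.1 hMB)
    refine Subgroup.commutator_eq_bot_iff_le_centralizer.1 (Subgroup.card_eq_one.1 ?_)
    by_contra hne
    obtain ⟨t, ht, htd⟩ := Nat.exists_prime_and_dvd hne
    have htq : t = q := Set.mem_singleton_iff.1 (Inv.primes_of_isPGroup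
      (S.isPGroup'.to_le (CoprimeAct.commutator_le_left hPS)) t ht htd)
    exact h.not_beta (htq ▸ MinSimple.isPi_piCoreOf t ht (htd.trans (Subgroup.card_dvd_of_le h1)))
  · exact SigmaConj.sylow_centralizes hG h.coatomM hPp hd hpβ hqp h.not_beta S.isPGroup' h.S_le hPS

theorem tau1_other (hp1 : p ∈ Cfsg.tau1 M) (hP : Nat.card P = p)
    (hPS : P ≤ Subgroup.normalizer ((S : Subgroup G) : Set G)) : p ∈ Cfsg.tau1 N := by
  have hG := h.minSimple
  have hPN : P ≤ N := hPS.trans h.normN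
  have hPp : IsPGroup p P := IsPGroup.of_card (n := 1) (by rw [hP, pow_one])
  have hnd := h.symm.not_le_derived hP hPS (fun e => hp1.2.1 (e ▸ h.sigmaM)) (h.fixed_trivial hp1 hP hPS)
  have hpN : p ∉ Cfsg.sigma N := fun hσ => hnd (sylow_le_derived' hG h.coatomN hσ hPp hPN)
  have hr2 : Cfsg.PRankLE p 2 N := by
    by_contra hh
    exact hpN (Sigma.alpha_subset_sigma hG h.coatomN ⟨hp.out, hh⟩)
  have hr1 : Cfsg.PRankLE p 1 N := not_not.1 fun hh => h.symm.tau2_empty p ⟨hp.out, hpN, hr2, hh⟩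
  exact ⟨hp.out, hpN, (hP ▸ dvd_rfl : p ∣ Nat.card P).trans (Subgroup.card_dvd_of_le hPN),
    fun hd => hnd (line_le_derived hG hr1 hP hPN hd), hr1⟩

set_option maxHeartbeats 1000000 in
/-- An element of `C_M(P)` with prime order in `β(N)` pulls `C_{M_σ}(P)` into `N`. -/
theorem cent_le (hp1 : p ∈ Cfsg.tau1 M) (hP : Nat.card P = p)
    (hPS : P ≤ Subgroup.normalizer ((S : Subgroup G) : Set G)) {r : ℕ} [hr : Fact r.Prime] {w : G}
    (hwr : orderOf w = r) (hwM : w ∈ M) (hwP : w ∈ Subgroup.centralizer (P : Set G)) (hrβ : r ∈ Cfsg.beta N) :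
    Cfsg.sigmaCore M ⊓ Subgroup.centralizer (P : Set G) ≤ N := by
  have hG := h.minSimple
  have hM := h.coatomM
  have hN := h.coatomN
  have hrM : r ∉ Cfsg.sigma M := h.symm.nonconj_beta hrβ
  obtain ⟨E, hE, hEn⟩ := h.exists_compl
  set W := Subgroup.zpowers w with hW
  have hWc : Nat.card W = r := by rw [hW, Nat.card_zpowers, hwr]
  obtain ⟨m, hm, hmE⟩ := TauTwo.exists_conj_le_complement hG hM hE
    (IsPGroup.of_card (n := 1) (by rw [hWc, pow_one]) : IsPGroup r W) (Subgroup.zpowers_le.2 hwM) hrM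
  set W' := W.map (MulAut.conj m).toMonoidHom with hW'
  set P' := P.map (MulAut.conj m).toMonoidHom with hP'
  have hW'c : Nat.card W' = r := by rw [hW', Subgroup.card_map_of_injective (MulAut.conj m).injective, hWc]
  have hP'c : Nat.card P' = p := by rw [hP', Subgroup.card_map_of_injective (MulAut.conj m).injective, hP]
  have hW'N : W' ≤ N := (hmE.trans hEn).trans h.normN
  obtain ⟨⟨hCN, -⟩, -, -⟩ := S1423.result hG N hN r (BetaCore.beta_subset_sigma hG hN hrβ) W' hW'N hW'c default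
    (Or.inl hrβ)
  have hP'M : P' ≤ M := by
    rintro _ ⟨x, hx, rfl⟩
    exact M.mul_mem (M.mul_mem hm (h.normM (hPS hx))) (M.inv_mem hm)
  have hWP : W' ≤ Subgroup.centralizer (P' : Set G) := by
    rintro _ ⟨x, hx, rfl⟩
    refine Subgroup.mem_centralizer_iff.2 ?_
    rintro _ ⟨y, hy, rfl⟩
    have hc := Subgroup.mem_centralizer_iff.1 ((Subgroup.zpowers_le.2 hwP : W ≤ _) hx) y hy
    rw [← map_mul, ← map_mul, hc]
  have hP'N : P' ≤ N := (Subgroup.le_centralizer_iff.1 hWP).trans hCN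
  have hle : Cfsg.sigmaCore M ⊓ Subgroup.centralizer (P' : Set G) ≤ N :=
    (TauOne.centralizer_le hG hM hp1 hP'c hP'M hr.out hW'c hrM (hmE.trans hE.1) hWP).trans hCN
  set D := M ⊓ N with hD
  have hPD : P ≤ D := le_inf (hPS.trans h.normM) (hPS.trans h.normN)
  have hP'D : P' ≤ D := le_inf hP'M hP'N
  obtain ⟨V, hV⟩ := ((IsPGroup.of_card (n := 1) (by rw [hP, pow_one]) : IsPGroup p P).comap_subtype (K := D)).exists_le_sylow
  obtain ⟨V', hV'⟩ :=
    ((IsPGroup.of_card (n := 1) (by rw [hP'c, pow_one]) : IsPGroup p P').comap_subtype (K := D)).exists_le_sylow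
  obtain ⟨d, hd, he⟩ := Sigma.exists_sylow_conj V' V
  have hPV : P ≤ (V : Subgroup D).map D.subtype := fun y hy => ⟨⟨y, hPD hy⟩, hV hy, rfl⟩
  have hP'V : P'.map (MulAut.conj d).toMonoidHom ≤ (V : Subgroup D).map D.subtype := by
    rw [he]
    exact Subgroup.map_mono fun y hy => ⟨⟨y, hP'D hy⟩, hV' hy, rfl⟩
  have hc' : Nat.card (P'.map (MulAut.conj d).toMonoidHom) = p := by
    rw [Subgroup.card_map_of_injective (MulAut.conj d).injective, hP'c]
  obtain ⟨v, hv, hv1⟩ := (Subgroup.bot_or_exists_ne_one _).resolve_left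
    (inf_ne_bot_of_cyclic
      (isCyclic_of_rank_one hG hp1.2.2.2.2 (V.isPGroup'.map D.subtype) ((Subgroup.map_subtype_le _).trans inf_le_left))
      (V.isPGroup'.map D.subtype) hPV hP'V
      (fun e => hp.out.ne_one (by rw [← hP, e, Subgroup.card_bot]))
      (fun e => hp.out.ne_one (by rw [← hc', e, Subgroup.card_bot])))
  have heq : P'.map (MulAut.conj d).toMonoidHom = P :=
    (Plane.zpowers_eq hc' hv.2 hv1).symm.trans (Plane.zpowers_eq hP hv.1 hv1)
  intro x hx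
  have hy : d⁻¹ * x * d ∈ Cfsg.sigmaCore M ⊓ Subgroup.centralizer (P' : Set G) := by
    constructor
    · have := (Subgroup.mem_normalizer_iff.1 (le_normalizer_sigmaCore M (M.inv_mem hd.1)) x).1 hx.1
      rwa [inv_inv] at this
    · refine Subgroup.mem_centralizer_iff.2 fun y hy => ?_
      have hmem : d * y * d⁻¹ ∈ P := heq.le ⟨y, hy, rfl⟩
      have hc := Subgroup.mem_centralizer_iff.1 hx.2 _ hmem
      calc y * (d⁻¹ * x * d) = d⁻¹ * (d * y * d⁻¹ * x) * d := by group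
        _ = d⁻¹ * (x * (d * y * d⁻¹)) * d := by rw [hc]
        _ = d⁻¹ * x * d * y := by group
  have h1 := N.mul_mem (N.mul_mem hd.2 (hle hy)) (N.inv_mem hd.2)
  rwa [show d * (d⁻¹ * x * d) * d⁻¹ = x by group] at h1

set_option maxHeartbeats 1000000 in
/-- The contradiction when `C_{M_β}(P) ≤ N`. -/
theorem false_of (hp1 : p ∈ Cfsg.tau1 M) (hP : Nat.card P = p)
    (hPS : P ≤ Subgroup.normalizer ((S : Subgroup G) : Set G))
    (hCB : Cfsg.piCoreOf (Cfsg.beta M) M ⊓ Subgroup.centralizer (P : Set G) ≤ N) : False := by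
  have hG := h.minSimple
  have hM := h.coatomM
  have hPp : IsPGroup p P := IsPGroup.of_card (n := 1) (by rw [hP, pow_one])
  have hqp : q ≠ p := fun e => hp1.2.1 (e ▸ h.sigmaM)
  set Sg := (S : Subgroup G) with hSg
  set B := Cfsg.piCoreOf (Cfsg.beta M) M with hB
  have hBM : B ≤ M := Subgroup.map_subtype_le _
  have hMB : M ≤ Subgroup.normalizer (B : Set G) := AxB.le_normalizer_map_subtype (Cfsg.piCore_normal _ _)
  -- `B ⊓ N` is centralized by `S`
  have hV : B ⊓ N ≤ Subgroup.centralizer (Sg : Set G) := by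
    refine Subgroup.commutator_eq_bot_iff_le_centralizer.1 (Subgroup.card_eq_one.1 ?_)
    by_contra hne
    obtain ⟨t, ht, htd⟩ := Nat.exists_prime_and_dvd hne
    have hSn : Sg ≤ Subgroup.normalizer ((B ⊓ N : Subgroup G) : Set G) :=
      (le_inf (h.S_le.trans hMB) (h.symm.S_le.trans Subgroup.le_normalizer)).trans
        Subgroup.inf_normalizer_le_normalizer_inf
    have h1 : ⁅B ⊓ N, Sg⁆ ≤ B := (CoprimeAct.commutator_le_left hSn).trans inf_le_left
    have h2 : ⁅B ⊓ N, Sg⁆ ≤ Cfsg.sigmaCore N := (Subgroup.commutator_mono inf_le_right h.symm.S_le_core).trans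
      (by rw [Subgroup.commutator_comm]; exact Subgroup.le_normalizer_iff_commutator_le_left.1 (le_normalizer_sigmaCore N))
    exact h.nonconj_beta (MinSimple.isPi_piCoreOf t ht (htd.trans (Subgroup.card_dvd_of_le h1)))
      (mem_sigma_of_dvd ht (htd.trans (Subgroup.card_dvd_of_le h2)))
  -- `[S, P] = S`
  have hcopSP : (Nat.card P).Coprime (Nat.card Sg) := by
    obtain ⟨k, hk⟩ := S.isPGroup'.exists_card_eq
    rw [hP, hk]
    exact ((Nat.coprime_primes hp.out hq.out).2 hqp.symm).pow_right _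
  haveI := hPp.isNilpotent
  have hSP : ⁅Sg, P⁆ = Sg := by
    have h1 := CoprimeAct.commutator_sup_centralizer hPS hcopSP (Or.inl inferInstance)
    rwa [h.fixed_trivial hp1 hP hPS, sup_bot_eq] at h1
  -- `S` centralizes `B`
  set A := Sg ⊔ P with hA
  have hAM : A ≤ M := sup_le h.S_le (hPS.trans h.normM)
  have hcop : (Nat.card A).Coprime (Nat.card B) := by
    refine Nat.coprime_of_dvd fun t ht hdA hdB => ?_
    have htβ := MinSimple.isPi_piCoreOf t ht hdB
    rcases ht.dvd_mul.1 (hdA.trans (Dvd.intro _ (SolvBasic.card_sup_mul_card_inf hPS))) with h' | h'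
    · exact h.not_beta (Set.mem_singleton_iff.1 (Inv.primes_of_isPGroup S.isPGroup' t ht h') ▸ htβ)
    · rw [hP, Nat.prime_dvd_prime_iff_eq ht hp.out] at h'
      exact hp1.2.1 (BetaCore.beta_subset_sigma hG hM (h' ▸ htβ))
  haveI := MinSimple.isSolvable hG hM.1
  have hBsolv : Group.IsSolvable B := SolvBasic.isSolvable_of_le hBM
  have hBS : B ≤ Subgroup.centralizer (Sg : Set G) := by
    rw [← Subgroup.subgroupOf_eq_top]
    refine FittingCores.eq_top_of_forall_sylow_le fun t ht => ?_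
    haveI := Fact.mk ht
    obtain ⟨W, hW⟩ := CoprimeAct.exists_invariant_sylow (hAM.trans hMB) hcop (Or.inr hBsolv) t
    refine ⟨W, fun x hx => ?_⟩
    by_cases hx1 : x = 1
    · rw [hx1]; exact one_mem _
    have htβ : t ∈ Cfsg.beta M := MinSimple.isPi_piCoreOf t ht
      ((W.isPGroup'.card_eq_or_dvd.resolve_left fun e => hx1 (Subgroup.mem_bot.1 (Subgroup.card_eq_one.1 e ▸ hx))).trans
        (Subgroup.card_subgroup_dvd_card _))
    have htσ := BetaCore.beta_subset_sigma hG hM htβ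
    refine TauOne.le_centralizer_of_fixed (p := t) (q := q) (r := p) (fun e => h.not_beta (e ▸ htβ)) hqp.symm
      (fun e => hp1.2.1 (e ▸ htσ)) (Uniq.ne_two_of_dvd hG (h.sigmaM.2.1.trans M.card_subgroup_dvd_card))
      (Uniq.ne_two_of_dvd hG (htσ.2.1.trans M.card_subgroup_dvd_card)) hP S.isPGroup' hPS hSP _ _ le_rfl
      (W.isPGroup'.map B.subtype) (le_sup_right.trans hW) (le_sup_left.trans hW) (fun y hy _ hyP => ?_) ⟨x, hx, rfl⟩
    exact hV ⟨Subgroup.map_subtype_le _ hy, hCB ⟨Subgroup.map_subtype_le _ hy, hyP⟩⟩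
  -- `M_σ ≤ N`
  have hKM := sigmaCore_le M
  have hBK : B ≤ Cfsg.sigmaCore M := MinSimple.le_piCoreOf hBM hMB fun t ht hd =>
    BetaCore.beta_subset_sigma hG hM (MinSimple.isPi_piCoreOf t ht hd)
  obtain ⟨H, ⟨hHK, -, hHidx⟩, hHnil⟩ := BetaCore.exists_nilpotent_hall hG hM hBK (Sigma.piCoreOf_le_derived hG hM subset_rfl)
  have hsup : Cfsg.sigmaCore M ≤ B ⊔ H := by
    rw [← Subgroup.relIndex_eq_one]
    by_contra hne
    obtain ⟨t, ht, htd⟩ := Nat.exists_prime_and_dvd hne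
    by_cases htβ : t ∈ Cfsg.beta M
    · exact (BetaCore.hall hG hM).1.2.2 t ht htβ ((htd.trans (Subgroup.relIndex_dvd_of_le_left _ le_sup_left)).trans
        ⟨_, (Subgroup.relIndex_mul_relIndex B (Cfsg.sigmaCore M) M hBK hKM).symm⟩)
    · exact hHidx t ht ⟨ht, htβ⟩ (htd.trans (Subgroup.relIndex_dvd_of_le_left _ le_sup_right))
  obtain ⟨SH⟩ : Nonempty (Sylow q H) := inferInstance
  set SHm := (SH : Subgroup H).map H.subtype with hSHm
  have hSHK : SHm ≤ Cfsg.sigmaCore M := (Subgroup.map_subtype_le _).trans hHK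
  have hSHc : Nat.card SHm = q ^ (Nat.card (Cfsg.sigmaCore M)).factorization q := by
    rw [hSHm, CoprimeAct.card_map_sylow]
    refine congrArg _ ?_
    have h1 : Nat.card H * H.relIndex (Cfsg.sigmaCore M) = Nat.card (Cfsg.sigmaCore M) := by
      rw [← Subgroup.relIndex_bot_left H, ← Subgroup.relIndex_bot_left (Cfsg.sigmaCore M)]
      exact Subgroup.relIndex_mul_relIndex _ _ _ bot_le hHK
    have h2 : H.relIndex (Cfsg.sigmaCore M) ≠ 0 := fun e => Nat.card_pos.ne' (h1.symm.trans (by rw [e, mul_zero]))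
    rw [← h1, Nat.factorization_mul Nat.card_pos.ne' h2, Finsupp.coe_add, Pi.add_apply,
      Nat.factorization_eq_zero_of_not_dvd (hHidx q hq.out ⟨hq.out, h.not_beta⟩), add_zero]
  obtain ⟨T, hT⟩ := CoprimeAct.exists_sylow_of_card hSHK hSHc
  obtain ⟨k, hk⟩ := MulAction.exists_smul_eq (Cfsg.sigmaCore M) T (S.subtype h.S_le_core)
  have hkS : SHm.map (MulAut.conj (k : G)).toMonoidHom = Sg := by
    have h1 := congrArg (fun T : Sylow q (Cfsg.sigmaCore M) => (T : Subgroup (Cfsg.sigmaCore M)).map (Cfsg.sigmaCore M).subtype) hk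
    simp only [Sylow.coe_subgroup_smul, Sylow.coe_subtype] at h1
    rw [Subgroup.map_subgroupOf_eq_of_le h.S_le_core, SolvBasic.map_subtype_conjSmul, hT] at h1
    exact h1
  haveI := hHnil
  haveI := SH.normal_of_normalizerCondition Group.normalizerCondition_of_isNilpotent
  have hHn : H ≤ Subgroup.normalizer (SHm : Set G) := AxB.le_normalizer_map_subtype inferInstance
  obtain ⟨b, hb, e, he, hbe⟩ := (SolvBasic.mem_sup_iff_of_le_normalizer ((hHK.trans hKM).trans hMB)).1 (hsup k.2)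
  have hbS : b ∈ Subgroup.normalizer (Sg : Set G) := Subgroup.centralizer_le_normalizer _ (hBS hb)
  have hSH : SHm = Sg := by
    have h1 := hkS
    rw [hbe, ← Sigma.map_conj_map] at h1
    have he' : SHm.map (MulAut.conj e).toMonoidHom = SHm := Subgroup.mem_normalizer_iff_map_conj_eq.1 (hHn he)
    have hb' : Sg.map (MulAut.conj b).toMonoidHom = Sg := Subgroup.mem_normalizer_iff_map_conj_eq.1 hbS
    rw [he'] at h1
    exact Subgroup.map_injective (MulAut.conj b).injective (h1.trans hb'.symm)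
  have hKN : Cfsg.sigmaCore M ≤ N := hsup.trans (sup_le
    ((hBS.trans (Subgroup.centralizer_le_normalizer _)).trans h.normN) ((hSH ▸ hHn).trans h.normN))
  obtain ⟨E, hE, hEn⟩ := h.exists_compl
  have hMN : M ≤ N := Compl.sup_eq hE ▸ sup_le (hEn.trans h.normN) hKN
  exact h.ne ((hM.le_iff_eq h.coatomN.1).1 hMN).symm

set_option maxHeartbeats 1000000 in
theorem false : False := by
  have hG := h.minSimple
  have hM := h.coatomM
  have hN := h.coatomN
  obtain ⟨p, P, hp1, hP, hPS⟩ := h.exists_line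
  haveI := Fact.mk hp1.1
  have hp1N := h.tau1_other hp1 hP hPS
  refine h.false_of hp1 hP hPS ?_
  by_contra hA
  by_contra hB
  have hB' : ¬ Cfsg.piCoreOf (Cfsg.beta N) N ⊓ Subgroup.centralizer (P : Set G) ≤ M :=
    h.symm.false_of hp1N hP hPS
  obtain ⟨r, hr, hrd⟩ := Nat.exists_prime_and_dvd (fun e => hA ((Subgroup.card_eq_one.1 e).le.trans bot_le) :
    Nat.card (Cfsg.piCoreOf (Cfsg.beta M) M ⊓ Subgroup.centralizer (P : Set G) : Subgroup G) ≠ 1)
  obtain ⟨r', hr', hrd'⟩ := Nat.exists_prime_and_dvd (fun e => hB' ((Subgroup.card_eq_one.1 e).le.trans bot_le) :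
    Nat.card (Cfsg.piCoreOf (Cfsg.beta N) N ⊓ Subgroup.centralizer (P : Set G) : Subgroup G) ≠ 1)
  haveI := Fact.mk hr
  haveI := Fact.mk hr'
  obtain ⟨⟨z, hzB, hzP⟩, hz⟩ := exists_prime_orderOf_dvd_card' _ hrd
  obtain ⟨⟨z', hz'B, hz'P⟩, hz'⟩ := exists_prime_orderOf_dvd_card' _ hrd'
  replace hz : orderOf z = r := (Subgroup.orderOf_coe _).trans hz
  replace hz' : orderOf z' = r' := (Subgroup.orderOf_coe _).trans hz'
  have hrβ : r ∈ Cfsg.beta M := MinSimple.isPi_piCoreOf r hr (hz ▸ Subgroup.orderOf_dvd_natCard _ hzB)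
  have hr'β : r' ∈ Cfsg.beta N := MinSimple.isPi_piCoreOf r' hr' (hz' ▸ Subgroup.orderOf_dvd_natCard _ hz'B)
  have hP1 : P ≠ ⊥ := fun hb => hp1.1.ne_one (by rw [← hP, hb, Subgroup.card_bot])
  obtain ⟨L, hL, hNP⟩ := Uniq.exists_maximal_ge (MinSimple.normalizer_ne_top hG hP1
    (MinSimple.pSubgroup_ne_top hG (IsPGroup.of_card (n := 1) (by rw [hP, pow_one]) : IsPGroup p P)))
  have hnc : ∀ X : Subgroup G, p ∈ Cfsg.tau1 X → ∀ g : G, L ≠ X.map (MulAut.conj g).toMonoidHom := fun X hX g hg => by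
    by_cases hpL : p ∈ Cfsg.sigma L
    · exact hX.2.1 (PrimeAction.sigma_of_conj g (hg ▸ hpL))
    · exact (S1409.result hG L hL p hpL P hP hNP).1.2 (hg ▸ PrimeAction.rank_of_conj g hX.2.2.2.2)
  have hrank : ∀ X : Subgroup G, IsCoatom X → p ∈ Cfsg.tau1 X → ∀ t : ℕ, t ∈ Cfsg.beta X → Cfsg.PRankLE t 1 L := by
    intro X hX hpX t ht
    haveI := Fact.mk ht.1.1
    have htL : t ∉ Cfsg.sigma L := fun hσ => by
      obtain ⟨g, hg⟩ := SigmaConj.conj_of_rank hG hX hL (BetaCore.beta_subset_sigma hG hX ht) hσ ht.2.2.1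
      exact hnc X hpX g hg
    by_contra hh
    have hτ : t ∈ Cfsg.tau2 L := ⟨ht.1.1, htL, by
      by_contra h2
      exact htL (Sigma.alpha_subset_sigma hG hL ⟨ht.1.1, h2⟩), hh⟩
    obtain ⟨U⟩ : Nonempty (Sylow t L) := inferInstance
    obtain ⟨A, hAU, hAe, hA⟩ := ComplBasics.exists_plane_sylow hτ U
    obtain ⟨A₀, hexc, -⟩ := PlaneUnique.exists_exc hG hL (hAU.trans (Subgroup.map_subtype_le _)) hAe hA htL
    exact hexc.maximal.not_beta X ht
  set C := Subgroup.centralizer (P : Set G) with hC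
  have hCL : C ≤ L := (Subgroup.centralizer_le_normalizer _).trans hNP
  haveI := MinSimple.isSolvable hG hL.1
  haveI : Group.IsSolvable C := SolvBasic.isSolvable_of_le hCL
  have hne : r ≠ r' := fun e => h.nonconj_beta hrβ (e ▸ BetaCore.beta_subset_sigma hG hN hr'β)
  have huniq : ∀ (X : Subgroup G), IsCoatom X → ∀ (t : ℕ) [Fact t.Prime], t ∈ Cfsg.beta X → ∀ y ∈ X, orderOf y = t →
      Subgroup.normalizer (Subgroup.zpowers y : Set G) ≤ X := by
    intro X hX t _ ht y hy hyo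
    have hyc : Nat.card (Subgroup.zpowers y) = t := by rw [Nat.card_zpowers, hyo]
    obtain ⟨⟨-, hu⟩, -, -⟩ := S1423.result hG X hX t (BetaCore.beta_subset_sigma hG hX ht) _ (Subgroup.zpowers_le.2 hy)
      hyc default (Or.inl ht)
    obtain ⟨L', hL', hle⟩ := Uniq.exists_maximal_ge (MinSimple.normalizer_ne_top hG
      (fun e : Subgroup.zpowers y = ⊥ => ht.1.1.ne_one (by rw [← hyc, e, Subgroup.card_bot]))
      (MinSimple.pSubgroup_ne_top hG (IsPGroup.of_card (n := 1) (by rw [hyc, pow_one]) : IsPGroup t (Subgroup.zpowers y))))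
    exact hu L' hL' ((Subgroup.centralizer_le_normalizer _).trans hle) ▸ hle
  rcases exists_normalizing_line hne
      (fun R hR hRp => isCyclic_of_rank_one hG (hrank M hM hp1 r hrβ) hRp (hR.trans hCL))
      (fun R hR hRp => isCyclic_of_rank_one hG (hrank N hN hp1N r' hr'β) hRp (hR.trans hCL))
      hzP hz'P hz hz' with ⟨c, hc, hcn⟩ | ⟨c, hc, hcn⟩
  · refine hA (le_trans ?_ (h.cent_le hp1 hP hPS (r := r') (w := c * z' * c⁻¹) ?_
      (huniq M hM r hrβ z (Subgroup.map_subtype_le _ hzB) hz hcn) (C.mul_mem (C.mul_mem hc hz'P) (C.inv_mem hc)) hr'β))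
    · exact inf_le_inf_right _ (MinSimple.le_piCoreOf (Subgroup.map_subtype_le _)
        (AxB.le_normalizer_map_subtype (Cfsg.piCore_normal _ _)) fun t ht hd =>
          BetaCore.beta_subset_sigma hG hM (MinSimple.isPi_piCoreOf t ht hd))
    · rw [← MulAut.conj_apply, MulEquiv.orderOf_eq, hz']
  · refine hB' (le_trans ?_ (h.symm.cent_le hp1N hP hPS (r := r) (w := c * z * c⁻¹) ?_
      (huniq N hN r' hr'β z' (Subgroup.map_subtype_le _ hz'B) hz' hcn) (C.mul_mem (C.mul_mem hc hzP) (C.inv_mem hc)) hrβ))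
    · exact inf_le_inf_right _ (MinSimple.le_piCoreOf (Subgroup.map_subtype_le _)
        (AxB.le_normalizer_map_subtype (Cfsg.piCore_normal _ _)) fun t ht hd =>
          BetaCore.beta_subset_sigma hG hN (MinSimple.isPi_piCoreOf t ht hd))
    · rw [← MulAut.conj_apply, MulEquiv.orderOf_eq, hz]

end Pair

/-- BG 13.9. -/
theorem conj_of_sigma (hG : Cfsg.IsMinSimpleOddOrder G) {M N : Subgroup G} (hM : IsCoatom M) (hN : IsCoatom N)
    {q : ℕ} (hqM : q ∈ Cfsg.sigma M) (hqN : q ∈ Cfsg.sigma N) :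
    ∃ g : G, N = M.map (MulAut.conj g).toMonoidHom := by
  haveI := Fact.mk hqM.1
  by_contra hno
  push Not at hno
  obtain ⟨U⟩ : Nonempty (Sylow q M) := inferInstance
  obtain ⟨V⟩ : Nonempty (Sylow q N) := inferInstance
  obtain ⟨S, hS⟩ := Sigma.sigma_sylow hqM U
  obtain ⟨T, hT⟩ := Sigma.sigma_sylow hqN V
  obtain ⟨g, hg⟩ := MulAction.exists_smul_eq G T S
  set N' := N.map (MulAut.conj g).toMonoidHom with hN'
  have hSe : (S : Subgroup G) = (T : Subgroup G).map (MulAut.conj g).toMonoidHom := by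
    rw [← hg, Sylow.coe_subgroup_smul]; rfl
  have hnT : Subgroup.normalizer ((T : Subgroup G) : Set G) ≤ N := hT ▸ Sigma.sigma_normalizer hqN V
  have hback : N'.map (MulAut.conj g⁻¹).toMonoidHom = N := by
    rw [hN', Sigma.map_conj_map, inv_mul_cancel, Sigma.map_conj_one]
  refine Pair.false (q := q) (S := S) (M := M) (N := N') ⟨hG, hM, (OrderIso.isCoatom_iff
    (MulEquiv.mapSubgroup (MulAut.conj g)) N).2 hN, fun x hx => hno (g⁻¹ * x) ?_, hqM, ?_, hS ▸ Sigma.sigma_normalizer hqM U, ?_⟩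
  · rw [← hback, hx, Sigma.map_conj_map]
  · exact PrimeAction.sigma_of_conj g⁻¹ (hback.symm ▸ hqN)
  · intro n hn
    refine ⟨g⁻¹ * n * g, hnT ?_, by simp [mul_assoc]⟩
    rw [Subgroup.mem_normalizer_iff_map_conj_eq] at hn ⊢
    have hn' : (S : Subgroup G).map (MulAut.conj n).toMonoidHom = (S : Subgroup G) := hn
    show (T : Subgroup G).map (MulAut.conj (g⁻¹ * n * g)).toMonoidHom = (T : Subgroup G)
    have h1 := congrArg (Subgroup.map (MulAut.conj g⁻¹).toMonoidHom) hn'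
    rw [hSe, Sigma.map_conj_map, Sigma.map_conj_map, Sigma.map_conj_map, inv_mul_cancel, Sigma.map_conj_one] at h1
    exact h1

end Cfsg.Agent.OddOrder.SigmaDisj
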