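/-
Tools for the nonregular primes of `τ₃(M)` (BG Section 13).
-/
import Cfsg.Agent.Lib.OddOrder.SigmaDisjoint
import Mathlib.GroupTheory.SpecificGroups.ZGroup

set_option autoImplicit false
set_option linter.style.haveILetI false
set_option linter.unusedSectionVars false

namespace Cfsg.Agent.OddOrder.Tau3

open scoped commutatorElement Pointwise IsMulCommutative
open Exceptional TauOne

universe u

variable {G : Type u} [Group G] [Finite G]

theorem le_derived_of_rank_one (hG : Cfsg.IsMinSimpleOddOrder G) {r : ℕ} [hr : Fact r.Prime] {M F : Subgroup G}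
    (hr1 : Cfsg.PRankLE r 1 M) (hFM : F ≤ M) (hd : r ∣ Nat.card (⁅F, F⁆ : Subgroup G)) {R : Subgroup G}
    (hR : IsPGroup r R) (hRF : R ≤ F) : R ≤ ⁅F, F⁆ := by
  obtain ⟨S, hS⟩ := (hR.comap_subtype (K := F)).exists_le_sylow
  haveI : IsCyclic S := by
    haveI := isCyclic_of_rank_one hG hr1 (S.isPGroup'.map F.subtype) ((Subgroup.map_subtype_le _).trans hFM)
    exact isCyclic_of_surjective _
      ((S : Subgroup F).equivMapOfInjective F.subtype F.subtype_injective).symm.surjective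
  rcases S.not_dvd_card_commutator_or_not_dvd_index_commutator with h | h
  · exact absurd (by rwa [← Subgroup.map_subtype_commutator, Subgroup.card_map_of_injective F.subtype_injective] at hd) h
  intro x hx
  have hxm : (⟨x, hRF hx⟩ : F) ∈ commutator F := by
    rw [← QuotientGroup.eq_one_iff, ← orderOf_eq_one_iff]
    refine Nat.eq_one_of_dvd_coprimes (a := r ^ (Nat.card F).factorization r) (b := (commutator F).index)
      ((hr.out.coprime_iff_not_dvd.2 h).pow_left _) ?_ ?_
    · refine (orderOf_map_dvd (QuotientGroup.mk' (commutator F)) _).trans ?_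
      rw [← S.card_eq_multiplicity]
      exact Subgroup.orderOf_dvd_natCard _ (hS hx)
    · rw [Subgroup.index_eq_card]; exact orderOf_dvd_natCard _
  rw [← Subgroup.map_subtype_commutator]
  exact ⟨_, hxm, rfl⟩

/-- A central element of a derived group is moved out of abelian Sylow subgroups by the transfer. -/
theorem exists_moving_line (hG : Cfsg.IsMinSimpleOddOrder G) {r : ℕ} [hr : Fact r.Prime] {M F X : Subgroup G}
    (hr1 : Cfsg.PRankLE r 1 M) (hFM : F ≤ M) (hd : r ∣ Nat.card (⁅F, F⁆ : Subgroup G))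
    (hX : Nat.card X = r) (hXF : X ≤ F) : ¬ F ≤ Subgroup.centralizer (X : Set G) := fun hc => by
  obtain ⟨x, hx, hx1⟩ := Plane.exists_ne_one hX
  have hXp : IsPGroup r X := IsPGroup.of_card (n := 1) (by rw [hX, pow_one])
  have hxd : x ∈ ⁅F, F⁆ := le_derived_of_rank_one hG hr1 hFM hd hXp hXF hx
  rw [← Subgroup.map_subtype_commutator] at hxd
  obtain ⟨y, hy, hyx⟩ := hxd
  have hyx' : (y : G) = x := hyx
  obtain ⟨S, hS⟩ := (hXp.comap_subtype (K := F)).exists_le_sylow
  haveI : IsCyclic S := by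
    haveI := isCyclic_of_rank_one hG hr1 (S.isPGroup'.map F.subtype) ((Subgroup.map_subtype_le _).trans hFM)
    exact isCyclic_of_surjective _
      ((S : Subgroup F).equivMapOfInjective F.subtype F.subtype_injective).symm.surjective
  letI : CommGroup (S : Subgroup F) := IsCyclic.commGroup
  have hcy : ∀ g : F, g * y = y * g := fun g => Subtype.ext (by
    show (g : G) * (y : G) = (y : G) * (g : G)
    rw [hyx']
    exact (Subgroup.mem_centralizer_iff.1 (hc g.2) x hx).symm)
  have key : ∀ (k : ℕ) (g₀ : F), g₀⁻¹ * y ^ k * g₀ ∈ (S : Subgroup F) → g₀⁻¹ * y ^ k * g₀ = y ^ k := fun k g₀ _ => by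
    rw [mul_assoc, ← ((show Commute g₀ y from hcy g₀).pow_right k).eq, inv_mul_cancel_left]
  have h1 := MonoidHom.transfer_eq_pow (MonoidHom.id (S : Subgroup F)) y key
  rw [Abelianization.commutator_subset_ker _ hy] at h1
  have h2 : y ^ (S : Subgroup F).index = 1 := congrArg Subtype.val h1.symm
  have hyo : orderOf y = r := by
    rw [← Subgroup.orderOf_coe, hyx', ← Nat.card_zpowers, Plane.zpowers_eq hX hx hx1, hX]
  have h3 := orderOf_dvd_of_pow_eq_one h2
  rw [hyo] at h3
  exact S.not_dvd_index h3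

/-- `τ₃` subgroups of a complement lie in its derived group. -/
theorem le_derived_of_tau3 (hG : Cfsg.IsMinSimpleOddOrder G) {M E : Subgroup G} (hM : IsCoatom M)
    (hE : Cfsg.IsComplIn E (Cfsg.sigmaCore M) M) {r : ℕ} [hr : Fact r.Prime] (hr3 : r ∈ Cfsg.tau3 M) {R : Subgroup G}
    (hR : IsPGroup r R) (hRE : R ≤ E) : R ≤ ⁅E, E⁆ := by
  refine le_derived_of_rank_one hG hr3.2.2.2 hE.1 ?_ hR hRE
  have hn : (⁅E, E⁆ : Subgroup G) ≤ Subgroup.normalizer (Cfsg.sigmaCore M : Set G) :=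
    (Subgroup.le_normalizer_iff_commutator_le_left.1 Subgroup.le_normalizer).trans
      (hE.1.trans (le_normalizer_sigmaCore M))
  have hdv : Nat.card (Cfsg.sigmaCore M ⊔ ⁅E, E⁆ : Subgroup G) ∣
      Nat.card (Cfsg.sigmaCore M) * Nat.card (⁅E, E⁆ : Subgroup G) := Dvd.intro _ (SolvBasic.card_sup_mul_card_inf hn)
  rcases hr.out.dvd_mul.1 ((hr3.2.2.1.trans (Subgroup.card_dvd_of_le (derived_le_sup hE (le_normalizer_sigmaCore M)))).trans hdv) with h | h
  · exact absurd (mem_sigma_of_dvd hr.out h) hr3.2.1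
  · exact h

/-- Elements of a derived group, coprime in order to an elementary abelian normal subgroup, centralize it. -/
theorem le_centralizer_of_derived {E A R : Subgroup G} [hab : IsMulCommutative (⁅E, E⁆ : Subgroup G)]
    (hAE : A ≤ E) (hR : R ≤ ⁅E, E⁆) (hRA : R ≤ Subgroup.normalizer (A : Set G))
    (hcop : (Nat.card R).Coprime (Nat.card A)) : A ≤ Subgroup.centralizer (R : Set G) := by
  have hEE : ⁅E, E⁆ ≤ E := Subgroup.le_normalizer_iff_commutator_le_left.1 Subgroup.le_normalizer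
  haveI : IsMulCommutative R := .of_setLike_mul_comm fun a ha b hb =>
    congrArg Subtype.val (mul_comm' (⟨a, hR ha⟩ : (⁅E, E⁆ : Subgroup G)) ⟨b, hR hb⟩)
  have h1 : ⁅⁅A, R⁆, R⁆ = ⊥ := Subgroup.commutator_eq_bot_iff_le_centralizer.2
    ((Subgroup.commutator_mono hAE (hR.trans hEE)).trans
      ((Subgroup.le_centralizer (⁅E, E⁆ : Subgroup G)).trans (Subgroup.centralizer_le hR)))
  rw [CoprimeAct.commutator_commutator hRA hcop (Or.inl inferInstance)] at h1
  exact Subgroup.commutator_eq_bot_iff_le_centralizer.1 h1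

/-- If the fixed points of `R` centralize `Y = [Y, R]`, so does the whole group. -/
theorem le_centralizer_of_fixed_all {K R Y : Subgroup G} [hK : Group.IsSolvable K] (hodd : Odd (Nat.card G)) {q r : ℕ}
    [hq : Fact q.Prime] [hr : Fact r.Prime] (hrq : r ≠ q) (hR : Nat.card R = r) (hY : IsPGroup q Y)
    (hRY : R ≤ Subgroup.normalizer (Y : Set G)) (hYR : ⁅Y, R⁆ = Y) (hRK : R ≤ Subgroup.normalizer (K : Set G))
    (hYK : Y ≤ Subgroup.normalizer (K : Set G)) (hqK : ¬ q ∣ Nat.card K) (hrK : ¬ r ∣ Nat.card K) (hYG : q ∣ Nat.card G)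
    (h : K ⊓ Subgroup.centralizer (R : Set G) ≤ Subgroup.centralizer (Y : Set G)) :
    K ≤ Subgroup.centralizer (Y : Set G) := by
  have hcop : (Nat.card (Y ⊔ R : Subgroup G)).Coprime (Nat.card K) := by
    refine Nat.coprime_of_dvd fun t ht hdA hdK => ?_
    rcases ht.dvd_mul.1 (hdA.trans (Dvd.intro _ (SolvBasic.card_sup_mul_card_inf hRY))) with h' | h'
    · exact hqK (Set.mem_singleton_iff.1 (Inv.primes_of_isPGroup hY t ht h') ▸ hdK)
    · rw [hR, Nat.prime_dvd_prime_iff_eq ht hr.out] at h'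
      exact hrK (h' ▸ hdK)
  have hne2 : ∀ n : ℕ, n ∣ Nat.card G → n ≠ 2 := fun n hn e => by
    subst e
    exact (Nat.not_even_iff_odd.2 hodd) (even_iff_two_dvd.2 hn)
  rw [← Subgroup.subgroupOf_eq_top]
  refine FittingCores.eq_top_of_forall_sylow_le fun t ht => ?_
  haveI := Fact.mk ht
  obtain ⟨W, hW⟩ := CoprimeAct.exists_invariant_sylow (sup_le hYK hRK) hcop (Or.inr hK) t
  refine ⟨W, fun x hx => ?_⟩
  by_cases hx1 : x = 1
  · rw [hx1]; exact one_mem _
  have htK : t ∣ Nat.card K :=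
    (W.isPGroup'.card_eq_or_dvd.resolve_left fun e => hx1 (Subgroup.mem_bot.1 (Subgroup.card_eq_one.1 e ▸ hx))).trans
      (Subgroup.card_subgroup_dvd_card _)
  exact TauOne.le_centralizer_of_fixed (p := t) (q := q) (r := r) (fun e => hqK (e ▸ htK)) hrq (fun e => hrK (e ▸ htK))
    (hne2 _ hYG) (hne2 _ (htK.trans K.card_subgroup_dvd_card)) hR hY hRY hYR _ _ le_rfl (W.isPGroup'.map K.subtype)
    (le_sup_right.trans hW) (le_sup_left.trans hW)
    (fun y hy _ hyR => h ⟨Subgroup.map_subtype_le _ hy, hyR⟩) ⟨x, hx, rfl⟩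

/-- `[H, P] ≤ J` and `p ∤ |J|`: the fixed points of `P` cover `H / J`. -/
theorem exists_mul_fixed {H J P : Subgroup G} {p : ℕ} [hp : Fact p.Prime] (hJH : J ≤ H)
    (hHJ : ⁅H, H⁆ ≤ J) (hpJ : ¬ p ∣ Nat.card J) (hP : IsPGroup p P) (hPH : P ≤ H) {h : G} (hh : h ∈ H) :
    ∃ j ∈ J, ∃ c ∈ H ⊓ Subgroup.centralizer (P : Set G), h = j * c := by
  have hn : H ≤ Subgroup.normalizer (J : Set G) :=
    Subgroup.le_normalizer_iff_commutator_le_left.2 ((Subgroup.commutator_mono hJH le_rfl).trans hHJ)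
  obtain ⟨k, hk⟩ := hP.exists_card_eq
  have hcop : (Nat.card P).Coprime (Nat.card J) := hk ▸ (hp.out.coprime_iff_not_dvd.2 hpJ).pow_left k
  haveI := hP.isNilpotent
  have hB : MulAut.conj h • P ≤ J ⊔ P := by
    intro b hb
    rw [SolvBasic.mem_conjSmul] at hb
    set a := h⁻¹ * b * h with ha
    have : b = ⁅h, a⁆ * a := by rw [ha, commutatorElement_def]; group
    rw [this]
    exact mul_mem (Subgroup.mem_sup_left (hHJ (Subgroup.commutator_mem_commutator hh (hPH hb)))) (Subgroup.mem_sup_right hb)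
  obtain ⟨n, hn', hnA⟩ := SchurZ.conj_in (hPH.trans hn) hcop (Or.inl inferInstance) hB (SolvBasic.card_conjSmul _ _)
  have hc : n⁻¹ * h ∈ H := H.mul_mem (H.inv_mem (hJH hn')) hh
  refine ⟨n, hn', n⁻¹ * h, ⟨hc, ?_⟩, by group⟩
  have hN : n⁻¹ * h ∈ Subgroup.normalizer (P : Set G) := by
    rw [SolvBasic.mem_normalizer_iff_conjSmul, ← SolvBasic.conjSmul_conjSmul, ← hnA, SolvBasic.conjSmul_inv_conjSmul]
  refine Subgroup.mem_centralizer_iff.2 fun x hx => ?_
  have h1 : ⁅n⁻¹ * h, x⁆ = 1 := Subgroup.mem_bot.1 ((Subgroup.inf_eq_bot_of_coprime hcop).le ⟨by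
    rw [commutatorElement_def]
    exact P.mul_mem ((Subgroup.mem_normalizer_iff.1 hN x).1 hx) (P.inv_mem hx),
    hHJ (Subgroup.commutator_mem_commutator hc (hPH hx))⟩)
  exact (commutatorElement_eq_one_iff_mul_comm.1 h1).symm

end Cfsg.Agent.OddOrder.Tau3
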