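/-
Elements of `τ₁(M)` fixing points of a plane of `τ₂(M)` act regularly on `M_σ` (BG 13.12).
-/
import Cfsg.Agent.Lib.OddOrder.Tau3Tools
import Cfsg.Agent.S1417
import Cfsg.Agent.S1418

set_option autoImplicit false
set_option linter.style.haveILetI false
set_option linter.unusedSectionVars false

namespace Cfsg.Agent.OddOrder.TauOneTwo

open scoped commutatorElement IsMulCommutative
open Exceptional TauOne

universe u

variable {G : Type u} [Group G] [Finite G] {p s : ℕ} [hp : Fact p.Prime] [hs : Fact s.Prime]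
  {M E A P : Subgroup G}

/-- An element of `τ₁(M)` cannot fix exactly the line of a plane centralizing `M_σ`. -/
theorem line_false (hG : Cfsg.IsMinSimpleOddOrder G) (hM : IsCoatom M)
    (hE : Cfsg.IsComplIn E (Cfsg.sigmaCore M) M) (hτ : s ∈ Cfsg.tau2 M)
    (hS : ∀ S : Sylow s G, ¬ IsMulCommutative (S : Subgroup G))
    (hAE : A ≤ E) (hAe : Cfsg.IsElementaryAbelian s A) (hA : Nat.card A = s ^ 2) (hp1 : p ∈ Cfsg.tau1 M)
    (hP : Nat.card P = p) (hPE : P ≤ E)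
    (hfix : A ⊓ Subgroup.centralizer (Cfsg.sigmaCore M : Set G) ≤ Subgroup.centralizer (P : Set G))
    (hmove : ¬ A ≤ Subgroup.centralizer (P : Set G)) : False := by
  obtain ⟨-, ⟨hA₀c, -⟩, hlines⟩ := TauTwo.structure_nonabelian hG hM hE hτ hS hAE hAe hA
  set Z := A ⊓ Subgroup.centralizer (Cfsg.sigmaCore M : Set G) with hZ
  haveI := hAe.1
  obtain ⟨⟨hEA, -⟩, -, -⟩ := S1418.result hG M hM E hE s hτ A ⟨hAE, hAe, hA⟩
  obtain ⟨A₁, hexc, -⟩ := PlaneUnique.exists_exc hG hM (hAE.trans hE.1) hAe hA hτ.2.1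
  have hKne := hexc.sigmaCore_ne_bot
  have hps : p ≠ s := fun e => hτ.2.2.2 (e ▸ hp1.2.2.2.2)
  have hPp : IsPGroup p P := IsPGroup.of_card (n := 1) (by rw [hP, pow_one])
  haveI := hPp.isNilpotent
  have hcop : (Nat.card P).Coprime (Nat.card A) := by
    rw [hP, hA]
    exact ((Nat.coprime_primes hp.out hs.out).2 hps).pow_right _
  set Y := ⁅A, P⁆ with hY
  have hYA : Y ≤ A := CoprimeAct.commutator_le_left (hPE.trans hEA)
  have hY1 : Y ≠ ⊥ := fun e => hmove (Subgroup.commutator_eq_bot_iff_le_centralizer.1 e)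
  have hYP : Y ⊓ Subgroup.centralizer (P : Set G) = ⊥ := by
    have h := CoprimeAct.centralizer_inf_commutator_eq_bot (hPE.trans hEA) hcop
    rw [eq_bot_iff, ← h]
    exact le_inf (le_inf (inf_le_left.trans hYA) inf_le_right) inf_le_left
  obtain ⟨a, haY, ha1⟩ := (Subgroup.bot_or_exists_ne_one Y).resolve_left hY1
  have hreg : Cfsg.sigmaCore M ⊓ Subgroup.centralizer ({a} : Set G) = ⊥ :=
    (hlines a (hYA haY) fun haZ => ha1 (Subgroup.mem_bot.1 (hYP ▸ ⟨haY, hfix haZ⟩))).1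
  -- `P` has fixed points on `M_σ`
  have hA1 : Cfsg.sigmaCore M ⊓ Subgroup.centralizer (P : Set G) ≠ ⊥ := fun hbot => by
    haveI : Group.IsSolvable (Cfsg.sigmaCore M) :=
      haveI := MinSimple.isSolvable hG hM.1
      SolvBasic.isSolvable_of_le (sigmaCore_le M)
    have hle := Tau3.le_centralizer_of_fixed_all (K := Cfsg.sigmaCore M) hG.1 hps hP ((Plane.isPGroup hA).to_le hYA)
      (Subgroup.normalizer_commutator_ge_right A P)
      (CoprimeAct.commutator_commutator (hPE.trans hEA) hcop (Or.inl inferInstance))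
      ((hPE.trans hE.1).trans (le_normalizer_sigmaCore M)) (((hYA.trans hAE).trans hE.1).trans (le_normalizer_sigmaCore M))
      (fun hd => hτ.2.1 (mem_sigma_of_dvd hs.out hd)) (fun hd => hp1.2.1 (mem_sigma_of_dvd hp.out hd))
      ((hA ▸ dvd_pow_self s two_ne_zero : s ∣ Nat.card A).trans A.card_subgroup_dvd_card) (hbot ▸ bot_le)
    refine hKne (le_bot_iff.1 (hreg ▸ le_inf le_rfl (hle.trans ?_)))
    exact Subgroup.centralizer_le (Set.singleton_subset_iff.2 haY)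
  -- the overgroup in which `s ∈ σ`
  obtain ⟨H, hH, hsH, hsβ, hEH⟩ := exists_sigma_overgroup hG hM hτ hE.1 (ComplBasics.coprime_card hG hM hE)
  have hHM : H ≠ M := fun e => hτ.2.1 (e ▸ hsH)
  have hbot := PlaneUnique.inf_eq_bot hG hM (hAE.trans hE.1) hAe hA hτ.2.1 hH (hAE.trans hEH) hHM
  have hZc : Nat.card Z = s := hA₀c
  have hZH : Z ≤ H := (inf_le_left.trans hAE).trans hEH
  have hPH : P ≤ H := hPE.trans hEH
  have hAH : A ≤ H := hAE.trans hEH
  have hZσ : Z ≤ Cfsg.sigmaCore H := le_sigmaCore hG hH hsH (IsPGroup.of_card (n := 1) (by rw [hZc, pow_one])) hZH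
  have hder : p ∉ Cfsg.beta H → ¬ P ≤ ⁅H, H⁆ := fun hpβ hd =>
    hmove (SigmaConj.sylow_centralizes hG hH hPp hd hpβ hps.symm hsβ (Plane.isPGroup hA) hAH (hPE.trans hEA))
  have hpH : p ∉ Cfsg.sigma H := fun hσ => by
    by_cases hpβ : p ∈ Cfsg.beta H
    · obtain ⟨U, hU⟩ := (hPp.comap_subtype (K := H)).exists_le_sylow
      set B := Cfsg.piCoreOf (Cfsg.beta H) H with hB
      have hPU : P ≤ (U : Subgroup H).map H.subtype := fun x hx => ⟨⟨x, hPH hx⟩, hU hx, rfl⟩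
      have hPB : P ≤ B := hPU.trans (Subgroup.map_mono (BetaCore.sylow_le_piCore hG hH hpβ U))
      have hHB : H ≤ Subgroup.normalizer (B : Set G) := AxB.le_normalizer_map_subtype (Cfsg.piCore_normal _ _)
      have h1 : Y ≤ B := (Subgroup.commutator_mono hAH hPB).trans
        (by rw [Subgroup.commutator_comm]; exact Subgroup.le_normalizer_iff_commutator_le_left.1 hHB)
      haveI : Nontrivial Y := (Subgroup.nontrivial_iff_ne_bot Y).2 hY1
      obtain ⟨k, hk, hk'⟩ := ((Plane.isPGroup hA).to_le hYA).nontrivial_iff_card.1 inferInstance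
      exact hsβ (MinSimple.isPi_piCoreOf s hs.out
        ((hk' ▸ dvd_pow_self s hk.ne' : s ∣ Nat.card Y).trans (Subgroup.card_dvd_of_le h1)))
    · exact hder hpβ (sylow_le_derived' hG hH hσ hPp hPH)
  have hpβ : p ∉ Cfsg.beta H := fun hb => hpH (BetaCore.beta_subset_sigma hG hH hb)
  have hr2 : Cfsg.PRankLE p 2 H := by
    by_contra h
    exact hpH (Sigma.alpha_subset_sigma hG hH ⟨hp.out, h⟩)
  have hZ1 : Z ≠ ⊥ := fun e => hs.out.ne_one (by rw [← hZc, e, Subgroup.card_bot])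
  by_cases hr1 : Cfsg.PRankLE p 1 H
  · have hpτ : p ∈ Cfsg.tau1 H := ⟨hp.out, hpH, (hP ▸ dvd_rfl : p ∣ Nat.card P).trans (Subgroup.card_dvd_of_le hPH),
      fun hd => hder hpβ (SigmaDisj.line_le_derived hG hr1 hP hPH hd), hr1⟩
    obtain ⟨⟨hC, -⟩, -, -⟩ := S1423.result hG H hH s hsH Z hZH hZc default
      (TauOne.centralized_cases hG hH hpτ hP hPH hZc hZσ hfix)
    refine hKne (le_bot_iff.1 (hbot ▸ le_inf le_rfl (le_trans ?_ hC)))
    exact Subgroup.le_centralizer_iff.1 inf_le_right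
  · have hpτ : p ∈ Cfsg.tau2 H := ⟨hp.out, hpH, hr2, hr1⟩
    obtain ⟨F, hF, hPF⟩ := exists_complement_ge hG hH hPp hPH hpH
    obtain ⟨B, hBF, hBe, hB⟩ := TauTwo.exists_plane (p := p) hG hH hF hpτ
    obtain ⟨⟨-, hall⟩, -, hun⟩ := S1418.result hG H hH F hF p hpτ B ⟨hBF, hBe, hB⟩
    obtain ⟨hC, -⟩ := hun P (hall P hPF hP) hP fun e => hZ1 (le_bot_iff.1 (e ▸ le_inf hZσ hfix))
    exact hA1 (le_bot_iff.1 (hbot ▸ le_inf inf_le_left (inf_le_right.trans hC)))

/-- BG 13.12. -/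
theorem regular (hG : Cfsg.IsMinSimpleOddOrder G) (hM : IsCoatom M)
    (hE : Cfsg.IsComplIn E (Cfsg.sigmaCore M) M) (hτ : s ∈ Cfsg.tau2 M)
    (hAE : A ≤ E) (hAe : Cfsg.IsElementaryAbelian s A) (hA : Nat.card A = s ^ 2) (hp1 : p ∈ Cfsg.tau1 M)
    (hP : Nat.card P = p) (hPE : P ≤ E) (hfix : A ⊓ Subgroup.centralizer (P : Set G) ≠ ⊥) :
    Cfsg.sigmaCore M ⊓ Subgroup.centralizer (P : Set G) = ⊥ := by
  by_contra hne
  obtain ⟨x, hxX, hx1⟩ := (Subgroup.bot_or_exists_ne_one _).resolve_left hne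
  obtain ⟨b, ⟨hbA, hbP⟩, hb1⟩ := (Subgroup.bot_or_exists_ne_one _).resolve_left hfix
  haveI := hAe.1
  have hPM : P ≤ M := hPE.trans hE.1
  have hbc : ∀ c ∈ A, c ∈ Subgroup.centralizer (P : Set G) → c ≠ 1 → x ∈ Subgroup.centralizer ((Subgroup.zpowers c : Subgroup G) : Set G) :=
    fun c hc hcP hc1 => centralizer_le hG hM hp1 hP hPM hs.out (Plane.zpowers_card hAe hc hc1) hτ.2.1
      (Subgroup.zpowers_le.2 (hE.1 (hAE hc))) (Subgroup.zpowers_le.2 hcP) hxX
  obtain ⟨⟨hEA, -⟩, -, -⟩ := S1418.result hG M hM E hE s hτ A ⟨hAE, hAe, hA⟩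
  by_cases hAP : A ≤ Subgroup.centralizer (P : Set G)
  · have hbot : Cfsg.sigmaCore M ⊓ Subgroup.centralizer (A : Set G) = ⊥ :=
      (S1417.result hG M hM s hτ A ⟨hAE.trans hE.1, hAe, hA⟩).2.2.2.1
    refine hx1 (Subgroup.mem_bot.1 (hbot ▸ ⟨hxX.1, Subgroup.mem_centralizer_iff.2 fun c hc => ?_⟩))
    by_cases hc1 : c = 1
    · rw [hc1, one_mul, mul_one]
    exact Subgroup.mem_centralizer_iff.1 (hbc c hc (hAP hc) hc1) c (Subgroup.mem_zpowers c)
  by_cases hS : ∀ S : Sylow s G, ¬ IsMulCommutative (S : Subgroup G)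
  · have hbo : Nat.card (Subgroup.zpowers b) = s := Plane.zpowers_card hAe hbA hb1
    have hbZ := TauTwoAb.mem_line hG hM hE hτ hS hAE hAe hA (hAE hbA) (fun t ht htd => by
      rw [← Nat.card_zpowers, hbo, Nat.prime_dvd_prime_iff_eq ht hs.out] at htd
      exact htd ▸ hτ) hxX.1 hx1 (Subgroup.mem_centralizer_iff.1 (hbc b hbA hbP hb1) b (Subgroup.mem_zpowers b))
    obtain ⟨-, ⟨hA₀c, -⟩, -⟩ := TauTwo.structure_nonabelian hG hM hE hτ hS hAE hAe hA
    refine line_false hG hM hE hτ hS hAE hAe hA hp1 hP hPE ?_ hAP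
    rw [← Plane.zpowers_eq hA₀c hbZ hb1, Subgroup.zpowers_le]
    exact hbP
  obtain ⟨S, hAS, hSc⟩ := TauTwoAb.exists_abelian_sylow hS (Plane.isPGroup hA)
  have d : TauTwoAb.Data s M E A S := ⟨hG, hM, hE, hτ, hAE, hAe, hA, hAS, hSc⟩
  obtain ⟨u, hu, hu1⟩ := Plane.exists_ne_one hP
  obtain ⟨c, hcA, hc⟩ := SetLike.not_le_iff_exists.1 hAP
  have hbu : u * b = b * u := Subgroup.mem_centralizer_iff.1 hbP u hu
  have hcu : u * c ≠ c * u := fun h => hc (by
    rw [← Plane.zpowers_eq hP hu hu1, Plane.centralizer_zpowers]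
    exact Subgroup.mem_centralizer_singleton_iff.2 h.symm)
  set L := Subgroup.zpowers b with hL
  have hLc : Nat.card L = s := Plane.zpowers_card hAe hbA hb1
  have hc1 : c ≠ 1 := fun h => hcu (by rw [h, mul_one, one_mul])
  have hcc : Nat.card (Subgroup.zpowers c) = s := Plane.zpowers_card hAe hcA hc1
  have hsep : ∀ a : G, a ∈ L → a ∈ Subgroup.zpowers c → a = 1 := fun a ha ha' => by
    by_contra ha1
    have h1 : c ∈ L := by
      rw [← Plane.zpowers_eq hLc ha ha1, Plane.zpowers_eq hcc ha' ha1]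
      exact Subgroup.mem_zpowers c
    obtain ⟨i, hi⟩ := Subgroup.mem_zpowers_iff.1 h1
    exact hcu (hi ▸ ((show Commute u b from hbu).zpow_right i).eq)
  have hbcm : b * c = c * b := congrArg Subtype.val (mul_comm' (⟨b, hbA⟩ : A) ⟨c, hcA⟩)
  obtain ⟨L₀, hL₀A, huL₀⟩ : ∃ L₀ : Subgroup G, L₀ ≤ A ∧ u ∉ Subgroup.normalizer (L₀ : Set G) := by
    by_contra hcon
    push Not at hcon
    obtain ⟨i, hi⟩ := Subgroup.mem_zpowers_iff.1
      ((Subgroup.mem_normalizer_iff.1 (hcon _ (Subgroup.zpowers_le.2 hcA)) c).1 (Subgroup.mem_zpowers c))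
    obtain ⟨j, hj⟩ := Subgroup.mem_zpowers_iff.1
      ((Subgroup.mem_normalizer_iff.1 (hcon _ (Subgroup.zpowers_le.2 (A.mul_mem hbA hcA))) (b * c)).1
        (Subgroup.mem_zpowers _))
    have h3 : b * c ^ i = b ^ j * c ^ j := by
      rw [← (show Commute b c from hbcm).mul_zpow, hj, hi]
      calc b * (u * c * u⁻¹) = b * u * c * u⁻¹ := by group
        _ = u * b * c * u⁻¹ := by rw [hbu]
        _ = u * (b * c) * u⁻¹ := by group
    have h4 : b ^ (1 - j) = c ^ (j - i) := by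
      calc b ^ (1 - j) = b ^ (-j) * (b * c ^ i) * c ^ (-i) := by group
        _ = b ^ (-j) * (b ^ j * c ^ j) * c ^ (-i) := by rw [h3]
        _ = c ^ (j - i) := by group
    have h5 : b ^ (1 - j) = 1 := hsep _ (Subgroup.zpow_mem _ (Subgroup.mem_zpowers b) _)
      (h4 ▸ Subgroup.zpow_mem _ (Subgroup.mem_zpowers c) _)
    have hbo : orderOf b = s := by rw [← Nat.card_zpowers]; exact hLc
    have hco : orderOf c = s := by rw [← Nat.card_zpowers, hcc]
    have h6 : c ^ (1 - i) = 1 := by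
      refine orderOf_dvd_iff_zpow_eq_one.1 ?_
      rw [hco, show (1 : ℤ) - i = (1 - j) + (j - i) by ring]
      exact dvd_add (hbo ▸ orderOf_dvd_iff_zpow_eq_one.2 h5) (hco ▸ orderOf_dvd_iff_zpow_eq_one.2 (h4 ▸ h5))
    rw [zpow_sub, zpow_one, hi, mul_inv_eq_one] at h6
    exact hcu (eq_mul_inv_iff_mul_eq.1 h6).symm
  refine hx1 (Subgroup.mem_bot.1 ?_)
  rw [← d.line_regular (Subgroup.zpowers_le.2 hbA) hLc (d.line_invariant (hEA (hPE hu)) (Subgroup.zpowers_le.2 hbA) hLc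
    (Subgroup.centralizer_le_normalizer _ ?_) hL₀A huL₀)]
  · exact ⟨hxX.1, hbc b hbA hbP hb1⟩
  · rw [Plane.centralizer_zpowers]
    exact Subgroup.mem_centralizer_singleton_iff.2 hbu

end Cfsg.Agent.OddOrder.TauOneTwo
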