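/-
Primes of `τ₃(M)` with fixed points on `M_σ` (BG 13.10, 13.11).
-/
import Cfsg.Agent.Lib.OddOrder.TauOneTauTwo
import Cfsg.Agent.S0126
import Cfsg.Agent.S1415
import Cfsg.Agent.S1419
import Cfsg.Agent.S1420

set_option autoImplicit false
set_option linter.style.haveILetI false
set_option linter.unusedSectionVars false

namespace Cfsg.Agent.OddOrder.Tau3

open scoped commutatorElement IsMulCommutative
open Exceptional TauOne

universe u

variable {G : Type u} [Group G] [Finite G]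

theorem exists_line {r : ℕ} [hr : Fact r.Prime] {S : Subgroup G} (hS : IsPGroup r S) (hS1 : S ≠ ⊥) :
    ∃ X : Subgroup G, X ≤ S ∧ Nat.card X = r := by
  haveI : Nontrivial S := (Subgroup.nontrivial_iff_ne_bot S).2 hS1
  obtain ⟨k, hk, hk'⟩ := hS.nontrivial_iff_card.1 inferInstance
  obtain ⟨z, hz⟩ := exists_prime_orderOf_dvd_card' (G := S) r (hk' ▸ dvd_pow_self r hk.ne')
  exact ⟨Subgroup.zpowers (z : G), Subgroup.zpowers_le.2 z.2, by rw [Nat.card_zpowers, Subgroup.orderOf_coe, hz]⟩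

theorem line_ne_bot {r : ℕ} [hr : Fact r.Prime] {X : Subgroup G} (hX : Nat.card X = r) : X ≠ ⊥ := fun e =>
  hr.out.ne_one (by rw [← hX, e, Subgroup.card_bot])

theorem line_pgroup {r : ℕ} [hr : Fact r.Prime] {X : Subgroup G} (hX : Nat.card X = r) : IsPGroup r X :=
  IsPGroup.of_card (n := 1) (by rw [hX, pow_one])

/-- A line of a derived group of rank one is normal. -/
theorem le_normalizer_line (hG : Cfsg.IsMinSimpleOddOrder G) {r : ℕ} [hr : Fact r.Prime] {M F X : Subgroup G}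
    [hab : IsMulCommutative (⁅F, F⁆ : Subgroup G)] (hr1 : Cfsg.PRankLE r 1 M) (hFM : F ≤ M)
    (hX : Nat.card X = r) (hXd : X ≤ ⁅F, F⁆) : F ≤ Subgroup.normalizer (X : Set G) := by
  intro f hf
  rw [Subgroup.mem_normalizer_iff_map_conj_eq]
  set X' := X.map (MulAut.conj f).toMonoidHom with hX'
  have hFF : ⁅F, F⁆ ≤ F := Subgroup.le_normalizer_iff_commutator_le_left.1 Subgroup.le_normalizer
  have hX'c : Nat.card X' = r := by rw [hX', Subgroup.card_map_of_injective (MulAut.conj f).injective, hX]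
  have hX'd : X' ≤ ⁅F, F⁆ := by
    rintro _ ⟨x, hx, rfl⟩
    exact (Subgroup.mem_normalizer_iff.1 (Subgroup.normalizer_commutator_ge_left F F hf) x).1 (hXd hx)
  have hn : X' ≤ Subgroup.normalizer (X : Set G) :=
    (hX'd.trans ((Subgroup.le_centralizer (⁅F, F⁆ : Subgroup G)).trans (Subgroup.centralizer_le hXd))).trans
      (Subgroup.centralizer_le_normalizer _)
  have hp' : IsPGroup r (X ⊔ X' : Subgroup G) := (line_pgroup hX).to_sup_of_normal_left' (line_pgroup hX'c) hn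
  obtain ⟨w, hw, hw1⟩ := (Subgroup.bot_or_exists_ne_one _).resolve_left
    (inf_ne_bot_of_cyclic (isCyclic_of_rank_one hG hr1 hp' ((sup_le hXd hX'd).trans (hFF.trans hFM))) hp'
      le_sup_left le_sup_right (line_ne_bot hX) (line_ne_bot hX'c))
  exact (Plane.zpowers_eq hX'c hw.2 hw1).symm.trans (Plane.zpowers_eq hX hw.1 hw1)

theorem exists_moved_line {p : ℕ} [hp : Fact p.Prime] {A : Subgroup G} (hAe : Cfsg.IsElementaryAbelian p A)
    {u b : G} (hb : b ∈ A) (hb1 : b ≠ 1) (hbu : u * b = b * u) {c : G} (hc : c ∈ A) (hcu : u * c ≠ c * u) :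
    ∃ L₀ : Subgroup G, L₀ ≤ A ∧ u ∉ Subgroup.normalizer (L₀ : Set G) := by
  haveI := hAe.1
  have hc1 : c ≠ 1 := fun h => hcu (by rw [h, mul_one, one_mul])
  have hbc : Nat.card (Subgroup.zpowers b) = p := Plane.zpowers_card hAe hb hb1
  have hcc : Nat.card (Subgroup.zpowers c) = p := Plane.zpowers_card hAe hc hc1
  have hsep : ∀ a : G, a ∈ Subgroup.zpowers b → a ∈ Subgroup.zpowers c → a = 1 := fun a ha ha' => by
    by_contra ha1
    have h1 : c ∈ Subgroup.zpowers b := by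
      rw [← Plane.zpowers_eq hbc ha ha1, Plane.zpowers_eq hcc ha' ha1]
      exact Subgroup.mem_zpowers c
    obtain ⟨i, hi⟩ := Subgroup.mem_zpowers_iff.1 h1
    exact hcu (hi ▸ ((show Commute u b from hbu).zpow_right i).eq)
  have hbcm : b * c = c * b := congrArg Subtype.val (mul_comm' (⟨b, hb⟩ : A) ⟨c, hc⟩)
  by_contra hcon
  push Not at hcon
  obtain ⟨i, hi⟩ := Subgroup.mem_zpowers_iff.1
    ((Subgroup.mem_normalizer_iff.1 (hcon _ (Subgroup.zpowers_le.2 hc)) c).1 (Subgroup.mem_zpowers c))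
  obtain ⟨j, hj⟩ := Subgroup.mem_zpowers_iff.1
    ((Subgroup.mem_normalizer_iff.1 (hcon _ (Subgroup.zpowers_le.2 (A.mul_mem hb hc))) (b * c)).1
      (Subgroup.mem_zpowers _))
  have h3 : b * c ^ i = b ^ j * c ^ j := by
    rw [← (show Commute b c from hbcm).mul_zpow, hj, hi]
    calc b * (u * c * u⁻¹) = b * u * c * u⁻¹ := by group
      _ = u * b * c * u⁻¹ := by rw [hbu]
      _ = u * (b * c) * u⁻¹ := by group
  have h4 : b ^ (1 - j) = c ^ (j - i) := by
    calc b ^ (1 - j) = b ^ (-j) * (b * c ^ i) * c ^ (-i) := by group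
      _ = b ^ (-j) * (b ^ j * c ^ j) * c ^ (-i) := by rw [h3]
      _ = c ^ (j - i) := by group
  have h5 : b ^ (1 - j) = 1 := hsep _ (Subgroup.zpow_mem _ (Subgroup.mem_zpowers b) _)
    (h4 ▸ Subgroup.zpow_mem _ (Subgroup.mem_zpowers c) _)
  have hbo : orderOf b = p := by rw [← Nat.card_zpowers, hbc]
  have hco : orderOf c = p := by rw [← Nat.card_zpowers, hcc]
  have h6 : c ^ (1 - i) = 1 := by
    refine orderOf_dvd_iff_zpow_eq_one.1 ?_
    rw [hco, show (1 : ℤ) - i = (1 - j) + (j - i) by ring]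
    exact dvd_add (hbo ▸ orderOf_dvd_iff_zpow_eq_one.2 h5) (hco ▸ orderOf_dvd_iff_zpow_eq_one.2 (h4 ▸ h5))
  rw [zpow_sub, zpow_one, hi, mul_inv_eq_one] at h6
  exact hcu (eq_mul_inv_iff_mul_eq.1 h6).symm

theorem exists_tau1_dvd (hG : Cfsg.IsMinSimpleOddOrder G) {M E : Subgroup G} (hM : IsCoatom M)
    (hE : Cfsg.IsComplIn E (Cfsg.sigmaCore M) M) (hE1 : E ≠ ⊥)
    (h2 : ∀ s : ℕ, s ∈ Cfsg.tau2 M → ¬ s ∣ Nat.card E) :
    ∃ s : ℕ, s ∈ Cfsg.tau1 M ∧ s ∣ Nat.card E := by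
  by_contra hno
  push Not at hno
  have h3 : ∀ r : ℕ, r.Prime → r ∣ Nat.card E → r ∈ Cfsg.tau3 M := by
    intro r hr hd
    haveI := Fact.mk hr
    have hσ := not_dvd_complement hG hM hE hr hd
    have hr2 : Cfsg.PRankLE r 2 M := by
      by_contra hh
      exact hσ (Sigma.alpha_subset_sigma hG hM ⟨hr, hh⟩)
    have hr1 : Cfsg.PRankLE r 1 M := not_not.1 fun hh => h2 r ⟨hr, hσ, hr2, hh⟩ hd
    exact ⟨hr, hσ, not_not.1 fun hnd => hno r ⟨hr, hσ, hd.trans (Subgroup.card_dvd_of_le hE.1), hnd, hr1⟩ hd, hr1⟩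
  obtain ⟨-, -, hall⟩ := S1415.result hG M hM E hE
  obtain ⟨-, hEd, -⟩ := hall E ⟨le_rfl, h3, fun r hr _ hd => hr.ne_one (Nat.dvd_one.1 (by rwa [Subgroup.relIndex_self] at hd))⟩
  haveI := MinSimple.isSolvable hG hM.1
  haveI : Group.IsSolvable E := SolvBasic.isSolvable_of_le hE.1
  haveI : Nontrivial E := (Subgroup.nontrivial_iff_ne_bot E).2 hE1
  exact (Group.IsSolvable.commutator_lt_top_of_nontrivial E).ne
    (eq_top_iff.2 fun x _ => BetaCore.le_commutator le_rfl (hEd x.2))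

/-- A conjugate of a uniqueness element in `M ∩ C(P)` pulls `C_{M_σ}(P)` into `N`. -/
theorem pull (hG : Cfsg.IsMinSimpleOddOrder G) {M N E P : Subgroup G} (hM : IsCoatom M) (hN : IsCoatom N)
    (hE : Cfsg.IsComplIn E (Cfsg.sigmaCore M) M) (hEN : E ≤ N) {p : ℕ} [hp : Fact p.Prime] (hp1 : p ∈ Cfsg.tau1 M)
    (hP : Nat.card P = p) (hPM : P ≤ M) (hPN : P ≤ N) {r : ℕ} [hr : Fact r.Prime] {z g : G}
    (hz : z ∈ Cfsg.sigmaCore N) (hzr : orderOf z = r) (hzh : r ∈ Cfsg.beta N ∨ z ∈ ⁅Cfsg.sigmaCore N, Cfsg.sigmaCore N⁆)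
    (hrM : r ∉ Cfsg.sigma M) (hwM : g * z * g⁻¹ ∈ M) (hwP : g * z * g⁻¹ ∈ Subgroup.centralizer (P : Set G)) :
    Cfsg.sigmaCore M ⊓ Subgroup.centralizer (P : Set G) ≤ N := by
  set w := g * z * g⁻¹ with hw
  have hwr : orderOf w = r := by rw [hw, ← MulAut.conj_apply, MulEquiv.orderOf_eq, hzr]
  set W := Subgroup.zpowers w with hW
  have hWc : Nat.card W = r := by rw [hW, Nat.card_zpowers, hwr]
  obtain ⟨m, hm, hmE⟩ := TauTwo.exists_conj_le_complement hG hM hE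
    (line_pgroup hWc) (Subgroup.zpowers_le.2 hwM) hrM
  set W' := W.map (MulAut.conj m).toMonoidHom with hW'
  set P' := P.map (MulAut.conj m).toMonoidHom with hP'
  have hW'c : Nat.card W' = r := by rw [hW', Subgroup.card_map_of_injective (MulAut.conj m).injective, hWc]
  have hP'c : Nat.card P' = p := by rw [hP', Subgroup.card_map_of_injective (MulAut.conj m).injective, hP]
  have hw'N : m * w * m⁻¹ ∈ N := hEN (hmE ⟨w, Subgroup.mem_zpowers w, rfl⟩)
  have hd : (m * g)⁻¹ ∈ N := SigmaAction.centralizer_unique_not_mem hG hN hz hr.out hzr hzh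
    (⟨m * w * m⁻¹, hw'N, by simp [hw, mul_assoc]⟩)
  have hzc : Nat.card (Subgroup.zpowers z) = r := by rw [Nat.card_zpowers, hzr]
  have hrσ : r ∈ Cfsg.sigma N := mem_sigma_of_dvd hr.out (hzr ▸ Subgroup.orderOf_dvd_natCard _ hz)
  obtain ⟨⟨hCz, -⟩, -, -⟩ := S1423.result hG N hN r hrσ _ (Subgroup.zpowers_le.2 (sigmaCore_le N hz)) hzc default
    (hzh.imp id fun h => Subgroup.zpowers_le.2 h)
  have hCN : Subgroup.centralizer (W' : Set G) ≤ N := by
    intro x hx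
    have hx' : (m * g)⁻¹ * x * (m * g) ∈ Subgroup.centralizer ((Subgroup.zpowers z : Subgroup G) : Set G) := by
      rw [Plane.centralizer_zpowers, Subgroup.mem_centralizer_singleton_iff]
      have hc : m * w * m⁻¹ * x = x * (m * w * m⁻¹) :=
        Subgroup.mem_centralizer_iff.1 hx _ ⟨w, Subgroup.mem_zpowers w, rfl⟩
      calc (m * g)⁻¹ * x * (m * g) * z = (m * g)⁻¹ * (x * (m * w * m⁻¹)) * (m * g) := by rw [hw]; group
        _ = (m * g)⁻¹ * (m * w * m⁻¹ * x) * (m * g) := by rw [hc]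
        _ = z * ((m * g)⁻¹ * x * (m * g)) := by rw [hw]; group
    have h1 := N.mul_mem (N.mul_mem (N.inv_mem hd) (hCz hx')) hd
    rwa [show (m * g)⁻¹⁻¹ * ((m * g)⁻¹ * x * (m * g)) * (m * g)⁻¹ = x by group] at h1
  have hP'M : P' ≤ M := by
    rintro _ ⟨x, hx, rfl⟩
    exact M.mul_mem (M.mul_mem hm (hPM hx)) (M.inv_mem hm)
  have hWP : W' ≤ Subgroup.centralizer (P' : Set G) := by
    rintro _ ⟨x, hx, rfl⟩
    refine Subgroup.mem_centralizer_iff.2 ?_
    rintro _ ⟨y, hy, rfl⟩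
    have hc := Subgroup.mem_centralizer_iff.1 ((Subgroup.zpowers_le.2 hwP : W ≤ _) hx) y hy
    rw [← map_mul, ← map_mul, hc]
  have hle : Cfsg.sigmaCore M ⊓ Subgroup.centralizer (P' : Set G) ≤ N :=
    (TauOne.centralizer_le hG hM hp1 hP'c hP'M hr.out hW'c hrM (hmE.trans hE.1) hWP).trans hCN
  set D := M ⊓ N with hD
  have hPD : P ≤ D := le_inf hPM hPN
  have hP'D : P' ≤ D := le_inf hP'M ((Subgroup.le_centralizer_iff.1 hWP).trans hCN)
  obtain ⟨V, hV⟩ := ((line_pgroup hP).comap_subtype (K := D)).exists_le_sylow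
  obtain ⟨V', hV'⟩ := ((line_pgroup hP'c).comap_subtype (K := D)).exists_le_sylow
  obtain ⟨d, hdD, he⟩ := Sigma.exists_sylow_conj V' V
  have hPV : P ≤ (V : Subgroup D).map D.subtype := fun y hy => ⟨⟨y, hPD hy⟩, hV hy, rfl⟩
  have hP'V : P'.map (MulAut.conj d).toMonoidHom ≤ (V : Subgroup D).map D.subtype := by
    rw [he]
    exact Subgroup.map_mono fun y hy => ⟨⟨y, hP'D hy⟩, hV' hy, rfl⟩
  have hc' : Nat.card (P'.map (MulAut.conj d).toMonoidHom) = p := by
    rw [Subgroup.card_map_of_injective (MulAut.conj d).injective, hP'c]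
  obtain ⟨v, hv, hv1⟩ := (Subgroup.bot_or_exists_ne_one _).resolve_left
    (inf_ne_bot_of_cyclic
      (isCyclic_of_rank_one hG hp1.2.2.2.2 (V.isPGroup'.map D.subtype) ((Subgroup.map_subtype_le _).trans inf_le_left))
      (V.isPGroup'.map D.subtype) hPV hP'V (line_ne_bot hP) (line_ne_bot hc'))
  have heq : P'.map (MulAut.conj d).toMonoidHom = P :=
    (Plane.zpowers_eq hc' hv.2 hv1).symm.trans (Plane.zpowers_eq hP hv.1 hv1)
  intro x hx
  have hy : d⁻¹ * x * d ∈ Cfsg.sigmaCore M ⊓ Subgroup.centralizer (P' : Set G) := by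
    constructor
    · have := (Subgroup.mem_normalizer_iff.1 (le_normalizer_sigmaCore M (M.inv_mem hdD.1)) x).1 hx.1
      rwa [inv_inv] at this
    · refine Subgroup.mem_centralizer_iff.2 fun y hy => ?_
      have hmem : d * y * d⁻¹ ∈ P := heq.le ⟨y, hy, rfl⟩
      have hc := Subgroup.mem_centralizer_iff.1 hx.2 _ hmem
      calc y * (d⁻¹ * x * d) = d⁻¹ * (d * y * d⁻¹ * x) * d := by group
        _ = d⁻¹ * (x * (d * y * d⁻¹)) * d := by rw [hc]
        _ = d⁻¹ * x * d * y := by group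
  have h1 := N.mul_mem (N.mul_mem hdD.2 (hle hy)) (N.inv_mem hdD.2)
  rwa [show d * (d⁻¹ * x * d) * d⁻¹ = x by group] at h1

/-- The rank in a partner of an element with a unique maximal centralizer. -/
theorem rank_centralized (hG : Cfsg.IsMinSimpleOddOrder G) {M L P : Subgroup G} (hM : IsCoatom M) (hL : IsCoatom L)
    (hnc : ∀ g : G, L ≠ M.map (MulAut.conj g).toMonoidHom) {p : ℕ} [hp : Fact p.Prime] (hpσ : p ∉ Cfsg.sigma M)
    (hpr : Cfsg.PRankLE p 1 M)
    (hP : Nat.card P = p) (hNP : Subgroup.normalizer (P : Set G) ≤ L) {r : ℕ} [hr : Fact r.Prime]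
    (hrσ : r ∈ Cfsg.sigma M) {z : G} (hzr : orderOf z = r) (hzP : z ∈ Subgroup.centralizer (P : Set G))
    (hCz : Subgroup.centralizer ((Subgroup.zpowers z : Subgroup G) : Set G) ≤ M) : Cfsg.PRankLE r 1 L := by
  have hPL : P ≤ L := Subgroup.le_normalizer.trans hNP
  have hzL : Subgroup.zpowers z ≤ L :=
    Subgroup.zpowers_le.2 ((Subgroup.centralizer_le_normalizer _).trans hNP hzP)
  have hzc : Nat.card (Subgroup.zpowers z) = r := by rw [Nat.card_zpowers, hzr]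
  have hPz : P ≤ Subgroup.centralizer ((Subgroup.zpowers z : Subgroup G) : Set G) :=
    Subgroup.le_centralizer_iff.1 (Subgroup.zpowers_le.2 hzP)
  have hrL : r ∉ Cfsg.sigma L := fun hσ => by
    obtain ⟨g, hg⟩ := SigmaDisj.conj_of_sigma hG hM hL hrσ hσ
    exact hnc g hg
  by_contra hr1
  have hτ : r ∈ Cfsg.tau2 L := ⟨hr.out, hrL, by
    by_contra h
    exact hrL (Sigma.alpha_subset_sigma hG hL ⟨hr.out, h⟩), hr1⟩
  by_cases hpL : p ∈ Cfsg.sigma L
  · obtain ⟨F, hF, hzF⟩ := exists_complement_ge hG hL (line_pgroup hzc) hzL hrL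
    obtain ⟨B, hBF, hBe, hB⟩ := TauTwo.exists_plane (p := r) hG hL hF hτ
    obtain ⟨⟨-, hall⟩, -, hun⟩ := S1418.result hG L hL F hF r hτ B ⟨hBF, hBe, hB⟩
    obtain ⟨-, hu⟩ := hun _ (hall _ hzF hzc) hzc fun e =>
      line_ne_bot hP (le_bot_iff.1 (e ▸ le_inf (le_sigmaCore hG hL hpL (line_pgroup hP) hPL) hPz))
    exact hnc 1 (by rw [Sigma.map_conj_one, hu M hM hCz])
  · obtain ⟨⟨hr2', hr1'⟩, -, -⟩ := S1409.result hG L hL p hpL P hP hNP
    have hτp : p ∈ Cfsg.tau2 L := ⟨hp.out, hpL, hr2', hr1'⟩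
    have hn : P ≤ Subgroup.normalizer ((Subgroup.zpowers z : Subgroup G) : Set G) :=
      hPz.trans (Subgroup.centralizer_le_normalizer _)
    obtain ⟨F, hF, hle⟩ := ComplBasics.exists_complement_containing hG hL (sup_le hzL hPL)
      (ComplBasics.coprime_sigmaCore_of_not_sigma fun t ht hd htσ => by
        rcases ht.dvd_mul.1 (hd.trans (Dvd.intro _ (SolvBasic.card_sup_mul_card_inf hn))) with h | h
        · rw [hzc, Nat.prime_dvd_prime_iff_eq ht hr.out] at h; exact hrL (h ▸ htσ)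
        · rw [hP, Nat.prime_dvd_prime_iff_eq ht hp.out] at h; exact hpL (h ▸ htσ))
    obtain ⟨B, hBF, hBe, hB⟩ := TauTwo.exists_plane (p := r) hG hL hF hτ
    obtain ⟨C, hCF, hCe, hC⟩ := TauTwo.exists_plane (p := p) hG hL hF hτp
    obtain ⟨⟨-, hall⟩, -, -⟩ := S1418.result hG L hL F hF r hτ B ⟨hBF, hBe, hB⟩
    have hpr' : p ≠ r := fun e => hpσ (e ▸ hrσ)
    have hCB := ComplBasics.centralizes_plane hG hL hF hτ hBF hBe hB hpr' hτp (Plane.isPGroup hC) hCF
    have hCM : C ≤ M := (hCB.trans (Subgroup.centralizer_le (hall _ (le_sup_left.trans hle) hzc))).trans hCz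
    exact Plane.not_isCyclic hCe hC (isCyclic_of_rank_one hG hpr (Plane.isPGroup hC) hCM)

end Cfsg.Agent.OddOrder.Tau3
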