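/-
A nonregular prime of `τ₃(M)` makes a complement of `M_σ` act in a prime manner (BG 13.10, 13.11).
-/
import Cfsg.Agent.Lib.OddOrder.Tau3Regular

set_option autoImplicit false
set_option linter.style.haveILetI false
set_option linter.unusedSectionVars false

namespace Cfsg.Agent.OddOrder.Tau3

open scoped commutatorElement IsMulCommutative
open Exceptional TauOne

universe u

variable {G : Type u} [Group G] [Finite G]

theorem coprime_of_inf (hG : Cfsg.IsMinSimpleOddOrder G) {N X : Subgroup G} (hN : IsCoatom N) (hX : X ≤ N)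
    (hbot : Cfsg.sigmaCore N ⊓ X = ⊥) : (Nat.card X).Coprime (Nat.card (Cfsg.sigmaCore N)) := by
  refine ComplBasics.coprime_sigmaCore_of_not_sigma fun t ht hd hσ => ?_
  haveI := Fact.mk ht
  obtain ⟨x, hx⟩ := exists_prime_orderOf_dvd_card' (G := X) t hd
  have hc : Nat.card (Subgroup.zpowers (x : G)) = t := by rw [Nat.card_zpowers, Subgroup.orderOf_coe, hx]
  exact line_ne_bot hc (le_bot_iff.1 (hbot ▸ le_inf
    (le_sigmaCore hG hN hσ (line_pgroup hc) ((Subgroup.zpowers_le.2 x.2).trans hX)) (Subgroup.zpowers_le.2 x.2)))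

/-- A nonregular line `Q` of `τ₃(M)` and a maximal subgroup over its normalizer. -/
structure Base (q : ℕ) (M E Q N : Subgroup G) : Prop where
  minSimple : Cfsg.IsMinSimpleOddOrder G
  coatom : IsCoatom M
  compl : Cfsg.IsComplIn E (Cfsg.sigmaCore M) M
  tau3 : q ∈ Cfsg.tau3 M
  le : Q ≤ E
  card : Nat.card Q = q
  nonregular : Cfsg.sigmaCore M ⊓ Subgroup.centralizer (Q : Set G) ≠ ⊥
  coatomN : IsCoatom N
  normQ : Subgroup.normalizer (Q : Set G) ≤ N

namespace Base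

variable {q : ℕ} [hq : Fact q.Prime] {M E Q N : Subgroup G} (h : Base q M E Q N)
include h

theorem derived_comm : IsMulCommutative (⁅E, E⁆ : Subgroup G) :=
  (S1420.result h.minSimple M h.coatom E h.compl).2.1

theorem Q_derived : Q ≤ ⁅E, E⁆ :=
  le_derived_of_tau3 h.minSimple h.coatom h.compl h.tau3 (line_pgroup h.card) h.le

theorem E_norm : E ≤ Subgroup.normalizer (Q : Set G) :=
  haveI := h.derived_comm
  le_normalizer_line h.minSimple h.tau3.2.2.2 h.compl.1 h.card h.Q_derived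

theorem E_le : E ≤ N := h.E_norm.trans h.normQ

theorem centralizer_le : Subgroup.centralizer (Q : Set G) ≤ N :=
  (Subgroup.centralizer_le_normalizer _).trans h.normQ

theorem nonconj : ∀ g : G, N ≠ M.map (MulAut.conj g).toMonoidHom := fun g hg => by
  by_cases hqN : q ∈ Cfsg.sigma N
  · exact h.tau3.2.1 (PrimeAction.sigma_of_conj g (hg ▸ hqN))
  · exact (S1409.result h.minSimple N h.coatomN q hqN Q h.card h.normQ).1.2
      (hg ▸ PrimeAction.rank_of_conj g h.tau3.2.2.2)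

theorem ne : M ≠ N := fun e => h.nonconj 1 (by rw [Sigma.map_conj_one, e])

theorem core_inf : Cfsg.sigmaCore N ⊓ Cfsg.sigmaCore M = ⊥ := by
  refine Subgroup.inf_eq_bot_of_coprime (Nat.coprime_of_dvd fun t ht h1 h2 => ?_)
  obtain ⟨g, hg⟩ := SigmaDisj.conj_of_sigma h.minSimple h.coatom h.coatomN (mem_sigma_of_dvd ht h2) (mem_sigma_of_dvd ht h1)
  exact h.nonconj g hg

theorem not_sigma {t : ℕ} (ht : t ∈ Cfsg.sigma M) : t ∉ Cfsg.sigma N := fun hσ => by
  obtain ⟨g, hg⟩ := SigmaDisj.conj_of_sigma h.minSimple h.coatom h.coatomN ht hσ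
  exact h.nonconj g hg

theorem commute_cores {a w : G} (ha : a ∈ Cfsg.sigmaCore M) (haN : a ∈ N) (hw : w ∈ Cfsg.sigmaCore N) (hwM : w ∈ M) :
    a * w = w * a := by
  refine commutatorElement_eq_one_iff_mul_comm.1 (Subgroup.mem_bot.1 (h.core_inf ▸ ⟨?_, ?_⟩))
  · rw [commutatorElement_def]
    exact (Cfsg.sigmaCore N).mul_mem ((Subgroup.mem_normalizer_iff.1 (le_normalizer_sigmaCore N haN) w).1 hw)
      ((Cfsg.sigmaCore N).inv_mem hw)
  · rw [commutatorElement_def, show a * w * a⁻¹ * w⁻¹ = a * (w * a⁻¹ * w⁻¹) by group]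
    exact (Cfsg.sigmaCore M).mul_mem ha
      ((Subgroup.mem_normalizer_iff.1 (le_normalizer_sigmaCore M hwM) _).1 ((Cfsg.sigmaCore M).inv_mem ha))

theorem fixed_le : Cfsg.sigmaCore M ⊓ Subgroup.centralizer (Q : Set G) ≤ N := inf_le_right.trans h.centralizer_le

theorem tau2_empty (s : ℕ) : s ∉ Cfsg.tau2 M := fun hs => by
  have hG := h.minSimple
  haveI := Fact.mk hs.1
  haveI := h.derived_comm
  obtain ⟨B, hBE, hBe, hB⟩ := TauTwo.exists_plane (p := s) hG h.coatom h.compl hs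
  obtain ⟨⟨hEB, -⟩, -, -⟩ := S1418.result hG M h.coatom E h.compl s hs B ⟨hBE, hBe, hB⟩
  have hqs : q ≠ s := fun e => hs.2.2.2 (e ▸ h.tau3.2.2.2)
  have hBQ := le_centralizer_of_derived hBE h.Q_derived (h.le.trans hEB) (by
    rw [h.card, hB]
    exact ((Nat.coprime_primes hq.out hs.1).2 hqs).pow_right _)
  have hbot := PlaneUnique.inf_eq_bot hG h.coatom (hBE.trans h.compl.1) hBe hB hs.2.1 h.coatomN
    (hBQ.trans h.centralizer_le) h.ne.symm
  exact h.nonregular (le_bot_iff.1 (hbot ▸ le_inf inf_le_left h.fixed_le))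

theorem rank_one_of_compl {s : ℕ} (hs : s.Prime) (hσ : s ∉ Cfsg.sigma M) : Cfsg.PRankLE s 1 M := by
  by_contra h1
  exact h.tau2_empty s ⟨hs, hσ, by
    by_contra h2
    exact hσ (Sigma.alpha_subset_sigma h.minSimple h.coatom ⟨hs, h2⟩), h1⟩

theorem no_plane {t : ℕ} [ht : Fact t.Prime] (htσ : t ∈ Cfsg.sigma M) {B : Subgroup G} (hBM : B ≤ M) (hBN : B ≤ N)
    (hBe : Cfsg.IsElementaryAbelian t B) (hB : Nat.card B = t ^ 2) : False := by
  have hG := h.minSimple
  have htN := h.not_sigma htσ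
  have hτ : t ∈ Cfsg.tau2 N := ⟨ht.out, htN, by
    by_contra h2
    exact htN (Sigma.alpha_subset_sigma hG h.coatomN ⟨ht.out, h2⟩), fun hr =>
      Plane.not_isCyclic hBe hB (isCyclic_of_rank_one hG hr (Plane.isPGroup hB) hBN)⟩
  have hbot := PlaneUnique.inf_eq_bot hG h.coatomN hBN hBe hB htN h.coatom hBM h.ne
  have hQN : Q ≤ N := h.le.trans h.E_le
  have hqN : q ∉ Cfsg.sigma N := fun hσ => line_ne_bot h.card (le_bot_iff.1 (hbot ▸
    le_inf (le_sigmaCore hG h.coatomN hσ (line_pgroup h.card) hQN) (h.le.trans h.compl.1)))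
  obtain ⟨⟨hr2, hr1⟩, -, -⟩ := S1409.result hG N h.coatomN q hqN Q h.card h.normQ
  have hqτ : q ∈ Cfsg.tau2 N := ⟨hq.out, hqN, hr2, hr1⟩
  obtain ⟨F, hF, hle⟩ := ComplBasics.exists_complement_containing hG h.coatomN (inf_le_right : M ⊓ N ≤ N)
    (coprime_of_inf hG h.coatomN inf_le_right (by rw [eq_bot_iff, ← hbot]; exact inf_le_inf_left _ inf_le_left))
  obtain ⟨A, hAF, hAe, hA⟩ := TauTwo.exists_plane (p := q) hG h.coatomN hF hqτ
  have hBA := ComplBasics.centralizes_plane hG h.coatomN hF hqτ hAF hAe hA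
    (fun e : t = q => h.tau3.2.1 (e ▸ htσ)) hτ (Plane.isPGroup hB) ((le_inf hBM hBN).trans hle)
  have hAM : A ≤ M := ((Subgroup.le_centralizer_iff.1 hBA).trans (Subgroup.centralizer_le_normalizer _)).trans
    (ComplBasics.normalizer_le_of_not_cyclic hG h.coatom htσ (Plane.isPGroup hB) hBM (Plane.not_isCyclic hBe hB))
  exact Plane.not_isCyclic hAe hA (isCyclic_of_rank_one hG h.tau3.2.2.2 (Plane.isPGroup hA) hAM)

theorem fixed_cyclic {t : ℕ} [ht : Fact t.Prime] {T : Subgroup G}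
    (hT : T ≤ Cfsg.sigmaCore M ⊓ Subgroup.centralizer (Q : Set G)) (hTp : IsPGroup t T) : IsCyclic T := by
  by_contra hc
  have hT1 : T ≠ ⊥ := fun e => hc (by subst e; infer_instance)
  obtain ⟨L, hLT, hLc⟩ := exists_line hTp hT1
  have htd : t ∣ Nat.card (Cfsg.sigmaCore M) := hLc ▸ Subgroup.card_dvd_of_le (hLT.trans (hT.trans inf_le_left))
  obtain ⟨W, -, hWe, hW⟩ := S0126.result
    (Uniq.ne_two_of_dvd h.minSimple (htd.trans (Cfsg.sigmaCore M).card_subgroup_dvd_card)) hTp hc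
  haveI := hWe.1
  refine h.no_plane (mem_sigma_of_dvd ht.out htd) (B := W.map T.subtype)
    ((Subgroup.map_subtype_le _).trans ((hT.trans inf_le_left).trans (sigmaCore_le M)))
    ((Subgroup.map_subtype_le _).trans (hT.trans h.fixed_le)) ⟨inferInstance, ?_⟩
    (by rw [Subgroup.card_map_of_injective T.subtype_injective, hW])
  rintro _ ⟨w, hw, rfl⟩
  rw [← map_pow, hWe.2 w hw, map_one]

end Base

/-- A `p`-subgroup of the complement moving `Q`, with its line. -/
structure Mover (p : ℕ) (E Q U P : Subgroup G) : Prop where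
  le : U ≤ E
  pgroup : IsPGroup p U
  moves : ¬ U ≤ Subgroup.centralizer (Q : Set G)
  card : Nat.card P = p
  line : P ≤ U

namespace Base

variable {q : ℕ} [hq : Fact q.Prime] {M E Q N : Subgroup G}
variable {p : ℕ} [hp : Fact p.Prime] {U P : Subgroup G} (h : Base q M E Q N) (u : Mover p E Q U P)
include h u

theorem mover_tau1 : p ∈ Cfsg.tau1 M := by
  have hG := h.minSimple
  have hpd : p ∣ Nat.card E := u.card ▸ Subgroup.card_dvd_of_le (u.line.trans u.le)
  have hpσ := not_dvd_complement hG h.coatom h.compl hp.out hpd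
  have hr1 := h.rank_one_of_compl hp.out hpσ
  refine ⟨hp.out, hpσ, hpd.trans (Subgroup.card_dvd_of_le h.compl.1), fun hd => ?_, hr1⟩
  haveI := h.derived_comm
  have hUd := le_derived_of_tau3 hG h.coatom h.compl ⟨hp.out, hpσ, hd, hr1⟩ u.pgroup u.le
  exact u.moves (hUd.trans ((Subgroup.le_centralizer _).trans (Subgroup.centralizer_le h.Q_derived)))

theorem q_ne_p : q ≠ p := fun e => (h.mover_tau1 u).2.2.2.1 (e ▸ h.tau3.2.2.1)

theorem commutator_eq : ⁅Q, U⁆ = Q := by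
  have hle : ⁅Q, U⁆ ≤ Q := CoprimeAct.commutator_le_left (u.le.trans h.E_norm)
  refine Subgroup.eq_of_le_of_card_ge hle (le_of_eq ?_)
  rcases (Nat.dvd_prime hq.out).1 (h.card ▸ Subgroup.card_dvd_of_le hle) with h1 | h1
  · exact absurd (Subgroup.le_centralizer_iff.1
      (Subgroup.commutator_eq_bot_iff_le_centralizer.1 (Subgroup.card_eq_one.1 h1))) u.moves
  · rw [h1, h.card]

theorem mover_le_centralizer : U ≤ Subgroup.centralizer (P : Set G) := by
  haveI := isCyclic_of_rank_one h.minSimple (h.mover_tau1 u).2.2.2.2 u.pgroup (u.le.trans h.compl.1)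
  exact (Subgroup.le_centralizer U).trans (Subgroup.centralizer_le u.line)

theorem exists_X : ∃ (t : ℕ) (X : Subgroup G), t.Prime ∧ Nat.card X = t ∧
    X ≤ Cfsg.sigmaCore M ⊓ Subgroup.centralizer (Q : Set G) ∧ U ≤ Subgroup.normalizer (X : Set G) := by
  set D := Cfsg.sigmaCore M ⊓ Subgroup.centralizer (Q : Set G) with hD
  obtain ⟨t, ht, htd⟩ := Nat.exists_prime_and_dvd fun e => h.nonregular (Subgroup.card_eq_one.1 e)
  haveI := Fact.mk ht
  have hUQ : U ≤ Subgroup.normalizer ((Subgroup.centralizer (Q : Set G) : Subgroup G) : Set G) :=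
    (u.le.trans h.E_norm).trans (FitOf.normalizer_le_normalizer_centralizer _)
  have hUD : U ≤ Subgroup.normalizer (D : Set G) :=
    (le_inf ((u.le.trans h.compl.1).trans (le_normalizer_sigmaCore M)) hUQ).trans
      Subgroup.inf_normalizer_le_normalizer_inf
  have hcop : (Nat.card U).Coprime (Nat.card D) :=
    ((ComplBasics.coprime_card h.minSimple h.coatom h.compl).coprime_dvd_left (Subgroup.card_dvd_of_le u.le)).coprime_dvd_right
      (Subgroup.card_dvd_of_le inf_le_left)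
  haveI := u.pgroup.isNilpotent
  obtain ⟨T, hT⟩ := CoprimeAct.exists_invariant_sylow hUD hcop (Or.inl inferInstance) t
  set Tm := (T : Subgroup D).map D.subtype with hTm
  have hTp : IsPGroup t Tm := T.isPGroup'.map _
  have hT1 : Tm ≠ ⊥ := fun e => T.ne_bot_of_dvd_card htd
    ((Subgroup.map_eq_bot_iff_of_injective _ D.subtype_injective).1 e)
  obtain ⟨X, hXT, hXc⟩ := exists_line hTp hT1
  exact ⟨t, X, ht, hXc, hXT.trans (Subgroup.map_subtype_le _),
    hT.trans (SigmaPartner.normalizer_le_of_cyclic (h.fixed_cyclic (Subgroup.map_subtype_le _) hTp) hXT)⟩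

set_option maxHeartbeats 1000000 in
theorem line_unique {t : ℕ} [ht : Fact t.Prime] {X : Subgroup G} (hX : Nat.card X = t)
    (hXD : X ≤ Cfsg.sigmaCore M ⊓ Subgroup.centralizer (Q : Set G)) (hUX : U ≤ Subgroup.normalizer (X : Set G)) :
    Subgroup.normalizer (X : Set G) ≤ M := by
  have hG := h.minSimple
  have hM := h.coatom
  obtain ⟨L, hL, hNX⟩ := Uniq.exists_maximal_ge (MinSimple.normalizer_ne_top hG (line_ne_bot hX)
    (MinSimple.pSubgroup_ne_top hG (line_pgroup hX)))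
  by_cases hLM : L = M
  · exact hLM ▸ hNX
  exfalso
  have hXM : X ≤ M := (hXD.trans inf_le_left).trans (sigmaCore_le M)
  have htσ : t ∈ Cfsg.sigma M := mem_sigma_of_dvd ht.out (hX ▸ Subgroup.card_dvd_of_le (hXD.trans inf_le_left))
  have hnc := SigmaPartner.not_conj hG hM htσ (line_pgroup hX) (line_ne_bot hX) hXM hLM hNX
  have htL : t ∉ Cfsg.sigma L := fun hσ => by
    obtain ⟨g, hg⟩ := SigmaDisj.conj_of_sigma hG hM hL htσ hσ
    exact hnc g hg
  obtain ⟨B, hBle, hBe, hB⟩ := exists_partner_plane hG hM htσ (line_pgroup hX) (line_ne_bot hX) hXM hNX htL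
  have hbot := PlaneUnique.inf_eq_bot hG hL (hBle.trans inf_le_right) hBe hB htL hM (hBle.trans inf_le_left) (Ne.symm hLM)
  obtain ⟨H, hH, hle⟩ := ComplBasics.exists_complement_containing hG hL (inf_le_right : M ⊓ L ≤ L)
    (coprime_of_inf hG hL inf_le_right (by rw [eq_bot_iff, ← hbot]; exact inf_le_inf_left _ inf_le_left))
  have hQH : Q ≤ H := (le_inf (h.le.trans h.compl.1) (((Subgroup.le_centralizer_iff.1 (hXD.trans inf_le_right)).trans
    (Subgroup.centralizer_le_normalizer _)).trans hNX)).trans hle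
  have hUH : U ≤ H := (le_inf (u.le.trans h.compl.1) (hUX.trans hNX)).trans hle
  have hQd : Q ≤ ⁅H, H⁆ := (h.commutator_eq u).ge.trans (Subgroup.commutator_mono hQH hUH)
  haveI : IsMulCommutative (⁅H, H⁆ : Subgroup G) := (S1420.result hG L hL H hH).2.1
  have hBH : B ≤ H := hBle.trans hle
  have hτ : t ∈ Cfsg.tau2 L := ⟨ht.out, htL, by
    by_contra h2
    exact htL (Sigma.alpha_subset_sigma hG hL ⟨ht.out, h2⟩), fun hr =>
      Plane.not_isCyclic hBe hB (isCyclic_of_rank_one hG hr (Plane.isPGroup hB) (hBle.trans inf_le_right))⟩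
  obtain ⟨⟨hHB, -⟩, -, -⟩ := S1418.result hG L hL H hH t hτ B ⟨hBH, hBe, hB⟩
  have hBQ := le_centralizer_of_derived hBH hQd (hQH.trans hHB) (by
    rw [h.card, hB]
    exact ((Nat.coprime_primes hq.out ht.out).2 fun e => h.tau3.2.1 (e ▸ htσ)).pow_right _)
  exact h.no_plane htσ (hBle.trans inf_le_left) (hBQ.trans h.centralizer_le) hBe hB

theorem line_rank {t : ℕ} [ht : Fact t.Prime] {X : Subgroup G} (hX : Nat.card X = t)
    (hXD : X ≤ Cfsg.sigmaCore M ⊓ Subgroup.centralizer (Q : Set G)) (hUX : U ≤ Subgroup.normalizer (X : Set G)) :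
    Cfsg.PRankLE t 1 N := by
  have hG := h.minSimple
  have htσ : t ∈ Cfsg.sigma M := mem_sigma_of_dvd ht.out (hX ▸ Subgroup.card_dvd_of_le (hXD.trans inf_le_left))
  have htN := h.not_sigma htσ
  by_contra hr1
  have hτ : t ∈ Cfsg.tau2 N := ⟨ht.out, htN, by
    by_contra h2
    exact htN (Sigma.alpha_subset_sigma hG h.coatomN ⟨ht.out, h2⟩), hr1⟩
  obtain ⟨F, hF, hXF⟩ := exists_complement_ge hG h.coatomN (line_pgroup hX) (hXD.trans h.fixed_le) htN
  obtain ⟨B, hBF, hBe, hB⟩ := TauTwo.exists_plane (p := t) hG h.coatomN hF hτ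
  obtain ⟨⟨-, hall⟩, -, -⟩ := S1418.result hG N h.coatomN F hF t hτ B ⟨hBF, hBe, hB⟩
  haveI := hBe.1
  have hBX : B ≤ M := (((Subgroup.le_centralizer B).trans (Subgroup.centralizer_le (hall X hXF hX))).trans
    (Subgroup.centralizer_le_normalizer _)).trans (h.line_unique u hX hXD hUX)
  exact h.no_plane htσ hBX (hBF.trans hF.1) hBe hB

theorem line_commutes {t : ℕ} [ht : Fact t.Prime] {X : Subgroup G} (hX : Nat.card X = t)
    (hXD : X ≤ Cfsg.sigmaCore M ⊓ Subgroup.centralizer (Q : Set G)) (hUX : U ≤ Subgroup.normalizer (X : Set G))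
    (htd : ¬ t ∣ Nat.card (⁅N, N⁆ : Subgroup G)) : U ≤ Subgroup.centralizer (X : Set G) := by
  have hle : ⁅X, U⁆ ≤ X := CoprimeAct.commutator_le_left hUX
  refine Subgroup.le_centralizer_iff.1 (Subgroup.commutator_eq_bot_iff_le_centralizer.1 ?_)
  rcases (Nat.dvd_prime ht.out).1 (hX ▸ Subgroup.card_dvd_of_le hle) with h1 | h1
  · exact Subgroup.card_eq_one.1 h1
  · exact absurd (h1 ▸ Subgroup.card_dvd_of_le
      (Subgroup.commutator_mono (hXD.trans h.fixed_le) (u.le.trans h.E_le))) htd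

set_option maxHeartbeats 1000000 in
theorem q_sigma : q ∈ Cfsg.sigma N := by
  by_contra hqN
  have hG := h.minSimple
  have hN := h.coatomN
  obtain ⟨⟨hr2, hr1⟩, -, -⟩ := S1409.result hG N hN q hqN Q h.card h.normQ
  have hqτ : q ∈ Cfsg.tau2 N := ⟨hq.out, hqN, hr2, hr1⟩
  obtain ⟨t, X, ht, hXc, hXD, hUX⟩ := h.exists_X u
  haveI := Fact.mk ht
  have htσ : t ∈ Cfsg.sigma M := mem_sigma_of_dvd ht (hXc ▸ Subgroup.card_dvd_of_le (hXD.trans inf_le_left))
  have htN := h.not_sigma htσ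
  have hXN : X ≤ N := hXD.trans h.fixed_le
  have hQN : Q ≤ N := h.le.trans h.E_le
  have hXQ : X ≤ Subgroup.centralizer (Q : Set G) := hXD.trans inf_le_right
  have hQX : Q ≤ Subgroup.normalizer (X : Set G) :=
    (Subgroup.le_centralizer_iff.1 hXQ).trans (Subgroup.centralizer_le_normalizer _)
  obtain ⟨F, hF, hle⟩ := ComplBasics.exists_complement_containing hG hN (sup_le hXN hQN)
    (ComplBasics.coprime_sigmaCore_of_not_sigma fun r hr hd hrσ => by
      rcases hr.dvd_mul.1 (hd.trans (Dvd.intro _ (SolvBasic.card_sup_mul_card_inf hQX))) with h' | h'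
      · rw [hXc, Nat.prime_dvd_prime_iff_eq hr ht] at h'; exact htN (h' ▸ hrσ)
      · rw [h.card, Nat.prime_dvd_prime_iff_eq hr hq.out] at h'; exact hqN (h' ▸ hrσ))
  have hXF : X ≤ F := le_sup_left.trans hle
  obtain ⟨A, hAF, hAe, hA⟩ := TauTwo.exists_plane (p := q) hG hN hF hqτ
  obtain ⟨⟨hFA, hall⟩, -, -⟩ := S1418.result hG N hN F hF q hqτ A ⟨hAF, hAe, hA⟩
  have hQA : Q ≤ A := hall Q (le_sup_right.trans hle) h.card
  have hXA : ¬ A ≤ Subgroup.centralizer (X : Set G) := fun hc => Plane.not_isCyclic hAe hA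
    (isCyclic_of_rank_one hG h.tau3.2.2.2 (Plane.isPGroup hA)
      ((hc.trans (Subgroup.centralizer_le_normalizer _)).trans (h.line_unique u hXc hXD hUX)))
  have hrt := h.line_rank u hXc hXD hUX
  have htd : ¬ t ∣ Nat.card (⁅N, N⁆ : Subgroup G) := fun hd => by
    haveI : IsMulCommutative (⁅F, F⁆ : Subgroup G) := (S1420.result hG N hN F hF).2.1
    refine hXA (le_centralizer_of_derived hAF
      (le_derived_of_tau3 hG hN hF ⟨ht, htN, hd, hrt⟩ (line_pgroup hXc) hXF) (hXF.trans hFA) ?_)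
    rw [hXc, hA]
    exact ((Nat.coprime_primes ht hq.out).2 fun e : t = q => h.tau3.2.1 (e ▸ htσ)).pow_right _
  have htτ : t ∈ Cfsg.tau1 N :=
    ⟨ht, htN, (hXc ▸ dvd_rfl : t ∣ Nat.card X).trans (Subgroup.card_dvd_of_le hXN), htd, hrt⟩
  have hfix : Q ≤ Subgroup.centralizer (X : Set G) := Subgroup.le_centralizer_iff.1 hXQ
  by_cases hS : ∀ S : Sylow q G, ¬ IsMulCommutative (S : Subgroup G)
  · obtain ⟨-, -, hl⟩ := S1419.result hG N hN F hF q hqτ hS A ⟨hAF, hAe, hA⟩
    have hQ0 : Q = A ⊓ Subgroup.centralizer (Cfsg.sigmaCore N : Set G) := by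
      by_contra hne
      exact (hl Q (le_sup_right.trans hle) h.card hne).2 h.centralizer_le
    exact TauOneTwo.line_false hG hN hF hqτ hS hAF hAe hA htτ hXc hXF (hQ0 ▸ hfix) hXA
  obtain ⟨S, hAS, hSc⟩ := TauTwoAb.exists_abelian_sylow hS (Plane.isPGroup hA)
  have d : TauTwoAb.Data q N F A S := ⟨hG, hN, hF, hqτ, hAF, hAe, hA, hAS, hSc⟩
  obtain ⟨x, hx, hx1⟩ := Plane.exists_ne_one hXc
  obtain ⟨b, hb, hb1⟩ := Plane.exists_ne_one h.card
  obtain ⟨c, hcA, hc⟩ := SetLike.not_le_iff_exists.1 hXA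
  have hxb : x * b = b * x := (Subgroup.mem_centralizer_iff.1 (hXQ hx) b hb).symm
  obtain ⟨L₀, hL₀A, hxL₀⟩ := exists_moved_line hAe (hQA hb) hb1 hxb hcA fun e => hc (by
    rw [← Plane.zpowers_eq hXc hx hx1, Plane.centralizer_zpowers]
    exact Subgroup.mem_centralizer_singleton_iff.2 e.symm)
  exact d.normalizer_not_le ((d.line_invariant (hFA (hXF hx)) hQA h.card
    (Subgroup.centralizer_le_normalizer _ (hXQ hx)) hL₀A hxL₀).trans h.normQ)

theorem Q_le_core : Q ≤ Cfsg.sigmaCore N :=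
  le_sigmaCore h.minSimple h.coatomN (h.q_sigma u) (line_pgroup h.card) (h.le.trans h.E_le)

/-- If `C_{M_σ}(P) ≤ N`, then `P` fixes `Q`. -/
theorem fixed_of_le (hle : Cfsg.sigmaCore M ⊓ Subgroup.centralizer (P : Set G) ≤ N) :
    Cfsg.sigmaCore M ⊓ Subgroup.centralizer (P : Set G) ≤ Subgroup.centralizer (Q : Set G) ∧
      P ≤ Subgroup.centralizer (Q : Set G) := by
  have hc : Cfsg.sigmaCore M ⊓ Subgroup.centralizer (P : Set G) ≤ Subgroup.centralizer (Q : Set G) := fun a ha =>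
    Subgroup.mem_centralizer_iff.2 fun w hw =>
      (h.commute_cores ha.1 (hle ha) (h.Q_le_core u hw) (h.compl.1 (h.le hw))).symm
  refine ⟨hc, ?_⟩
  by_contra hmove
  have hG := h.minSimple
  have hPE : P ≤ E := u.line.trans u.le
  have hQP : ⁅Q, P⁆ = Q := by
    have hle' : ⁅Q, P⁆ ≤ Q := CoprimeAct.commutator_le_left (hPE.trans h.E_norm)
    refine Subgroup.eq_of_le_of_card_ge hle' (le_of_eq ?_)
    rcases (Nat.dvd_prime hq.out).1 (h.card ▸ Subgroup.card_dvd_of_le hle') with h1 | h1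
    · exact absurd (Subgroup.le_centralizer_iff.1
        (Subgroup.commutator_eq_bot_iff_le_centralizer.1 (Subgroup.card_eq_one.1 h1))) hmove
    · rw [h1, h.card]
  haveI : Group.IsSolvable (Cfsg.sigmaCore M) :=
    haveI := MinSimple.isSolvable hG h.coatom.1
    SolvBasic.isSolvable_of_le (sigmaCore_le M)
  have hall := le_centralizer_of_fixed_all (K := Cfsg.sigmaCore M) hG.1 (h.q_ne_p u).symm u.card (line_pgroup h.card)
    (hPE.trans h.E_norm) hQP ((hPE.trans h.compl.1).trans (le_normalizer_sigmaCore M))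
    ((h.le.trans h.compl.1).trans (le_normalizer_sigmaCore M))
    (fun hd => h.tau3.2.1 (mem_sigma_of_dvd hq.out hd)) (fun hd => (h.mover_tau1 u).2.1 (mem_sigma_of_dvd hp.out hd))
    ((h.card ▸ dvd_rfl : q ∣ Nat.card Q).trans Q.card_subgroup_dvd_card) hc
  have hMN : M ≤ N := Compl.sup_eq h.compl ▸ sup_le h.E_le (hall.trans h.centralizer_le)
  exact h.ne ((h.coatom.le_iff_eq h.coatomN.1).1 hMN).symm

/-- In the case `t ∈ τ₃(N)` a complement of `N_σ` lies in `M`. -/
theorem compl_le {t : ℕ} [ht : Fact t.Prime] {X : Subgroup G} (hX : Nat.card X = t)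
    (hXD : X ≤ Cfsg.sigmaCore M ⊓ Subgroup.centralizer (Q : Set G)) (hUX : U ≤ Subgroup.normalizer (X : Set G))
    {F : Subgroup G} (hF : Cfsg.IsComplIn F (Cfsg.sigmaCore N) N) (hXF : X ≤ F)
    (ht3 : t ∈ Cfsg.tau3 N) :
    F ≤ Subgroup.normalizer (X : Set G) ∧ F ≤ M ∧ ∀ s : ℕ, s ∈ Cfsg.tau2 N → ¬ s ∣ Nat.card F := by
  have hG := h.minSimple
  haveI : IsMulCommutative (⁅F, F⁆ : Subgroup G) := (S1420.result hG N h.coatomN F hF).2.1
  have hXd := le_derived_of_tau3 hG h.coatomN hF ht3 (line_pgroup hX) hXF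
  have hFX := le_normalizer_line hG ht3.2.2.2 hF.1 hX hXd
  refine ⟨hFX, hFX.trans (h.line_unique u hX hXD hUX), fun s hs _ => ?_⟩
  haveI := Fact.mk hs.1
  obtain ⟨B, hBF, hBe, hB⟩ := TauTwo.exists_plane (p := s) hG h.coatomN hF hs
  obtain ⟨⟨hFB, -⟩, -, -⟩ := S1418.result hG N h.coatomN F hF s hs B ⟨hBF, hBe, hB⟩
  have hBM : B ≤ M := (le_centralizer_of_derived hBF hXd (hXF.trans hFB) (by
    rw [hX, hB]
    exact ((Nat.coprime_primes ht.out hs.1).2 fun e : t = s => hs.2.2.2 (e ▸ ht3.2.2.2)).pow_right _)).trans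
      ((Subgroup.centralizer_le_normalizer _).trans (h.line_unique u hX hXD hUX))
  by_cases hsσ : s ∈ Cfsg.sigma M
  · exact h.no_plane hsσ hBM (hBF.trans hF.1) hBe hB
  · exact Plane.not_isCyclic hBe hB (isCyclic_of_rank_one hG (h.rank_one_of_compl hs.1 hsσ) (Plane.isPGroup hB) hBM)

set_option maxHeartbeats 2000000 in
theorem p_sigma : p ∈ Cfsg.sigma N := by
  by_contra hpN
  have hG := h.minSimple
  have hM := h.coatom
  have hN := h.coatomN
  have hp1 := h.mover_tau1 u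
  have hPM : P ≤ M := (u.line.trans u.le).trans h.compl.1
  have hPN : P ≤ N := (u.line.trans u.le).trans h.E_le
  have hUN : U ≤ N := u.le.trans h.E_le
  have hQσ := h.Q_le_core u
  obtain ⟨t, X, ht, hXc, hXD, hUX⟩ := h.exists_X u
  haveI := Fact.mk ht
  have htσ : t ∈ Cfsg.sigma M := mem_sigma_of_dvd ht (hXc ▸ Subgroup.card_dvd_of_le (hXD.trans inf_le_left))
  have htN := h.not_sigma htσ
  have hXN : X ≤ N := hXD.trans h.fixed_le
  have hQX : Q ≤ Cfsg.sigmaCore N ⊓ Subgroup.centralizer (X : Set G) :=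
    le_inf hQσ (Subgroup.le_centralizer_iff.1 (hXD.trans inf_le_right))
  have hrt := h.line_rank u hXc hXD hUX
  have hXU : X ⊔ U ≤ N := sup_le hXN hUN
  obtain ⟨F, hF, hle⟩ := ComplBasics.exists_complement_containing hG hN hXU
    (ComplBasics.coprime_sigmaCore_of_not_sigma fun r hr hd hrσ => by
      rcases hr.dvd_mul.1 (hd.trans (Dvd.intro _ (SolvBasic.card_sup_mul_card_inf hUX))) with h' | h'
      · rw [hXc, Nat.prime_dvd_prime_iff_eq hr ht] at h'; exact htN (h' ▸ hrσ)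
      · exact hpN (Set.mem_singleton_iff.1 (Inv.primes_of_isPGroup u.pgroup r hr h') ▸ hrσ))
  have hXF : X ≤ F := le_sup_left.trans hle
  have hUF : U ≤ F := le_sup_right.trans hle
  haveI : IsMulCommutative (⁅F, F⁆ : Subgroup G) := (S1420.result hG N hN F hF).2.1
  -- `N` has `p`-rank one
  have hpr : Cfsg.PRankLE p 1 N := by
    by_contra hr1
    have hτ : p ∈ Cfsg.tau2 N := ⟨hp.out, hpN, by
      by_contra h2
      exact hpN (Sigma.alpha_subset_sigma hG hN ⟨hp.out, h2⟩), hr1⟩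
    obtain ⟨B, hBF, hBe, hB⟩ := TauTwo.exists_plane (p := p) hG hN hF hτ
    obtain ⟨⟨hFB, hall⟩, -, -⟩ := S1418.result hG N hN F hF p hτ B ⟨hBF, hBe, hB⟩
    have hPB : P ≤ B := hall P (u.line.trans hUF) u.card
    by_cases htd : t ∣ Nat.card (⁅N, N⁆ : Subgroup G)
    · exact (h.compl_le u hXc hXD hUX hF hXF ⟨ht, htN, htd, hrt⟩).2.2 p hτ
        (u.card ▸ Subgroup.card_dvd_of_le (u.line.trans hUF))
    · have hc := h.line_commutes u hXc hXD hUX htd
      have hreg := TauOneTwo.regular hG hN hF hτ hBF hBe hB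
        ⟨ht, htN, (hXc ▸ dvd_rfl : t ∣ Nat.card X).trans (Subgroup.card_dvd_of_le hXN), htd, hrt⟩ hXc hXF
        (fun e => line_ne_bot u.card (le_bot_iff.1 (e ▸ le_inf hPB (u.line.trans hc))))
      exact line_ne_bot h.card (le_bot_iff.1 (hreg ▸ hQX))
  -- `P` moves `Q`
  have hmove : ¬ P ≤ Subgroup.centralizer (Q : Set G) := fun hc => u.moves (Subgroup.le_centralizer_iff.1
    ((le_inf hQσ (Subgroup.le_centralizer_iff.1 hc)).trans
      (PrimeAction.centralizer_le hG hN hpN hpr u.card u.pgroup hUN u.line (h.mover_le_centralizer u))))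
  by_cases htd : t ∣ Nat.card (⁅N, N⁆ : Subgroup G)
  swap
  · exact hmove (Subgroup.le_centralizer_iff.1 (hQX.trans (TauOne.centralizer_le hG hN
      ⟨ht, htN, (hXc ▸ dvd_rfl : t ∣ Nat.card X).trans (Subgroup.card_dvd_of_le hXN), htd, hrt⟩ hXc hXN hp.out u.card
      hpN hPN (u.line.trans (h.line_commutes u hXc hXD hUX htd)))))
  have ht3 : t ∈ Cfsg.tau3 N := ⟨ht, htN, htd, hrt⟩
  obtain ⟨hFX, hFM, hF2⟩ := h.compl_le u hXc hXD hUX hF hXF ht3
  have hXd := le_derived_of_tau3 hG hN hF ht3 (line_pgroup hXc) hXF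
  have hFF : ⁅F, F⁆ ≤ F := Subgroup.le_normalizer_iff_commutator_le_left.1 Subgroup.le_normalizer
  have hpd : ¬ p ∣ Nat.card (⁅N, N⁆ : Subgroup G) := fun hd =>
    hp1.2.2.2.1 (((u.card ▸ dvd_rfl : p ∣ Nat.card P)).trans (Subgroup.card_dvd_of_le
      ((le_derived_of_tau3 hG hN hF ⟨hp.out, hpN, hd, hpr⟩ (line_pgroup u.card) (u.line.trans hUF)).trans
        (Subgroup.commutator_mono hFM hFM))))
  have hp1N : p ∈ Cfsg.tau1 N :=
    ⟨hp.out, hpN, (u.card ▸ dvd_rfl : p ∣ Nat.card P).trans (Subgroup.card_dvd_of_le hPN), hpd, hpr⟩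
  -- a line of `C_F(P)` moving `X`
  have hC : ¬ F ⊓ Subgroup.centralizer (P : Set G) ≤ Subgroup.centralizer (X : Set G) := fun hc => by
    refine exists_moving_line hG hrt hF.1 ((hXc ▸ dvd_rfl : t ∣ Nat.card X).trans (Subgroup.card_dvd_of_le hXd)) hXc hXF
      fun f hf => ?_
    obtain ⟨j, hj, c, hc', rfl⟩ := exists_mul_fixed hFF le_rfl
      (fun hd => hpd (hd.trans (Subgroup.card_dvd_of_le (Subgroup.commutator_mono hF.1 hF.1))))
      (line_pgroup u.card) (u.line.trans hUF) hf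
    exact mul_mem ((Subgroup.le_centralizer (⁅F, F⁆ : Subgroup G)).trans (Subgroup.centralizer_le hXd) hj) (hc hc')
  set C := F ⊓ Subgroup.centralizer (P : Set G) with hCdef
  obtain ⟨s, hs, U₂, hU₂C, hU₂p, hU₂X⟩ : ∃ (s : ℕ) (_ : Fact s.Prime) (U₂ : Subgroup G),
      U₂ ≤ C ∧ IsPGroup s U₂ ∧ ¬ U₂ ≤ Subgroup.centralizer (X : Set G) := by
    by_contra hno
    push Not at hno
    refine hC (Subgroup.subgroupOf_eq_top.1 (FittingCores.eq_top_of_forall_sylow_le fun s hs => ?_))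
    haveI := Fact.mk hs
    exact ⟨default, fun x hx => hno s inferInstance _ (Subgroup.map_subtype_le _)
      ((default : Sylow s C).isPGroup'.map C.subtype) ⟨x, hx, rfl⟩⟩
  haveI := hs
  have hU₂F : U₂ ≤ F := hU₂C.trans inf_le_left
  have hU₂1 : U₂ ≠ ⊥ := fun e => hU₂X (e.le.trans bot_le)
  obtain ⟨V, hVU, hVc⟩ := exists_line hU₂p hU₂1
  have hsF : s ∣ Nat.card F := hVc ▸ Subgroup.card_dvd_of_le (hVU.trans hU₂F)
  have hsN : s ∉ Cfsg.sigma N := not_dvd_complement hG hN hF hs.out hsF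
  have hsr : Cfsg.PRankLE s 1 N := by
    by_contra h1
    exact hF2 s ⟨hs.out, hsN, by
      by_contra h2
      exact hsN (Sigma.alpha_subset_sigma hG hN ⟨hs.out, h2⟩), h1⟩ hsF
  have hsd : ¬ s ∣ Nat.card (⁅N, N⁆ : Subgroup G) := fun hd => hU₂X
    ((le_derived_of_tau3 hG hN hF ⟨hs.out, hsN, hd, hsr⟩ hU₂p hU₂F).trans
      ((Subgroup.le_centralizer _).trans (Subgroup.centralizer_le hXd)))
  have hs1 : s ∈ Cfsg.tau1 N := ⟨hs.out, hsN, hsF.trans (Subgroup.card_dvd_of_le hF.1), hsd, hsr⟩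
  have hVN : V ≤ N := (hVU.trans hU₂F).trans hF.1
  have hU₂V : U₂ ≤ Subgroup.centralizer (V : Set G) := by
    haveI := isCyclic_of_rank_one hG hsr hU₂p (hU₂F.trans hF.1)
    exact (Subgroup.le_centralizer U₂).trans (Subgroup.centralizer_le hVU)
  have hPV : P ≤ Subgroup.centralizer (V : Set G) :=
    Subgroup.le_centralizer_iff.1 ((hVU.trans hU₂C).trans inf_le_right)
  have hVfix : Cfsg.sigmaCore N ⊓ Subgroup.centralizer (V : Set G) ≤ Subgroup.centralizer (P : Set G) :=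
    TauOne.centralizer_le hG hN hs1 hVc hVN hp.out u.card hpN hPN hPV
  have hVX : ¬ V ≤ Subgroup.centralizer (X : Set G) := fun hc => by
    by_cases hsσ : s ∈ Cfsg.sigma M
    · have hVσ : V ≤ Cfsg.sigmaCore M := le_sigmaCore hG hM hsσ (line_pgroup hVc) ((hVU.trans hU₂F).trans hFM)
      refine hmove (Subgroup.le_centralizer_iff.1 ((le_inf hQσ ?_).trans hVfix))
      exact fun w hw => Subgroup.mem_centralizer_iff.2 fun a ha =>
        h.commute_cores (hVσ ha) (hVN ha) (hQσ hw) (h.compl.1 (h.le hw))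
    · exact hU₂X (Subgroup.le_centralizer_iff.1 ((le_inf (hXD.trans inf_le_left) (Subgroup.le_centralizer_iff.1 hc)).trans
        (PrimeAction.centralizer_le hG hM hsσ (h.rank_one_of_compl hs.out hsσ) hVc hU₂p (hU₂F.trans hFM) hVU hU₂V)))
  -- `P` has fixed points on `N_σ`
  have hB1 : Cfsg.sigmaCore N ⊓ Subgroup.centralizer (P : Set G) ≠ ⊥ := fun hbot => by
    have hXV : ⁅X, V⁆ = X := by
      have hle' : ⁅X, V⁆ ≤ X := CoprimeAct.commutator_le_left ((hVU.trans hU₂F).trans hFX)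
      refine Subgroup.eq_of_le_of_card_ge hle' (le_of_eq ?_)
      rcases (Nat.dvd_prime ht).1 (hXc ▸ Subgroup.card_dvd_of_le hle') with h1 | h1
      · exact absurd (Subgroup.le_centralizer_iff.1
          (Subgroup.commutator_eq_bot_iff_le_centralizer.1 (Subgroup.card_eq_one.1 h1))) hVX
      · rw [h1, hXc]
    haveI : Group.IsSolvable (Cfsg.sigmaCore N) :=
      haveI := MinSimple.isSolvable hG hN.1
      SolvBasic.isSolvable_of_le (sigmaCore_le N)
    have hall := le_centralizer_of_fixed_all (K := Cfsg.sigmaCore N) hG.1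
      (fun e : s = t => hsd (e.symm ▸ htd)) hVc (line_pgroup hXc) ((hVU.trans hU₂F).trans hFX) hXV
      (hVN.trans (le_normalizer_sigmaCore N)) (hXN.trans (le_normalizer_sigmaCore N))
      (fun hd => htN (mem_sigma_of_dvd ht hd)) (fun hd => hsN (mem_sigma_of_dvd hs.out hd))
      ((hXc ▸ dvd_rfl : t ∣ Nat.card X).trans X.card_subgroup_dvd_card)
      ((le_inf inf_le_left hVfix).trans (hbot.le.trans bot_le))
    have hNM : N ≤ M := Compl.sup_eq hF ▸ sup_le hFM
      ((hall.trans (Subgroup.centralizer_le_normalizer _)).trans (h.line_unique u hXc hXD hUX))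
    exact h.ne ((hN.le_iff_eq hM.1).1 hNM)
  -- the two fixed elements
  have hA : ¬ Cfsg.sigmaCore M ⊓ Subgroup.centralizer (P : Set G) ≤ N := fun hle' => hmove (h.fixed_of_le u hle').2
  have hA1 : Cfsg.sigmaCore M ⊓ Subgroup.centralizer (P : Set G) ≠ ⊥ := fun e => hA (e.le.trans bot_le)
  obtain ⟨r, hr, hrd⟩ := Nat.exists_prime_and_dvd fun e => hA1 (Subgroup.card_eq_one.1 e)
  obtain ⟨r', hr', hrd'⟩ := Nat.exists_prime_and_dvd fun e => hB1 (Subgroup.card_eq_one.1 e)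
  haveI := Fact.mk hr
  haveI := Fact.mk hr'
  obtain ⟨⟨z, hzσ, hzP⟩, hz⟩ := exists_prime_orderOf_dvd_card' _ hrd
  obtain ⟨⟨z', hz'σ, hz'P⟩, hz'⟩ := exists_prime_orderOf_dvd_card' _ hrd'
  replace hz : orderOf z = r := (Subgroup.orderOf_coe _).trans hz
  replace hz' : orderOf z' = r' := (Subgroup.orderOf_coe _).trans hz'
  have hrσ : r ∈ Cfsg.sigma M := mem_sigma_of_dvd hr (hz ▸ Subgroup.orderOf_dvd_natCard _ hzσ)
  have hr'σ : r' ∈ Cfsg.sigma N := mem_sigma_of_dvd hr' (hz' ▸ Subgroup.orderOf_dvd_natCard _ hz'σ)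
  have hr'M : r' ∉ Cfsg.sigma M := fun hσ => h.not_sigma hσ hr'σ
  have hzc : Nat.card (Subgroup.zpowers z) = r := by rw [Nat.card_zpowers, hz]
  have hz'c : Nat.card (Subgroup.zpowers z') = r' := by rw [Nat.card_zpowers, hz']
  have hzh := (TauOne.centralized_cases hG hM hp1 u.card hPM hzc (Subgroup.zpowers_le.2 hzσ) (Subgroup.zpowers_le.2 hzP)).imp
    id fun hh => hh (Subgroup.mem_zpowers z)
  have hz'h := (TauOne.centralized_cases hG hN hp1N u.card hPN hz'c (Subgroup.zpowers_le.2 hz'σ) (Subgroup.zpowers_le.2 hz'P)).imp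
    id fun hh => hh (Subgroup.mem_zpowers z')
  obtain ⟨⟨hCz, huz⟩, -, -⟩ := S1423.result hG M hM r hrσ _ (Subgroup.zpowers_le.2 (sigmaCore_le M hzσ)) hzc default
    (hzh.imp id fun hh => Subgroup.zpowers_le.2 hh)
  obtain ⟨⟨hCz', huz'⟩, -, -⟩ := S1423.result hG N hN r' hr'σ _ (Subgroup.zpowers_le.2 (sigmaCore_le N hz'σ)) hz'c default
    (hz'h.imp id fun hh => Subgroup.zpowers_le.2 hh)
  obtain ⟨L, hL, hNP⟩ := Uniq.exists_maximal_ge (MinSimple.normalizer_ne_top hG (line_ne_bot u.card)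
    (MinSimple.pSubgroup_ne_top hG (line_pgroup u.card)))
  have hnc : ∀ Y : Subgroup G, p ∉ Cfsg.sigma Y → Cfsg.PRankLE p 1 Y → ∀ g : G, L ≠ Y.map (MulAut.conj g).toMonoidHom :=
    fun Y hY hY1 g hg => by
      by_cases hpL : p ∈ Cfsg.sigma L
      · exact hY (PrimeAction.sigma_of_conj g (hg ▸ hpL))
      · exact (S1409.result hG L hL p hpL P u.card hNP).1.2 (hg ▸ PrimeAction.rank_of_conj g hY1)
  set CP := Subgroup.centralizer (P : Set G) with hCP
  have hCL : CP ≤ L := (Subgroup.centralizer_le_normalizer _).trans hNP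
  haveI := MinSimple.isSolvable hG hL.1
  haveI : Group.IsSolvable CP := SolvBasic.isSolvable_of_le hCL
  have hrL := rank_centralized hG hM hL (hnc M hp1.2.1 hp1.2.2.2.2) hp1.2.1 hp1.2.2.2.2 u.card hNP hrσ hz hzP hCz
  have hr'L := rank_centralized hG hN hL (hnc N hpN hpr) hpN hpr u.card hNP hr'σ hz' hz'P hCz'
  have hnorm : ∀ (Y : Subgroup G) (a : ℕ) [Fact a.Prime] (y : G), Nat.card (Subgroup.zpowers y) = a →
      (∀ L' : Subgroup G, IsCoatom L' → Subgroup.centralizer ((Subgroup.zpowers y : Subgroup G) : Set G) ≤ L' → L' = Y) →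
      Subgroup.normalizer ((Subgroup.zpowers y : Subgroup G) : Set G) ≤ Y := by
    intro Y a _ y hy hu
    obtain ⟨L', hL', hle'⟩ := Uniq.exists_maximal_ge (MinSimple.normalizer_ne_top hG (line_ne_bot hy)
      (MinSimple.pSubgroup_ne_top hG (line_pgroup hy)))
    exact hu L' hL' ((Subgroup.centralizer_le_normalizer _).trans hle') ▸ hle'
  rcases SigmaDisj.exists_normalizing_line (C := CP) (fun e : r = r' => h.not_sigma hrσ (e ▸ hr'σ))
      (fun R hR hRp => isCyclic_of_rank_one hG hrL hRp (hR.trans hCL))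
      (fun R hR hRp => isCyclic_of_rank_one hG hr'L hRp (hR.trans hCL))
      hzP hz'P hz hz' with ⟨c, hc, hcn⟩ | ⟨c, hc, hcn⟩
  · exact hA (pull hG hM hN h.compl h.E_le hp1 u.card hPM hPN hz'σ hz' hz'h hr'M (hnorm M r z hzc huz hcn)
      (CP.mul_mem (CP.mul_mem hc hz'P) (CP.inv_mem hc)))
  · have hBM := pull hG hN hM hF hFM hp1N u.card hPN hPM hzσ hz hzh (h.not_sigma hrσ) (hnorm N r' z' hz'c huz' hcn)
      (CP.mul_mem (CP.mul_mem hc hzP) (CP.inv_mem hc))
    exact hA (pull hG hM hN h.compl h.E_le hp1 u.card hPM hPN (g := 1) hz'σ hz' hz'h hr'M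
      (by simpa using hBM ⟨hz'σ, hz'P⟩) (by simpa using hz'P))

set_option maxHeartbeats 1000000 in
theorem centralizer_P_le : Subgroup.centralizer (P : Set G) ≤ N := by
  have hG := h.minSimple
  have hM := h.coatom
  have hN := h.coatomN
  have hp1 := h.mover_tau1 u
  have hpN := h.p_sigma u
  have hPN : P ≤ N := (u.line.trans u.le).trans h.E_le
  have hPσ : P ≤ Cfsg.sigmaCore N := le_sigmaCore hG hN hpN (line_pgroup u.card) hPN
  obtain ⟨t, X, ht, hXc, hXD, hUX⟩ := h.exists_X u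
  haveI := Fact.mk ht
  have htσ : t ∈ Cfsg.sigma M := mem_sigma_of_dvd ht (hXc ▸ Subgroup.card_dvd_of_le (hXD.trans inf_le_left))
  have htN := h.not_sigma htσ
  have hXN : X ≤ N := hXD.trans h.fixed_le
  have hrt := h.line_rank u hXc hXD hUX
  suffices hs : ∃ (s : ℕ) (W : Subgroup G), s ∈ Cfsg.tau1 N ∧ Nat.card W = s ∧ W ≤ N ∧
      P ≤ Subgroup.centralizer (W : Set G) by
    obtain ⟨s, W, hs1, hWc, hWN, hPW⟩ := hs
    haveI := Fact.mk hs1.1
    obtain ⟨⟨hC, -⟩, -, -⟩ := S1423.result hG N hN p hpN P hPN u.card default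
      (TauOne.centralized_cases hG hN hs1 hWc hWN u.card hPσ hPW)
    exact hC
  by_cases htd : t ∣ Nat.card (⁅N, N⁆ : Subgroup G)
  swap
  · exact ⟨t, X, ⟨ht, htN, (hXc ▸ dvd_rfl : t ∣ Nat.card X).trans (Subgroup.card_dvd_of_le hXN), htd, hrt⟩, hXc, hXN,
      u.line.trans (h.line_commutes u hXc hXD hUX htd)⟩
  obtain ⟨F, hF, hXF⟩ := exists_complement_ge hG hN (line_pgroup hXc) hXN htN
  obtain ⟨-, hFM, hF2⟩ := h.compl_le u hXc hXD hUX hF hXF ⟨ht, htN, htd, hrt⟩
  obtain ⟨s, hs1, hsF⟩ := exists_tau1_dvd hG hN hF (fun e => line_ne_bot hXc (le_bot_iff.1 (e ▸ hXF))) hF2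
  haveI := Fact.mk hs1.1
  set H := M ⊓ N with hH
  set J := ⁅H, H⁆ with hJ
  have hJH : J ≤ H := Subgroup.le_normalizer_iff_commutator_le_left.1 Subgroup.le_normalizer
  have hPH : P ≤ H := le_inf ((u.line.trans u.le).trans h.compl.1) hPN
  set C := H ⊓ Subgroup.centralizer (P : Set G) with hCdef
  have hCJ : C ≤ Subgroup.normalizer (J : Set G) := inf_le_left.trans (Subgroup.normalizer_commutator_ge_left H H)
  have hHle : H ≤ J ⊔ C := fun x hx => by
    obtain ⟨j, hj, c, hc, rfl⟩ := exists_mul_fixed hJH le_rfl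
      (fun hd => hp1.2.2.2.1 (hd.trans (Subgroup.card_dvd_of_le (Subgroup.commutator_mono inf_le_left inf_le_left))))
      (line_pgroup u.card) hPH hx
    exact mul_mem (Subgroup.mem_sup_left hj) (Subgroup.mem_sup_right hc)
  have hsd : s ∣ Nat.card C := by
    rcases hs1.1.dvd_mul.1 ((hsF.trans ((Subgroup.card_dvd_of_le (le_inf hFM hF.1)).trans (Subgroup.card_dvd_of_le hHle))).trans
      (Dvd.intro _ (SolvBasic.card_sup_mul_card_inf hCJ))) with h' | h'
    · exact absurd (h'.trans (Subgroup.card_dvd_of_le (Subgroup.commutator_mono inf_le_right inf_le_right))) hs1.2.2.2.1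
    · exact h'
  obtain ⟨x, hx⟩ := exists_prime_orderOf_dvd_card' (G := C) s hsd
  exact ⟨s, Subgroup.zpowers (x : G), hs1, by rw [Nat.card_zpowers, Subgroup.orderOf_coe, hx],
    Subgroup.zpowers_le.2 x.2.1.2, Subgroup.le_centralizer_iff.1 (Subgroup.zpowers_le.2 x.2.2)⟩

/-- The line of a mover fixes `Q`, and both have the same fixed points on `M_σ`. -/
theorem mover_fixed : P ≤ Subgroup.centralizer (Q : Set G) ∧
    Cfsg.sigmaCore M ⊓ Subgroup.centralizer (P : Set G) = Cfsg.sigmaCore M ⊓ Subgroup.centralizer (Q : Set G) := by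
  obtain ⟨hc, hPQ⟩ := h.fixed_of_le u (inf_le_right.trans (h.centralizer_P_le u))
  have hPN : P ≤ N := (u.line.trans u.le).trans h.E_le
  have hPσ : P ≤ Cfsg.sigmaCore N := le_sigmaCore h.minSimple h.coatomN (h.p_sigma u) (line_pgroup u.card) hPN
  refine ⟨hPQ, le_antisymm (le_inf inf_le_left hc) (le_inf inf_le_left fun a ha => ?_)⟩
  exact Subgroup.mem_centralizer_iff.2 fun w hw =>
    (h.commute_cores ha.1 (h.fixed_le ha) (hPσ hw) (h.compl.1 (u.le (u.line hw)))).symm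

end Base

end Cfsg.Agent.OddOrder.Tau3
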