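/-
Primes of `κ(M)`: basic facts, and BG 14.2(b): a line of `κ(M)` lies in `M*_σ` for every maximal subgroup
`M*` over its normalizer.
-/
import Cfsg.Agent.Lib.OddOrder.Tau3Nonregular

set_option autoImplicit false
set_option linter.style.haveILetI false
set_option linter.unusedSectionVars false

namespace Cfsg.Agent.OddOrder.Kappa

open scoped commutatorElement IsMulCommutative
open Exceptional TauOne
open Tau3 (line_pgroup line_ne_bot exists_line)

universe u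

variable {G : Type u} [Group G] [Finite G] {M E : Subgroup G}

theorem le_singleton {X : Subgroup G} {x : G} (hx : x ∈ X) :
    Subgroup.centralizer (X : Set G) ≤ Subgroup.centralizer ({x} : Set G) :=
  Subgroup.centralizer_le (Set.singleton_subset_iff.2 hx)

/-- A nontrivial element has a power of prime order. -/
theorem exists_line_zpowers {k : G} (hk1 : k ≠ 1) :
    ∃ (r : ℕ) (X : Subgroup G), r.Prime ∧ Nat.card X = r ∧ X ≤ Subgroup.zpowers k := by
  obtain ⟨r, hr, hd⟩ := Nat.exists_prime_and_dvd (fun e => hk1 (Subgroup.zpowers_eq_bot.1 (Subgroup.card_eq_one.1 e)) :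
    Nat.card (Subgroup.zpowers k) ≠ 1)
  haveI := Fact.mk hr
  obtain ⟨x, hx⟩ := exists_prime_orderOf_dvd_card' (G := Subgroup.zpowers k) r hd
  exact ⟨r, Subgroup.zpowers (x : G), hr, by rw [Nat.card_zpowers, Subgroup.orderOf_coe, hx], Subgroup.zpowers_le.2 x.2⟩

theorem centralizer_singleton_le {k : G} {X : Subgroup G} (hX : X ≤ Subgroup.zpowers k) :
    Subgroup.centralizer ({k} : Set G) ≤ Subgroup.centralizer (X : Set G) := by
  rw [← Plane.centralizer_zpowers]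
  exact Subgroup.centralizer_le hX

theorem exists_line_of_dvd {X : Subgroup G} {r : ℕ} (hr : r.Prime) (hd : r ∣ Nat.card X) :
    ∃ Y : Subgroup G, Y ≤ X ∧ Nat.card Y = r := by
  haveI := Fact.mk hr
  obtain ⟨x, hx⟩ := exists_prime_orderOf_dvd_card' (G := X) r hd
  exact ⟨Subgroup.zpowers (x : G), Subgroup.zpowers_le.2 x.2, by rw [Nat.card_zpowers, Subgroup.orderOf_coe, hx]⟩

variable {p : ℕ} [hp : Fact p.Prime]

/-- A line of rank one with fixed points on `M_σ` puts its prime in `κ(M)`. -/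
theorem kappa_of_line (hG : Cfsg.IsMinSimpleOddOrder G) (hσ : p ∉ Cfsg.sigma M)
    (hr1 : Cfsg.PRankLE p 1 M) {X : Subgroup G} (hX : Nat.card X = p) (hXM : X ≤ M)
    (hfix : Cfsg.sigmaCore M ⊓ Subgroup.centralizer (X : Set G) ≠ ⊥) : p ∈ Cfsg.kappa M := by
  refine ⟨hp.out, (hX ▸ dvd_rfl : p ∣ Nat.card X).trans (Subgroup.card_dvd_of_le hXM), hσ, fun S =>
    ⟨CyclicSylow.isCyclic_sylow (hG.1.of_dvd_nat M.card_subgroup_dvd_card) hr1 S, ?_⟩⟩
  obtain ⟨T, hT⟩ := ((line_pgroup hX).comap_subtype (K := M)).exists_le_sylow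
  obtain ⟨m, hm, hmS⟩ := Sigma.exists_sylow_conj T S
  obtain ⟨x, hx, hx1⟩ := Plane.exists_ne_one hX
  obtain ⟨y, ⟨hy, hyX⟩, hy1⟩ := (Subgroup.bot_or_exists_ne_one _).resolve_left hfix
  obtain ⟨s, hs, hsx⟩ : m * x * m⁻¹ ∈ (S : Subgroup M).map M.subtype :=
    hmS.ge ⟨x, ⟨⟨x, hXM hx⟩, hT hx, rfl⟩, rfl⟩
  have hsx' : (s : G) = m * x * m⁻¹ := hsx
  refine ⟨s, hs, fun e => hx1 ?_, m * y * m⁻¹,
    (Subgroup.mem_normalizer_iff.1 (le_normalizer_sigmaCore M hm) y).1 hy, fun e => hy1 ?_, ?_⟩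
  · have h1 : (s : G) = 1 := by rw [e, Subgroup.coe_one]
    rwa [hsx', conj_eq_one_iff] at h1
  · rwa [conj_eq_one_iff] at e
  · rw [hsx']
    calc m * x * m⁻¹ * (m * y * m⁻¹) = m * (x * y) * m⁻¹ := by group
      _ = m * (y * x) * m⁻¹ := by rw [Subgroup.mem_centralizer_iff.1 hyX x hx]
      _ = _ := by group

/-- Primes of `κ(M)` have rank one. -/
theorem rank_one_of_kappa (hκ : p ∈ Cfsg.kappa M) : Cfsg.PRankLE p 1 M := by
  intro B hB hBp
  obtain ⟨T, hT⟩ := (show IsPGroup p B from fun b => ⟨1, Subtype.ext (by simpa using hBp b b.2)⟩).exists_le_sylow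
  haveI := (hκ.2.2.2 T).1
  haveI : IsCyclic B := isCyclic_of_injective (Subgroup.inclusion hT) (Subgroup.inclusion_injective _)
  rw [pow_one, ← IsCyclic.exponent_eq_card]
  exact Nat.le_of_dvd hp.out.pos (Monoid.exponent_dvd_of_forall_pow_eq_one fun b => Subtype.ext (by simpa using hBp b b.2))

/-- Every line of a prime of `κ(M)` has fixed points on `M_σ`. -/
theorem fixed_of_kappa (hκ : p ∈ Cfsg.kappa M) {P : Subgroup G} (hP : Nat.card P = p) (hPM : P ≤ M) :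
    Cfsg.sigmaCore M ⊓ Subgroup.centralizer (P : Set G) ≠ ⊥ := by
  obtain ⟨S, hS⟩ := ((line_pgroup hP).comap_subtype (K := M)).exists_le_sylow
  obtain ⟨hSc, x, hx, hx1, y, hy, hy1, hxy⟩ := hκ.2.2.2 S
  haveI := hSc
  set Sm := (S : Subgroup M).map M.subtype
  have hPS : P ≤ Sm := fun a ha => ⟨⟨a, hPM ha⟩, hS ha, rfl⟩
  have hxS : Subgroup.zpowers (x : G) ≤ Sm := Subgroup.zpowers_le.2 ⟨x, hx, rfl⟩
  haveI hSmc : IsCyclic Sm := isCyclic_of_surjective _
    ((S : Subgroup M).equivMapOfInjective M.subtype M.subtype_injective).surjective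
  obtain ⟨w, hw, hw1⟩ := (Subgroup.bot_or_exists_ne_one _).resolve_left
    (inf_ne_bot_of_cyclic hSmc (S.isPGroup'.map M.subtype) hPS hxS (line_ne_bot hP)
      (fun e => hx1 (Subtype.ext (Subgroup.zpowers_eq_bot.1 e))))
  intro e
  refine hy1 (Subgroup.mem_bot.1 (e.le ⟨hy, ?_⟩))
  rw [← Plane.zpowers_eq hP hw.1 hw1]
  refine Subgroup.centralizer_le (Subgroup.zpowers_le.2 hw.2) ?_
  rw [Plane.centralizer_zpowers]
  exact Subgroup.mem_centralizer_singleton_iff.2 hxy.symm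

set_option maxHeartbeats 800000 in
/-- BG 14.2(b): `X ⊆ M*_σ`. -/
theorem sigma_of_centralized (hG : Cfsg.IsMinSimpleOddOrder G) (hM : IsCoatom M) (hp1 : p ∈ Cfsg.tau1 M)
    {P : Subgroup G} (hP : Nat.card P = p) (hPM : P ≤ M)
    (hfix : Cfsg.sigmaCore M ⊓ Subgroup.centralizer (P : Set G) ≠ ⊥)
    {N : Subgroup G} (hN : IsCoatom N) (hNP : Subgroup.normalizer (P : Set G) ≤ N) : P ≤ Cfsg.sigmaCore N := by
  have hPN : P ≤ N := Subgroup.le_normalizer.trans hNP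
  have hCN : Subgroup.centralizer (P : Set G) ≤ N := (Subgroup.centralizer_le_normalizer _).trans hNP
  by_cases hpN : p ∈ Cfsg.sigma N
  · exact le_sigmaCore hG hN hpN (line_pgroup hP) hPN
  exfalso
  obtain ⟨⟨hr2, hr1⟩, -, -⟩ := S1409.result hG N hN p hpN P hP hNP
  have hτ : p ∈ Cfsg.tau2 N := ⟨hp.out, hpN, hr2, hr1⟩
  have hnc : ∀ g : G, N ≠ M.map (MulAut.conj g).toMonoidHom := fun g hg =>
    hr1 (hg ▸ PrimeAction.rank_of_conj g hp1.2.2.2.2)
  obtain ⟨r, hr, hrd⟩ := Nat.exists_prime_and_dvd fun e => hfix (Subgroup.card_eq_one.1 e)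
  haveI := Fact.mk hr
  obtain ⟨Z, hZD, hZ⟩ := exists_line_of_dvd hr hrd
  have hrσ : r ∈ Cfsg.sigma M := mem_sigma_of_dvd hr (hrd.trans (Subgroup.card_dvd_of_le inf_le_left))
  have hrp : r ≠ p := fun e => hp1.2.1 (e ▸ hrσ)
  have hrN : r ∉ Cfsg.sigma N := fun hσ => by
    obtain ⟨g, hg⟩ := SigmaDisj.conj_of_sigma hG hM hN hrσ hσ
    exact hnc g hg
  obtain ⟨⟨hCZ, -⟩, -, -⟩ := S1423.result hG M hM r hrσ Z (hZD.trans (inf_le_left.trans (sigmaCore_le M))) hZ default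
    (TauOne.centralized_cases hG hM hp1 hP hPM hZ (hZD.trans inf_le_left) (hZD.trans inf_le_right))
  have hZP : Z ≤ Subgroup.centralizer (P : Set G) := hZD.trans inf_le_right
  have hZn : Z ≤ Subgroup.normalizer (P : Set G) := hZP.trans (Subgroup.centralizer_le_normalizer _)
  obtain ⟨F, hF, hPZ⟩ := ComplBasics.exists_complement_containing hG hN (sup_le hPN (hZP.trans hCN))
    (ComplBasics.coprime_sigmaCore_of_not_sigma (X := (P ⊔ Z : Subgroup G)) fun t ht hd hσ => by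
      rcases ht.dvd_mul.1 (hd.trans (Dvd.intro _ (SolvBasic.card_sup_mul_card_inf hZn))) with h | h
      · rw [hP, Nat.prime_dvd_prime_iff_eq ht hp.out] at h
        exact hpN (h ▸ hσ)
      · rw [hZ, Nat.prime_dvd_prime_iff_eq ht hr] at h
        exact hrN (h ▸ hσ))
  have hPF : P ≤ F := le_sup_left.trans hPZ
  have hZF : Z ≤ F := le_sup_right.trans hPZ
  obtain ⟨B, hBF, hBe, hB⟩ := TauTwo.exists_plane (p := p) hG hN hF hτ
  obtain ⟨⟨hFB, hall⟩, -, -⟩ := S1418.result hG N hN F hF p hτ B ⟨hBF, hBe, hB⟩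
  have hPB : P ≤ B := hall P hPF hP
  haveI := hBe.1
  have hBP : B ≤ Subgroup.centralizer (P : Set G) := (Subgroup.le_centralizer B).trans (Subgroup.centralizer_le hPB)
  have hmove : ¬ B ≤ Subgroup.centralizer (Z : Set G) := fun h =>
    Plane.not_isCyclic hBe hB (isCyclic_of_rank_one hG hp1.2.2.2.2 (Plane.isPGroup hB) (h.trans hCZ))
  have hrr1 : Cfsg.PRankLE r 1 N := by
    by_contra hcon
    have hrr2 : Cfsg.PRankLE r 2 N := by
      by_contra hh
      exact hrN (Sigma.alpha_subset_sigma hG hN ⟨hr, hh⟩)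
    exact hmove (Subgroup.le_centralizer_iff.1 (ComplBasics.centralizes_plane hG hN hF hτ hBF hBe hB hrp
      ⟨hr, hrN, hrr2, hcon⟩ (line_pgroup hZ) hZF))
  haveI := ComplBasics.derived_abelian hG hN hF
  have hZτ : r ∈ Cfsg.tau1 N := by
    refine ⟨hr, hrN, (hZ ▸ dvd_rfl : r ∣ Nat.card Z).trans (Subgroup.card_dvd_of_le (hZF.trans hF.1)), fun hd => ?_, hrr1⟩
    refine hmove (Tau3.le_centralizer_of_derived hBF
      (Tau3.le_derived_of_tau3 hG hN hF ⟨hr, hrN, hd, hrr1⟩ (line_pgroup hZ) hZF) (hZF.trans hFB) ?_)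
    rw [hZ, hB]
    exact ((Nat.coprime_primes hr hp.out).2 hrp).pow_right _
  obtain ⟨b, hb, hb1⟩ := Plane.exists_ne_one hP
  obtain ⟨u, hu, hu1⟩ := Plane.exists_ne_one hZ
  by_cases hS : ∀ S : Sylow p G, ¬ IsMulCommutative (S : Subgroup G)
  · obtain ⟨-, ⟨hA₀c, -⟩, hlines⟩ := TauTwo.structure_nonabelian hG hN hF hτ hS hBF hBe hB
    refine TauOneTwo.line_false hG hN hF hτ hS hBF hBe hB hZτ hZ hZF ?_ hmove
    have hbA₀ : b ∈ B ⊓ Subgroup.centralizer (Cfsg.sigmaCore N : Set G) := by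
      by_contra hcon
      refine (hlines b (hPB hb) hcon).2 ?_
      rw [← Plane.centralizer_zpowers, Plane.zpowers_eq hP hb hb1]
      exact hCN
    rw [← Plane.zpowers_eq hA₀c hbA₀ hb1, Plane.zpowers_eq hP hb hb1]
    exact Subgroup.le_centralizer_iff.1 hZP
  obtain ⟨S, hBS, hSc⟩ := TauTwoAb.exists_abelian_sylow hS (Plane.isPGroup hB)
  have d : TauTwoAb.Data p N F B S := ⟨hG, hN, hF, hτ, hBF, hBe, hB, hBS, hSc⟩
  obtain ⟨c, hcB, hc⟩ := SetLike.not_le_iff_exists.1 hmove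
  have hcu : u * c ≠ c * u := fun h => hc (by
    rw [← Plane.zpowers_eq hZ hu hu1, Plane.centralizer_zpowers]
    exact Subgroup.mem_centralizer_singleton_iff.2 h.symm)
  have hbu : u * b = b * u := (Subgroup.mem_centralizer_iff.1 (hZP hu) b hb).symm
  obtain ⟨L₀, hL₀, huL₀⟩ := Tau3.exists_moved_line hBe (hPB hb) hb1 hbu hcB hcu
  exact d.normalizer_not_le ((d.line_invariant (hFB (hZF hu)) hPB hP (hZn hu) hL₀ huL₀).trans hNP)

end Cfsg.Agent.OddOrder.Kappa
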