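/-
The Hall `κ(M)`-subgroup and its normal complement in a complement of `M_σ` (BG 14.1, 14.2(a), 13.10, 13.11).
-/
import Cfsg.Agent.Lib.OddOrder.KappaSigma

set_option autoImplicit false
set_option linter.style.haveILetI false
set_option linter.unusedSectionVars false

namespace Cfsg.Agent.OddOrder

open scoped commutatorElement IsMulCommutative
open Exceptional TauOne
open Tau3 (line_pgroup line_ne_bot exists_line)

universe u

variable {G : Type u} [Group G] [Finite G]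

namespace Kappa

variable {M E : Subgroup G}

/-- Lines with a common fixed point group `D` give a prime action. -/
theorem prime_action_of_lines (hG : Cfsg.IsMinSimpleOddOrder G) (hM : IsCoatom M) {H : Subgroup G} (hHM : H ≤ M)
    (hprimes : ∀ r : ℕ, r.Prime → r ∣ Nat.card H → r ∉ Cfsg.sigma M ∧ Cfsg.PRankLE r 1 M) {D : Subgroup G}
    (hD : D ≤ Cfsg.sigmaCore M)
    (hlines : ∀ (r : ℕ) (X : Subgroup G), r.Prime → Nat.card X = r → X ≤ H →
      Cfsg.sigmaCore M ⊓ Subgroup.centralizer (X : Set G) = D) :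
    D ≤ Subgroup.centralizer (H : Set G) ∧
      ∀ k ∈ H, k ≠ 1 → Cfsg.sigmaCore M ⊓ Subgroup.centralizer ({k} : Set G) = D := by
  have hc : D ≤ Subgroup.centralizer (H : Set G) := by
    rw [Subgroup.le_centralizer_iff, ← Subgroup.subgroupOf_eq_top]
    refine FittingCores.eq_top_of_forall_sylow_le fun r hr => ?_
    haveI := Fact.mk hr
    set S : Sylow r H := default with hS
    refine ⟨S, fun x hx => ?_⟩
    by_cases hx1 : x = 1
    · rw [hx1]; exact one_mem _
    set Sm := (S : Subgroup H).map H.subtype with hSm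
    have hxS : (x : G) ∈ Sm := ⟨x, hx, rfl⟩
    have hSm1 : Sm ≠ ⊥ := fun e => hx1 (Subtype.ext (Subgroup.mem_bot.1 (e.le hxS)))
    have hSH : Sm ≤ H := Subgroup.map_subtype_le _
    obtain ⟨X, hXS, hX⟩ := exists_line (S.isPGroup'.map H.subtype) hSm1
    obtain ⟨hσ, hr1⟩ := hprimes r hr (hX ▸ Subgroup.card_dvd_of_le (hXS.trans hSH))
    haveI := isCyclic_of_rank_one hG hr1 (S.isPGroup'.map H.subtype) (hSH.trans hHM)
    have h := PrimeAction.centralizer_le hG hM hσ hr1 hX (S.isPGroup'.map H.subtype) (hSH.trans hHM) hXS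
      ((Subgroup.le_centralizer Sm).trans (Subgroup.centralizer_le hXS))
    rw [hlines r X hr hX (hXS.trans hSH)] at h
    exact Subgroup.le_centralizer_iff.1 h hxS
  refine ⟨hc, fun k hk hk1 => le_antisymm ?_ (le_inf hD (hc.trans (le_singleton hk)))⟩
  obtain ⟨r, X, hr, hX, hXk⟩ := exists_line_zpowers hk1
  rw [← hlines r X hr hX (hXk.trans (Subgroup.zpowers_le.2 hk))]
  exact inf_le_inf_left _ (centralizer_singleton_le hXk)

theorem rank_one_or_tau2 (hG : Cfsg.IsMinSimpleOddOrder G) (hM : IsCoatom M) {r : ℕ} (hr : r.Prime)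
    (hσ : r ∉ Cfsg.sigma M) : Cfsg.PRankLE r 1 M ∨ r ∈ Cfsg.tau2 M := by
  refine or_iff_not_imp_left.2 fun h1 => ⟨hr, hσ, ?_, h1⟩
  by_contra h2
  exact hσ (Sigma.alpha_subset_sigma hG hM ⟨hr, h2⟩)

theorem tau1_or_tau3 {r : ℕ} (hr : r.Prime) (hσ : r ∉ Cfsg.sigma M) (hd : r ∣ Nat.card M)
    (h1 : Cfsg.PRankLE r 1 M) : r ∈ Cfsg.tau1 M ∨ r ∈ Cfsg.tau3 M := by
  by_cases h : r ∣ Nat.card (⁅M, M⁆ : Subgroup G)
  · exact Or.inr ⟨hr, hσ, h, h1⟩
  · exact Or.inl ⟨hr, hσ, hd, h, h1⟩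

end Kappa

namespace Tau3.Base

open Kappa

variable {q : ℕ} [hq : Fact q.Prime] {M E Q N : Subgroup G} (h : Base q M E Q N)
include h

theorem exists_mover : ∃ (p : ℕ) (_ : Fact p.Prime) (U P : Subgroup G), Mover p E Q U P := by
  by_contra hno
  push Not at hno
  refine exists_moving_line h.minSimple h.tau3.2.2.2 h.compl.1 (h.card ▸ Subgroup.card_dvd_of_le h.Q_derived) h.card h.le ?_
  rw [← Subgroup.subgroupOf_eq_top]
  refine FittingCores.eq_top_of_forall_sylow_le fun p hp => ?_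
  haveI := Fact.mk hp
  set S : Sylow p E := default with hS
  refine ⟨S, fun x hx => ?_⟩
  by_contra hxC
  have hU1 : (S : Subgroup E).map E.subtype ≠ ⊥ := fun e => hxC (by
    have : (x : G) = 1 := Subgroup.mem_bot.1 (e.le ⟨x, hx, rfl⟩)
    rw [Subgroup.mem_subgroupOf, this]
    exact one_mem _)
  obtain ⟨P, hPU, hP⟩ := exists_line (S.isPGroup'.map E.subtype) hU1
  exact hno p ⟨hp⟩ _ P ⟨Subgroup.map_subtype_le _, S.isPGroup'.map _, fun hle => hxC (hle ⟨x, hx, rfl⟩), hP, hPU⟩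

/-- Lines of the complement centralize a nonregular line of `τ₃(M)`. -/
theorem line_centralizes {r : ℕ} [hr : Fact r.Prime] {R : Subgroup G} (hR : Nat.card R = r) (hRE : R ≤ E) :
    R ≤ Subgroup.centralizer (Q : Set G) := by
  by_contra hm
  exact hm (h.mover_fixed ⟨hRE, line_pgroup hR, hm, hR, le_rfl⟩).1

/-- The fixed points of `Q` are fixed by every line of `τ₃(M)`. -/
theorem fixed_le_other {r : ℕ} [hr : Fact r.Prime] {R : Subgroup G} (hr3 : r ∈ Cfsg.tau3 M) (hR : Nat.card R = r)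
    (hRE : R ≤ E) : Cfsg.sigmaCore M ⊓ Subgroup.centralizer (Q : Set G) ≤ Subgroup.centralizer (R : Set G) := by
  obtain ⟨p, hp, U, P, u⟩ := h.exists_mover
  have hG := h.minSimple
  have hPE : P ≤ E := u.line.trans u.le
  by_cases hc : R ≤ Subgroup.centralizer (P : Set G)
  · rw [← (h.mover_fixed u).2]
    exact TauOne.centralizer_le hG h.coatom (h.mover_tau1 u) u.card (hPE.trans h.compl.1) hr.out hR hr3.2.1
      (hRE.trans h.compl.1) hc
  haveI := h.derived_comm
  have hER : E ≤ Subgroup.normalizer (R : Set G) :=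
    le_normalizer_line hG hr3.2.2.2 h.compl.1 hR (le_derived_of_tau3 hG h.coatom h.compl hr3 (line_pgroup hR) hRE)
  have hPσ : P ≤ Cfsg.sigmaCore N :=
    le_sigmaCore hG h.coatomN (h.p_sigma u) (line_pgroup u.card) (hPE.trans h.E_le)
  have hRσ : R ≤ Cfsg.sigmaCore N := by
    have hle : ⁅R, P⁆ ≤ R := CoprimeAct.commutator_le_left (hPE.trans hER)
    have heq : ⁅R, P⁆ = R := by
      refine Subgroup.eq_of_le_of_card_ge hle (le_of_eq ?_)
      rcases (Nat.dvd_prime hr.out).1 (hR ▸ Subgroup.card_dvd_of_le hle) with h1 | h1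
      · exact absurd (Subgroup.commutator_eq_bot_iff_le_centralizer.1 (Subgroup.card_eq_one.1 h1)) hc
      · rw [h1, hR]
    rw [← heq]
    refine (Subgroup.commutator_mono (hRE.trans h.E_le) hPσ).trans ?_
    rw [Subgroup.commutator_comm]
    exact Subgroup.le_normalizer_iff_commutator_le_left.1 (le_normalizer_sigmaCore N)
  intro d hd
  exact Subgroup.mem_centralizer_iff.2 fun w hw =>
    (h.commute_cores hd.1 (h.fixed_le hd) (hRσ hw) (h.compl.1 (hRE hw))).symm

/-- Every line of `τ₃(M)` is nonregular. -/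
theorem other {r : ℕ} [hr : Fact r.Prime] {R : Subgroup G} (hr3 : r ∈ Cfsg.tau3 M) (hR : Nat.card R = r)
    (hRE : R ≤ E) : ∃ N' : Subgroup G, Base r M E R N' := by
  obtain ⟨N', hN', hle⟩ := Uniq.exists_maximal_ge (MinSimple.normalizer_ne_top h.minSimple (line_ne_bot hR)
    (MinSimple.pSubgroup_ne_top h.minSimple (line_pgroup hR)))
  exact ⟨N', h.minSimple, h.coatom, h.compl, hr3, hRE, hR, fun e => h.nonregular (le_bot_iff.1
    (e ▸ le_inf inf_le_left (h.fixed_le_other hr3 hR hRE))), hN', hle⟩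

/-- Lines of `τ₁(M)` are central in the complement. -/
theorem tau1_central {r : ℕ} [hr : Fact r.Prime] {R : Subgroup G} (hr1 : r ∈ Cfsg.tau1 M) (hR : Nat.card R = r)
    (hRE : R ≤ E) : E ≤ Subgroup.centralizer (R : Set G) := by
  haveI := h.derived_comm
  set J := ⁅E, E⁆ with hJ
  have hJE : J ≤ E := Subgroup.le_normalizer_iff_commutator_le_left.1 Subgroup.le_normalizer
  have hrJ : ¬ r ∣ Nat.card J := fun hd =>
    hr1.2.2.2.1 (hd.trans (Subgroup.card_dvd_of_le (Subgroup.commutator_mono h.compl.1 h.compl.1)))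
  have hRJ : R ≤ Subgroup.normalizer (J : Set G) := hRE.trans (Subgroup.normalizer_commutator_ge_left E E)
  have hcop : (Nat.card R).Coprime (Nat.card J) := hR ▸ hr.out.coprime_iff_not_dvd.2 hrJ
  have hJC : J ≤ Subgroup.centralizer (R : Set G) := by
    rw [← Subgroup.commutator_eq_bot_iff_le_centralizer]
    by_contra hne
    obtain ⟨t, ht, htd⟩ := Nat.exists_prime_and_dvd fun e => hne (Subgroup.card_eq_one.1 e)
    haveI := Fact.mk ht
    obtain ⟨T, hTY, hT⟩ := exists_line_of_dvd ht htd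
    have hTJ : T ≤ J := hTY.trans (CoprimeAct.commutator_le_left hRJ)
    have htJ : t ∣ Nat.card J := hT ▸ Subgroup.card_dvd_of_le hTJ
    have htσ := not_dvd_complement h.minSimple h.coatom h.compl ht (htJ.trans (Subgroup.card_dvd_of_le hJE))
    obtain ⟨N', b⟩ := h.other ⟨ht, htσ, htJ.trans (Subgroup.card_dvd_of_le (Subgroup.commutator_mono h.compl.1 h.compl.1)),
      h.rank_one_of_compl ht htσ⟩ hT (hTJ.trans hJE)
    exact line_ne_bot hT (le_bot_iff.1 (CoprimeAct.centralizer_inf_commutator_eq_bot hRJ hcop ▸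
      le_inf (le_inf hTJ (Subgroup.le_centralizer_iff.1 (b.line_centralizes hR hRE))) hTY))
  intro e he
  obtain ⟨j, hj, c, hc, rfl⟩ := exists_mul_fixed hJE le_rfl hrJ (line_pgroup hR) hRE he
  exact mul_mem (hJC hj) hc.2

/-- Every line of `τ₁(M)` has the fixed points of `Q`. -/
theorem tau1_fixed {r : ℕ} [hr : Fact r.Prime] {R : Subgroup G} (hr1 : r ∈ Cfsg.tau1 M) (hR : Nat.card R = r)
    (hRE : R ≤ E) :
    Cfsg.sigmaCore M ⊓ Subgroup.centralizer (R : Set G) = Cfsg.sigmaCore M ⊓ Subgroup.centralizer (Q : Set G) := by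
  obtain ⟨p, hp, U, P, u⟩ := h.exists_mover
  have hEM := h.compl.1
  have hPE : P ≤ E := u.line.trans u.le
  refine le_antisymm (le_inf inf_le_left ?_) (le_inf inf_le_left ?_)
  · exact TauOne.centralizer_le h.minSimple h.coatom hr1 hR (hRE.trans hEM) hq.out h.card h.tau3.2.1 (h.le.trans hEM)
      (Subgroup.le_centralizer_iff.1 (h.line_centralizes hR hRE))
  · rw [← (h.mover_fixed u).2]
    exact TauOne.centralizer_le h.minSimple h.coatom (h.mover_tau1 u) u.card (hPE.trans hEM) hr.out hR hr1.2.1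
      (hRE.trans hEM) (Subgroup.le_centralizer_iff.1 (hPE.trans (h.tau1_central hr1 hR hRE)))

theorem line_tau {r : ℕ} [hr : Fact r.Prime] {R : Subgroup G} (hR : Nat.card R = r) (hRE : R ≤ E) :
    r ∈ Cfsg.tau1 M ∨ r ∈ Cfsg.tau3 M := by
  have hd : r ∣ Nat.card E := hR ▸ Subgroup.card_dvd_of_le hRE
  have hσ := not_dvd_complement h.minSimple h.coatom h.compl hr.out hd
  exact tau1_or_tau3 hr.out hσ (hd.trans (Subgroup.card_dvd_of_le h.compl.1)) (h.rank_one_of_compl hr.out hσ)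

/-- Every line of the complement has the fixed points of `Q`. -/
theorem line_fixed {r : ℕ} [hr : Fact r.Prime] {R : Subgroup G} (hR : Nat.card R = r) (hRE : R ≤ E) :
    Cfsg.sigmaCore M ⊓ Subgroup.centralizer (R : Set G) = Cfsg.sigmaCore M ⊓ Subgroup.centralizer (Q : Set G) := by
  rcases h.line_tau hR hRE with h1 | h3
  · exact h.tau1_fixed h1 hR hRE
  · obtain ⟨N', b⟩ := h.other h3 hR hRE
    obtain ⟨p, hp, U, P, u⟩ := b.exists_mover
    rw [← (b.mover_fixed u).2, h.tau1_fixed (b.mover_tau1 u) u.card (u.line.trans u.le)]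

theorem line_normalized {r : ℕ} [hr : Fact r.Prime] {R : Subgroup G} (hR : Nat.card R = r) (hRE : R ≤ E) :
    E ≤ Subgroup.normalizer (R : Set G) := by
  rcases h.line_tau hR hRE with h1 | h3
  · exact (h.tau1_central h1 hR hRE).trans (Subgroup.centralizer_le_normalizer _)
  · haveI := h.derived_comm
    exact le_normalizer_line h.minSimple h3.2.2.2 h.compl.1 hR
      (le_derived_of_tau3 h.minSimple h.coatom h.compl h3 (line_pgroup hR) hRE)

end Tau3.Base

namespace Kappa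

variable {M E : Subgroup G}

/-- `E = U ⋊ K` for a Hall `κ(M)`-subgroup `K ≠ 1` of a complement `E` of `M_σ`. -/
structure Factor (M E K U : Subgroup G) : Prop where
  K_le : K ≤ E
  U_le : U ≤ E
  norm : E ≤ Subgroup.normalizer (U : Set G)
  comm : IsMulCommutative U
  sup : ∀ e ∈ E, ∃ u ∈ U, ∃ k ∈ K, e = u * k
  U_primes : ∀ r : ℕ, r.Prime → r ∣ Nat.card U → r ∉ Cfsg.kappa M
  regular : ∀ k ∈ K, k ≠ 1 → U ⊓ Subgroup.centralizer ({k} : Set G) = ⊥
  prime : ∀ k ∈ K, k ≠ 1 →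
    Cfsg.sigmaCore M ⊓ Subgroup.centralizer ({k} : Set G) = Cfsg.sigmaCore M ⊓ Subgroup.centralizer (K : Set G)
  fixed_ne : Cfsg.sigmaCore M ⊓ Subgroup.centralizer (K : Set G) ≠ ⊥
  line : ∀ X : Subgroup G, X ≤ K → (Nat.card X).Prime → K ≤ Subgroup.normalizer (X : Set G)
  sigma : ∀ X : Subgroup G, X ≤ K → (Nat.card X).Prime → ∀ N : Subgroup G, IsCoatom N →
    Subgroup.normalizer (X : Set G) ≤ N → X ≤ Cfsg.sigmaCore N
  cases : (IsCyclic K ∧ U = ⁅E, E⁆ ∧ ∀ r ∈ Cfsg.kappa M, r ∈ Cfsg.tau1 M) ∨ (K = E ∧ ⁅E, E⁆ ≠ ⊥)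

theorem factor_nonregular {q : ℕ} [hq : Fact q.Prime] {Q N : Subgroup G} (h : Tau3.Base q M E Q N) {K : Subgroup G}
    (hKE : K ≤ E) (hK : Cfsg.IsPiHallOf (Cfsg.kappa M) K M) : Factor M E K ⊥ := by
  have hG := h.minSimple
  have hM := h.coatom
  have hκ : ∀ r : ℕ, r.Prime → r ∣ Nat.card E → r ∈ Cfsg.kappa M := by
    intro r hr hd
    haveI := Fact.mk hr
    obtain ⟨X, hXE, hX⟩ := exists_line_of_dvd hr hd
    have hσ := not_dvd_complement hG hM h.compl hr hd
    exact kappa_of_line hG hσ (h.rank_one_of_compl hr hσ) hX (hXE.trans h.compl.1) (h.line_fixed hX hXE ▸ h.nonregular)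
  obtain rfl : K = E := by
    refine le_antisymm hKE ?_
    rw [← Subgroup.relIndex_eq_one]
    by_contra hne
    obtain ⟨r, hr, hd⟩ := Nat.exists_prime_and_dvd hne
    exact hK.2.2 r hr (hκ r hr (hd.trans (Subgroup.relIndex_dvd_card _ _)))
      (hd.trans (Dvd.intro _ (Subgroup.relIndex_mul_relIndex K E M hKE h.compl.1)))
  have hpr : ∀ r : ℕ, r.Prime → r ∣ Nat.card K → r ∉ Cfsg.sigma M ∧ Cfsg.PRankLE r 1 M := fun r hr hd =>
    have hσ := not_dvd_complement hG hM h.compl hr hd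
    ⟨hσ, h.rank_one_of_compl hr hσ⟩
  obtain ⟨hDC, hk⟩ := prime_action_of_lines hG hM h.compl.1 hpr
    (D := Cfsg.sigmaCore M ⊓ Subgroup.centralizer (Q : Set G)) inf_le_left
    fun r X hr hX hXE => (haveI := Fact.mk hr; h.line_fixed hX hXE)
  have heq : Cfsg.sigmaCore M ⊓ Subgroup.centralizer (Q : Set G) = Cfsg.sigmaCore M ⊓ Subgroup.centralizer (K : Set G) :=
    le_antisymm (le_inf inf_le_left hDC) (inf_le_inf_left _ (Subgroup.centralizer_le h.le))
  refine ⟨le_rfl, bot_le, fun e he => ComplAbelian.mem_normalizer_of_map_le fun x hx => ?_, ?_,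
    fun e he => ⟨1, one_mem _, e, he, (one_mul e).symm⟩,
    fun r hr hd => absurd (Nat.dvd_one.1 (by rwa [Subgroup.card_bot] at hd)) hr.ne_one,
    fun _ _ _ => bot_inf_eq _, fun k hk' hk1 => (hk k hk' hk1).trans heq, heq ▸ h.nonregular, ?_, ?_, Or.inr ⟨rfl, ?_⟩⟩
  · rw [Subgroup.mem_bot.1 hx, mul_one, mul_inv_cancel]
    exact one_mem _
  · exact .of_setLike_mul_comm fun a ha b hb => by rw [Subgroup.mem_bot.1 ha, Subgroup.mem_bot.1 hb]
  · intro X hXE hX
    haveI := Fact.mk hX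
    exact h.line_normalized (R := X) rfl hXE
  · intro X hXE hX N' hN' hle
    haveI := Fact.mk hX
    rcases h.line_tau (R := X) rfl hXE with h1 | h3
    · exact sigma_of_centralized hG hM h1 rfl (hXE.trans h.compl.1) (h.line_fixed (R := X) rfl hXE ▸ h.nonregular) hN' hle
    · obtain ⟨N'', b⟩ := h.other h3 (R := X) rfl hXE
      have b' : Tau3.Base (Nat.card X) M K X N' := ⟨hG, hM, h.compl, h3, hXE, rfl, b.nonregular, hN', hle⟩
      obtain ⟨p, hp, U, P, u⟩ := b'.exists_mover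
      exact b'.Q_le_core u
  · exact fun e => line_ne_bot h.card (le_bot_iff.1 (e ▸ h.Q_derived))

set_option maxHeartbeats 800000 in
/-- BG 14.2(a). -/
theorem exists_factor (hG : Cfsg.IsMinSimpleOddOrder G) (hM : IsCoatom M) (hE : Cfsg.IsComplIn E (Cfsg.sigmaCore M) M)
    {K : Subgroup G} (hKE : K ≤ E) (hK : Cfsg.IsPiHallOf (Cfsg.kappa M) K M) (hK1 : K ≠ ⊥) :
    ∃ U : Subgroup G, Factor M E K U := by
  by_cases hreg : ∃ (q : ℕ) (Q : Subgroup G), q ∈ Cfsg.tau3 M ∧ Nat.card Q = q ∧ Q ≤ E ∧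
      Cfsg.sigmaCore M ⊓ Subgroup.centralizer (Q : Set G) ≠ ⊥
  · obtain ⟨q, Q, hq3, hQ, hQE, hfix⟩ := hreg
    haveI := Fact.mk hq3.1
    obtain ⟨N, hN, hle⟩ := Uniq.exists_maximal_ge (MinSimple.normalizer_ne_top hG (line_ne_bot hQ)
      (MinSimple.pSubgroup_ne_top hG (line_pgroup hQ)))
    exact ⟨⊥, factor_nonregular (⟨hG, hM, hE, hq3, hQE, hQ, hfix, hN, hle⟩ : Tau3.Base q M E Q N) hKE hK⟩
  push Not at hreg
  have hEM := hE.1
  have hκ1 : ∀ r ∈ Cfsg.kappa M, r ∈ Cfsg.tau1 M := by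
    intro r hr
    haveI := Fact.mk hr.1
    rcases tau1_or_tau3 hr.1 hr.2.2.1 hr.2.1 (rank_one_of_kappa hr) with h1 | h3
    · exact h1
    have hdE : r ∣ Nat.card E := by
      have h := hr.2.1
      rw [Compl.card_eq hE] at h
      exact (hr.1.dvd_mul.1 h).resolve_right fun hd => hr.2.2.1 (mem_sigma_of_dvd hr.1 hd)
    obtain ⟨X, hXE, hX⟩ := exists_line_of_dvd hr.1 hdE
    exact absurd (hreg r X h3 hX hXE) (fixed_of_kappa hr hX (hXE.trans hEM))
  obtain ⟨p, hp, hpd⟩ := Nat.exists_prime_and_dvd fun e => hK1 (Subgroup.card_eq_one.1 e)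
  haveI := Fact.mk hp
  obtain ⟨P, hPK, hP⟩ := exists_line_of_dvd hp hpd
  have hp1 := hκ1 p (hK.2.1 p hp hpd)
  have hPfix := fixed_of_kappa (hK.2.1 p hp hpd) hP (hPK.trans hK.1)
  haveI := ComplBasics.derived_abelian hG hM hE
  set J := ⁅E, E⁆ with hJ
  have hJE : J ≤ E := Subgroup.le_normalizer_iff_commutator_le_left.1 Subgroup.le_normalizer
  have hJM : ∀ r : ℕ, r.Prime → r ∣ Nat.card J → r ∉ Cfsg.tau1 M := fun r hr hd h1 =>
    h1.2.2.2.1 (hd.trans (Subgroup.card_dvd_of_le (Subgroup.commutator_mono hEM hEM)))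
  -- the centralizer in `E` of a nonregular line of `τ₁`
  have hcent : ∀ (t : ℕ) (T : Subgroup G), t ∈ Cfsg.tau1 M → Nat.card T = t → T ≤ E →
      Cfsg.sigmaCore M ⊓ Subgroup.centralizer (T : Set G) ≠ ⊥ →
      ∀ r : ℕ, r.Prime → r ∣ Nat.card (E ⊓ Subgroup.centralizer (T : Set G) : Subgroup G) → r ∈ Cfsg.tau1 M := by
    intro t T ht hT hTE hTfix r hr hd
    haveI := Fact.mk hr
    haveI := Fact.mk ht.1
    obtain ⟨X, hXC, hX⟩ := exists_line_of_dvd hr hd
    have hXE : X ≤ E := hXC.trans inf_le_left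
    have hdE : r ∣ Nat.card E := hX ▸ Subgroup.card_dvd_of_le hXE
    have hσ := not_dvd_complement hG hM hE hr hdE
    rcases rank_one_or_tau2 hG hM hr hσ with h1 | h2
    · rcases tau1_or_tau3 hr hσ (hdE.trans (Subgroup.card_dvd_of_le hEM)) h1 with h | h3
      · exact h
      · exact absurd (hreg r X h3 hX hXE) fun e => hTfix (le_bot_iff.1 (e ▸ le_inf inf_le_left
          (TauOne.centralizer_le hG hM ht hT (hTE.trans hEM) hr hX hσ (hXE.trans hEM) (hXC.trans inf_le_right))))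
    · obtain ⟨A, hAE, hAe, hA⟩ := TauTwo.exists_plane (p := r) hG hM hE h2
      obtain ⟨⟨-, hall⟩, -, -⟩ := S1418.result hG M hM E hE r h2 A ⟨hAE, hAe, hA⟩
      exact absurd (TauOneTwo.regular hG hM hE h2 hAE hAe hA ht hT hTE fun e =>
        line_ne_bot hX (le_bot_iff.1 (e ▸ le_inf (hall X hXE hX) (hXC.trans inf_le_right)))) hTfix
  set C := E ⊓ Subgroup.centralizer (P : Set G) with hC
  have hPE : P ≤ E := hPK.trans hKE
  have hC1 := hcent p P hp1 hP hPE hPfix
  have hpJ : ¬ p ∣ Nat.card J := fun hd => hJM p hp hd hp1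
  have hdec : ∀ e ∈ E, ∃ u ∈ J, ∃ k ∈ C, e = u * k := fun e he =>
    Tau3.exists_mul_fixed hJE le_rfl hpJ (line_pgroup hP) hPE he
  have hCn : C ≤ Subgroup.normalizer (J : Set G) := inf_le_left.trans (Subgroup.normalizer_commutator_ge_left E E)
  have hsup : J ⊔ C = E := le_antisymm (sup_le hJE inf_le_left) fun e he => by
    obtain ⟨u, hu, k, hk, rfl⟩ := hdec e he
    exact mul_mem (Subgroup.mem_sup_left hu) (Subgroup.mem_sup_right hk)
  have hEdvd : Nat.card E ∣ Nat.card J * Nat.card C :=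
    hsup ▸ Dvd.intro _ (SolvBasic.card_sup_mul_card_inf hCn)
  have hprimeC : ∀ (r : ℕ) (X : Subgroup G), r.Prime → Nat.card X = r → X ≤ C →
      r ∈ Cfsg.tau1 M ∧ Cfsg.sigmaCore M ⊓ Subgroup.centralizer (P : Set G) ≤ Subgroup.centralizer (X : Set G) := by
    intro r X hr hX hXC
    have hr1 := hC1 r hr (hX ▸ Subgroup.card_dvd_of_le hXC)
    exact ⟨hr1, TauOne.centralizer_le hG hM hp1 hP (hPK.trans hK.1) hr hX hr1.2.1
      ((hXC.trans inf_le_left).trans hEM) (hXC.trans inf_le_right)⟩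
  have hKE' : Cfsg.IsPiHallOf (Cfsg.tau1 M) K E := by
    refine ⟨hKE, fun r hr hd => hκ1 r (hK.2.1 r hr hd), fun r hr h1 hd => ?_⟩
    haveI := Fact.mk hr
    have hrC : r ∣ Nat.card C := (hr.dvd_mul.1 ((hd.trans (Subgroup.relIndex_dvd_card _ _)).trans hEdvd)).resolve_left
      fun h => hJM r hr h h1
    obtain ⟨X, hXC, hX⟩ := exists_line_of_dvd hr hrC
    refine hK.2.2 r hr (kappa_of_line hG h1.2.1 h1.2.2.2.2 hX ((hXC.trans inf_le_left).trans hEM) fun e => hPfix
      (le_bot_iff.1 (e ▸ le_inf inf_le_left (hprimeC r X hr hX hXC).2))) ?_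
    exact hd.trans (Dvd.intro _ (Subgroup.relIndex_mul_relIndex K E M hKE hEM))
  haveI hKc : IsCyclic K := (S1415.result hG M hM E hE).2.1 K hKE'
  have hKC : K ≤ Subgroup.centralizer (K : Set G) := Subgroup.le_centralizer K
  obtain rfl : K = C := by
    have hle : K ≤ C := le_inf hKE (hKC.trans (Subgroup.centralizer_le hPK))
    refine le_antisymm hle ?_
    rw [← Subgroup.relIndex_eq_one]
    by_contra hne
    obtain ⟨r, hr, hd⟩ := Nat.exists_prime_and_dvd hne
    exact hKE'.2.2 r hr (hC1 r hr (hd.trans (Subgroup.relIndex_dvd_card _ _)))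
      (hd.trans (Dvd.intro _ (Subgroup.relIndex_mul_relIndex K C E hle inf_le_left)))
  have hlines : ∀ (r : ℕ) (X : Subgroup G), r.Prime → Nat.card X = r → X ≤ C →
      Cfsg.sigmaCore M ⊓ Subgroup.centralizer (X : Set G) = Cfsg.sigmaCore M ⊓ Subgroup.centralizer (P : Set G) := by
    intro r X hr hX hXC
    haveI := Fact.mk hr
    refine le_antisymm (le_inf inf_le_left ?_) (le_inf inf_le_left (hprimeC r X hr hX hXC).2)
    exact TauOne.centralizer_le hG hM (hprimeC r X hr hX hXC).1 hX ((hXC.trans inf_le_left).trans hEM) hp hP hp1.2.1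
      (hPK.trans hK.1) ((hPK.trans hKC).trans (Subgroup.centralizer_le hXC))
  have hpr : ∀ r : ℕ, r.Prime → r ∣ Nat.card C → r ∉ Cfsg.sigma M ∧ Cfsg.PRankLE r 1 M := fun r hr hd =>
    ⟨(hC1 r hr hd).2.1, (hC1 r hr hd).2.2.2.2⟩
  obtain ⟨hDC, hk⟩ := prime_action_of_lines hG hM (inf_le_left.trans hEM) hpr inf_le_left hlines
  have heq : Cfsg.sigmaCore M ⊓ Subgroup.centralizer (P : Set G) = Cfsg.sigmaCore M ⊓ Subgroup.centralizer (C : Set G) :=
    le_antisymm (le_inf inf_le_left hDC) (inf_le_inf_left _ (Subgroup.centralizer_le hPK))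
  refine ⟨J, inf_le_left, hJE, Subgroup.normalizer_commutator_ge_left E E, inferInstance, hdec,
    fun r hr hd hκ => hJM r hr hd (hκ1 r hκ), fun k hk' hk1 => ?_, fun k hk' hk1 => (hk k hk' hk1).trans heq,
    heq ▸ hPfix, fun X hXC _ => (hKC.trans (Subgroup.centralizer_le hXC)).trans (Subgroup.centralizer_le_normalizer _),
    fun X hXC hX N hN hle => ?_, Or.inl ⟨hKc, rfl, hκ1⟩⟩
  · obtain ⟨r, X, hr, hX, hXk⟩ := exists_line_zpowers hk1
    haveI := Fact.mk hr
    have hXC : X ≤ C := hXk.trans (Subgroup.zpowers_le.2 hk')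
    have hc := hcent r X (hprimeC r X hr hX hXC).1 hX (hXC.trans inf_le_left) ((hlines r X hr hX hXC).symm ▸ hPfix)
    refine le_bot_iff.1 ((le_inf inf_le_left (le_inf (inf_le_left.trans hJE)
      (inf_le_right.trans (centralizer_singleton_le hXk)))).trans
      (Subgroup.inf_eq_bot_of_coprime (H := J) (K := E ⊓ Subgroup.centralizer (X : Set G))
        (Nat.coprime_of_dvd fun t ht h1 h2 => hJM t ht h1 (hc t ht h2))).le)
  · haveI := Fact.mk hX
    exact sigma_of_centralized hG hM (hprimeC _ X hX rfl hXC).1 rfl ((hXC.trans inf_le_left).trans hEM)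
      ((hlines _ X hX rfl hXC).symm ▸ hPfix) hN hle

end Kappa

end Cfsg.Agent.OddOrder
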