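/-
Consequences of the factorisation `M = (U ⋊ K) M_σ` (BG 14.2).
-/
import Cfsg.Agent.Lib.OddOrder.Kappa

set_option autoImplicit false
set_option linter.style.haveILetI false
set_option linter.unusedSectionVars false

namespace Cfsg.Agent.OddOrder.Kappa

open scoped commutatorElement IsMulCommutative
open Exceptional TauOne

universe u

variable {G : Type u} [Group G] [Finite G] {M E K U : Subgroup G}

theorem coatom_ne_bot (hG : Cfsg.IsMinSimpleOddOrder G) (hM : IsCoatom M) : M ≠ ⊥ := by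
  intro e
  obtain ⟨p, hp, hd⟩ := Nat.exists_prime_and_dvd (fun h : Nat.card G = 1 => hG.2.2.1 (by
    haveI : Subsingleton G := (Nat.card_eq_one_iff_unique.1 h).1
    infer_instance))
  haveI := Fact.mk hp
  obtain ⟨x, hx⟩ := exists_prime_orderOf_dvd_card' (G := G) p hd
  have hX : Nat.card (Subgroup.zpowers x) = p := by rw [Nat.card_zpowers, hx]
  have hne := MinSimple.pSubgroup_ne_top hG (Tau3.line_pgroup hX)
  exact hne (hM.2 _ (e ▸ bot_lt_iff_ne_bot.2 (Tau3.line_ne_bot hX)))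

/-- `M_σ ≠ 1`. -/
theorem sigmaCore_ne_bot (hG : Cfsg.IsMinSimpleOddOrder G) (hM : IsCoatom M) : Cfsg.sigmaCore M ≠ ⊥ := by
  intro e
  obtain ⟨q, hq⟩ := exists_sigma hG hM (coatom_ne_bot hG hM)
  haveI := Fact.mk hq.1
  obtain ⟨X, hXM, hX⟩ := exists_line_of_dvd hq.1 hq.2.1
  exact Tau3.line_ne_bot hX (le_bot_iff.1 (e ▸ le_sigmaCore hG hM hq (Tau3.line_pgroup hX) hXM))

theorem exists_compl_ge (hG : Cfsg.IsMinSimpleOddOrder G) (hM : IsCoatom M)
    (hK : Cfsg.IsPiHallOf (Cfsg.kappa M) K M) :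
    ∃ E : Subgroup G, Cfsg.IsComplIn E (Cfsg.sigmaCore M) M ∧ K ≤ E :=
  ComplBasics.exists_complement_containing hG hM hK.1
    (ComplBasics.coprime_sigmaCore_of_not_sigma fun r hr hd => (hK.2.1 r hr hd).2.2.1)

namespace Factor

variable (F : Factor M E K U)
include F

theorem inf_eq_bot : U ⊓ K = ⊥ := by
  by_contra hne
  obtain ⟨x, hx, hx1⟩ := (Subgroup.bot_or_exists_ne_one _).resolve_left hne
  exact hx1 (Subgroup.mem_bot.1 ((F.regular x hx.2 hx1).le ⟨hx.1, Subgroup.mem_centralizer_singleton_iff.2 rfl⟩))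

theorem generic (hKc : IsMulCommutative K) : U = ⁅E, E⁆ ∧ ∀ r ∈ Cfsg.kappa M, r ∈ Cfsg.tau1 M := by
  rcases F.cases with ⟨-, h⟩ | ⟨rfl, hne⟩
  · exact h
  · exact absurd (Subgroup.commutator_eq_bot_iff_le_centralizer.2 (Subgroup.le_centralizer K)) hne

theorem normalizer_of_subgroup {X : Subgroup G} (hXK : X ≤ K) (hX1 : X ≠ ⊥) (hKX : K ≤ Subgroup.normalizer (X : Set G))
    (hE : Cfsg.IsComplIn E (Cfsg.sigmaCore M) M) :
    M ⊓ Subgroup.normalizer (X : Set G) = K ⊔ (Cfsg.sigmaCore M ⊓ Subgroup.centralizer (K : Set G)) := by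
  refine le_antisymm ?_ (sup_le (le_inf (F.K_le.trans hE.1) hKX) (le_inf (inf_le_left.trans (sigmaCore_le M))
    (inf_le_right.trans ((Subgroup.centralizer_le hXK).trans (Subgroup.centralizer_le_normalizer _)))))
  rintro m ⟨hm, hmX⟩
  obtain ⟨e, he, s, hs, rfl⟩ := hE.2.2.2 m hm
  obtain ⟨x₀, hx₀, hx₀1⟩ := (Subgroup.bot_or_exists_ne_one X).resolve_left hX1
  have hsc : ∀ x ∈ X, s * x = x * s := by
    intro x hx
    have hxE : x ∈ E := F.K_le (hXK hx)
    have h1 : e * s * x * (e * s)⁻¹ ∈ E := F.K_le (hXK ((Subgroup.mem_normalizer_iff.1 hmX x).1 hx))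
    have h2 : ⁅s, x⁆ ∈ E := by
      have : ⁅s, x⁆ = e⁻¹ * (e * s * x * (e * s)⁻¹) * e * x⁻¹ := by rw [commutatorElement_def]; group
      rw [this]
      exact E.mul_mem (E.mul_mem (E.mul_mem (E.inv_mem he) h1) he) (E.inv_mem hxE)
    have h3 : ⁅s, x⁆ ∈ Cfsg.sigmaCore M := by
      rw [commutatorElement_def, mul_assoc s x, mul_assoc s]
      exact mul_mem hs ((Subgroup.mem_normalizer_iff.1 (le_normalizer_sigmaCore M (hE.1 hxE)) s⁻¹).1 (inv_mem hs))
    exact commutatorElement_eq_one_iff_mul_comm.1 (Subgroup.mem_bot.1 (hE.2.2.1.le ⟨h2, h3⟩))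
  have hsK : s ∈ Cfsg.sigmaCore M ⊓ Subgroup.centralizer (K : Set G) := by
    rw [← F.prime x₀ (hXK hx₀) hx₀1]
    exact ⟨hs, Subgroup.mem_centralizer_singleton_iff.2 (hsc x₀ hx₀)⟩
  refine mul_mem (Subgroup.mem_sup_left ?_) (Subgroup.mem_sup_right hsK)
  obtain ⟨u, hu, k, hk, rfl⟩ := F.sup e he
  have hux : u * x₀ = x₀ * u := by
    have hsN : s ∈ Subgroup.normalizer (X : Set G) := Subgroup.centralizer_le_normalizer _
      (Subgroup.mem_centralizer_iff.2 fun x hx => (hsc x hx).symm)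
    have huN : u ∈ Subgroup.normalizer (X : Set G) := by
      have : u = u * k * s * s⁻¹ * k⁻¹ := by group
      rw [this]
      exact mul_mem (mul_mem hmX (inv_mem hsN)) (inv_mem (hKX hk))
    have h2 : ⁅u, x₀⁆ ∈ U := by
      rw [commutatorElement_def, mul_assoc u x₀, mul_assoc u]
      exact U.mul_mem hu ((Subgroup.mem_normalizer_iff.1 (F.norm (F.K_le (hXK hx₀))) u⁻¹).1 (U.inv_mem hu))
    have h3 : ⁅u, x₀⁆ ∈ K := hXK (by
      rw [commutatorElement_def]
      exact X.mul_mem ((Subgroup.mem_normalizer_iff.1 huN x₀).1 hx₀) (X.inv_mem hx₀))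
    exact commutatorElement_eq_one_iff_mul_comm.1 (Subgroup.mem_bot.1 (F.inf_eq_bot.le ⟨h2, h3⟩))
  rw [Subgroup.mem_bot.1 ((F.regular x₀ (hXK hx₀) hx₀1).le ⟨hu, Subgroup.mem_centralizer_singleton_iff.2 hux⟩), one_mul]
  exact hk

theorem centralizer_of_mem (hE : Cfsg.IsComplIn E (Cfsg.sigmaCore M) M) (hKc : IsMulCommutative K) {k : G}
    (hk : k ∈ K) (hk1 : k ≠ 1) :
    M ⊓ Subgroup.centralizer ({k} : Set G) = K ⊔ (Cfsg.sigmaCore M ⊓ Subgroup.centralizer (K : Set G)) := by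
  have hKC : K ≤ Subgroup.centralizer ({k} : Set G) := (Subgroup.le_centralizer K).trans (le_singleton hk)
  refine le_antisymm ?_ (sup_le (le_inf (F.K_le.trans hE.1) hKC)
    (le_inf (inf_le_left.trans (sigmaCore_le M)) (inf_le_right.trans (le_singleton hk))))
  rw [← F.normalizer_of_subgroup (X := Subgroup.zpowers k) (Subgroup.zpowers_le.2 hk)
    (fun e => hk1 (Subgroup.zpowers_eq_bot.1 e))
    (hKC.trans ((Plane.centralizer_zpowers k).ge.trans (Subgroup.centralizer_le_normalizer _))) hE]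
  exact inf_le_inf_left _ ((Plane.centralizer_zpowers k).ge.trans (Subgroup.centralizer_le_normalizer _))

theorem U_hall (hE : Cfsg.IsComplIn E (Cfsg.sigmaCore M) M) (hG : Cfsg.IsMinSimpleOddOrder G) (hM : IsCoatom M)
    (hK : Cfsg.IsPiHallOf (Cfsg.kappa M) K M) :
    Cfsg.IsPiHallOf {q | q.Prime ∧ q ∉ Cfsg.kappa M ∧ q ∉ Cfsg.sigma M} U M := by
  refine ⟨F.U_le.trans hE.1, fun r hr hd => ⟨hr, F.U_primes r hr hd,
    not_dvd_complement hG hM hE hr (hd.trans (Subgroup.card_dvd_of_le F.U_le))⟩, ?_⟩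
  rintro r hr ⟨-, hrκ, hrσ⟩ hd
  rw [← Subgroup.relIndex_mul_relIndex U E M F.U_le hE.1] at hd
  rcases hr.dvd_mul.1 hd with h | h
  · have hKU : K ≤ Subgroup.normalizer (U : Set G) := F.K_le.trans F.norm
    have hEd : Nat.card E ∣ Nat.card U * Nat.card K := by
      have hsup : U ⊔ K = E := le_antisymm (sup_le F.U_le F.K_le) fun e he => by
        obtain ⟨u, hu, k, hk, rfl⟩ := F.sup e he
        exact mul_mem (Subgroup.mem_sup_left hu) (Subgroup.mem_sup_right hk)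
      exact hsup ▸ Dvd.intro _ (SolvBasic.card_sup_mul_card_inf hKU)
    have h1 : Nat.card U * U.relIndex E = Nat.card E := by
      have := Subgroup.relIndex_mul_relIndex ⊥ U E bot_le F.U_le
      rwa [Subgroup.relIndex_bot_left, Subgroup.relIndex_bot_left] at this
    rw [← h1] at hEd
    exact hrκ (hK.2.1 r hr (h.trans (Nat.dvd_of_mul_dvd_mul_left Nat.card_pos hEd)))
  · have h1 : Nat.card E * E.relIndex M = Nat.card M := by
      have := Subgroup.relIndex_mul_relIndex ⊥ E M bot_le hE.1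
      rwa [Subgroup.relIndex_bot_left, Subgroup.relIndex_bot_left] at this
    rw [Compl.card_eq hE] at h1
    exact hrσ (mem_sigma_of_dvd hr (Nat.eq_of_mul_eq_mul_left Nat.card_pos h1 ▸ h))

end Factor

end Cfsg.Agent.OddOrder.Kappa
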