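/-
The standard factorisation `M = K U M_σ`.
-/
import Cfsg.Agent.Lib.OddOrder.KappaFactor

set_option autoImplicit false
set_option linter.style.haveILetI false
set_option linter.unusedSectionVars false

namespace Cfsg.Agent.OddOrder.Kappa

open scoped commutatorElement IsMulCommutative Pointwise
open Exceptional TauOne

universe u

variable {G : Type u} [Group G] [Finite G] {M K U : Subgroup G}

theorem sigma_sup_le (h : Cfsg.IsSigmaDecomposition M K U) : K ≤ M ∧ U ≤ M := ⟨h.hall.1, h.compl.1⟩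

/-- `U ⊔ K` is a complement of `M_σ`. -/
theorem decomp_compl (h : Cfsg.IsSigmaDecomposition M K U) :
    Cfsg.IsComplIn (U ⊔ K) (Cfsg.sigmaCore M) M := by
  refine ⟨sup_le h.compl.1 h.hall.1, sigmaCore_le M, ?_, fun m hm => ?_⟩
  · rw [Subgroup.eq_bot_iff_forall]
    rintro x ⟨hx, hxs⟩
    have hx' : x ∈ (U : Set G) * (K : Set G) := by rw [← Subgroup.coe_mul_of_right_le_normalizer_left U K h.normal]; exact hx
    obtain ⟨u, hu, k, hk, rfl⟩ := hx'
    have hu1 : u = 1 := Subgroup.mem_bot.1 (h.compl.2.2.1.le ⟨hu, by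
      have : u = u * k * k⁻¹ := by group
      rw [this]
      exact mul_mem (Subgroup.mem_sup_right hxs) (Subgroup.mem_sup_left (K.inv_mem hk))⟩)
    subst hu1
    simp only [one_mul] at hxs ⊢
    exact Subgroup.mem_bot.1 ((Subgroup.inf_eq_bot_of_coprime
      (ComplBasics.coprime_sigmaCore_of_not_sigma fun r hr hd => (h.hall.2.1 r hr hd).2.2.1)).le ⟨hk, hxs⟩)
  · obtain ⟨u, hu, y, hy, rfl⟩ := h.compl.2.2.2 m hm
    have hy' : y ∈ (K : Set G) * (Cfsg.sigmaCore M : Set G) := by
      rw [← Subgroup.coe_mul_of_left_le_normalizer_right _ _ (h.hall.1.trans (le_normalizer_sigmaCore M))]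
      exact hy
    obtain ⟨k, hk, s, hs, rfl⟩ := hy'
    exact ⟨u * k, mul_mem (Subgroup.mem_sup_left hu) (Subgroup.mem_sup_right hk), s, hs, (mul_assoc _ _ _).symm⟩

theorem decomp_inf (h : Cfsg.IsSigmaDecomposition M K U) : U ⊓ K = ⊥ :=
  le_bot_iff.1 ((inf_le_inf_left U le_sup_left).trans h.compl.2.2.1.le)

theorem decomp_card (h : Cfsg.IsSigmaDecomposition M K U) :
    Nat.card (U ⊔ K : Subgroup G) = Nat.card U * Nat.card K := by
  have := SolvBasic.card_sup_mul_card_inf h.normal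
  rwa [decomp_inf h, Subgroup.card_bot, mul_one] at this

/-- `U` is a `κ'`-group. -/
theorem decomp_U_primes (h : Cfsg.IsSigmaDecomposition M K U) {r : ℕ} (hr : r.Prime) (hd : r ∣ Nat.card U) :
    r ∉ Cfsg.kappa M := fun hκ => by
  have h1 := Subgroup.relIndex_mul_relIndex ⊥ K (U ⊔ K) bot_le le_sup_right
  rw [Subgroup.relIndex_bot_left, Subgroup.relIndex_bot_left, decomp_card h, mul_comm (Nat.card U)] at h1
  refine h.hall.2.2 r hr hκ ?_
  rw [← Subgroup.relIndex_mul_relIndex K (U ⊔ K) M le_sup_right (sup_le h.compl.1 h.hall.1),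
    Nat.eq_of_mul_eq_mul_left Nat.card_pos h1]
  exact hd.trans (dvd_mul_right _ _)

/-- The factor of a standard factorisation. -/
theorem decomp_factor (hG : Cfsg.IsMinSimpleOddOrder G) (hM : IsCoatom M) (h : Cfsg.IsSigmaDecomposition M K U)
    (hK1 : K ≠ ⊥) : Factor M (U ⊔ K) K U := by
  haveI := h.cyclic
  have hE := decomp_compl h
  obtain ⟨V, F⟩ := exists_factor hG hM hE le_sup_right h.hall hK1
  suffices hUV : U = V by exact hUV ▸ F
  have hnorm : U ⊔ K ≤ Subgroup.normalizer (V : Set G) := F.norm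
  have hle : U ≤ V := by
    intro u hu
    haveI : (V.subgroupOf (U ⊔ K)).Normal := Subgroup.normal_subgroupOf_of_le_normalizer hnorm
    refine Subgroup.mem_subgroupOf.1 (Exceptional.le_of_coprime_index (N := V.subgroupOf (U ⊔ K))
      (X := U.subgroupOf (U ⊔ K)) ?_ (show (⟨u, Subgroup.mem_sup_left hu⟩ : (U ⊔ K : Subgroup G)) ∈ _ from hu))
    have hsup : V ⊔ K = U ⊔ K := le_antisymm (sup_le F.U_le F.K_le) fun e he => by
      obtain ⟨v, hv, k, hk, rfl⟩ := F.sup e he
      exact mul_mem (Subgroup.mem_sup_left hv) (Subgroup.mem_sup_right hk)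
    have hd : Nat.card (U ⊔ K : Subgroup G) ∣ Nat.card V * Nat.card K :=
      hsup ▸ Dvd.intro _ (SolvBasic.card_sup_mul_card_inf (F.K_le.trans F.norm))
    have h1 := Subgroup.relIndex_mul_relIndex ⊥ V (U ⊔ K) bot_le F.U_le
    rw [Subgroup.relIndex_bot_left, Subgroup.relIndex_bot_left] at h1
    rw [← h1] at hd
    have hidx : (V.subgroupOf (U ⊔ K)).index ∣ Nat.card K := Nat.dvd_of_mul_dvd_mul_left Nat.card_pos hd
    refine (Nat.coprime_of_dvd fun r hr hrU hrK => ?_ : (Nat.card (U.subgroupOf (U ⊔ K))).Coprime _).coprime_dvd_right hidx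
    rw [Nat.card_congr (Subgroup.subgroupOfEquivOfLe le_sup_left).toEquiv] at hrU
    exact decomp_U_primes h hr hrU (h.hall.2.1 r hr hrK)
  refine le_antisymm hle fun v hv => ?_
  have hv' : v ∈ (U : Set G) * (K : Set G) := by
    rw [← Subgroup.coe_mul_of_right_le_normalizer_left U K h.normal]; exact F.U_le hv
  obtain ⟨u, hu, k, hk, rfl⟩ := hv'
  have : k = 1 := Subgroup.mem_bot.1 (F.inf_eq_bot.le ⟨by
    have := mul_mem (inv_mem (hle hu)) hv
    rwa [inv_mul_cancel_left] at this, hk⟩)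
  simp only [this, mul_one]
  exact hu

end Cfsg.Agent.OddOrder.Kappa
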