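/-
Uniqueness properties of the fixed points of a Hall `κ(M)`-subgroup (BG 14.2(c)-(e)).
-/
import Cfsg.Agent.Lib.OddOrder.KappaDecomp
import Cfsg.Agent.S1404
import Cfsg.Agent.S1425

set_option autoImplicit false
set_option linter.style.haveILetI false
set_option linter.unusedSectionVars false

namespace Cfsg.Agent.OddOrder.Kappa

open scoped commutatorElement IsMulCommutative
open Exceptional TauOne

universe u

variable {G : Type u} [Group G] [Finite G] {M E K U : Subgroup G}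

namespace Factor

/-- `K` has a line of `τ₁(M)`. -/
theorem exists_tau1_line (F : Factor M E K U) (hG : Cfsg.IsMinSimpleOddOrder G) (hM : IsCoatom M)
    (hE : Cfsg.IsComplIn E (Cfsg.sigmaCore M) M) (hK : Cfsg.IsPiHallOf (Cfsg.kappa M) K M) (hK1 : K ≠ ⊥) :
    ∃ (p : ℕ) (P : Subgroup G), p ∈ Cfsg.tau1 M ∧ Nat.card P = p ∧ P ≤ K ∧
      Cfsg.sigmaCore M ⊓ Subgroup.centralizer (P : Set G) = Cfsg.sigmaCore M ⊓ Subgroup.centralizer (K : Set G) := by
  obtain ⟨p, hp1, hpd⟩ : ∃ p, p ∈ Cfsg.tau1 M ∧ p ∣ Nat.card K := by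
    rcases F.cases with ⟨-, -, h⟩ | ⟨rfl, -⟩
    · obtain ⟨p, hp, hpd⟩ := Nat.exists_prime_and_dvd fun e => hK1 (Subgroup.card_eq_one.1 e)
      exact ⟨p, h p (hK.2.1 p hp hpd), hpd⟩
    · exact Tau3.exists_tau1_dvd hG hM hE hK1 fun s hs hd => by
        haveI := Fact.mk hs.1
        exact hs.2.2.2 (rank_one_of_kappa (hK.2.1 s hs.1 hd))
  haveI := Fact.mk hp1.1
  obtain ⟨P, hPK, hP⟩ := exists_line_of_dvd hp1.1 hpd
  obtain ⟨x, hx, hx1⟩ := Plane.exists_ne_one hP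
  refine ⟨p, P, hp1, hP, hPK, ?_⟩
  rw [← F.prime x (hPK hx) hx1, ← Plane.zpowers_eq hP hx hx1, Plane.centralizer_zpowers]

/-- Lines of `C_{M_σ}(K)` have their centralizer in `M` only. -/
theorem line_unique (F : Factor M E K U) (hG : Cfsg.IsMinSimpleOddOrder G) (hM : IsCoatom M)
    (hE : Cfsg.IsComplIn E (Cfsg.sigmaCore M) M) (hK : Cfsg.IsPiHallOf (Cfsg.kappa M) K M) (hK1 : K ≠ ⊥)
    {r : ℕ} [hr : Fact r.Prime] {X : Subgroup G} (hX : Nat.card X = r)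
    (hXD : X ≤ Cfsg.sigmaCore M ⊓ Subgroup.centralizer (K : Set G)) (S : Sylow r ↥(Cfsg.sigmaCore M)) :
    Subgroup.centralizer (X : Set G) ≤ M ∧
      Cfsg.InUniqueMaximal ((S : Subgroup ↥(Cfsg.sigmaCore M)).map (Cfsg.sigmaCore M).subtype) := by
  obtain ⟨p, P, hp1, hP, hPK, -⟩ := F.exists_tau1_line hG hM hE hK hK1
  haveI := Fact.mk hp1.1
  have hXσ : X ≤ Cfsg.sigmaCore M := hXD.trans inf_le_left
  obtain ⟨⟨hC, -⟩, hu, -⟩ := S1423.result hG M hM r (mem_sigma_of_dvd hr.out (hX ▸ Subgroup.card_dvd_of_le hXσ)) X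
    (hXσ.trans (sigmaCore_le M)) hX S (TauOne.centralized_cases hG hM hp1 hP (hPK.trans hK.1) hX hXσ
      (hXD.trans (inf_le_right.trans (Subgroup.centralizer_le hPK))))
  exact ⟨hC, hu⟩

/-- Conjugates of lines of `C_{M_σ}(K)` into `M` come from `M`. -/
theorem mem_of_conj_le (F : Factor M E K U) (hG : Cfsg.IsMinSimpleOddOrder G) (hM : IsCoatom M)
    (hE : Cfsg.IsComplIn E (Cfsg.sigmaCore M) M) (hK : Cfsg.IsPiHallOf (Cfsg.kappa M) K M) (hK1 : K ≠ ⊥)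
    {r : ℕ} [hr : Fact r.Prime] {X : Subgroup G} (hX : Nat.card X = r)
    (hXD : X ≤ Cfsg.sigmaCore M ⊓ Subgroup.centralizer (K : Set G)) {g : G}
    (hg : X.map (MulAut.conj g).toMonoidHom ≤ M) : g ∈ M := by
  obtain ⟨hC, -⟩ := F.line_unique hG hM hE hK hK1 hX hXD default
  have hXσ : X ≤ Cfsg.sigmaCore M := hXD.trans inf_le_left
  obtain ⟨m, hm, c, hc, rfl⟩ := (S1404.result hG M hM r (mem_sigma_of_dvd hr.out (hX ▸ Subgroup.card_dvd_of_le hXσ)) X
    (Tau3.line_pgroup hX) (Tau3.line_ne_bot hX) (hXσ.trans (sigmaCore_le M))).1 g hg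
  exact M.mul_mem hm (hC hc)

theorem cyclic_lines (F : Factor M E K U) (hG : Cfsg.IsMinSimpleOddOrder G) (hK : Cfsg.IsPiHallOf (Cfsg.kappa M) K M)
    {r : ℕ} [hr : Fact r.Prime] {X Y : Subgroup G} (hX : Nat.card X = r) (hXK : X ≤ K)
    (hY : Nat.card Y = r) (hYK : Y ≤ K) : X = Y := by
  have hn : Y ≤ Subgroup.normalizer (X : Set G) := hYK.trans (F.line X hXK (hX.symm ▸ hr.out))
  have hp : IsPGroup r (X ⊔ Y : Subgroup G) :=
    (Tau3.line_pgroup hX).to_sup_of_normal_left' (Tau3.line_pgroup hY) hn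
  have hr1 := rank_one_of_kappa (hK.2.1 r hr.out (hX ▸ Subgroup.card_dvd_of_le hXK))
  obtain ⟨w, hw, hw1⟩ := (Subgroup.bot_or_exists_ne_one _).resolve_left
    (inf_ne_bot_of_cyclic (isCyclic_of_rank_one hG hr1 hp ((sup_le hXK hYK).trans hK.1)) hp le_sup_left le_sup_right
      (Tau3.line_ne_bot hX) (Tau3.line_ne_bot hY))
  exact (Plane.zpowers_eq hX hw.1 hw1).symm.trans (Plane.zpowers_eq hY hw.2 hw1)

end Factor

end Cfsg.Agent.OddOrder.Kappa
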