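/-
Elements outside `σ(M)` centralizing elements of `M_σ` (BG 14.3).
-/
import Cfsg.Agent.Lib.OddOrder.KappaUnique

set_option autoImplicit false
set_option linter.style.haveILetI false
set_option linter.unusedSectionVars false

namespace Cfsg.Agent.OddOrder.Kappa

open scoped commutatorElement IsMulCommutative
open Exceptional TauOne
open Tau3 (line_pgroup line_ne_bot)

universe u

variable {G : Type u} [Group G] [Finite G] {M : Subgroup G}

theorem centralizer_le_of_tau1 (hG : Cfsg.IsMinSimpleOddOrder G) (hM : IsCoatom M) {p : ℕ} [hp : Fact p.Prime]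
    (hp1 : p ∈ Cfsg.tau1 M) {P : Subgroup G} (hP : Nat.card P = p) (hPM : P ≤ M) {x : G} (hx : x ∈ Cfsg.sigmaCore M)
    (hx1 : x ≠ 1) (hxP : x ∈ Subgroup.centralizer (P : Set G)) : Subgroup.centralizer ({x} : Set G) ≤ M := by
  obtain ⟨t, Z, ht, hZ, hZx⟩ := exists_line_zpowers hx1
  haveI := Fact.mk ht
  have hZσ : Z ≤ Cfsg.sigmaCore M := hZx.trans (Subgroup.zpowers_le.2 hx)
  obtain ⟨⟨hC, -⟩, -, -⟩ := S1423.result hG M hM t (mem_sigma_of_dvd ht (hZ ▸ Subgroup.card_dvd_of_le hZσ)) Z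
    (hZσ.trans (sigmaCore_le M)) hZ default (TauOne.centralized_cases hG hM hp1 hP hPM hZ hZσ
      (hZx.trans (Subgroup.zpowers_le.2 hxP)))
  exact (centralizer_singleton_le hZx).trans hC

theorem exists_base (hG : Cfsg.IsMinSimpleOddOrder G) (hM : IsCoatom M) {E : Subgroup G}
    (hE : Cfsg.IsComplIn E (Cfsg.sigmaCore M) M) {q : ℕ} [hq : Fact q.Prime] (hq3 : q ∈ Cfsg.tau3 M) {Q : Subgroup G}
    (hQ : Nat.card Q = q) (hQE : Q ≤ E) (hfix : Cfsg.sigmaCore M ⊓ Subgroup.centralizer (Q : Set G) ≠ ⊥) :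
    ∃ N : Subgroup G, Tau3.Base q M E Q N := by
  obtain ⟨N, hN, hle⟩ := Uniq.exists_maximal_ge (MinSimple.normalizer_ne_top hG (line_ne_bot hQ)
    (MinSimple.pSubgroup_ne_top hG (line_pgroup hQ)))
  exact ⟨N, hG, hM, hE, hq3, hQE, hQ, hfix, hN, hle⟩

/-- Elements of `M_σ` fixed by a line of `κ(M)` have their centralizer in `M`. -/
theorem centralizer_le_of_kappa (hG : Cfsg.IsMinSimpleOddOrder G) (hM : IsCoatom M) {p : ℕ} [hp : Fact p.Prime]
    (hκ : p ∈ Cfsg.kappa M) {P : Subgroup G} (hP : Nat.card P = p) (hPM : P ≤ M) {x : G} (hx : x ∈ Cfsg.sigmaCore M)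
    (hx1 : x ≠ 1) (hxP : x ∈ Subgroup.centralizer (P : Set G)) : Subgroup.centralizer ({x} : Set G) ≤ M := by
  rcases tau1_or_tau3 hp.out hκ.2.2.1 hκ.2.1 (rank_one_of_kappa hκ) with h1 | h3
  · exact centralizer_le_of_tau1 hG hM h1 hP hPM hx hx1 hxP
  obtain ⟨E, hE, hPE⟩ := exists_complement_ge hG hM (line_pgroup hP) hPM hκ.2.2.1
  obtain ⟨N, b⟩ := exists_base hG hM hE h3 hP hPE
    (fun e => hx1 (Subgroup.mem_bot.1 (e.le ⟨hx, hxP⟩)))
  obtain ⟨t, ht, U, T, u⟩ := b.exists_mover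
  exact centralizer_le_of_tau1 hG hM (b.mover_tau1 u) u.card ((u.line.trans u.le).trans hE.1) hx hx1
    ((b.mover_fixed u).2.ge ⟨hx, hxP⟩).2

/-- No line of `τ₂(M)` commutes with a line of `κ(M)` having a common fixed point. -/
theorem kappa_tau2_false (hG : Cfsg.IsMinSimpleOddOrder G) (hM : IsCoatom M) {p : ℕ} [hp : Fact p.Prime]
    (hκ : p ∈ Cfsg.kappa M) {P : Subgroup G} (hP : Nat.card P = p) (hPM : P ≤ M)
    (hfix : Cfsg.sigmaCore M ⊓ Subgroup.centralizer (P : Set G) ≠ ⊥) {s : ℕ} [hs : Fact s.Prime]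
    (hs2 : s ∈ Cfsg.tau2 M) {Y : Subgroup G} (hY : Nat.card Y = s) (hYM : Y ≤ M)
    (hYP : Y ≤ Subgroup.centralizer (P : Set G)) : False := by
  have hn : Y ≤ Subgroup.normalizer (P : Set G) := hYP.trans (Subgroup.centralizer_le_normalizer _)
  obtain ⟨E, hE, hPY⟩ := ComplBasics.exists_complement_containing hG hM (sup_le hPM hYM)
    (ComplBasics.coprime_sigmaCore_of_not_sigma (X := (P ⊔ Y : Subgroup G)) fun t ht hd hσ => by
      rcases ht.dvd_mul.1 (hd.trans (Dvd.intro _ (SolvBasic.card_sup_mul_card_inf hn))) with h | h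
      · rw [hP, Nat.prime_dvd_prime_iff_eq ht hp.out] at h
        exact hκ.2.2.1 (h ▸ hσ)
      · rw [hY, Nat.prime_dvd_prime_iff_eq ht hs.out] at h
        exact hs2.2.1 (h ▸ hσ))
  rcases tau1_or_tau3 hp.out hκ.2.2.1 hκ.2.1 (rank_one_of_kappa hκ) with h1 | h3
  · obtain ⟨A, hAE, hAe, hA⟩ := TauTwo.exists_plane (p := s) hG hM hE hs2
    obtain ⟨⟨-, hall⟩, -, -⟩ := S1418.result hG M hM E hE s hs2 A ⟨hAE, hAe, hA⟩
    exact hfix (TauOneTwo.regular hG hM hE hs2 hAE hAe hA h1 hP (le_sup_left.trans hPY) fun e =>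
      line_ne_bot hY (le_bot_iff.1 (e ▸ le_inf (hall Y (le_sup_right.trans hPY) hY) hYP)))
  · obtain ⟨N, b⟩ := exists_base hG hM hE h3 hP (le_sup_left.trans hPY) hfix
    exact b.tau2_empty s hs2

theorem tau2_normalizer_le (hG : Cfsg.IsMinSimpleOddOrder G) (hM : IsCoatom M) {E : Subgroup G}
    (hE : Cfsg.IsComplIn E (Cfsg.sigmaCore M) M) {p q : ℕ} [hp : Fact p.Prime] [hq : Fact q.Prime]
    (hp2 : p ∈ Cfsg.tau2 M) (hq2 : q ∈ Cfsg.tau2 M) {A B : Subgroup G} (hAE : A ≤ E) (hBE : B ≤ E)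
    (hAe : Cfsg.IsElementaryAbelian p A) (hA : Nat.card A = p ^ 2) (hBe : Cfsg.IsElementaryAbelian q B)
    (hB : Nat.card B = q ^ 2) : Subgroup.normalizer (A : Set G) ≤ Subgroup.normalizer (B : Set G) := by
  obtain ⟨-, ⟨hCA, hNE, -⟩, -⟩ := S1418.result hG M hM E hE p hp2 A ⟨hAE, hAe, hA⟩
  obtain ⟨⟨-, hall⟩, -, -⟩ := S1418.result hG M hM E hE q hq2 B ⟨hBE, hBe, hB⟩
  have hBA : B ≤ Subgroup.centralizer (A : Set G) := by
    rcases eq_or_ne q p with rfl | hne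
    · obtain ⟨⟨-, hallA⟩, -, -⟩ := S1418.result hG M hM E hE q hp2 A ⟨hAE, hAe, hA⟩
      haveI := hAe.1
      intro b hb
      by_cases hb1 : b = 1
      · rw [hb1]; exact one_mem _
      exact Subgroup.le_centralizer A (hallA _ (Subgroup.zpowers_le.2 (hBE hb)) (Plane.zpowers_card hBe hb hb1)
        (Subgroup.mem_zpowers b))
    · exact ComplBasics.centralizes_plane hG hM hE hp2 hAE hAe hA hne hq2 (Plane.isPGroup hB) hBE
  intro n hn
  refine ComplAbelian.mem_normalizer_of_map_le fun b hb => ?_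
  by_cases hb1 : b = 1
  · rw [hb1, mul_one, mul_inv_cancel]; exact one_mem _
  have hcE : n * b * n⁻¹ ∈ E := hNE.le (hCA
    ((Subgroup.mem_normalizer_iff.1 (FitOf.normalizer_le_normalizer_centralizer _ hn) b).1 (hBA hb)))
  refine hall _ (Subgroup.zpowers_le.2 hcE) ?_ (Subgroup.mem_zpowers _)
  rw [Nat.card_zpowers, ← MulAut.conj_apply, MulEquiv.orderOf_eq, ← Nat.card_zpowers, Plane.zpowers_card hBe hb hb1]

/-- BG 14.3: one maximal subgroup has all primes of a `τ₂(M)`-element in `σ`. -/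
theorem exists_sigma_tau2 (hG : Cfsg.IsMinSimpleOddOrder G) (hM : IsCoatom M) {s : ℕ} [hs : Fact s.Prime]
    (hs2 : s ∈ Cfsg.tau2 M) : ∃ L : Subgroup G, IsCoatom L ∧ ∀ q ∈ Cfsg.tau2 M, q ∈ Cfsg.sigma L := by
  obtain ⟨E, hE⟩ := exists_complement hG hM
  by_cases hna : ∃ q ∈ Cfsg.tau2 M, ∀ S : Sylow q G, ¬ IsMulCommutative (S : Subgroup G)
  · obtain ⟨q, hq, hS⟩ := hna
    haveI := Fact.mk hq.1
    obtain ⟨A, hAE, hAe, hA⟩ := TauTwo.exists_plane (p := q) hG hM hE hq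
    obtain ⟨hτ, -, -⟩ := TauTwo.structure_nonabelian hG hM hE hq hS hAE hAe hA
    obtain ⟨H, hH, hqH, -, -⟩ := exists_sigma_overgroup hG hM hq hE.1 (ComplBasics.coprime_card hG hM hE)
    exact ⟨H, hH, fun t ht => by rw [hτ] at ht; exact Set.mem_singleton_iff.1 ht ▸ hqH⟩
  obtain ⟨A, hAE, hAe, hA⟩ := TauTwo.exists_plane (p := s) hG hM hE hs2
  obtain ⟨L, hL, hle⟩ := Uniq.exists_maximal_ge (MinSimple.normalizer_ne_top hG (Plane.ne_bot (p := s) hA)
    (MinSimple.pSubgroup_ne_top hG (Plane.isPGroup hA)))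
  refine ⟨L, hL, fun q hq => ?_⟩
  haveI := Fact.mk hq.1
  obtain ⟨B, hBE, hBe, hB⟩ := TauTwo.exists_plane (p := q) hG hM hE hq
  obtain ⟨T, hBT, hTc⟩ := TauTwoAb.exists_abelian_sylow (fun h => hna ⟨q, hq, h⟩) (Plane.isPGroup hB)
  have d : TauTwoAb.Data q M E B T := ⟨hG, hM, hE, hq, hBE, hBe, hB, hBT, hTc⟩
  have hNT : Subgroup.normalizer ((T : Subgroup G) : Set G) ≤ L :=
    d.normalizer_sylow_le.trans ((tau2_normalizer_le hG hM hE hq hs2 hBE hAE hBe hB hAe hA).trans hle)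
  have hTL : (T : Subgroup G) ≤ L := Subgroup.le_normalizer.trans hNT
  refine ⟨hq.1, ((hB ▸ dvd_pow_self q two_ne_zero : q ∣ Nat.card B).trans (Subgroup.card_dvd_of_le hBT)).trans
    (Subgroup.card_dvd_of_le hTL), T.subtype hTL, ?_⟩
  rw [map_subtype_sylow T hTL]
  exact hNT

end Cfsg.Agent.OddOrder.Kappa
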