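/-
Centralizers of elements of `M_σ` (BG 14.4).
-/
import Cfsg.Agent.Lib.OddOrder.KappaElements
import Cfsg.Agent.Lib.OddOrder.FittingHall
import Cfsg.Agent.S1350
import Cfsg.Agent.S1416
import Cfsg.Agent.S1420

set_option autoImplicit false
set_option linter.style.haveILetI false
set_option linter.unusedSectionVars false

namespace Cfsg.Agent.OddOrder.Support

open scoped commutatorElement IsMulCommutative Pointwise
open Exceptional TauOne Kappa

universe u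

variable {G : Type u} [Group G] [Finite G] {M N : Subgroup G}

theorem normalizer_coatom (hG : Cfsg.IsMinSimpleOddOrder G) (hM : IsCoatom M) :
    Subgroup.normalizer (M : Set G) = M :=
  (hM.le_iff_eq (MinSimple.normalizer_ne_top hG (coatom_ne_bot hG hM) hM.1)).1 Subgroup.le_normalizer

theorem map_conj_of_mem {g : G} (hg : g ∈ M) : M.map (MulAut.conj g).toMonoidHom = M :=
  Subgroup.mem_normalizer_iff_map_conj_eq.1 (Subgroup.le_normalizer hg)

theorem mem_of_map_conj (hG : Cfsg.IsMinSimpleOddOrder G) (hM : IsCoatom M) {g : G}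
    (h : M.map (MulAut.conj g).toMonoidHom = M) : g ∈ M :=
  (normalizer_coatom hG hM).le (Subgroup.mem_normalizer_iff_map_conj_eq.2 h)

/-- `M_F ≤ M_σ`. -/
theorem fittingHall_le (hG : Cfsg.IsMinSimpleOddOrder G) (hM : IsCoatom M) :
    Cfsg.fittingHallOf M ≤ Cfsg.sigmaCore M := by
  refine Subgroup.map_mono (le_sSup ⟨Cfsg.fittingHall_normal M, fun r hr hd => ?_⟩)
  haveI := Fact.mk hr
  obtain ⟨P⟩ : Nonempty (Sylow r M) := inferInstance
  haveI hPn := FHall.sylow_normal_of_dvd (G := M) FHall.isNNH_fittingHall r hd P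
  have hrM : r ∣ Nat.card M := hd.trans (Subgroup.card_subgroup_dvd_card _)
  refine ⟨hr, hrM, P, ?_⟩
  set Pm := (P : Subgroup M).map M.subtype with hPm
  have hPm1 : Pm ≠ ⊥ := fun e =>
    P.ne_bot_of_dvd_card hrM ((Subgroup.map_eq_bot_iff_of_injective _ M.subtype_injective).1 e)
  exact ((hM.le_iff_eq (MinSimple.normalizer_ne_top hG hPm1
    (MinSimple.pSubgroup_ne_top hG (P.isPGroup'.map M.subtype)))).1 (AxB.le_normalizer_map_subtype hPn)).le

/-- `M_F = M_σ` when `M_σ` is nilpotent. -/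
theorem fittingHall_eq (hG : Cfsg.IsMinSimpleOddOrder G) (hM : IsCoatom M)
    (hnil : Group.IsNilpotent (Cfsg.sigmaCore M)) : Cfsg.fittingHallOf M = Cfsg.sigmaCore M := by
  obtain ⟨⟨-, -, hhall⟩, -, -⟩ := S1350.result hG M hM
  exact le_antisymm (fittingHall_le hG hM) (FHall.le_fittingHallOf (sigmaCore_le M) (le_normalizer_sigmaCore M) hnil
    (Nat.coprime_of_dvd fun r hr h1 h2 => hhall r hr (mem_sigma_of_dvd hr h1) h2))

variable {p : ℕ} [hp : Fact p.Prime] {X : Subgroup G}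

/-- A second maximal subgroup over the normalizer of a line of `M_σ`. -/
theorem partner (hG : Cfsg.IsMinSimpleOddOrder G) (hM : IsCoatom M) (hpσ : p ∈ Cfsg.sigma M) (hX : Nat.card X = p)
    (hXM : X ≤ M) (hN : IsCoatom N) (hNX : Subgroup.normalizer (X : Set G) ≤ N) (hne : N ≠ M) :
    p ∈ Cfsg.tau2 N ∧ Cfsg.sigmaCore N ⊓ M = ⊥ ∧ Cfsg.IsComplIn (M ⊓ N) (Cfsg.sigmaCore N) N := by
  have hXp := Tau3.line_pgroup hX
  have hXN : X ≤ N := Subgroup.le_normalizer.trans hNX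
  have hnc := SigmaPartner.not_conj hG hM hpσ hXp (Tau3.line_ne_bot hX) hXM hne hNX
  have hpN : p ∉ Cfsg.sigma N := fun hσ => by
    obtain ⟨g, hg⟩ := SigmaDisj.conj_of_sigma hG hM hN hpσ hσ
    exact hnc g hg
  obtain ⟨⟨hr2, hr1⟩, -, -⟩ := S1409.result hG N hN p hpN X hX hNX
  have hτ : p ∈ Cfsg.tau2 N := ⟨hp.out, hpN, hr2, hr1⟩
  obtain ⟨A, hAMN, hAe, hA⟩ := exists_partner_plane hG hM hpσ hXp (Tau3.line_ne_bot hX) hXM hNX hpN
  have hAN : A ≤ N := hAMN.trans inf_le_right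
  have hbot : Cfsg.sigmaCore N ⊓ M = ⊥ :=
    PlaneUnique.inf_eq_bot hG hN hAN hAe hA hpN hM (hAMN.trans inf_le_left) (Ne.symm hne)
  obtain ⟨E, hE, hAE⟩ := exists_complement_ge hG hN (Plane.isPGroup hA) hAN hpN
  obtain ⟨⟨hEA, -⟩, ⟨hCA, hNE, -⟩, -⟩ := S1418.result hG N hN E hE p hτ A ⟨hAE, hAe, hA⟩
  set C := Subgroup.centralizer (A : Set G) with hC
  have hCE : C ≤ E := hCA.trans hNE.le
  have hCM : C ≤ M := (S1416.result hG M hM p A ⟨hAMN.trans inf_le_left, hAe, hA⟩).1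
  have hEC : E ≤ Subgroup.normalizer (C : Set G) := hEA.trans (FitOf.normalizer_le_normalizer_centralizer _)
  -- a Sylow subgroup of `N` inside `C(A) ≤ M`
  obtain ⟨T, hT⟩ := ((Plane.isPGroup hA).comap_subtype (K := N)).exists_le_sylow
  set Tm := (T : Subgroup N).map N.subtype with hTm
  haveI hTab : IsMulCommutative Tm :=
    ComplBasics.isMulCommutative_of_not_sigma hG hN hpN (T.isPGroup'.map N.subtype) (Subgroup.map_subtype_le _)
  have hATm : A ≤ Tm := fun a ha => ⟨⟨a, hAN ha⟩, hT ha, rfl⟩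
  have hTC : Tm ≤ C := (Subgroup.le_centralizer Tm).trans (Subgroup.centralizer_le hATm)
  have hTp : IsPGroup p Tm := T.isPGroup'.map N.subtype
  have hTMN : Tm ≤ M ⊓ N := le_inf (hTC.trans hCM) (Subgroup.map_subtype_le _)
  obtain ⟨S₀, hS₀⟩ := (hTp.comap_subtype (K := M ⊓ N)).exists_le_sylow
  have hS₀T : (S₀ : Subgroup ↥(M ⊓ N)).map (M ⊓ N).subtype = Tm :=
    Sigma.sylow_map_eq (S₀.isPGroup'.map _) ((Subgroup.map_subtype_le _).trans inf_le_right)
      fun x hx => ⟨⟨x, hTMN hx⟩, hS₀ hx, rfl⟩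
  obtain ⟨S, hS⟩ := (hXp.comap_subtype (K := M ⊓ N)).exists_le_sylow
  have hNS : Subgroup.normalizer ((((S : Subgroup ↥(M ⊓ N)).map (M ⊓ N).subtype : Subgroup G)) : Set G) ≤ M :=
    SigmaPartner.normalizer_le hG hM hpσ hXp hNX S fun x hx => ⟨⟨x, hXM hx, hXN hx⟩, hS hx, rfl⟩
  obtain ⟨m, hm, hmS⟩ := Sigma.exists_sylow_conj S₀ S
  rw [hS₀T] at hmS
  have hNT : Subgroup.normalizer (Tm : Set G) ≤ M := fun n hn => by
    have h1 : m * n * m⁻¹ ∈ M := hNS (by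
      rw [hmS]
      exact Subgroup.le_normalizer_map (MulAut.conj m).toMonoidHom ⟨n, hn, rfl⟩)
    have := M.mul_mem (M.mul_mem (M.inv_mem hm.1) h1) hm.1
    simpa [mul_assoc] using this
  -- Frattini argument
  have hEM : E ≤ M := by
    intro e he
    obtain ⟨T₁, hT₁⟩ := (hTp.comap_subtype (K := C)).exists_le_sylow
    have hT₁T : (T₁ : Subgroup C).map C.subtype = Tm :=
      Sigma.sylow_map_eq (T₁.isPGroup'.map _) ((Subgroup.map_subtype_le _).trans (hCE.trans hE.1))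
        fun x hx => ⟨⟨x, hTC hx⟩, hT₁ hx, rfl⟩
    set T' := Tm.map (MulAut.conj e).toMonoidHom with hT'
    have hT'C : T' ≤ C := (Subgroup.map_mono hTC).trans (Subgroup.mem_normalizer_iff_map_conj_eq.1 (hEC he)).le
    obtain ⟨T₂, hT₂⟩ := ((hTp.map _).comap_subtype (K := C)).exists_le_sylow
    obtain ⟨c, hc, hcT⟩ := Sigma.exists_sylow_conj T₁ T₂
    rw [hT₁T] at hcT
    have he' : c⁻¹ * e ∈ Subgroup.normalizer (Tm : Set G) := by
      refine ComplAbelian.mem_normalizer_of_map_le fun x hx => ?_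
      have hmem : e * x * e⁻¹ ∈ T' := ⟨x, hx, rfl⟩
      obtain ⟨y, hy, hye⟩ := hcT.le ⟨⟨e * x * e⁻¹, hT'C hmem⟩, hT₂ hmem, rfl⟩
      have hye' : c * y * c⁻¹ = e * x * e⁻¹ := hye
      have : c⁻¹ * e * x * (c⁻¹ * e)⁻¹ = y := by
        calc c⁻¹ * e * x * (c⁻¹ * e)⁻¹ = c⁻¹ * (e * x * e⁻¹) * c := by group
          _ = y := by rw [← hye']; group
      rw [this]
      exact hy
    have := M.mul_mem (hCM hc) (hNT he')
    rwa [mul_inv_cancel_left] at this
  refine ⟨hτ, hbot, inf_le_right, sigmaCore_le N, ?_, fun n hn => ?_⟩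
  · exact le_bot_iff.1 ((le_inf inf_le_right (inf_le_left.trans inf_le_left)).trans hbot.le)
  · obtain ⟨e, he, s, hs, rfl⟩ := hE.2.2.2 n hn
    exact ⟨e, ⟨hEM he, hE.1 he⟩, s, hs, rfl⟩

omit hp

/-- BG 14.4: the maximal subgroup over `C_G(x) ⊄ M`. -/
theorem exists_support (hG : Cfsg.IsMinSimpleOddOrder G) (hM : IsCoatom M) {x : G} (hx : x ∈ Cfsg.sigmaCore M)
    (hx1 : x ≠ 1) (hxM : ¬ Subgroup.centralizer ({x} : Set G) ≤ M) :
    ∃ N : Subgroup G, IsCoatom N ∧ Subgroup.centralizer ({x} : Set G) ≤ N ∧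
      (∀ L : Subgroup G, IsCoatom L → Subgroup.centralizer ({x} : Set G) ≤ L → L = N) ∧
      (∀ r : ℕ, r.Prime → r ∣ orderOf x → r ∈ Cfsg.tau2 N) ∧ Group.IsNilpotent (Cfsg.sigmaCore N) ∧
      Cfsg.sigmaCore N ⊓ M = ⊥ ∧ Cfsg.IsComplIn (M ⊓ N) (Cfsg.sigmaCore N) N ∧
      Cfsg.sigmaCore N ⊓ Subgroup.centralizer ({x} : Set G) ≠ ⊥ := by
  obtain ⟨p, X, hp, hX, hXx⟩ := exists_line_zpowers hx1
  haveI := Fact.mk hp
  have hXσ : X ≤ Cfsg.sigmaCore M := hXx.trans (Subgroup.zpowers_le.2 hx)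
  obtain ⟨N, hN, hNX⟩ := Uniq.exists_maximal_ge (MinSimple.normalizer_ne_top hG (Tau3.line_ne_bot hX)
    (MinSimple.pSubgroup_ne_top hG (Tau3.line_pgroup hX)))
  have hCxN : Subgroup.centralizer ({x} : Set G) ≤ N :=
    (centralizer_singleton_le hXx).trans ((Subgroup.centralizer_le_normalizer _).trans hNX)
  have hne : N ≠ M := fun e => hxM (hCxN.trans e.le)
  obtain ⟨hτ, hbot, hcompl⟩ := partner hG hM (mem_sigma_of_dvd hp (hX ▸ Subgroup.card_dvd_of_le hXσ)) hX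
    (hXσ.trans (sigmaCore_le M)) hN hNX hne
  have hxMN : x ∈ M ⊓ N := ⟨sigmaCore_le M hx, hCxN (Subgroup.mem_centralizer_singleton_iff.2 rfl)⟩
  have hR : Cfsg.sigmaCore N ⊓ Subgroup.centralizer ({x} : Set G) ≠ ⊥ := by
    intro e
    refine hxM fun c hc => ?_
    obtain ⟨a, ha, s, hs, rfl⟩ := hcompl.2.2.2 c (hCxN hc)
    have hsx : ⁅s, x⁆ = 1 := by
      refine Subgroup.mem_bot.1 (hcompl.2.2.1.le ⟨?_, ?_⟩)
      · have h1 : a * s * x * (a * s)⁻¹ = x := by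
          rw [(Subgroup.mem_centralizer_singleton_iff.1 hc : a * s * x = x * (a * s))]; group
        have : ⁅s, x⁆ = a⁻¹ * (a * s * x * (a * s)⁻¹) * a * x⁻¹ := by rw [commutatorElement_def]; group
        rw [this, h1]
        exact (M ⊓ N).mul_mem ((M ⊓ N).mul_mem ((M ⊓ N).mul_mem ((M ⊓ N).inv_mem ha) hxMN) ha) ((M ⊓ N).inv_mem hxMN)
      · rw [commutatorElement_def, mul_assoc s x, mul_assoc s]
        exact mul_mem hs ((Subgroup.mem_normalizer_iff.1 (le_normalizer_sigmaCore N hxMN.2) s⁻¹).1 (inv_mem hs))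
    have hs1 : s = 1 := Subgroup.mem_bot.1
      (e.le ⟨hs, Subgroup.mem_centralizer_singleton_iff.2 (commutatorElement_eq_one_iff_mul_comm.1 hsx)⟩)
    rw [hs1, mul_one]
    exact ha.1
  obtain ⟨y, hy, hy1⟩ := (Subgroup.bot_or_exists_ne_one _).resolve_left hR
  have hσ : ∀ r : ℕ, r.Prime → r ∣ orderOf x → r ∉ Cfsg.sigma N := fun r hr hd =>
    not_dvd_complement hG hN hcompl hr (hd.trans (Subgroup.orderOf_dvd_natCard _ hxMN))
  have hpx : p ∣ orderOf x := by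
    rw [← hX, ← Nat.card_zpowers]
    exact Subgroup.card_dvd_of_le hXx
  have hxy : x ∈ N ⊓ Subgroup.centralizer ({y} : Set G) :=
    ⟨hxMN.2, Subgroup.mem_centralizer_singleton_iff.2 (Subgroup.mem_centralizer_singleton_iff.1 hy.2).symm⟩
  obtain ⟨hA, hall, hu⟩ : Subgroup.centralizer ({x} : Set G) ≤ N ∧
      (∀ r : ℕ, r.Prime → r ∣ orderOf x → r ∈ Cfsg.tau2 N) ∧
      ∀ L : Subgroup G, IsCoatom L → Subgroup.centralizer ({x} : Set G) ≤ L → L = N := by
    have hτall : ∀ r : ℕ, r.Prime → r ∣ orderOf x → r ∈ Cfsg.tau2 N := fun r hr hd => by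
      haveI := Fact.mk hr
      rcases rank_one_or_tau2 hG hN hr (hσ r hr hd) with h1 | h2
      · exfalso
        obtain ⟨Y, hYx, hY⟩ := exists_line_of_dvd hr (X := Subgroup.zpowers x) (by rwa [Nat.card_zpowers])
        have hYN : Y ≤ N := hYx.trans (Subgroup.zpowers_le.2 hxMN.2)
        have hyY : y ∈ Subgroup.centralizer (Y : Set G) := centralizer_singleton_le hYx hy.2
        have hfix : Cfsg.sigmaCore N ⊓ Subgroup.centralizer (Y : Set G) ≠ ⊥ :=
          fun e => hy1 (Subgroup.mem_bot.1 (e.le ⟨hy.1, hyY⟩))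
        refine kappa_tau2_false hG hN (kappa_of_line hG (hσ r hr hd) h1 hY hYN hfix) hY hYN hfix hτ hX
          (hXx.trans (Subgroup.zpowers_le.2 hxMN.2))
          (hXx.trans ((Subgroup.le_centralizer (Subgroup.zpowers x)).trans (Subgroup.centralizer_le hYx)))
      · exact h2
    obtain ⟨E, hE⟩ := exists_complement hG hN
    obtain ⟨hC, hu⟩ := (S1420.result hG N hN E hE).2.2.2 x hxMN.2 hx1 hτall
      ⟨hxMN.2, y, hy.1, hy1, (Subgroup.mem_centralizer_singleton_iff.1 hy.2).symm⟩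
    exact ⟨hC, hτall, hu⟩
  obtain ⟨A, hAN, hAe, hAc⟩ : ∃ A : Subgroup G, A ≤ N ∧ Cfsg.IsElementaryAbelian p A ∧ Nat.card A = p ^ 2 := by
    obtain ⟨E, hE⟩ := exists_complement hG hN
    obtain ⟨A, hAE, hAe, hAc⟩ := TauTwo.exists_plane (p := p) hG hN hE hτ
    exact ⟨A, hAE.trans hE.1, hAe, hAc⟩
  exact ⟨N, hN, hA, hu, hall, (S1417.result hG N hN p hτ A ⟨hAN, hAe, hAc⟩).1, hbot, hcompl, hR⟩

/-- Conjugates of `M` containing `x ∈ M_σ` are conjugate by elements centralizing `x`. -/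
theorem conj_eq (hG : Cfsg.IsMinSimpleOddOrder G) (hM : IsCoatom M) {x : G} (hx : x ∈ Cfsg.sigmaCore M) (hx1 : x ≠ 1)
    {g : G} (hg : x ∈ M.map (MulAut.conj g).toMonoidHom) :
    ∃ c ∈ Subgroup.centralizer ({x} : Set G), M.map (MulAut.conj c).toMonoidHom = M.map (MulAut.conj g).toMonoidHom := by
  obtain ⟨p, X, hp, hX, hXx⟩ := exists_line_zpowers hx1
  haveI := Fact.mk hp
  have hXσ : X ≤ Cfsg.sigmaCore M := hXx.trans (Subgroup.zpowers_le.2 hx)
  have hpσ : p ∈ Cfsg.sigma M := mem_sigma_of_dvd hp (hX ▸ Subgroup.card_dvd_of_le hXσ)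
  have hXM : X ≤ M := hXσ.trans (sigmaCore_le M)
  obtain ⟨m, hm, c, hc, hgc⟩ := (S1404.result hG M hM p hpσ X (Tau3.line_pgroup hX) (Tau3.line_ne_bot hX) hXM).1 g⁻¹
    (conj_inv_le ((hXx.trans (Subgroup.zpowers_le.2 hg))))
  have hgc' : M.map (MulAut.conj g).toMonoidHom = M.map (MulAut.conj c⁻¹).toMonoidHom := by
    rw [← inv_inv g, hgc, mul_inv_rev, ← Sigma.map_conj_map, map_conj_of_mem (M.inv_mem hm)]
  by_cases hCX : Subgroup.centralizer (X : Set G) ≤ M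
  · exact ⟨1, one_mem _, by rw [hgc', map_conj_of_mem (M.inv_mem (hCX hc)), map_conj_of_mem M.one_mem]⟩
  obtain ⟨N, hN, hNX⟩ := Uniq.exists_maximal_ge (MinSimple.normalizer_ne_top hG (Tau3.line_ne_bot hX)
    (MinSimple.pSubgroup_ne_top hG (Tau3.line_pgroup hX)))
  have hCXN : Subgroup.centralizer (X : Set G) ≤ N := (Subgroup.centralizer_le_normalizer _).trans hNX
  obtain ⟨-, -, hcompl⟩ := partner hG hM hpσ hX hXM hN hNX fun e => hCX (hCXN.trans e.le)
  have hxMN : x ∈ M ⊓ N := ⟨sigmaCore_le M hx, hCXN (centralizer_singleton_le hXx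
    (Subgroup.mem_centralizer_singleton_iff.2 rfl))⟩
  obtain ⟨a, ha, s, hs, hcas⟩ := hcompl.2.2.2 c (hCXN hc)
  have hgs : M.map (MulAut.conj g).toMonoidHom = M.map (MulAut.conj s⁻¹).toMonoidHom := by
    rw [hgc', hcas, mul_inv_rev, ← Sigma.map_conj_map, map_conj_of_mem (M.inv_mem ha.1)]
  refine ⟨s⁻¹, inv_mem ?_, hgs.symm⟩
  rw [hgs] at hg
  obtain ⟨y, hy, hye⟩ := hg
  have hye' : s⁻¹ * y * s⁻¹⁻¹ = x := hye
  refine Subgroup.mem_centralizer_singleton_iff.2 (commutatorElement_eq_one_iff_mul_comm.1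
    (Subgroup.mem_bot.1 (hcompl.2.2.1.le ⟨⟨?_, ?_⟩, ?_⟩)))
  · have : ⁅s, x⁆ = y * x⁻¹ := by rw [commutatorElement_def, ← hye']; group
    rw [this]
    exact M.mul_mem hy (M.inv_mem hxMN.1)
  · rw [commutatorElement_def]
    exact N.mul_mem (N.mul_mem (N.mul_mem (sigmaCore_le N hs) hxMN.2) (N.inv_mem (sigmaCore_le N hs))) (N.inv_mem hxMN.2)
  · rw [commutatorElement_def, mul_assoc s x, mul_assoc s]
    exact mul_mem hs ((Subgroup.mem_normalizer_iff.1 (le_normalizer_sigmaCore N hxMN.2) s⁻¹).1 (inv_mem hs))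

end Cfsg.Agent.OddOrder.Support
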