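/-
`C_G(x) = C_M(x) R(x)` for `x ∈ M_σ` (BG 14.4).
-/
import Cfsg.Agent.Lib.OddOrder.SigmaSupport

set_option autoImplicit false
set_option linter.style.haveILetI false
set_option linter.unusedSectionVars false

namespace Cfsg.Agent.OddOrder.Support

open scoped commutatorElement IsMulCommutative Pointwise
open Exceptional TauOne Kappa

universe u

variable {G : Type u} [Group G] [Finite G] {M N : Subgroup G} {x : G}

/-- The centralizer of `x` splits over `C_{N_σ}(x)`. -/
theorem centralizer_compl (hcompl : Cfsg.IsComplIn (M ⊓ N) (Cfsg.sigmaCore N) N)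
    (hxM : x ∈ M) (hxN : x ∈ N) (hC : Subgroup.centralizer ({x} : Set G) ≤ N) :
    Cfsg.IsComplIn (M ⊓ Subgroup.centralizer ({x} : Set G)) (Cfsg.sigmaCore N ⊓ Subgroup.centralizer ({x} : Set G))
      (Subgroup.centralizer ({x} : Set G)) := by
  refine ⟨inf_le_right, inf_le_right, ?_, fun c hc => ?_⟩
  · rw [Subgroup.eq_bot_iff_forall]
    rintro y ⟨hy, hy'⟩
    exact Subgroup.mem_bot.1 (hcompl.2.2.1.le ⟨⟨hy.1, hC hy.2⟩, hy'.1⟩)
  · obtain ⟨a, ha, s, hs, rfl⟩ := hcompl.2.2.2 c (hC hc)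
    have hsx : s ∈ Subgroup.centralizer ({x} : Set G) := by
      refine Subgroup.mem_centralizer_singleton_iff.2 (commutatorElement_eq_one_iff_mul_comm.1
        (Subgroup.mem_bot.1 (hcompl.2.2.1.le ⟨?_, ?_⟩)))
      · have h1 : a * s * x * (a * s)⁻¹ = x := by
          rw [(Subgroup.mem_centralizer_singleton_iff.1 hc : a * s * x = x * (a * s))]; group
        have : ⁅s, x⁆ = a⁻¹ * (a * s * x * (a * s)⁻¹) * a * x⁻¹ := by rw [commutatorElement_def]; group
        rw [this, h1]
        exact (M ⊓ N).mul_mem ((M ⊓ N).mul_mem ((M ⊓ N).mul_mem ((M ⊓ N).inv_mem ha) ⟨hxM, hxN⟩) ha)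
          ((M ⊓ N).inv_mem ⟨hxM, hxN⟩)
      · rw [commutatorElement_def, mul_assoc s x, mul_assoc s]
        exact mul_mem hs ((Subgroup.mem_normalizer_iff.1 (le_normalizer_sigmaCore N hxN) s⁻¹).1 (inv_mem hs))
    refine ⟨a, ⟨ha.1, ?_⟩, s, ⟨hs, hsx⟩, rfl⟩
    have := (Subgroup.centralizer ({x} : Set G)).mul_mem hc (inv_mem hsx)
    rwa [mul_inv_cancel_right] at this

theorem centralizer_le_normalizer_core (hC : Subgroup.centralizer ({x} : Set G) ≤ N) :
    Subgroup.centralizer ({x} : Set G) ≤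
      Subgroup.normalizer ((Cfsg.sigmaCore N ⊓ Subgroup.centralizer ({x} : Set G) : Subgroup G) : Set G) :=
  (le_inf (hC.trans (le_normalizer_sigmaCore N)) Subgroup.le_normalizer).trans
    Subgroup.inf_normalizer_le_normalizer_inf

end Cfsg.Agent.OddOrder.Support
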