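/-
The cosets `x R(x)`, `x ∈ M_σ`, are disjoint (BG 14.5(a)).
-/
import Cfsg.Agent.Lib.OddOrder.SigmaSupportR

set_option autoImplicit false
set_option linter.style.haveILetI false
set_option linter.unusedSectionVars false

namespace Cfsg.Agent.OddOrder.Support

open scoped commutatorElement IsMulCommutative Pointwise
open Exceptional TauOne Kappa

universe u

variable {G : Type u} [Group G] [Finite G] {M N : Subgroup G}

theorem sigma_conj {t : ℕ} (g : G) (h : t ∈ Cfsg.sigma M) : t ∈ Cfsg.sigma (M.map (MulAut.conj g).toMonoidHom) := by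
  haveI := Fact.mk h.1
  refine PrimeAction.sigma_of_conj (p := t) (M := M.map (MulAut.conj g).toMonoidHom) g⁻¹ ?_
  rw [Sigma.map_conj_map, inv_mul_cancel, Sigma.map_conj_one]
  exact h

theorem sigma_conj_iff {t : ℕ} (g : G) : t ∈ Cfsg.sigma (M.map (MulAut.conj g).toMonoidHom) ↔ t ∈ Cfsg.sigma M :=
  ⟨fun h => by
    haveI := Fact.mk h.1
    exact PrimeAction.sigma_of_conj (p := t) g h, sigma_conj g⟩

theorem primes_of_mem_sigmaCore {x : G} (hx : x ∈ Cfsg.sigmaCore M) {t : ℕ} (ht : t.Prime) (hd : t ∣ orderOf x) :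
    t ∈ Cfsg.sigma M :=
  mem_sigma_of_dvd ht (hd.trans (Subgroup.orderOf_dvd_natCard _ hx))

/-- The two cases of `R(x)`. -/
theorem supportR_cases (hG : Cfsg.IsMinSimpleOddOrder G) (hM : IsCoatom M) {x : G} (hx : x ∈ Cfsg.sigmaCore M)
    (hx1 : x ≠ 1) :
    (Subgroup.centralizer ({x} : Set G) ≤ M ∧ Cfsg.supportR M x = ⊥) ∨
      ∃ L : Subgroup G, IsCoatom L ∧ ¬ Subgroup.centralizer ({x} : Set G) ≤ M ∧
        Subgroup.centralizer ({x} : Set G) ≤ L ∧
        (∀ L' : Subgroup G, IsCoatom L' → Subgroup.centralizer ({x} : Set G) ≤ L' → L' = L) ∧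
        (∀ t : ℕ, t ∈ Cfsg.sigma M → t ∉ Cfsg.sigma L) ∧ Cfsg.sigmaCore L ⊓ M = ⊥ ∧
        Cfsg.supportR M x = Cfsg.sigmaCore L ⊓ Subgroup.centralizer ({x} : Set G) := by
  by_cases hxM : Subgroup.centralizer ({x} : Set G) ≤ M
  · exact Or.inl ⟨hxM, by unfold Cfsg.supportR; rw [dif_neg fun h => h.1 hxM]⟩
  obtain ⟨L, hL, hC, hu, hτ, hnil, hbot, -, -⟩ := exists_support hG hM hx hx1 hxM
  refine Or.inr ⟨L, hL, hxM, hC, hu, fun t htM htL => ?_, hbot, ?_⟩
  · obtain ⟨g, hg⟩ := SigmaDisj.conj_of_sigma hG hM hL htM htL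
    obtain ⟨p, hp, hpd⟩ := Nat.exists_prime_and_dvd fun e => hx1 (orderOf_eq_one_iff.1 e)
    exact (hτ p hp hpd).2.1 (hg ▸ sigma_conj g (primes_of_mem_sigmaCore hx hp hpd))
  · have h : ¬ Subgroup.centralizer ({x} : Set G) ≤ M ∧
        ∃! L' : Subgroup G, IsCoatom L' ∧ Subgroup.centralizer ({x} : Set G) ≤ L' :=
      ⟨hxM, L, ⟨hL, hC⟩, fun L' h' => hu L' h'.1 h'.2⟩
    unfold Cfsg.supportR
    rw [dif_pos h, hu (Classical.choose h.2.exists) (Classical.choose_spec h.2.exists).1 (Classical.choose_spec h.2.exists).2, fittingHall_eq hG hL hnil]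

theorem commute_supportR (hG : Cfsg.IsMinSimpleOddOrder G) (hM : IsCoatom M) {x : G} (hx : x ∈ Cfsg.sigmaCore M)
    (hx1 : x ≠ 1) {r : G} (hr : r ∈ Cfsg.supportR M x) : Commute x r := by
  rcases supportR_cases hG hM hx hx1 with ⟨-, he⟩ | ⟨L, -, -, -, -, -, -, he⟩ <;> rw [he] at hr
  · rw [Subgroup.mem_bot.1 hr]
    exact Commute.one_right x
  · exact (Subgroup.mem_centralizer_singleton_iff.1 hr.2).symm

/-- Parts of a common element for a set of primes agree. -/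
theorem part_unique {x r y s : G} (π : Set ℕ) (hxr : Commute x r) (hys : Commute y s) (he : x * r = y * s)
    (hx : ∀ t : ℕ, t.Prime → t ∣ orderOf x → t ∈ π) (hy : ∀ t : ℕ, t.Prime → t ∣ orderOf y → t ∈ π)
    (hr : ∀ t : ℕ, t.Prime → t ∣ orderOf r → t ∉ π) (hs : ∀ t : ℕ, t.Prime → t ∣ orderOf s → t ∉ π) : x = y := by
  set n := orderOf r * orderOf s with hn
  have hcop : ∀ a : G, (∀ t : ℕ, t.Prime → t ∣ orderOf a → t ∈ π) → n.Coprime (orderOf a) := fun a ha =>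
    Nat.coprime_of_dvd fun t ht h1 h2 => (ht.dvd_mul.1 h1).elim (fun h => hr t ht h (ha t ht h2))
      (fun h => hs t ht h (ha t ht h2))
  have hr' : r ^ n = 1 := orderOf_dvd_iff_pow_eq_one.1 (dvd_mul_right _ _)
  have hs' : s ^ n = 1 := orderOf_dvd_iff_pow_eq_one.1 (dvd_mul_left _ _)
  have h1 : x ^ n = y ^ n := by
    calc x ^ n = (x * r) ^ n := by rw [hxr.mul_pow, hr', mul_one]
      _ = (y * s) ^ n := by rw [he]
      _ = y ^ n := by rw [hys.mul_pow, hs', mul_one]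
  obtain ⟨i, hi⟩ := exists_pow_eq_self_of_coprime (hcop x hx)
  obtain ⟨j, hj⟩ := exists_pow_eq_self_of_coprime (hcop y hy)
  have hxy : Commute x y := by
    rw [← hi, h1]
    exact ((Commute.refl y).pow_left n).pow_left i
  have h2 : (x * y⁻¹) ^ n = 1 := by rw [hxy.inv_right.mul_pow, h1, inv_pow, mul_inv_cancel]
  have h3 : orderOf (x * y⁻¹) ∣ orderOf x * orderOf y := by
    refine (hxy.inv_right.orderOf_mul_dvd_lcm).trans ?_
    rw [orderOf_inv]
    exact Nat.lcm_dvd_mul _ _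
  exact mul_inv_eq_one.1 (orderOf_eq_one_iff.1 (Nat.eq_one_of_dvd_coprimes
    ((hcop x hx).mul_right (hcop y hy)) (orderOf_dvd_iff_pow_eq_one.2 h2) h3))

/-- BG 14.5(a). -/
theorem coset_disjoint (hG : Cfsg.IsMinSimpleOddOrder G) (hM : IsCoatom M) (hN : IsCoatom N) {x y : G}
    (hx : x ∈ Cfsg.sigmaCore M) (hy : y ∈ Cfsg.sigmaCore N) (hx1 : x ≠ 1) (hy1 : y ≠ 1) (hxy : x ≠ y) {r s : G}
    (hr : r ∈ Cfsg.supportR M x) (hs : s ∈ Cfsg.supportR N y) : x * r ≠ y * s := by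
  intro he
  have hxr := commute_supportR hG hM hx hx1 hr
  have hys := commute_supportR hG hN hy hy1 hs
  have hσr : ∀ t : ℕ, t.Prime → t ∣ orderOf r → t ∉ Cfsg.sigma M := by
    rcases supportR_cases hG hM hx hx1 with ⟨-, he'⟩ | ⟨L, -, -, -, -, hdis, -, he'⟩ <;> rw [he'] at hr
    · intro t ht hd
      rw [Subgroup.mem_bot.1 hr, orderOf_one] at hd
      exact absurd (Nat.dvd_one.1 hd) ht.ne_one
    · exact fun t ht hd htM => hdis t htM (primes_of_mem_sigmaCore hr.1 ht hd)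
  have hσs : ∀ t : ℕ, t.Prime → t ∣ orderOf s → t ∉ Cfsg.sigma N := by
    rcases supportR_cases hG hN hy hy1 with ⟨-, he'⟩ | ⟨L, -, -, -, -, hdis, -, he'⟩ <;> rw [he'] at hs
    · intro t ht hd
      rw [Subgroup.mem_bot.1 hs, orderOf_one] at hd
      exact absurd (Nat.dvd_one.1 hd) ht.ne_one
    · exact fun t ht hd htN => hdis t htN (primes_of_mem_sigmaCore hs.1 ht hd)
  -- `σ(M)` and `σ(N)` are disjoint
  by_cases hc : ∃ t, t ∈ Cfsg.sigma M ∧ t ∈ Cfsg.sigma N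
  · obtain ⟨t, htM, htN⟩ := hc
    obtain ⟨g, rfl⟩ := SigmaDisj.conj_of_sigma hG hM hN htM htN
    exact hxy (part_unique (Cfsg.sigma M) hxr hys he (fun t ht hd => primes_of_mem_sigmaCore hx ht hd)
      (fun t ht hd => (sigma_conj_iff g).1 (primes_of_mem_sigmaCore hy ht hd)) hσr
      fun t ht hd h => hσs t ht hd (sigma_conj g h))
  push Not at hc
  have he' : r * x = y * s := hxr.eq ▸ he
  -- `r = y`
  have key : ∀ {M N : Subgroup G}, IsCoatom M → IsCoatom N → ∀ {x y : G}, x ∈ Cfsg.sigmaCore M →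
      y ∈ Cfsg.sigmaCore N → x ≠ 1 → y ≠ 1 → ∀ {r s : G}, r ∈ Cfsg.supportR M x → s ∈ Cfsg.supportR N y →
      r * x = y * s → (∀ t, t ∈ Cfsg.sigma M → t ∉ Cfsg.sigma N) → r = y ∧
      ∃ (L : Subgroup G) (g : G), IsCoatom L ∧ Subgroup.centralizer ({x} : Set G) ≤ L ∧
        (∀ L' : Subgroup G, IsCoatom L' → Subgroup.centralizer ({x} : Set G) ≤ L' → L' = L) ∧
        N = L.map (MulAut.conj g).toMonoidHom ∧ r ∈ Cfsg.sigmaCore L ∧ Cfsg.sigmaCore L ⊓ M = ⊥ := by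
    intro M N hM hN x y hx hy hx1 hy1 r s hr hs he hc
    have hxr := commute_supportR hG hM hx hx1 hr
    have hys := commute_supportR hG hN hy hy1 hs
    -- the primes of `s` avoid `σ(N)`
    have hσs : ∀ t : ℕ, t.Prime → t ∣ orderOf s → t ∉ Cfsg.sigma N := by
      rcases supportR_cases hG hN hy hy1 with ⟨-, he'⟩ | ⟨L, -, -, -, -, hdis, -, he'⟩ <;> rw [he'] at hs
      · intro t ht hd
        rw [Subgroup.mem_bot.1 hs, orderOf_one] at hd
        exact absurd (Nat.dvd_one.1 hd) ht.ne_one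
      · exact fun t ht hd htN => hdis t htN (primes_of_mem_sigmaCore hs.1 ht hd)
    rcases supportR_cases hG hM hx hx1 with ⟨-, he'⟩ | ⟨L, hL, -, hC, hu, -, hbot, he'⟩ <;> rw [he'] at hr
    · exfalso
      rw [Subgroup.mem_bot.1 hr, one_mul] at he
      refine hy1 (part_unique (Cfsg.sigma N) (Commute.one_left x) hys (by rw [one_mul, he]) (fun t ht hd => ?_)
        (fun t ht hd => primes_of_mem_sigmaCore hy ht hd) (fun t ht hd => hc t (primes_of_mem_sigmaCore hx ht hd)) hσs).symm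
      rw [orderOf_one] at hd
      exact absurd (Nat.dvd_one.1 hd) ht.ne_one
    by_cases hLN : ∃ t, t ∈ Cfsg.sigma L ∧ t ∈ Cfsg.sigma N
    · obtain ⟨t, htL, htN⟩ := hLN
      obtain ⟨g, hg⟩ := SigmaDisj.conj_of_sigma hG hL hN htL htN
      refine ⟨part_unique (Cfsg.sigma N) hxr.symm hys he (fun t ht hd => hg ▸ sigma_conj g (primes_of_mem_sigmaCore hr.1 ht hd))
        (fun t ht hd => primes_of_mem_sigmaCore hy ht hd) (fun t ht hd => hc t (primes_of_mem_sigmaCore hx ht hd)) hσs,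
        L, g, hL, hC, hu, hg, hr.1, hbot⟩
    · push Not at hLN
      exfalso
      refine hy1 (part_unique (Cfsg.sigma N) (x := (1 : G)) (r := r * x) (Commute.one_left _) hys (by rw [one_mul, he])
        (fun t ht hd => absurd (Nat.dvd_one.1 (by rwa [orderOf_one] at hd)) ht.ne_one)
        (fun t ht hd => primes_of_mem_sigmaCore hy ht hd) (fun t ht hd htN => ?_) hσs).symm
      rcases ht.dvd_mul.1 (hd.trans (hxr.symm.orderOf_mul_dvd_lcm.trans (Nat.lcm_dvd_mul _ _))) with h | h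
      · exact hLN t (primes_of_mem_sigmaCore hr.1 ht h) htN
      · exact hc t (primes_of_mem_sigmaCore hx ht h) htN
  obtain ⟨hry, L, g, hL, hC, hu, hNL, hrL, hLM⟩ := key hM hN hx hy hx1 hy1 hr hs he' hc
  obtain ⟨hsx, L', g', hL', hC', hu', hML, hsL, hLN⟩ := key hN hM hy hx hy1 hx1 hs hr (by rw [← hys.eq, he])
    fun t htN htM => hc t htM htN
  -- `L'` is a conjugate of `M` by an element centralizing `x`
  have hxL' : x ∈ L' := sigmaCore_le L' (hsx ▸ hsL)
  have hL'M : L' = M.map (MulAut.conj g'⁻¹).toMonoidHom := by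
    rw [hML, Sigma.map_conj_map, inv_mul_cancel, Sigma.map_conj_one]
  obtain ⟨c, hc', hcL⟩ := conj_eq hG hM hx hx1 (g := g'⁻¹) (hL'M ▸ hxL')
  have hL'c : L' = M.map (MulAut.conj c).toMonoidHom := hL'M.trans hcL.symm
  have hxnL : ¬ Subgroup.centralizer ({x} : Set G) ≤ L' := by
    intro h
    have hCM : Subgroup.centralizer ({x} : Set G) ≤ M := by
      intro d hd
      have h1 : c * d * c⁻¹ ∈ L' := h (mul_mem (mul_mem hc' hd) (inv_mem hc'))
      rw [hL'c] at h1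
      obtain ⟨m, hm, hme⟩ := h1
      exact (mul_left_cancel (mul_right_cancel (hme : c * m * c⁻¹ = c * d * c⁻¹))) ▸ hm
    rcases supportR_cases hG hM hx hx1 with ⟨-, he''⟩ | ⟨L₁, -, hno, -⟩
    · rw [he''] at hr
      exact hy1 (hry ▸ Subgroup.mem_bot.1 hr)
    · exact hno hCM
  obtain ⟨L₂, hL₂, hC₂, -, -, -, hbot₂, -, -⟩ := exists_support hG hL' (hsx ▸ hsL) hx1 hxnL
  rw [hu L₂ hL₂ hC₂] at hbot₂
  refine hy1 (hry ▸ Subgroup.mem_bot.1 (hbot₂.le ⟨hrL, hC' ?_⟩))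
  rw [hry]
  exact Subgroup.mem_centralizer_singleton_iff.2 rfl

end Cfsg.Agent.OddOrder.Support
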