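/-
The size of `M̃_σ` (BG 14.6).
-/
import Cfsg.Agent.Lib.OddOrder.SigmaTilde

set_option autoImplicit false
set_option linter.style.haveILetI false
set_option linter.unusedSectionVars false

namespace Cfsg.Agent.OddOrder.Support

open scoped commutatorElement IsMulCommutative Pointwise
open Exceptional TauOne Kappa

universe u

variable {G : Type u} [Group G] [Finite G] {M L : Subgroup G}

theorem coatom_conj (hM : IsCoatom M) (g : G) : IsCoatom (M.map (MulAut.conj g).toMonoidHom) :=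
  (OrderIso.isCoatom_iff (MulEquiv.mapSubgroup (MulAut.conj g)) M).2 hM

theorem mem_map_conj {X : Subgroup G} {g x : G} :
    x ∈ X.map (MulAut.conj g).toMonoidHom ↔ g⁻¹ * x * g ∈ X := by
  constructor
  · rintro ⟨y, hy, rfl⟩
    show g⁻¹ * (g * y * g⁻¹) * g ∈ X
    simpa [mul_assoc] using hy
  · intro h
    exact ⟨_, h, show g * (g⁻¹ * x * g) * g⁻¹ = x by group⟩

theorem map_conj_inj {X : Subgroup G} {a b : G}
    (h : X.map (MulAut.conj a).toMonoidHom = X.map (MulAut.conj b).toMonoidHom) :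
    X.map (MulAut.conj (b⁻¹ * a)).toMonoidHom = X := by
  rw [← Sigma.map_conj_map, h, Sigma.map_conj_map, inv_mul_cancel, Sigma.map_conj_one]

/-- `M_σ` is equivariant. -/
theorem sigmaCore_conj (g : G) :
    Cfsg.sigmaCore (M.map (MulAut.conj g).toMonoidHom) = (Cfsg.sigmaCore M).map (MulAut.conj g).toMonoidHom := by
  have key : ∀ (M : Subgroup G) (g : G),
      (Cfsg.sigmaCore M).map (MulAut.conj g).toMonoidHom ≤ Cfsg.sigmaCore (M.map (MulAut.conj g).toMonoidHom) := by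
    intro M g
    refine MinSimple.le_piCoreOf (π := Cfsg.sigma (M.map (MulAut.conj g).toMonoidHom))
      (Subgroup.map_mono (sigmaCore_le M)) ((Subgroup.map_mono (le_normalizer_sigmaCore M)).trans
        (Subgroup.le_normalizer_map _)) fun t ht hd => sigma_conj g (mem_sigma_of_dvd ht ?_)
    rwa [Subgroup.card_map_of_injective (MulAut.conj g).injective] at hd
  refine le_antisymm ?_ (key M g)
  intro x hx
  have h := key (M.map (MulAut.conj g).toMonoidHom) g⁻¹ ⟨x, hx, rfl⟩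
  rw [Sigma.map_conj_map, inv_mul_cancel, Sigma.map_conj_one] at h
  exact mem_map_conj.2 (by simpa [mul_assoc] using h)

theorem centralizer_conj {x g : G} {d : G} :
    d ∈ Subgroup.centralizer ({g * x * g⁻¹} : Set G) ↔ g⁻¹ * d * g ∈ Subgroup.centralizer ({x} : Set G) := by
  rw [Subgroup.mem_centralizer_singleton_iff, Subgroup.mem_centralizer_singleton_iff]
  constructor
  · intro h
    calc g⁻¹ * d * g * x = g⁻¹ * (d * (g * x * g⁻¹)) * g := by group
      _ = g⁻¹ * (g * x * g⁻¹ * d) * g := by rw [h]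
      _ = x * (g⁻¹ * d * g) := by group
  · intro h
    calc d * (g * x * g⁻¹) = g * (g⁻¹ * d * g * x) * g⁻¹ := by group
      _ = g * (x * (g⁻¹ * d * g)) * g⁻¹ := by rw [h]
      _ = g * x * g⁻¹ * d := by group

/-- `R(x)` is equivariant. -/
theorem supportR_conj_le (hG : Cfsg.IsMinSimpleOddOrder G) (hM : IsCoatom M) {x : G} (hx : x ∈ Cfsg.sigmaCore M)
    (hx1 : x ≠ 1) {r : G} (hr : r ∈ Cfsg.supportR M x) (g : G) :
    g * r * g⁻¹ ∈ Cfsg.supportR (M.map (MulAut.conj g).toMonoidHom) (g * x * g⁻¹) := by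
  rcases supportR_cases hG hM hx hx1 with ⟨-, he⟩ | ⟨L, hL, hno, hC, -, -, -, he⟩ <;> rw [he] at hr
  · rw [Subgroup.mem_bot.1 hr, mul_one, mul_inv_cancel]
    exact one_mem _
  have hM' := coatom_conj hM g
  have hx' : g * x * g⁻¹ ∈ Cfsg.sigmaCore (M.map (MulAut.conj g).toMonoidHom) := (sigmaCore_conj g).ge ⟨x, hx, rfl⟩
  have hx1' : g * x * g⁻¹ ≠ 1 := fun e => hx1 (conj_eq_one_iff.1 e)
  rcases supportR_cases hG hM' hx' hx1' with ⟨hle, -⟩ | ⟨L', -, -, -, hu, -, -, he'⟩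
  · refine absurd (fun d hd => ?_) hno
    have h := mem_map_conj.1 (hle (centralizer_conj.2 (by simpa [mul_assoc] using hd :
      g⁻¹ * (g * d * g⁻¹) * g ∈ Subgroup.centralizer ({x} : Set G))))
    simpa [mul_assoc] using h
  rw [he', ← hu _ (coatom_conj hL g) fun d hd => mem_map_conj.2 (hC (centralizer_conj.1 hd))]
  exact ⟨(sigmaCore_conj g).ge ⟨r, hr.1, rfl⟩, centralizer_conj.2 (by simpa [mul_assoc] using hr.2)⟩

theorem centralizer_le_normalizer_supportR (hG : Cfsg.IsMinSimpleOddOrder G) (hM : IsCoatom M) {x : G}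
    (hx : x ∈ Cfsg.sigmaCore M) (hx1 : x ≠ 1) :
    Subgroup.centralizer ({x} : Set G) ≤ Subgroup.normalizer (Cfsg.supportR M x : Set G) := by
  rcases supportR_cases hG hM hx hx1 with ⟨-, he⟩ | ⟨L, -, -, hC, -, -, -, he⟩ <;> rw [he]
  · intro c _
    refine ComplAbelian.mem_normalizer_of_map_le fun y hy => ?_
    rw [Subgroup.mem_bot.1 hy, mul_one, mul_inv_cancel]
    exact one_mem _
  · exact centralizer_le_normalizer_core hC

/-- `R(x)` depends on `x` only. -/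
theorem supportR_indep (hG : Cfsg.IsMinSimpleOddOrder G) (hM : IsCoatom M) {x g : G} (hx : x ∈ Cfsg.sigmaCore M)
    (hx1 : x ≠ 1) (hg : x ∈ Cfsg.sigmaCore (M.map (MulAut.conj g).toMonoidHom)) {r : G} (hr : r ∈ Cfsg.supportR M x) :
    r ∈ Cfsg.supportR (M.map (MulAut.conj g).toMonoidHom) x := by
  obtain ⟨c, hc, hcg⟩ := conj_eq hG hM hx hx1 (sigmaCore_le _ hg)
  rw [← hcg]
  have hcx : c * x * c⁻¹ = x := by rw [Subgroup.mem_centralizer_singleton_iff.1 hc]; group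
  have h := supportR_conj_le hG hM hx hx1
    ((Subgroup.mem_normalizer_iff.1 (centralizer_le_normalizer_supportR hG hM hx hx1 (inv_mem hc)) r).1 hr) c
  rw [hcx] at h
  convert h using 1
  group

/-- `R(x)` is regular on the conjugates of `M` containing `x`. -/
theorem supportR_regular (hG : Cfsg.IsMinSimpleOddOrder G) (hM : IsCoatom M) {x g : G} (hx : x ∈ Cfsg.sigmaCore M)
    (hx1 : x ≠ 1) (hg : x ∈ M.map (MulAut.conj g).toMonoidHom) :
    ∃! r : G, r ∈ Cfsg.supportR M x ∧ M.map (MulAut.conj r).toMonoidHom = M.map (MulAut.conj g).toMonoidHom := by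
  obtain ⟨c, hc, hcg⟩ := conj_eq hG hM hx hx1 hg
  rcases supportR_cases hG hM hx hx1 with ⟨hle, he⟩ | ⟨L, hL, hno, hC, -, -, hbot, he⟩ <;> rw [he]
  · refine ⟨1, ⟨one_mem _, ?_⟩, fun r hr => Subgroup.mem_bot.1 hr.1⟩
    rw [← hcg, map_conj_of_mem (hle hc), map_conj_of_mem M.one_mem]
  obtain ⟨N, hN, hCN, hu, -, -, -, hcompl, -⟩ := exists_support hG hM hx hx1 hno
  have hNL : L = N := hu L hL hC
  subst hNL
  obtain ⟨a, ha, s, hs, has⟩ := (centralizer_compl hcompl (sigmaCore_le M hx)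
    (hC (Subgroup.mem_centralizer_singleton_iff.2 rfl)) hC).2.2.2 c⁻¹ (inv_mem hc)
  have hgs : M.map (MulAut.conj s⁻¹).toMonoidHom = M.map (MulAut.conj g).toMonoidHom := by
    rw [← hcg, ← inv_inv c, has, mul_inv_rev, ← Sigma.map_conj_map, map_conj_of_mem (M.inv_mem ha.1)]
  refine ⟨s⁻¹, ⟨inv_mem hs, hgs⟩, fun r ⟨hr, hrg⟩ => ?_⟩
  have hmem : s * r ∈ M := by
    have := mem_of_map_conj hG hM (map_conj_inj (hrg.trans hgs.symm))
    rwa [inv_inv] at this
  exact eq_inv_of_mul_eq_one_right (Subgroup.mem_bot.1 (hbot.le ⟨mul_mem hs.1 hr.1, hmem⟩))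

end Cfsg.Agent.OddOrder.Support

namespace Cfsg.Agent.OddOrder.Support

open scoped commutatorElement IsMulCommutative Pointwise
open Exceptional TauOne Kappa

universe u

variable {G : Type u} [Group G] [Finite G] {M : Subgroup G}

/-- The conjugates of `M`. -/
def conjClass (M : Subgroup G) : Set (Subgroup G) := Set.range fun g : G => M.map (MulAut.conj g).toMonoidHom

theorem ncard_conjClass (hG : Cfsg.IsMinSimpleOddOrder G) (hM : IsCoatom M) : (conjClass M).ncard = M.index := by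
  rw [Subgroup.index_eq_card, ← Nat.card_coe_set_eq]
  refine (Nat.card_congr (Equiv.ofBijective
    (fun q : G ⧸ M => (⟨M.map (MulAut.conj q.out).toMonoidHom, q.out, rfl⟩ : conjClass M)) ⟨?_, ?_⟩)).symm
  · intro q q' h
    have h1 := mem_of_map_conj hG hM (map_conj_inj (congrArg Subtype.val h))
    rw [← QuotientGroup.out_eq' q, ← QuotientGroup.out_eq' q']
    exact (QuotientGroup.eq.2 h1).symm
  · rintro ⟨_, g, rfl⟩
    obtain ⟨m, hm⟩ := QuotientGroup.mk_out_eq_mul M g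
    refine ⟨(g : G ⧸ M), Subtype.ext ?_⟩
    show M.map (MulAut.conj (Quotient.out (g : G ⧸ M))).toMonoidHom = M.map (MulAut.conj g).toMonoidHom
    rw [hm, ← Sigma.map_conj_map, map_conj_of_mem m.2]

theorem ncard_pairs (hG : Cfsg.IsMinSimpleOddOrder G) (hM : IsCoatom M) :
    {P : Subgroup G × G | P.1 ∈ conjClass M ∧ P.2 ∈ Cfsg.sigmaCore P.1 ∧ P.2 ≠ 1}.ncard =
      M.index * (Nat.card (Cfsg.sigmaCore M) - 1) := by
  classical
  have h1 : ((Cfsg.sigmaCore M : Set G) \ {1}).ncard = Nat.card (Cfsg.sigmaCore M) - 1 := by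
    rw [Set.ncard_sdiff_singleton_of_mem (Cfsg.sigmaCore M).one_mem, ← Nat.card_coe_set_eq]
    rfl
  rw [← ncard_conjClass hG hM, ← h1, ← Set.ncard_prod]
  symm
  have key : ∀ L ∈ conjClass M, ∃ g : G, M.map (MulAut.conj g).toMonoidHom = L := fun L hL => hL
  choose f hf using key
  refine Set.ncard_congr (fun P hP => (P.1, f P.1 hP.1 * P.2 * (f P.1 hP.1)⁻¹)) ?_ ?_ ?_
  · rintro ⟨L, a⟩ ⟨hL, ha, ha1⟩
    refine ⟨hL, ?_, fun e => ha1 (conj_eq_one_iff.1 e)⟩
    have e := sigmaCore_conj (M := M) (f L hL)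
    rw [hf L hL] at e
    exact e.ge ⟨a, ha, rfl⟩
  · rintro ⟨L, a⟩ ⟨L', a'⟩ ⟨hL, ha⟩ ⟨hL', ha'⟩ he
    obtain ⟨hLL, he⟩ := Prod.mk.inj he
    obtain rfl : L = L' := hLL
    exact Prod.ext rfl (mul_left_cancel (mul_right_cancel he))
  · rintro ⟨L, a⟩ ⟨hL, ha, ha1⟩
    have e := sigmaCore_conj (M := M) (f L hL)
    rw [hf L hL] at e
    have hc := mem_map_conj.1 (e.le ha)
    refine ⟨(L, (f L hL)⁻¹ * a * f L hL), ⟨hL, hc, fun e' => ha1 ?_⟩, ?_⟩
    · have e'' : (f L hL)⁻¹ * a * f L hL = 1 := e'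
      calc a = f L hL * ((f L hL)⁻¹ * a * f L hL) * (f L hL)⁻¹ := by group
        _ = 1 := by rw [e'']; group
    · exact Prod.ext rfl (by show f L hL * ((f L hL)⁻¹ * a * f L hL) * (f L hL)⁻¹ = a; group)

/-- BG 14.6. -/
theorem ncard_tilde (hG : Cfsg.IsMinSimpleOddOrder G) (hM : IsCoatom M) :
    Set.ncard (Cfsg.tildeOf M ((Cfsg.sigmaCore M : Set G) \ {1})) = (Nat.card (Cfsg.sigmaCore M) - 1) * M.index := by
  classical
  rw [mul_comm, ← ncard_pairs hG hM]
  symm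
  set T := {P : Subgroup G × G | P.1 ∈ conjClass M ∧ P.2 ∈ Cfsg.sigmaCore P.1 ∧ P.2 ≠ 1}
  -- the chosen conjugate for each element
  set base : (a : G) → (∃ L, L ∈ conjClass M ∧ a ∈ Cfsg.sigmaCore L) → Subgroup G := fun a h => Classical.choose h
  have hb : ∀ a h, base a h ∈ conjClass M ∧ a ∈ Cfsg.sigmaCore (base a h) := fun a h => Classical.choose_spec h
  have hco : ∀ L ∈ conjClass M, IsCoatom L := by rintro _ ⟨g, rfl⟩; exact coatom_conj hM g
  have hex : ∀ P ∈ T, ∃ L, L ∈ conjClass M ∧ P.2 ∈ Cfsg.sigmaCore L := fun P hP => ⟨P.1, hP.1, hP.2.1⟩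
  have hconj : ∀ L ∈ conjClass M, ∀ L' ∈ conjClass M, ∃ g, L' = L.map (MulAut.conj g).toMonoidHom := by
    rintro _ ⟨g, rfl⟩ _ ⟨g', rfl⟩
    exact ⟨g' * g⁻¹, by rw [Sigma.map_conj_map, inv_mul_cancel_right]⟩
  have hrho : ∀ P (hP : P ∈ T), ∃! r : G, r ∈ Cfsg.supportR (base P.2 (hex P hP)) P.2 ∧
      (base P.2 (hex P hP)).map (MulAut.conj r).toMonoidHom = P.1 := by
    intro P hP
    obtain ⟨hbC, hba⟩ := hb P.2 (hex P hP)
    obtain ⟨g, hg⟩ := hconj _ hbC _ hP.1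
    have := supportR_regular hG (hco _ hbC) hba hP.2.2 (g := g) (hg ▸ sigmaCore_le _ hP.2.1)
    rwa [← hg] at this
  refine Set.ncard_congr (fun P hP => P.2 * Classical.choose (hrho P hP).exists) ?_ ?_ ?_
  · rintro ⟨L, a⟩ hP
    obtain ⟨⟨y, hy⟩, hba⟩ := hb a (hex _ hP)
    obtain ⟨hr, -⟩ := Classical.choose_spec (hrho _ hP).exists
    set b := base a (hex _ hP)
    set r := Classical.choose (hrho _ hP).exists
    have h := supportR_conj_le hG (hco b ⟨y, hy⟩) hba hP.2.2 hr y⁻¹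
    have hbM : b.map (MulAut.conj y⁻¹).toMonoidHom = M := by
      rw [← hy, Sigma.map_conj_map, inv_mul_cancel, Sigma.map_conj_one]
    rw [hbM] at h
    refine ⟨y⁻¹ * a * y⁻¹⁻¹, ⟨?_, fun e => hP.2.2 (conj_eq_one_iff.1 (Set.mem_singleton_iff.1 e))⟩, _, h, y, ?_⟩
    · have := (sigmaCore_conj (M := b) y⁻¹).ge ⟨a, hba, rfl⟩
      rwa [hbM] at this
    · group
  · rintro ⟨L, a⟩ ⟨L', a'⟩ hP hP' he
    obtain ⟨hr, hrL⟩ := Classical.choose_spec (hrho _ hP).exists
    obtain ⟨hr', hrL'⟩ := Classical.choose_spec (hrho _ hP').exists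
    obtain ⟨hbC, hba⟩ := hb a (hex _ hP)
    obtain ⟨hbC', hba'⟩ := hb a' (hex _ hP')
    have haa : a = a' := by
      by_contra hne
      exact coset_disjoint hG (hco _ hbC) (hco _ hbC') hba hba' hP.2.2 hP'.2.2 hne hr hr' he
    subst haa
    exact Prod.ext (hrL.symm.trans ((congrArg (fun r => (base a (hex _ hP)).map (MulAut.conj r).toMonoidHom)
      (mul_left_cancel he)).trans hrL')) rfl
  · rintro z ⟨a₀, ⟨ha₀, ha₀1⟩, r₀, hr₀, y, rfl⟩
    set a := y * a₀ * y⁻¹ with ha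
    set L₀ := M.map (MulAut.conj y).toMonoidHom with hL₀
    have haL₀ : a ∈ Cfsg.sigmaCore L₀ := (sigmaCore_conj y).ge ⟨a₀, ha₀, rfl⟩
    have ha1 : a ≠ 1 := fun e => ha₀1 (Set.mem_singleton_iff.2 (conj_eq_one_iff.1 e))
    have hex₀ : ∃ L, L ∈ conjClass M ∧ a ∈ Cfsg.sigmaCore L := ⟨L₀, ⟨y, rfl⟩, haL₀⟩
    obtain ⟨hbC, hba⟩ := hb a hex₀
    set b := base a hex₀
    set r := y * r₀ * y⁻¹ with hr
    have hrL : r ∈ Cfsg.supportR L₀ a := supportR_conj_le hG hM ha₀ (fun e => ha₀1 (Set.mem_singleton_iff.2 e)) hr₀ y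
    obtain ⟨g, hg⟩ := hconj L₀ ⟨y, rfl⟩ b hbC
    have hrb : r ∈ Cfsg.supportR b a :=
      hg ▸ supportR_indep hG (hco L₀ ⟨y, rfl⟩) haL₀ ha1 (hg ▸ hba) hrL
    have hra : r⁻¹ * a * r = a := by
      rw [mul_assoc, (commute_supportR hG (hco b hbC) hba ha1 hrb).eq, inv_mul_cancel_left]
    obtain ⟨u, hu⟩ := hbC
    have hP : (b.map (MulAut.conj r).toMonoidHom, a) ∈ T := by
      refine ⟨⟨r * u, ?_⟩, ?_, ha1⟩
      · show M.map (MulAut.conj (r * u)).toMonoidHom = b.map (MulAut.conj r).toMonoidHom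
        rw [← hu, Sigma.map_conj_map]
      · refine (sigmaCore_conj r).ge (mem_map_conj.2 ?_)
        rw [hra]
        exact hba
    refine ⟨_, hP, ?_⟩
    have := (hrho _ hP).unique (Classical.choose_spec (hrho _ hP).exists) ⟨hrb, rfl⟩
    show a * Classical.choose (hrho _ hP).exists = y * (a₀ * r₀) * y⁻¹
    rw [this, ha, hr]
    group

end Cfsg.Agent.OddOrder.Support
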