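/-
The subgroup `Z = K × C_{M_σ}(K)` and the maximal subgroups attached to it (BG 14.7).
-/
import Cfsg.Agent.Lib.OddOrder.SigmaTildeCount
import Cfsg.Agent.S1431
import Cfsg.Agent.S1432

set_option autoImplicit false
set_option linter.style.haveILetI false
set_option linter.unusedSectionVars false

namespace Cfsg.Agent.OddOrder.Pairing

open scoped commutatorElement IsMulCommutative Pointwise
open Exceptional TauOne Kappa Support
open Tau3 (line_pgroup line_ne_bot)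

universe u

variable {G : Type u} [Group G] [Finite G] {M N Z K : Subgroup G}

/-- Hall `π`-subgroups over a given `π`-subgroup of a solvable subgroup. -/
theorem exists_piHall {X W : Subgroup G} [hsol : Group.IsSolvable X] (π : Set ℕ) (hWX : W ≤ X)
    (hW : ∀ r : ℕ, r.Prime → r ∣ Nat.card W → r ∈ π) :
    ∃ H : Subgroup G, Cfsg.IsPiHallOf π H X ∧ W ≤ H := by
  classical
  set s := (Nat.card X).primeFactors
  set f : ℕ → ℕ := fun p => p ^ (Nat.card X).factorization p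
  set m := ∏ p ∈ s.filter (fun p => p ∈ π), f p with hm
  set c := ∏ p ∈ s.filter (fun p => ¬ p ∈ π), f p with hc
  have hmc : Nat.card X = m * c := by
    rw [hm, hc, Finset.prod_filter_mul_prod_filter_not]
    simp only [s, f]
    exact Nat.prod_primeFactors_pow_factorization (Nat.card_pos (α := X)).ne'
  have hprimes : ∀ (P : Finset ℕ), P ⊆ s → ∀ t : ℕ, t.Prime → t ∣ ∏ p ∈ P, f p → t ∈ P := by
    intro P hP t ht hd
    obtain ⟨p, hp, hdp⟩ := (Prime.dvd_finsetProd_iff ht.prime f).1 hd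
    exact (Nat.prime_dvd_prime_iff_eq ht (Nat.prime_of_mem_primeFactors (hP hp))).1 (ht.dvd_of_dvd_pow hdp) ▸ hp
  have hm' : ∀ t : ℕ, t.Prime → t ∣ m → t ∈ π := fun t ht hd =>
    (Finset.mem_filter.1 (hprimes _ (Finset.filter_subset _ _) t ht hd)).2
  have hc' : ∀ t : ℕ, t.Prime → t ∣ c → t ∉ π := fun t ht hd =>
    (Finset.mem_filter.1 (hprimes _ (Finset.filter_subset _ _) t ht hd)).2
  obtain ⟨H, hH, hWH⟩ := HallSolv.exists_hall_ge hmc
    (Nat.coprime_of_dvd fun t ht h1 h2 => hc' t ht h2 (hm' t ht h1)) (K := W.subgroupOf X)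
    (Nat.coprime_of_dvd fun t ht h1 h2 => hc' t ht h2
      (hW t ht (by rwa [Nat.card_congr (Subgroup.subgroupOfEquivOfLe hWX).toEquiv] at h1)))
  refine ⟨H.map X.subtype, ⟨Subgroup.map_subtype_le _, fun r hr hd => hm' r hr ?_, fun r hr hrπ hd => hc' r hr ?_ hrπ⟩,
    fun w hw => ⟨⟨w, hWX hw⟩, hWH (Subgroup.mem_subgroupOf.2 hw), rfl⟩⟩
  · rwa [Subgroup.card_map_of_injective X.subtype_injective, hH] at hd
  · rw [Subgroup.relIndex, Subgroup.subgroupOf, Subgroup.comap_map_eq_self_of_injective X.subtype_injective] at hd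
    have h1 := H.card_mul_index
    rw [hH, hmc] at h1
    exact Nat.eq_of_mul_eq_mul_left (Nat.pos_of_ne_zero fun e => Nat.card_pos.ne' (hmc.trans (by rw [e, zero_mul]))) h1 ▸ hd

/-- `σ(M)`-subgroups of `M` lie in `M_σ`. -/
theorem le_sigmaCore_of_primes (hG : Cfsg.IsMinSimpleOddOrder G) (hM : IsCoatom M) {Y : Subgroup G} (hYM : Y ≤ M)
    (hY : ∀ r : ℕ, r.Prime → r ∣ Nat.card Y → r ∈ Cfsg.sigma M) : Y ≤ Cfsg.sigmaCore M := by
  obtain ⟨⟨-, -, hhall⟩, -, -⟩ := S1350.result hG M hM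
  haveI : ((Cfsg.sigmaCore M).subgroupOf M).Normal :=
    Subgroup.normal_subgroupOf_of_le_normalizer (le_normalizer_sigmaCore M)
  intro y hy
  exact Exceptional.le_of_coprime_index (N := (Cfsg.sigmaCore M).subgroupOf M) (X := Y.subgroupOf M)
    (Nat.coprime_of_dvd fun r hr h1 h2 => hhall r hr
      (hY r hr (by rwa [Nat.card_congr (Subgroup.subgroupOfEquivOfLe hYM).toEquiv] at h1)) h2)
    (show (⟨y, hYM hy⟩ : M) ∈ Y.subgroupOf M from hy)

/-- `N` is a maximal subgroup whose Hall `κ(N)`-subgroup `K` gives `Z = K × C_{N_σ}(K)`. -/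
structure Member (Z N K : Subgroup G) : Prop where
  coatom : IsCoatom N
  hall : Cfsg.IsPiHallOf (Cfsg.kappa N) K N
  ne : K ≠ ⊥
  sup : K ⊔ (Cfsg.sigmaCore N ⊓ Subgroup.centralizer (K : Set G)) = Z

namespace Member

variable (m : Member Z N K)
include m

theorem Z_le : Z ≤ N := m.sup ▸ sup_le m.hall.1 (inf_le_left.trans (sigmaCore_le N))

theorem K_le : K ≤ Z := m.sup ▸ le_sup_left

theorem sup_split {z : G} (hz : z ∈ Z) :
    ∃ k ∈ K, ∃ d ∈ Cfsg.sigmaCore N ⊓ Subgroup.centralizer (K : Set G), z = k * d ∧ Commute k d := by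
  have hn : K ≤ Subgroup.normalizer ((Cfsg.sigmaCore N ⊓ Subgroup.centralizer (K : Set G) : Subgroup G) : Set G) :=
    (le_inf (m.hall.1.trans (le_normalizer_sigmaCore N))
      ((Subgroup.le_normalizer).trans (FitOf.normalizer_le_normalizer_centralizer _))).trans
      Subgroup.inf_normalizer_le_normalizer_inf
  rw [← m.sup] at hz
  have hz' : z ∈ (K : Set G) * ((Cfsg.sigmaCore N ⊓ Subgroup.centralizer (K : Set G) : Subgroup G) : Set G) := by
    rw [← Subgroup.coe_mul_of_left_le_normalizer_right _ _ hn]; exact hz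
  obtain ⟨k, hk, d, hd, rfl⟩ := hz'
  exact ⟨k, hk, d, hd, rfl, Subgroup.mem_centralizer_iff.1 hd.2 k hk⟩

theorem K_primes {x : G} (hx : x ∈ K) {r : ℕ} (hr : r.Prime) (hd : r ∣ orderOf x) : r ∉ Cfsg.sigma N :=
  (m.hall.2.1 r hr (hd.trans (Subgroup.orderOf_dvd_natCard _ hx))).2.2.1

theorem inf_eq : Cfsg.sigmaCore N ⊓ Z = Cfsg.sigmaCore N ⊓ Subgroup.centralizer (K : Set G) := by
  refine le_antisymm ?_ (le_inf inf_le_left (m.sup ▸ le_sup_right))
  rintro z ⟨hzσ, hz⟩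
  obtain ⟨k, hk, d, hd, rfl, -⟩ := m.sup_split hz
  have hkσ : k ∈ Cfsg.sigmaCore N := by
    have := mul_mem (show k * d ∈ Cfsg.sigmaCore N from hzσ) (inv_mem hd.1)
    rwa [mul_inv_cancel_right] at this
  have hk1 : k = 1 := by
    by_contra hk1
    obtain ⟨r, hr, hrd⟩ := Nat.exists_prime_and_dvd fun e => hk1 (orderOf_eq_one_iff.1 e)
    exact m.K_primes hk hr hrd (primes_of_mem_sigmaCore hkσ hr hrd)
  rw [hk1, one_mul]
  exact hd

theorem le_centralizer : K ≤ Subgroup.centralizer ((Cfsg.sigmaCore N ⊓ Z : Subgroup G) : Set G) := by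
  rw [m.inf_eq]
  exact Subgroup.le_centralizer_iff.1 inf_le_right

theorem normalizes : Z ≤ Subgroup.normalizer ((Cfsg.sigmaCore N ⊓ Z : Subgroup G) : Set G) :=
  (le_inf (m.Z_le.trans (le_normalizer_sigmaCore N)) Subgroup.le_normalizer).trans
    Subgroup.inf_normalizer_le_normalizer_inf

theorem normalizes_K : Z ≤ Subgroup.normalizer (K : Set G) := by
  rw [← m.sup]
  exact sup_le Subgroup.le_normalizer (inf_le_right.trans (Subgroup.centralizer_le_normalizer _))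

theorem inf_K : K ⊓ (Cfsg.sigmaCore N ⊓ Z) = ⊥ := by
  rw [Subgroup.eq_bot_iff_forall]
  rintro x ⟨hx, hxσ, -⟩
  by_contra hx1
  obtain ⟨r, hr, hrd⟩ := Nat.exists_prime_and_dvd fun e => hx1 (orderOf_eq_one_iff.1 e)
  exact m.K_primes hx hr hrd (primes_of_mem_sigmaCore hxσ hr hrd)

theorem card_eq : Nat.card Z = Nat.card K * Nat.card (Cfsg.sigmaCore N ⊓ Z : Subgroup G) := by
  have hsup : (Cfsg.sigmaCore N ⊓ Z) ⊔ K = Z := by rw [sup_comm, m.inf_eq, m.sup]
  have h := SolvBasic.card_sup_mul_card_inf (m.K_le.trans m.normalizes)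
  rw [hsup, inf_comm (Cfsg.sigmaCore N ⊓ Z) K, m.inf_K, Subgroup.card_bot, mul_one] at h
  rw [h, mul_comm]

/-- The `σ(N)'`-elements of `Z` lie in `K`. -/
theorem mem_K {z : G} (hz : z ∈ Z) (h : ∀ r : ℕ, r.Prime → r ∣ orderOf z → r ∉ Cfsg.sigma N) : z ∈ K := by
  obtain ⟨k, hk, d, hd, rfl, hkd⟩ := m.sup_split hz
  have h1 : k = k * d := part_unique {r : ℕ | r ∉ Cfsg.sigma N} hkd (Commute.one_right (k * d)) (mul_one _).symm
    (fun r hr hd' => m.K_primes hk hr hd') h (fun r hr hd' hn => hn (primes_of_mem_sigmaCore hd.1 hr hd'))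
    fun r hr hd' => absurd (Nat.dvd_one.1 (by rwa [orderOf_one] at hd')) hr.ne_one
  rw [← h1]
  exact hk

variable (hG : Cfsg.IsMinSimpleOddOrder G)
include hG

theorem factor : ∃ E U : Subgroup G, Cfsg.IsComplIn E (Cfsg.sigmaCore N) N ∧ Factor N E K U := by
  obtain ⟨E, hE, hKE⟩ := exists_compl_ge hG m.coatom m.hall
  obtain ⟨U, F⟩ := exists_factor hG m.coatom hE hKE m.hall m.ne
  exact ⟨E, U, hE, F⟩

theorem inf_ne_bot : Cfsg.sigmaCore N ⊓ Z ≠ ⊥ := by
  obtain ⟨E, U, -, F⟩ := m.factor hG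
  rw [m.inf_eq]
  exact F.fixed_ne

theorem prime_action {k : G} (hk : k ∈ K) (hk1 : k ≠ 1) :
    Cfsg.sigmaCore N ⊓ Subgroup.centralizer ({k} : Set G) = Cfsg.sigmaCore N ⊓ Z := by
  obtain ⟨E, U, -, F⟩ := m.factor hG
  rw [m.inf_eq]
  exact F.prime k hk hk1

theorem line_norm {X : Subgroup G} (hXK : X ≤ K) (hX : (Nat.card X).Prime) : K ≤ Subgroup.normalizer (X : Set G) := by
  obtain ⟨E, U, -, F⟩ := m.factor hG
  exact F.line X hXK hX

theorem line_eq {r : ℕ} [hr : Fact r.Prime] {X Y : Subgroup G} (hX : Nat.card X = r) (hXK : X ≤ K)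
    (hY : Nat.card Y = r) (hYK : Y ≤ K) : X = Y := by
  obtain ⟨E, U, -, F⟩ := m.factor hG
  exact F.cyclic_lines hG m.hall hX hXK hY hYK

theorem normalizer_line {X : Subgroup G} (hXK : X ≤ K) (hX : (Nat.card X).Prime) :
    N ⊓ Subgroup.normalizer (X : Set G) = Z := by
  obtain ⟨E, U, hE, F⟩ := m.factor hG
  haveI := Fact.mk hX
  rw [F.normalizer_of_subgroup hXK (line_ne_bot (r := Nat.card X) rfl) (F.line X hXK hX) hE, m.sup]

theorem conj_line_mem {r : ℕ} [hr : Fact r.Prime] {X : Subgroup G} (hX : Nat.card X = r)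
    (hXD : X ≤ Cfsg.sigmaCore N ⊓ Z) {g : G} (hg : X.map (MulAut.conj g).toMonoidHom ≤ N) : g ∈ N := by
  obtain ⟨E, U, hE, F⟩ := m.factor hG
  exact F.mem_of_conj_le hG m.coatom hE m.hall m.ne hX (m.inf_eq ▸ hXD) hg

theorem normalizer_line_le {r : ℕ} [hr : Fact r.Prime] {X : Subgroup G} (hX : Nat.card X = r)
    (hXD : X ≤ Cfsg.sigmaCore N ⊓ Z) : Subgroup.normalizer (X : Set G) ≤ N := fun g hg =>
  m.conj_line_mem hG hX hXD ((Subgroup.mem_normalizer_iff_map_conj_eq.1 hg).le.trans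
    (hXD.trans (inf_le_left.trans (sigmaCore_le N))))

theorem mem_of_conj {x g : G} (hx : x ∈ Cfsg.sigmaCore N ⊓ Z) (hx1 : x ≠ 1) (hg : g * x * g⁻¹ ∈ N) : g ∈ N := by
  obtain ⟨r, X, hr, hX, hXx⟩ := exists_line_zpowers hx1
  haveI := Fact.mk hr
  refine m.conj_line_mem hG hX (hXx.trans (Subgroup.zpowers_le.2 hx)) ((Subgroup.map_mono hXx).trans ?_)
  rw [MonoidHom.map_zpowers]
  exact Subgroup.zpowers_le.2 hg

theorem centralizer_le {x : G} (hx : x ∈ Cfsg.sigmaCore N ⊓ Z) (hx1 : x ≠ 1) :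
    Subgroup.centralizer ({x} : Set G) ≤ N := fun c hc => m.mem_of_conj hG hx hx1 (by
  rw [Subgroup.mem_centralizer_singleton_iff.1 hc, mul_inv_cancel_right]
  exact sigmaCore_le N hx.1)

/-- A conjugate in `N` of an element of `K^#` in `K` comes from `Z`. -/
theorem mem_Z_of_conj {k g : G} (hk : k ∈ K) (hk1 : k ≠ 1) (hgN : g ∈ N) (hg : g * k * g⁻¹ ∈ K) : g ∈ Z := by
  obtain ⟨r, X, hr, hX, hXk⟩ := exists_line_zpowers hk1
  haveI := Fact.mk hr
  have hY : X.map (MulAut.conj g).toMonoidHom ≤ K := by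
    refine (Subgroup.map_mono hXk).trans ?_
    rw [MonoidHom.map_zpowers]
    exact Subgroup.zpowers_le.2 hg
  have hXK : X ≤ K := hXk.trans (Subgroup.zpowers_le.2 hk)
  rw [← m.normalizer_line hG hXK (hX.symm ▸ hr)]
  exact ⟨hgN, Subgroup.mem_normalizer_iff_map_conj_eq.2 (m.line_eq hG
    (by rw [Subgroup.card_map_of_injective (MulAut.conj g).injective, hX]) hY hX hXK)⟩

/-- A `κ(N)`-subgroup of `N` meeting `K` in a line lies in `K`. -/
theorem le_K {r : ℕ} [hr : Fact r.Prime] {X W : Subgroup G} (hX : Nat.card X = r) (hXK : X ≤ K) (hXW : X ≤ W)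
    (hWN : W ≤ N) (hW : ∀ t : ℕ, t.Prime → t ∣ Nat.card W → t ∈ Cfsg.kappa N) : W ≤ K := by
  haveI := MinSimple.isSolvable hG m.coatom.1
  have hcard : Nat.card N = Nat.card K * K.relIndex N := by
    have := Subgroup.relIndex_mul_relIndex ⊥ K N bot_le m.hall.1
    rw [Subgroup.relIndex_bot_left, Subgroup.relIndex_bot_left] at this
    exact this.symm
  obtain ⟨⟨g, hg⟩, hle⟩ := HallSolv.hall_conj_le (G := N) hcard
    (Nat.coprime_of_dvd fun t ht h1 h2 => m.hall.2.2 t ht (m.hall.2.1 t ht h1) h2)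
    (H := K.subgroupOf N) (K := W.subgroupOf N) (Nat.card_congr (Subgroup.subgroupOfEquivOfLe m.hall.1).toEquiv)
    (Nat.coprime_of_dvd fun t ht h1 h2 => m.hall.2.2 t ht
      (hW t ht (by rwa [Nat.card_congr (Subgroup.subgroupOfEquivOfLe hWN).toEquiv] at h1)) h2)
  have hgW : W.map (MulAut.conj g).toMonoidHom ≤ K := by
    rintro _ ⟨x, hx, rfl⟩
    exact hle (Subgroup.smul_mem_pointwise_smul (⟨x, hWN hx⟩ : N) (MulAut.conj (⟨g, hg⟩ : N)) (W.subgroupOf N) hx)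
  obtain ⟨x, hx, hx1⟩ := Plane.exists_ne_one hX
  have hgZ : g ∈ Z := m.mem_Z_of_conj hG (hXK hx) hx1 hg (hgW ⟨x, hXW hx, rfl⟩)
  intro w hw
  exact (Subgroup.mem_normalizer_iff.1 (m.normalizes_K hgZ) w).2 (hgW ⟨w, hw, rfl⟩)

omit m in
/-- Members with meeting sets `σ` are equal. -/
theorem eq_of_sigma {N' K' : Subgroup G} (m : Member Z N K) (m' : Member Z N' K') {t : ℕ}
    (h : t ∈ Cfsg.sigma N) (h' : t ∈ Cfsg.sigma N') : N' = N := by
  obtain ⟨g, rfl⟩ := SigmaDisj.conj_of_sigma hG m.coatom m'.coatom h h'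
  obtain ⟨x, hx, hx1⟩ := (Subgroup.bot_or_exists_ne_one _).resolve_left (m'.inf_ne_bot hG)
  have hxσ : x ∈ Cfsg.sigmaCore N := le_sigmaCore_of_primes hG m.coatom (Y := Subgroup.zpowers x)
    (Subgroup.zpowers_le.2 (m.Z_le hx.2)) (fun r hr hd => by
      rw [Nat.card_zpowers] at hd
      exact (sigma_conj_iff g).1 (primes_of_mem_sigmaCore hx.1 hr hd)) (Subgroup.mem_zpowers x)
  obtain ⟨c, hc, hcg⟩ := conj_eq hG m.coatom hxσ hx1 (sigmaCore_le _ hx.1)
  rw [← hcg, map_conj_of_mem (m.centralizer_le hG ⟨hxσ, hx.2⟩ hx1 hc)]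

/-- BG 14.7(a): a maximal subgroup over the normalizer of a line of `K` is a member. -/
theorem exists_partner {r : ℕ} [hr : Fact r.Prime] {X : Subgroup G} (hX : Nat.card X = r) (hXK : X ≤ K)
    {N' : Subgroup G} (hN' : IsCoatom N') (hNX : Subgroup.normalizer (X : Set G) ≤ N') :
    X ≤ Cfsg.sigmaCore N' ∧ ∃ K' : Subgroup G, Member Z N' K' := by
  obtain ⟨E, U, hE, F⟩ := m.factor hG
  have hXσ : X ≤ Cfsg.sigmaCore N' := F.sigma X hXK (hX.symm ▸ hr.out) N' hN' hNX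
  refine ⟨hXσ, ?_⟩
  have hrN' : r ∈ Cfsg.sigma N' := mem_sigma_of_dvd hr.out (hX ▸ Subgroup.card_dvd_of_le hXσ)
  have hrN : r ∉ Cfsg.sigma N := (m.hall.2.1 r hr.out (hX ▸ Subgroup.card_dvd_of_le hXK)).2.2.1
  have hdis : ∀ t, t ∈ Cfsg.sigma N → t ∉ Cfsg.sigma N' := fun t h h' => by
    obtain ⟨g, rfl⟩ := SigmaDisj.conj_of_sigma hG m.coatom hN' h h'
    exact hrN ((sigma_conj_iff g).1 hrN')
  set D := Cfsg.sigmaCore N ⊓ Z with hD
  have hDX : D ≤ Subgroup.centralizer (X : Set G) :=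
    (Subgroup.le_centralizer_iff.1 m.le_centralizer).trans (Subgroup.centralizer_le hXK)
  have hDN' : D ≤ N' := (hDX.trans (Subgroup.centralizer_le_normalizer _)).trans hNX
  obtain ⟨x, hx, hx1⟩ := Plane.exists_ne_one hX
  -- the primes of `D` lie in `κ(N')`
  have hDκ : ∀ t : ℕ, t.Prime → t ∣ Nat.card D → t ∈ Cfsg.kappa N' := by
    intro t ht htd
    haveI := Fact.mk ht
    obtain ⟨Y, hYD, hY⟩ := exists_line_of_dvd ht htd
    obtain ⟨y, hy, hy1⟩ := Plane.exists_ne_one hY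
    have hyo : orderOf y = t := by rw [← Nat.card_zpowers, Plane.zpowers_eq hY hy hy1, hY]
    have hyx : y * x = x * y := (Subgroup.mem_centralizer_iff.1 (hDX (hYD hy)) x hx).symm
    rcases S1432.result hG N' hN' x (hXσ hx) hx1 y ⟨hDN' (hYD hy), Subgroup.mem_centralizer_singleton_iff.2 hyx⟩ hy1
      (fun s hs hsd => hdis s (primes_of_mem_sigmaCore (hYD hy).1 hs hsd)) with ⟨hκ, -⟩ | ⟨-, -, -, hu⟩
    · exact hκ t ht (dvd_of_eq hyo.symm)
    · exact absurd (hu N m.coatom (m.centralizer_le hG (hYD hy) hy1)) fun e => hrN (e ▸ hrN')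
  haveI := MinSimple.isSolvable hG hN'.1
  obtain ⟨K', hK', hDK'⟩ := exists_piHall (Cfsg.kappa N') hDN' hDκ
  have hK'1 : K' ≠ ⊥ := fun e => m.inf_ne_bot hG (le_bot_iff.1 (e ▸ hDK'))
  have m₀ : Member (K' ⊔ (Cfsg.sigmaCore N' ⊓ Subgroup.centralizer (K' : Set G))) N' K' := ⟨hN', hK', hK'1, rfl⟩
  set D' := Cfsg.sigmaCore N' ⊓ Subgroup.centralizer (K' : Set G) with hD'
  obtain ⟨y, hy, hy1⟩ := (Subgroup.bot_or_exists_ne_one _).resolve_left (m.inf_ne_bot hG)
  have hpr : Cfsg.sigmaCore N' ⊓ Subgroup.centralizer ({y} : Set G) = D' := by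
    rw [m₀.prime_action hG (hDK' hy) hy1, m₀.inf_eq]
  have hXD' : X ≤ D' := by
    rw [← hpr]
    exact le_inf hXσ fun a ha => Subgroup.mem_centralizer_singleton_iff.2
      (Subgroup.mem_centralizer_iff.1 (hDX hy) a ha)
  obtain ⟨s, Y, hs, hY, hYy⟩ := exists_line_zpowers hy1
  haveI := Fact.mk hs
  have hYD : Y ≤ D := hYy.trans (Subgroup.zpowers_le.2 hy)
  have hK'N : K' ≤ N := (m₀.line_norm hG (hYD.trans hDK') (hY.symm ▸ hs)).trans (m.normalizer_line_le hG hY hYD)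
  have hK'Z : K' ≤ Z := by
    rw [← m.normalizer_line hG hXK (hX.symm ▸ hr.out)]
    exact le_inf hK'N ((Subgroup.le_centralizer_iff.1 (inf_le_right : D' ≤ _)).trans
      ((Subgroup.centralizer_le hXD').trans (Subgroup.centralizer_le_normalizer _)))
  have hD'N : D' ≤ N := inf_le_right.trans ((Subgroup.centralizer_le (hYD.trans hDK')).trans
    ((Subgroup.centralizer_le_normalizer _).trans (m.normalizer_line_le hG hY hYD)))
  have hD'κ : ∀ t : ℕ, t.Prime → t ∣ Nat.card D' → t ∈ Cfsg.kappa N := by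
    intro t ht htd
    haveI := Fact.mk ht
    obtain ⟨W, hWD', hW⟩ := exists_line_of_dvd ht htd
    obtain ⟨w, hw, hw1⟩ := Plane.exists_ne_one hW
    have hwo : orderOf w = t := by rw [← Nat.card_zpowers, Plane.zpowers_eq hW hw hw1, hW]
    have hwy : w * y = y * w := (Subgroup.mem_centralizer_iff.1 (hWD' hw).2 y (hDK' hy)).symm
    rcases S1432.result hG N m.coatom y hy.1 hy1 w ⟨hD'N (hWD' hw), Subgroup.mem_centralizer_singleton_iff.2 hwy⟩ hw1
      (fun a ha had haN => hdis a haN (primes_of_mem_sigmaCore (hWD' hw).1 ha had)) with ⟨hκ, -⟩ | ⟨-, -, -, hu⟩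
    · exact hκ t ht (dvd_of_eq hwo.symm)
    · refine absurd (hu N' hN' ?_) fun e => hrN (e ▸ hrN')
      exact m₀.centralizer_le hG (m₀.inf_eq ▸ hWD' hw) hw1
  have hD'K : D' ≤ K := m.le_K hG hX hXK hXD' hD'N hD'κ
  refine ⟨K', hN', hK', hK'1, le_antisymm (sup_le hK'Z (hD'K.trans m.K_le)) ?_⟩
  rw [← m.sup, ← m.inf_eq]
  refine sup_le ?_ (hDK'.trans le_sup_left)
  intro k hk
  have hkN' : k ∈ N' := hNX (m.line_norm hG hXK (hX.symm ▸ hr.out) hk)
  obtain ⟨E', U', hE', F'⟩ := m₀.factor hG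
  have hky : k ∈ Subgroup.normalizer (Y : Set G) :=
    Subgroup.centralizer_le_normalizer _ ((m.le_centralizer.trans (Subgroup.centralizer_le hYD)) hk)
  exact (m₀.normalizer_line hG (hYD.trans hDK') (hY.symm ▸ hs)).le ⟨hkN', hky⟩

/-- Every prime divisor of `|Z|` lies in `σ` of a member. -/
theorem cover {t : ℕ} (ht : t.Prime) (htd : t ∣ Nat.card Z) :
    ∃ N' K' : Subgroup G, Member Z N' K' ∧ t ∈ Cfsg.sigma N' := by
  haveI := Fact.mk ht
  rw [m.card_eq] at htd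
  rcases ht.dvd_mul.1 htd with h | h
  · obtain ⟨X, hXK, hX⟩ := exists_line_of_dvd ht h
    obtain ⟨N', hN', hNX⟩ := Uniq.exists_maximal_ge (MinSimple.normalizer_ne_top hG (line_ne_bot hX)
      (MinSimple.pSubgroup_ne_top hG (line_pgroup hX)))
    obtain ⟨hXσ, K', m'⟩ := m.exists_partner hG hX hXK hN' hNX
    exact ⟨N', K', m', mem_sigma_of_dvd ht (hX ▸ Subgroup.card_dvd_of_le hXσ)⟩
  · exact ⟨N, K, m, mem_sigma_of_dvd ht (h.trans (Subgroup.card_dvd_of_le inf_le_left))⟩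

end Member

end Cfsg.Agent.OddOrder.Pairing
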