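/-
Counting the conjugates of `T = Z \ ⋃ (N_σ ∩ Z)`: some member of the family of `Z` has `U ≠ 1` (BG 14.7).
-/
import Cfsg.Agent.Lib.OddOrder.PartnerMember
import Cfsg.Agent.S1429
import Cfsg.Agent.S1446

set_option autoImplicit false
set_option linter.style.haveILetI false
set_option linter.unusedSectionVars false

namespace Cfsg.Agent.OddOrder.Pairing

open scoped commutatorElement IsMulCommutative Pointwise
open Exceptional TauOne Kappa Support
open Tau3 (line_pgroup line_ne_bot)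

universe u

variable {G : Type u} [Group G] [Finite G] {M N Z K : Subgroup G}

/-- The members of `Z`. -/
def members (Z : Subgroup G) : Set (Subgroup G) := {N | ∃ K, Member Z N K}

/-- The elements of `Z` outside every component. -/
def outer (Z : Subgroup G) : Set G := {z | z ∈ Z ∧ ∀ N ∈ members Z, z ∉ Cfsg.sigmaCore N}

/-- The conjugates of `outer Z`. -/
def conjOuter (Z : Subgroup G) : Set G := {a | ∃ g : G, ∃ z ∈ outer Z, a = g * z * g⁻¹}

/-- Commuting factors of coprime orders are powers of the product. -/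
theorem mem_zpowers_mul {x r : G} (h : Commute x r) (hcop : (orderOf r).Coprime (orderOf x)) :
    x ∈ Subgroup.zpowers (x * r) := by
  obtain ⟨i, hi⟩ := exists_pow_eq_self_of_coprime hcop
  have : (x * r) ^ orderOf r = x ^ orderOf r := by rw [h.mul_pow, pow_orderOf_eq_one, mul_one]
  have h1 := Subgroup.pow_mem (Subgroup.zpowers (x * r)) (Subgroup.mem_zpowers (x * r)) (orderOf r * i)
  rwa [pow_mul, this, hi] at h1

/-- The sets `M̃_σ` of nonconjugate maximal subgroups are disjoint. -/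
theorem tilde_disjoint (hG : Cfsg.IsMinSimpleOddOrder G) (hM : IsCoatom M) (hN : IsCoatom N)
    (hnc : ∀ g : G, N ≠ M.map (MulAut.conj g).toMonoidHom) :
    Disjoint (Cfsg.tildeOf M ((Cfsg.sigmaCore M : Set G) \ {1})) (Cfsg.tildeOf N ((Cfsg.sigmaCore N : Set G) \ {1})) := by
  rw [Set.disjoint_left]
  rintro w ⟨a, ⟨ha, ha1⟩, r, hr, y, hw⟩ ⟨b, ⟨hb, hb1⟩, s, hs, y', hw'⟩
  have ha1' : a ≠ 1 := fun e => ha1 (Set.mem_singleton_iff.2 e)
  have hb1' : b ≠ 1 := fun e => hb1 (Set.mem_singleton_iff.2 e)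
  set h := y'⁻¹ * y with hh
  have hha := (sigmaCore_conj (M := M) h).ge ⟨a, ha, rfl⟩
  refine coset_disjoint hG (coatom_conj hM h) hN hha hb (fun e => ha1' (conj_eq_one_iff.1 e)) hb1' ?_
    (supportR_conj_le hG hM ha ha1' hr h) hs ?_
  · intro e
    obtain ⟨t, ht, htd⟩ := Nat.exists_prime_and_dvd fun e' => hb1' (orderOf_eq_one_iff.1 e')
    have e' : h * a * h⁻¹ = b := e
    have htM : t ∈ Cfsg.sigma M := primes_of_mem_sigmaCore ha ht (by
      rwa [← e', ← MulAut.conj_apply, MulEquiv.orderOf_eq] at htd)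
    obtain ⟨g, hg⟩ := SigmaDisj.conj_of_sigma hG hM hN htM (primes_of_mem_sigmaCore hb ht htd)
    exact hnc g hg
  · show h * a * h⁻¹ * (h * r * h⁻¹) = b * s
    calc h * a * h⁻¹ * (h * r * h⁻¹) = y'⁻¹ * (y * (a * r) * y⁻¹) * y' := by rw [hh]; group
      _ = y'⁻¹ * (y' * (b * s) * y'⁻¹) * y' := by rw [← hw, hw']
      _ = b * s := by group

theorem one_not_mem_outer {N K : Subgroup G} (m : Member Z N K) : (1 : G) ∉ outer Z := fun h =>
  h.2 N ⟨K, m⟩ (one_mem _)

variable (hG : Cfsg.IsMinSimpleOddOrder G) (m : Member Z M K)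
include hG m

/-- An element of `outer Z` has a nontrivial part in the component and outside, for some member. -/
theorem exists_split {z : G} (hz : z ∈ outer Z) :
    ∃ N K' : Subgroup G, Member Z N K' ∧ ∃ k ∈ K', k ≠ 1 ∧ ∃ d ∈ Cfsg.sigmaCore N ⊓ Z, d ≠ 1 ∧ z = k * d ∧ Commute k d := by
  have hz1 : z ≠ 1 := fun e => one_not_mem_outer m (e ▸ hz)
  obtain ⟨r, hr, hrd⟩ := Nat.exists_prime_and_dvd fun e => hz1 (orderOf_eq_one_iff.1 e)
  obtain ⟨N, K', m', hrN⟩ := m.cover hG hr (hrd.trans (Subgroup.orderOf_dvd_natCard _ hz.1))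
  obtain ⟨k, hk, d, hd, rfl, hkd⟩ := m'.sup_split hz.1
  refine ⟨N, K', m', k, hk, ?_, d, m'.inf_eq.ge hd, ?_, rfl, hkd⟩
  · intro e
    exact hz.2 N ⟨K', m'⟩ (by rw [e, one_mul]; exact hd.1)
  · intro e
    rw [e, mul_one] at hrd
    exact m'.K_primes hk hr hrd hrN

theorem mem_Z_of_outer {z g : G} (hz : z ∈ outer Z) (hg : g * z * g⁻¹ ∈ outer Z) : g ∈ Z := by
  obtain ⟨N, K', m', k, hk, hk1, d, hd, hd1, rfl, hkd⟩ := exists_split hG m hz
  obtain ⟨k', hk', d', hd', he, hkd'⟩ := m'.sup_split hg.1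
  have hdd : g * d * g⁻¹ = d' := by
    refine part_unique (Cfsg.sigma N) (r := g * k * g⁻¹) (s := k') ?_ hkd'.symm ?_ (fun t ht htd => ?_)
      (fun t ht htd => primes_of_mem_sigmaCore hd'.1 ht htd) (fun t ht htd => ?_) fun t ht htd => m'.K_primes hk' ht htd
    · exact (Commute.conj_iff g).2 hkd.symm
    · rw [← hkd'.eq, ← he, hkd.eq]; group
    · rw [← MulAut.conj_apply, MulEquiv.orderOf_eq] at htd
      exact primes_of_mem_sigmaCore hd.1 ht htd
    · rw [← MulAut.conj_apply, MulEquiv.orderOf_eq] at htd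
      exact m'.K_primes hk ht htd
  have hgN : g ∈ N := m'.mem_of_conj hG hd hd1 (hdd ▸ sigmaCore_le N hd'.1)
  refine m'.mem_Z_of_conj hG hk hk1 hgN ?_
  have : g * k * g⁻¹ = k' := by
    apply mul_right_cancel (b := g * d * g⁻¹)
    calc g * k * g⁻¹ * (g * d * g⁻¹) = g * (k * d) * g⁻¹ := by group
      _ = k' * d' := he
      _ = k' * (g * d * g⁻¹) := by rw [hdd]
  exact this ▸ hk'

theorem conj_mem_outer {z g : G} (hg : g ∈ Z) (hz : z ∈ outer Z) : g * z * g⁻¹ ∈ outer Z := by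
  refine ⟨Z.mul_mem (Z.mul_mem hg hz.1) (Z.inv_mem hg), fun N hN h => hz.2 N hN ?_⟩
  obtain ⟨K', m'⟩ := hN
  exact (Subgroup.mem_normalizer_iff.1 (le_normalizer_sigmaCore N (m'.Z_le hg)) z).2 h

theorem outer_nonempty : (outer Z).Nonempty := by
  obtain ⟨d, hd, hd1⟩ := (Subgroup.bot_or_exists_ne_one _).resolve_left (m.inf_ne_bot hG)
  obtain ⟨k, hk, hk1⟩ := (Subgroup.bot_or_exists_ne_one K).resolve_left m.ne
  have hkd : Commute k d := (Subgroup.mem_centralizer_iff.1 (m.le_centralizer hk) d hd).symm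
  have hcop : (orderOf d).Coprime (orderOf k) := Nat.coprime_of_dvd fun t ht h1 h2 =>
    m.K_primes hk ht h2 (primes_of_mem_sigmaCore hd.1 ht h1)
  refine ⟨k * d, Z.mul_mem (m.K_le hk) hd.2, fun N hN h => ?_⟩
  obtain ⟨K', m'⟩ := hN
  have hdN : d ∈ Cfsg.sigmaCore N := by
    have h1 := mem_zpowers_mul hkd.symm hcop.symm
    rw [← hkd.eq] at h1
    exact Subgroup.zpowers_le.2 h h1
  have hkN : k ∈ Cfsg.sigmaCore N := Subgroup.zpowers_le.2 h (mem_zpowers_mul hkd hcop)
  obtain ⟨t, ht, htd⟩ := Nat.exists_prime_and_dvd fun e => hd1 (orderOf_eq_one_iff.1 e)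
  have heq := Member.eq_of_sigma hG m m' (primes_of_mem_sigmaCore hd.1 ht htd) (primes_of_mem_sigmaCore hdN ht htd)
  obtain ⟨s, hs, hsd⟩ := Nat.exists_prime_and_dvd fun e => hk1 (orderOf_eq_one_iff.1 e)
  exact m.K_primes hk hs hsd (primes_of_mem_sigmaCore (heq ▸ hkN) hs hsd)

/-- `outer Z` is a TI-subset with normalizer `Z`. -/
theorem normalizer_outer : Subgroup.normalizer (outer Z) = Z := by
  refine le_antisymm (fun g hg => ?_) fun g hg => Subgroup.mem_set_normalizer_iff.2 fun h =>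
    ⟨conj_mem_outer hG m hg, fun hh => ?_⟩
  · obtain ⟨z, hz⟩ := outer_nonempty hG m
    exact mem_Z_of_outer hG m hz ((Subgroup.mem_set_normalizer_iff.1 hg z).1 hz)
  · have := conj_mem_outer hG m (Z.inv_mem hg) hh
    simpa [mul_assoc] using this

theorem ti_outer : Cfsg.IsTISubset (outer Z) := fun g hg x hx hgx =>
  absurd ((normalizer_outer hG m).ge (mem_Z_of_outer hG m hx hgx)) hg

theorem ncard_conjOuter : (conjOuter Z).ncard = Z.index * (outer Z).ncard := by
  rw [Subgroup.index_eq_card, ← Set.ncard_univ, ← Set.ncard_prod]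
  symm
  refine Set.ncard_congr (fun P _ => (Quotient.out P.1 : G) * P.2 * (Quotient.out P.1 : G)⁻¹) ?_ ?_ ?_
  · rintro ⟨c, z⟩ ⟨-, hz⟩
    exact ⟨_, z, hz, rfl⟩
  · rintro ⟨c, z⟩ ⟨c', z'⟩ ⟨-, hz⟩ ⟨-, hz'⟩ he
    set g := (Quotient.out c : G)
    set g' := (Quotient.out c' : G)
    have he' : g * z * g⁻¹ = g' * z' * g'⁻¹ := he
    have h1 : g'⁻¹ * g * z * (g'⁻¹ * g)⁻¹ = z' := by
      calc g'⁻¹ * g * z * (g'⁻¹ * g)⁻¹ = g'⁻¹ * (g * z * g⁻¹) * g' := by group
        _ = z' := by rw [he']; group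
    have hcc : c = c' := by
      rw [← QuotientGroup.out_eq' c, ← QuotientGroup.out_eq' c']
      exact (QuotientGroup.eq.2 (mem_Z_of_outer hG m hz (h1 ▸ hz'))).symm
    subst hcc
    exact Prod.ext rfl (mul_left_cancel (mul_right_cancel he'))
  · rintro _ ⟨g, z, hz, rfl⟩
    obtain ⟨u, hu⟩ := QuotientGroup.mk_out_eq_mul Z g
    refine ⟨((g : G ⧸ Z), (u : G)⁻¹ * z * u), ⟨Set.mem_univ _, ?_⟩, ?_⟩
    · have := conj_mem_outer hG m (Z.inv_mem u.2) hz
      rwa [inv_inv] at this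
    · show (Quotient.out (g : G ⧸ Z) : G) * ((u : G)⁻¹ * z * u) * (Quotient.out (g : G ⧸ Z) : G)⁻¹ = g * z * g⁻¹
      rw [hu]
      group

/-- The conjugates of `outer Z` avoid every `Ñ_σ`. -/
theorem conjOuter_disjoint {N₀ : Subgroup G} (hN₀ : IsCoatom N₀) :
    Disjoint (conjOuter Z) (Cfsg.tildeOf N₀ ((Cfsg.sigmaCore N₀ : Set G) \ {1})) := by
  rw [Set.disjoint_left]
  rintro w ⟨g, z, hz, rfl⟩ ⟨a, ⟨ha, ha1⟩, r, hr, y, hw⟩
  have ha1' : a ≠ 1 := fun e => ha1 (Set.mem_singleton_iff.2 e)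
  set h := g⁻¹ * y with hh
  set a' := h * a * h⁻¹
  set r' := h * r * h⁻¹
  set L := N₀.map (MulAut.conj h).toMonoidHom with hL
  have hLc : IsCoatom L := coatom_conj hN₀ h
  have haL : a' ∈ Cfsg.sigmaCore L := (sigmaCore_conj h).ge ⟨a, ha, rfl⟩
  have ha1'' : a' ≠ 1 := fun e => ha1' (conj_eq_one_iff.1 e)
  have hrL : r' ∈ Cfsg.supportR L a' := supportR_conj_le hG hN₀ ha ha1' hr h
  have hzar : z = a' * r' := by
    calc z = g⁻¹ * (g * z * g⁻¹) * g := by group
      _ = g⁻¹ * (y * (a * r) * y⁻¹) * g := by rw [hw]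
      _ = h * a * h⁻¹ * (h * r * h⁻¹) := by rw [hh]; group
  have hcop : (orderOf r').Coprime (orderOf a') := Nat.coprime_of_dvd fun t ht h1 h2 => by
    rcases supportR_cases hG hLc haL ha1'' with ⟨-, he⟩ | ⟨L', -, -, -, -, hdis, -, he⟩ <;> rw [he] at hrL
    · rw [Subgroup.mem_bot.1 hrL, orderOf_one] at h1
      exact ht.ne_one (Nat.dvd_one.1 h1)
    · exact hdis t (primes_of_mem_sigmaCore haL ht h2) (primes_of_mem_sigmaCore hrL.1 ht h1)
  have haz : a' ∈ Subgroup.zpowers z := hzar ▸ mem_zpowers_mul (commute_supportR hG hLc haL ha1'' hrL) hcop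
  have haZ : a' ∈ Z := Subgroup.zpowers_le.2 hz.1 haz
  obtain ⟨t, ht, htd⟩ := Nat.exists_prime_and_dvd fun e => ha1'' (orderOf_eq_one_iff.1 e)
  obtain ⟨N, K', m', htN⟩ := m.cover hG ht (htd.trans (Subgroup.orderOf_dvd_natCard _ haZ))
  obtain ⟨c, hc⟩ := SigmaDisj.conj_of_sigma hG m'.coatom hLc htN (primes_of_mem_sigmaCore haL ht htd)
  have haN : a' ∈ Cfsg.sigmaCore N := le_sigmaCore_of_primes hG m'.coatom (Y := Subgroup.zpowers a')
    (Subgroup.zpowers_le.2 (m'.Z_le haZ)) (fun s hs hsd => by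
      rw [Nat.card_zpowers] at hsd
      exact (sigma_conj_iff c).1 (hc ▸ primes_of_mem_sigmaCore haL hs hsd)) (Subgroup.mem_zpowers a')
  have hC := m'.centralizer_le hG ⟨haN, haZ⟩ ha1''
  obtain ⟨e, he, heq⟩ := conj_eq hG m'.coatom haN ha1'' (hc ▸ sigmaCore_le _ haL)
  have hLN : L = N := by rw [hc, ← heq, map_conj_of_mem (hC he)]
  rw [hLN] at hrL
  rcases supportR_cases hG m'.coatom haN ha1'' with ⟨-, hR⟩ | ⟨L', -, hno, -⟩
  · rw [hR] at hrL
    rw [Subgroup.mem_bot.1 hrL, mul_one] at hzar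
    exact hz.2 N ⟨K', m'⟩ (hzar ▸ haN)
  · exact hno hC

/-- `|Z| + n = |outer Z| + 1 + ∑ |N_σ ∩ Z|`. -/
theorem ncard_outer (S : Finset (Subgroup G)) (hS : ∀ N, N ∈ S ↔ N ∈ members Z) :
    Nat.card Z + S.card = (outer Z).ncard + 1 + ∑ N ∈ S, Nat.card (Cfsg.sigmaCore N ⊓ Z : Subgroup G) := by
  classical
  letI := Fintype.ofFinite G
  set f : Subgroup G → Finset G := fun N => Finset.univ.filter fun x => x ∈ Cfsg.sigmaCore N ⊓ Z ∧ x ≠ 1 with hf
  have hfc : ∀ N : Subgroup G, (f N).card + 1 = Nat.card (Cfsg.sigmaCore N ⊓ Z : Subgroup G) := by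
    intro N
    set D := (Cfsg.sigmaCore N ⊓ Z : Subgroup G)
    have h1 : f N = (Finset.univ.filter fun x => x ∈ D).erase 1 := by
      ext x; simp [hf, D, and_comm]
    rw [h1, Finset.card_erase_of_mem (by simp), Nat.sub_add_cancel (Finset.card_pos.2 ⟨1, by simp⟩),
      Nat.card_eq_fintype_card, ← Fintype.card_subtype]
  have hdisj : (S : Set (Subgroup G)).PairwiseDisjoint f := by
    intro N hN N' hN' hne
    rw [Function.onFun, Finset.disjoint_left]
    intro x hx hx'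
    simp only [hf, Finset.mem_filter, Finset.mem_univ, true_and] at hx hx'
    obtain ⟨K₁, m₁⟩ := (hS N).1 hN
    obtain ⟨K₂, m₂⟩ := (hS N').1 hN'
    obtain ⟨t, ht, htd⟩ := Nat.exists_prime_and_dvd fun e => hx.2 (orderOf_eq_one_iff.1 e)
    exact hne (Member.eq_of_sigma hG m₁ m₂ (primes_of_mem_sigmaCore hx.1.1 ht htd)
      (primes_of_mem_sigmaCore hx'.1.1 ht htd)).symm
  set zs := Finset.univ.filter fun x => x ∈ Z with hzs
  set t := Finset.univ.filter fun x => x ∈ outer Z with hts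
  have hunion : zs = insert 1 (t ∪ S.biUnion f) := by
    ext x
    simp only [hzs, hts, hf, Finset.mem_filter, Finset.mem_univ, true_and, Finset.mem_insert, Finset.mem_union,
      Finset.mem_biUnion]
    constructor
    · intro hx
      by_cases hx1 : x = 1
      · exact Or.inl hx1
      by_cases hxo : x ∈ outer Z
      · exact Or.inr (Or.inl hxo)
      simp only [outer, Set.mem_setOf_eq, hx, true_and, not_forall, not_not] at hxo
      obtain ⟨N, hN, hxN⟩ := hxo
      exact Or.inr (Or.inr ⟨N, (hS N).2 hN, ⟨hxN, hx⟩, hx1⟩)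
    · rintro (rfl | h | ⟨N, -, h, -⟩)
      exacts [Z.one_mem, h.1, h.2]
  have h1 : (1 : G) ∉ t ∪ S.biUnion f := by
    simp only [hts, hf, Finset.mem_filter, Finset.mem_univ, true_and, Finset.mem_union, Finset.mem_biUnion]
    rintro (h | ⟨N, -, -, h⟩)
    exacts [one_not_mem_outer m h, h rfl]
  have h2 : Disjoint t (S.biUnion f) := by
    rw [Finset.disjoint_left]
    intro x hx hx'
    simp only [hts, Finset.mem_filter, Finset.mem_univ, true_and] at hx
    simp only [hf, Finset.mem_filter, Finset.mem_univ, true_and, Finset.mem_biUnion] at hx'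
    obtain ⟨N, hN, hxN, -⟩ := hx'
    exact hx.2 N ((hS N).1 hN) hxN.1
  have hz : Nat.card Z = zs.card := by rw [hzs, Nat.card_eq_fintype_card, ← Fintype.card_subtype]
  have ho : (outer Z).ncard = t.card := by
    rw [← Set.ncard_coe_finset t]
    congr 1
    ext x; simp [hts]
  have hsum : ∑ N ∈ S, Nat.card (Cfsg.sigmaCore N ⊓ Z : Subgroup G) = (∑ N ∈ S, (f N).card) + S.card := by
    rw [← Finset.sum_congr rfl fun N _ => hfc N, Finset.sum_add_distrib, Finset.sum_const, smul_eq_mul, mul_one]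
  rw [hz, ho, hsum, hunion, Finset.card_insert_of_notMem h1, Finset.card_union_of_disjoint h2,
    Finset.card_biUnion hdisj]
  omega

omit m in
theorem three_mul_card_le {N K' : Subgroup G} (m' : Member Z N K') :
    3 * Nat.card (Cfsg.sigmaCore N ⊓ Z : Subgroup G) ≤ Nat.card (Cfsg.sigmaCore N) := by
  obtain ⟨-, -, hsyl, -⟩ := S1431.result hG N m'.coatom K' m'.hall m'.ne
  set D := (Cfsg.sigmaCore N ⊓ Z : Subgroup G) with hD
  obtain ⟨p, hp, hpd⟩ := Nat.exists_prime_and_dvd fun e => m'.inf_ne_bot hG (Subgroup.card_eq_one.1 e)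
  haveI := Fact.mk hp
  have hne : ¬ Cfsg.sigmaCore N ≤ D := fun h => (hsyl p hp (m'.inf_eq ▸ hpd) default).2.2
    ((Subgroup.map_subtype_le _).trans (h.trans m'.inf_eq.le))
  have h1 := Subgroup.relIndex_mul_relIndex ⊥ D (Cfsg.sigmaCore N) bot_le inf_le_left
  rw [Subgroup.relIndex_bot_left, Subgroup.relIndex_bot_left] at h1
  have hodd : Odd (D.relIndex (Cfsg.sigmaCore N)) :=
    (hG.1.of_dvd_nat (Cfsg.sigmaCore N).card_subgroup_dvd_card).of_dvd_nat (Dvd.intro_left _ h1)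
  have h2 : D.relIndex (Cfsg.sigmaCore N) ≠ 1 := fun e => hne (Subgroup.relIndex_eq_one.1 e)
  obtain ⟨j, hj⟩ := hodd
  rw [← h1, mul_comm 3]
  exact Nat.mul_le_mul_left _ (by omega)

/-- Some member has order larger than `|K'| |N_σ|`. -/
theorem exists_large : ∃ N K' : Subgroup G, Member Z N K' ∧
    Nat.card N ≠ Nat.card K' * Nat.card (Cfsg.sigmaCore N) := by
  classical
  letI := Fintype.ofFinite G
  by_contra hno
  push Not at hno
  set S := (Set.toFinite (members Z)).toFinset with hSdef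
  have hS : ∀ N, N ∈ S ↔ N ∈ members Z := fun N => (Set.toFinite (members Z)).mem_toFinset
  -- the members are at least two
  have hn : 2 ≤ S.card := by
    obtain ⟨r, hr, hrd⟩ := Nat.exists_prime_and_dvd fun e => m.ne (Subgroup.card_eq_one.1 e)
    obtain ⟨N, K', m', hrN⟩ := m.cover hG hr (hrd.trans (Subgroup.card_dvd_of_le m.K_le))
    have hne : M ≠ N := fun e => (m.hall.2.1 r hr hrd).2.2.1 (e ▸ hrN)
    exact Finset.one_lt_card.2 ⟨M, (hS M).2 ⟨K, m⟩, N, (hS N).2 ⟨K', m'⟩, hne⟩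
  set tl : Subgroup G → Set G := fun N => Cfsg.tildeOf N ((Cfsg.sigmaCore N : Set G) \ {1})
  have hdisj : (S : Set (Subgroup G)).PairwiseDisjoint fun N => (tl N).toFinset := by
    intro N hN N' hN' hne
    rw [Function.onFun, Set.disjoint_toFinset]
    obtain ⟨K₁, m₁⟩ := (hS N).1 hN
    obtain ⟨K₂, m₂⟩ := (hS N').1 hN'
    refine tilde_disjoint hG m₁.coatom m₂.coatom fun g hg => hne ?_
    obtain ⟨t, ht⟩ := exists_sigma hG m₁.coatom (coatom_ne_bot hG m₁.coatom)
    exact (Member.eq_of_sigma hG m₁ m₂ ht (hg ▸ sigma_conj g ht)).symm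
  have hsum : (conjOuter Z).ncard + ∑ N ∈ S, (tl N).ncard ≤ Nat.card G := by
    simp only [Set.ncard_eq_toFinset_card']
    rw [← Finset.card_biUnion hdisj, ← Finset.card_union_of_disjoint ?_, Nat.card_eq_fintype_card]
    · exact Finset.card_le_univ _
    rw [Finset.disjoint_biUnion_right]
    intro N hN
    obtain ⟨K₁, m₁⟩ := (hS N).1 hN
    exact Set.disjoint_toFinset.2 (conjOuter_disjoint hG m m₁.coatom)
  have hz := ncard_outer hG m S hS
  set z := Nat.card Z with hzdef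
  set gG := Nat.card G with hgdef
  set T := (outer Z).ncard
  have hT : z * (conjOuter Z).ncard = T * gG := by
    rw [ncard_conjOuter hG m, ← mul_assoc, Z.card_mul_index, mul_comm]
  have hN : ∀ N ∈ S, z * (tl N).ncard + z * N.index = Nat.card (Cfsg.sigmaCore N ⊓ Z : Subgroup G) * gG ∧
      3 * (z * N.index) ≤ gG := by
    intro N hN
    obtain ⟨K', m'⟩ := (hS N).1 hN
    have hcN := hno N K' m'
    have h3 := three_mul_card_le hG m'
    set d := Nat.card (Cfsg.sigmaCore N ⊓ Z : Subgroup G)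
    set s := Nat.card (Cfsg.sigmaCore N)
    have hzk : z = Nat.card K' * d := m'.card_eq
    have hkey : z * N.index * s = d * gG := by
      rw [hgdef, ← N.card_mul_index, hcN, hzk]
      ring
    have hs : 1 ≤ s := Nat.card_pos
    constructor
    · show z * (Cfsg.tildeOf N ((Cfsg.sigmaCore N : Set G) \ {1})).ncard + z * N.index = d * gG
      rw [Support.ncard_tilde hG m'.coatom, ← hkey]
      show z * ((s - 1) * N.index) + z * N.index = z * N.index * s
      obtain ⟨s', hs'⟩ : ∃ s', s = s' + 1 := ⟨s - 1, (Nat.sub_add_cancel hs).symm⟩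
      rw [hs', Nat.add_sub_cancel]
      ring
    · refine Nat.le_of_mul_le_mul_right ?_ hs
      calc 3 * (z * N.index) * s = 3 * d * gG := by rw [mul_assoc, hkey, mul_assoc]
        _ ≤ s * gG := Nat.mul_le_mul_right _ h3
        _ = gG * s := mul_comm _ _
  have h1 := Nat.mul_le_mul_left z hsum
  rw [mul_add, hT, Finset.mul_sum] at h1
  have h2 : ∑ N ∈ S, z * (tl N).ncard + ∑ N ∈ S, z * N.index =
      (∑ N ∈ S, Nat.card (Cfsg.sigmaCore N ⊓ Z : Subgroup G)) * gG := by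
    rw [← Finset.sum_add_distrib, Finset.sum_mul]
    exact Finset.sum_congr rfl fun N h => (hN N h).1
  have h3 : 3 * ∑ N ∈ S, z * N.index ≤ S.card * gG := by
    rw [Finset.mul_sum, ← smul_eq_mul S.card]
    exact (Finset.sum_le_sum fun N h => (hN N h).2).trans (le_of_eq (Finset.sum_const gG))
  have h4 : (z + S.card) * gG = T * gG + gG + (∑ N ∈ S, Nat.card (Cfsg.sigmaCore N ⊓ Z : Subgroup G)) * gG := by
    rw [hz]; ring
  have hgpos : 0 < gG := Nat.card_pos
  have h5 : 2 * gG ≤ S.card * gG := Nat.mul_le_mul_right _ hn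
  rw [add_mul] at h4
  omega

end Cfsg.Agent.OddOrder.Pairing
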