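/-
The two members of `Z` (BG 14.7): `K` is cyclic, a large member has `|K|` prime and nilpotent `M_σ`.
-/
import Cfsg.Agent.Lib.OddOrder.PartnerCount

set_option autoImplicit false
set_option linter.style.haveILetI false
set_option linter.unusedSectionVars false

namespace Cfsg.Agent.OddOrder.Pairing

open scoped commutatorElement IsMulCommutative Pointwise
open Exceptional TauOne Kappa Support
open Tau3 (line_pgroup line_ne_bot)

universe u

variable {G : Type u} [Group G] [Finite G] {M N Z K D : Subgroup G}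

/-- `M` is not of type P₁. -/
def Large (M K : Subgroup G) : Prop := Nat.card M ≠ Nat.card K * Nat.card (Cfsg.sigmaCore M)

namespace Member

theorem K_eq {K' : Subgroup G} (m : Member Z M K) (m' : Member Z M K') : K' = K :=
  le_antisymm (fun _ hx => m.mem_K (m'.K_le hx) fun _ hr hd => m'.K_primes hx hr hd)
    fun _ hx => m'.mem_K (m.K_le hx) fun _ hr hd => m.K_primes hx hr hd

theorem of_hall (hM : IsCoatom M) (hK : Cfsg.IsPiHallOf (Cfsg.kappa M) K M) (hK1 : K ≠ ⊥) :
    Member (K ⊔ (Cfsg.sigmaCore M ⊓ Subgroup.centralizer (K : Set G))) M K := ⟨hM, hK, hK1, rfl⟩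

variable (m : Member Z M K) (hG : Cfsg.IsMinSimpleOddOrder G)
include m hG

/-- Lines of `C_{M_σ}(K)` have their centralizer in `M` only. -/
theorem unique_line {r : ℕ} [hr : Fact r.Prime] {X : Subgroup G} (hX : Nat.card X = r)
    (hXD : X ≤ Cfsg.sigmaCore M ⊓ Z) :
    Subgroup.centralizer (X : Set G) ≤ M ∧
      ∀ L : Subgroup G, IsCoatom L → Subgroup.centralizer (X : Set G) ≤ L → L = M := by
  obtain ⟨E, U, hE, F⟩ := m.factor hG
  obtain ⟨p, P, hp1, hP, hPK, -⟩ := F.exists_tau1_line hG m.coatom hE m.hall m.ne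
  haveI := Fact.mk hp1.1
  have hXσ : X ≤ Cfsg.sigmaCore M := hXD.trans inf_le_left
  exact (S1423.result hG M m.coatom r (mem_sigma_of_dvd hr.out (hX ▸ Subgroup.card_dvd_of_le hXσ)) X
    (hXσ.trans (sigmaCore_le M)) hX default (TauOne.centralized_cases hG m.coatom hp1 hP (hPK.trans m.hall.1) hX hXσ
      ((hXD.trans m.inf_eq.le).trans (inf_le_right.trans (Subgroup.centralizer_le hPK))))).1

/-- A large member has `|K|` prime and a nilpotent `M_σ`. -/
theorem of_large (hl : Large M K) :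
    IsCyclic K ∧ (Nat.card K).Prime ∧ Group.IsNilpotent (Cfsg.sigmaCore M) := by
  obtain ⟨E, U, hE, F⟩ := m.factor hG
  have hM := m.coatom
  have hU1 : U ≠ ⊥ := fun e => hl (by
    have hEK : E = K := le_antisymm (fun x hx => by
      obtain ⟨v, hv, k, hk, rfl⟩ := F.sup x hx
      rw [e, Subgroup.mem_bot] at hv
      rw [hv, one_mul]
      exact hk) F.K_le
    rw [Compl.card_eq hE, hEK])
  have hcyc : IsCyclic K := by
    rcases F.cases with ⟨h, -⟩ | ⟨e, -⟩
    · exact h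
    · exact absurd (le_bot_iff.1 ((le_inf le_rfl (e ▸ F.U_le)).trans F.inf_eq_bot.le)) hU1
  obtain ⟨q, hq, hqd⟩ := Nat.exists_prime_and_dvd fun e => hU1 (Subgroup.card_eq_one.1 e)
  haveI := Fact.mk hq
  have hUM : U ≤ M := F.U_le.trans hE.1
  have hqκ := F.U_primes q hq hqd
  have hqσ := not_dvd_complement hG hM hE hq (hqd.trans (Subgroup.card_dvd_of_le F.U_le))
  set T : Sylow q U := default with hT
  set Q := (T : Subgroup U).map U.subtype with hQ
  have hQU : Q ≤ U := Subgroup.map_subtype_le _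
  obtain ⟨S, hS⟩ := ((T.isPGroup'.map U.subtype).of_equiv
    (Subgroup.subgroupOfEquivOfLe (hQU.trans hUM)).symm).exists_le_sylow (P := Q.subgroupOf M)
  have hSQ : Q.subgroupOf M = (S : Subgroup M) := by
    refine Subgroup.eq_of_le_of_card_ge hS (le_of_eq ?_)
    have h1 := Subgroup.relIndex_mul_relIndex ⊥ U M bot_le hUM
    rw [Subgroup.relIndex_bot_left, Subgroup.relIndex_bot_left] at h1
    rw [Nat.card_congr (Subgroup.subgroupOfEquivOfLe (hQU.trans hUM)).toEquiv, hQ,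
      Subgroup.card_map_of_injective U.subtype_injective, S.card_eq_multiplicity, T.card_eq_multiplicity, ← h1,
      Nat.factorization_mul Nat.card_pos.ne' (show U.relIndex M ≠ 0 from fun e => by rw [e, mul_zero] at h1; exact Nat.card_pos.ne h1)]
    rw [Finsupp.add_apply, Nat.factorization_eq_zero_of_not_dvd
      ((F.U_hall hE hG hM m.hall).2.2 q hq ⟨hq, hqκ, hqσ⟩), add_zero]
  obtain ⟨-, hΩ, hnil⟩ := S1429.result hG M hM
    (fun h => hqκ (h q hq (hqd.trans (Subgroup.card_dvd_of_le hUM)) hqσ)) q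
    (hqd.trans (Subgroup.card_dvd_of_le hUM)) (fun h => h.elim hqσ hqκ) S
  have hCU : Cfsg.sigmaCore M ⊓ Subgroup.centralizer (U : Set G) = ⊥ := by
    refine le_bot_iff.1 ((inf_le_inf_left _ (Subgroup.centralizer_le ((Subgroup.closure_le _).2 fun x hx => ?_))).trans
      hΩ.le)
    obtain ⟨y, hy, rfl⟩ := hx.1
    rw [← hSQ] at hy
    exact hQU (Subgroup.mem_subgroupOf.1 hy)
  have hle : U ⊔ K ≤ E := sup_le F.U_le F.K_le
  refine ⟨hcyc, (S1446.result U K (Cfsg.sigmaCore M) hU1 m.ne F.inf_eq_bot (F.K_le.trans F.norm) F.regular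
    (MinSimple.isSolvable hG (ne_top_of_le_ne_top hM.1 (hle.trans hE.1)))
    (hG.1.of_dvd_nat (Subgroup.card_subgroup_dvd_card _)) (sigmaCore_ne_bot hG hM) hnil
    (hUM.trans (le_normalizer_sigmaCore M)) (m.hall.1.trans (le_normalizer_sigmaCore M))
    ((ComplBasics.coprime_card hG hM hE).coprime_dvd_left (Subgroup.card_dvd_of_le hle)) hCU F.prime).1, hnil⟩

/-- A member with `|K|` prime determines all members. -/
theorem pair_of_prime (hp : (Nat.card K).Prime) : ∃ N D : Subgroup G, Member Z N D ∧ N ≠ M ∧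
    Cfsg.sigmaCore M ⊓ Z = D ∧ Cfsg.sigmaCore N ⊓ Z = K ∧
    ∀ N' K' : Subgroup G, Member Z N' K' → N' = M ∨ N' = N := by
  obtain ⟨N, D, m', hpN⟩ := m.cover hG hp (Subgroup.card_dvd_of_le m.K_le)
  have hpM : Nat.card K ∉ Cfsg.sigma M := (m.hall.2.1 _ hp dvd_rfl).2.2.1
  have hne : N ≠ M := fun e => hpM (e ▸ hpN)
  have hdis : ∀ t, t ∈ Cfsg.sigma M → t ∉ Cfsg.sigma N := fun t h h' => hne (eq_of_sigma hG m m' h h')
  have hK : K ≤ Cfsg.sigmaCore N ⊓ Z := le_inf (le_sigmaCore_of_primes hG m'.coatom (m.K_le.trans m'.Z_le)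
    fun r hr hd => ((Nat.prime_dvd_prime_iff_eq hr hp).1 hd).symm ▸ hpN) m.K_le
  have hK' : Cfsg.sigmaCore N ⊓ Z = K := le_antisymm
    (fun x hx => m.mem_K hx.2 fun r hr hd h => hdis r h (primes_of_mem_sigmaCore hx.1 hr hd)) hK
  have hD : Cfsg.sigmaCore M ⊓ Z ≤ D := fun x hx =>
    m'.mem_K hx.2 fun r hr hd h => hdis r (primes_of_mem_sigmaCore hx.1 hr hd) h
  have hDc : Nat.card D = Nat.card (Cfsg.sigmaCore M ⊓ Z : Subgroup G) := by
    have h := m'.card_eq
    rw [m.card_eq, hK', mul_comm (Nat.card D)] at h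
    exact (Nat.eq_of_mul_eq_mul_left Nat.card_pos h).symm
  refine ⟨N, D, m', hne, Subgroup.eq_of_le_of_card_ge hD hDc.le, hK', fun N' K' m'' => ?_⟩
  obtain ⟨x, hx, hx1⟩ := (Subgroup.bot_or_exists_ne_one _).resolve_left (m''.inf_ne_bot hG)
  obtain ⟨r, hr, hrd⟩ := Nat.exists_prime_and_dvd fun e => hx1 (orderOf_eq_one_iff.1 e)
  have hrN' := primes_of_mem_sigmaCore hx.1 hr hrd
  rcases hr.dvd_mul.1 (m.card_eq ▸ hrd.trans (Subgroup.orderOf_dvd_natCard Z hx.2) :
      r ∣ Nat.card K * Nat.card (Cfsg.sigmaCore M ⊓ Z : Subgroup G)) with h | h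
  · exact Or.inr (eq_of_sigma hG m' m'' ((Nat.prime_dvd_prime_iff_eq hr hp).1 h ▸ hpN) hrN')
  · exact Or.inl (eq_of_sigma hG m m'' (mem_sigma_of_dvd hr (h.trans (Subgroup.card_dvd_of_le inf_le_left))) hrN')

end Member

/-- The two members `M`, `N` of `Z`, with `Z = K × D`. -/
structure Pair (Z M K N D : Subgroup G) : Prop where
  left : Member Z M K
  right : Member Z N D
  ne : N ≠ M
  left_inf : Cfsg.sigmaCore M ⊓ Z = D
  right_inf : Cfsg.sigmaCore N ⊓ Z = K
  only : ∀ N' K' : Subgroup G, Member Z N' K' → N' = M ∨ N' = N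
  large : Large M K ∨ Large N D

theorem Pair.symm (P : Pair Z M K N D) : Pair Z N D M K :=
  ⟨P.right, P.left, P.ne.symm, P.right_inf, P.left_inf, fun N' K' m => (P.only N' K' m).symm, P.large.symm⟩

/-- BG 14.7: the partner of a member. -/
theorem Member.exists_pair (m : Member Z M K) (hG : Cfsg.IsMinSimpleOddOrder G) :
    ∃ N D : Subgroup G, Pair Z M K N D := by
  obtain ⟨L, K₁, mL, hl⟩ := exists_large hG m
  obtain ⟨N₁, D₁, m₁, hne, h1, h2, honly⟩ := mL.pair_of_prime hG (mL.of_large hG hl).2.1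
  have P : Pair Z L K₁ N₁ D₁ := ⟨mL, m₁, hne, h1, h2, honly, Or.inl hl⟩
  rcases P.only M K m with rfl | rfl
  · obtain rfl := mL.K_eq m
    exact ⟨N₁, D₁, P⟩
  · obtain rfl := m₁.K_eq m
    exact ⟨L, K₁, P.symm⟩

/-- The Hall `κ(M)`-subgroups are cyclic. -/
theorem Member.cyclic (m : Member Z M K) (hG : Cfsg.IsMinSimpleOddOrder G) : IsCyclic K := by
  obtain ⟨E, U, hE, F⟩ := m.factor hG
  rcases F.cases with ⟨h, -⟩ | ⟨e, hne⟩
  · exact h
  obtain ⟨N, D, P⟩ := m.exists_pair hG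
  rcases P.large with hl | hl
  · exact (m.of_large hG hl).1
  haveI := (P.right.of_large hG hl).2.2
  haveI hnil : Group.IsNilpotent K :=
    Group.nilpotent_of_mulEquiv (Subgroup.subgroupOfEquivOfLe (P.right_inf ▸ inf_le_left : K ≤ Cfsg.sigmaCore N))
  haveI : IsZGroup K := ⟨fun p hp S => by
    haveI := Fact.mk hp
    by_cases hd : p ∣ Nat.card K
    · have hr1 := rank_one_of_kappa (m.hall.2.1 p hp hd)
      haveI := isCyclic_of_rank_one hG hr1 (S.isPGroup'.map K.subtype) ((Subgroup.map_subtype_le _).trans m.hall.1)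
      exact isCyclic_of_surjective _ ((S : Subgroup K).equivMapOfInjective K.subtype K.subtype_injective).symm.surjective
    · haveI : Subsingleton S := (Nat.card_eq_one_iff_unique.1 (by
        rw [S.card_eq_multiplicity, Nat.factorization_eq_zero_of_not_dvd hd, pow_zero])).1
      infer_instance⟩
  infer_instance

/-- `U = E'` and `κ(M) ⊆ τ₁(M)`. -/
theorem Member.generic (m : Member Z M K) (hG : Cfsg.IsMinSimpleOddOrder G) {E U : Subgroup G}
    (F : Factor M E K U) : U = ⁅E, E⁆ ∧ ∀ r ∈ Cfsg.kappa M, r ∈ Cfsg.tau1 M := by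
  haveI := m.cyclic hG
  exact F.generic inferInstance

/-- The data of `M*` determine the pair. -/
theorem pair_of_data (hG : Cfsg.IsMinSimpleOddOrder G) (hM : IsCoatom M) (hK : Cfsg.IsPiHallOf (Cfsg.kappa M) K M)
    (hK1 : K ≠ ⊥) (hN : IsCoatom N)
    (hKN : K = Cfsg.sigmaCore N ⊓ Subgroup.centralizer ((Cfsg.sigmaCore M ⊓ Subgroup.centralizer (K : Set G)) : Set G))
    (hD : Cfsg.IsPiHallOf (Cfsg.kappa N) (Cfsg.sigmaCore M ⊓ Subgroup.centralizer (K : Set G)) N) :
    Pair (K ⊔ (Cfsg.sigmaCore M ⊓ Subgroup.centralizer (K : Set G))) M K N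
      (Cfsg.sigmaCore M ⊓ Subgroup.centralizer (K : Set G)) := by
  have m := Member.of_hall hM hK hK1
  set D := Cfsg.sigmaCore M ⊓ Subgroup.centralizer (K : Set G) with hDdef
  set Z := K ⊔ D with hZ
  have hD1 : D ≠ ⊥ := fun e => m.inf_ne_bot hG (m.inf_eq.trans e)
  have m' : Member Z N D := ⟨hN, hD, hD1, by
    rw [hZ, sup_comm K]
    exact congrArg (D ⊔ ·) hKN.symm⟩
  have hne : N ≠ M := by
    rintro rfl
    obtain ⟨x, hx, hx1⟩ := (Subgroup.bot_or_exists_ne_one _).resolve_left hK1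
    obtain ⟨r, hr, hrd⟩ := Nat.exists_prime_and_dvd fun e => hx1 (orderOf_eq_one_iff.1 e)
    exact m.K_primes hx hr hrd (primes_of_mem_sigmaCore (hKN.le hx).1 hr hrd)
  obtain ⟨N', D', P⟩ := m.exists_pair hG
  obtain rfl : N = N' := (P.only N D m').resolve_left hne
  obtain rfl : D = D' := P.right.K_eq m'
  exact P

/-- Every maximal subgroup with `κ ≠ ∅` is a member of some `Z`. -/
theorem exists_member (hG : Cfsg.IsMinSimpleOddOrder G) (hM : IsCoatom M) (hne : (Cfsg.kappa M).Nonempty) :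
    ∃ Z K : Subgroup G, Member Z M K := by
  haveI := MinSimple.isSolvable hG hM.1
  obtain ⟨K, hK, -⟩ := exists_piHall (Cfsg.kappa M) (bot_le : ⊥ ≤ M)
    fun r hr hd => absurd (Nat.dvd_one.1 (by rwa [Subgroup.card_bot] at hd)) hr.ne_one
  refine ⟨_, K, Member.of_hall hM hK fun e => ?_⟩
  obtain ⟨r, hr⟩ := hne
  exact hK.2.2 r hr.1 hr (by rw [e, Subgroup.relIndex_bot_left]; exact hr.2.1)

end Cfsg.Agent.OddOrder.Pairing
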