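/-
Properties of a pair `M`, `N = M*` with `Z = K × D` (BG 14.7(c)-(h)).
-/
import Cfsg.Agent.Lib.OddOrder.PartnerCore
import Cfsg.Agent.Lib.OddOrder.KappaDecomp
import Cfsg.Agent.Lib.CN.Basic

set_option autoImplicit false
set_option linter.style.haveILetI false
set_option linter.unusedSectionVars false

namespace Cfsg.Agent.OddOrder.Pairing

open scoped commutatorElement IsMulCommutative Pointwise
open Exceptional TauOne Kappa Support
open Tau3 (line_pgroup line_ne_bot)

universe u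

variable {G : Type u} [Group G] [Finite G] {M N Z K D : Subgroup G}

namespace Pair

theorem hM (P : Pair Z M K N D) : IsCoatom M := P.left.coatom

theorem D_eq (P : Pair Z M K N D) : Cfsg.sigmaCore M ⊓ Subgroup.centralizer (K : Set G) = D :=
  P.left.inf_eq.symm.trans P.left_inf

theorem D_le (P : Pair Z M K N D) : D ≤ Cfsg.sigmaCore M := P.left_inf ▸ inf_le_left

theorem D_le_Z (P : Pair Z M K N D) : D ≤ Z := P.left_inf ▸ inf_le_right

theorem commutes (P : Pair Z M K N D) : K ≤ Subgroup.centralizer (D : Set G) := by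
  rw [← P.left_inf]; exact P.left.le_centralizer

theorem sup_eq (P : Pair Z M K N D) : K ⊔ D = Z := by rw [← P.D_eq, P.left.sup]

theorem card_eq (P : Pair Z M K N D) : Nat.card Z = Nat.card K * Nat.card D := by
  rw [P.left.card_eq, P.left_inf]

theorem inf_eq (P : Pair Z M K N D) : K ⊓ D = ⊥ := by rw [← P.left_inf]; exact P.left.inf_K

theorem coprime (P : Pair Z M K N D) : (Nat.card K).Coprime (Nat.card D) :=
  Nat.coprime_of_dvd fun t ht h1 h2 => (P.left.hall.2.1 t ht h1).2.2.1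
    (mem_sigma_of_dvd ht (h2.trans (Subgroup.card_dvd_of_le P.D_le)))

variable (P : Pair Z M K N D) (hG : Cfsg.IsMinSimpleOddOrder G)
include P hG

theorem disjoint {t : ℕ} (h : t ∈ Cfsg.sigma M) : t ∉ Cfsg.sigma N :=
  fun h' => P.ne (Member.eq_of_sigma hG P.left P.right h h')

theorem cyclic : IsCyclic Z := by
  obtain ⟨⟨k, hk⟩, hkg⟩ := (P.left.cyclic hG).exists_generator
  obtain ⟨⟨d, hd⟩, hdg⟩ := (P.right.cyclic hG).exists_generator
  have hko : orderOf k = Nat.card K := by
    rw [← Subgroup.orderOf_mk k hk]; exact orderOf_eq_card_of_forall_mem_zpowers hkg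
  have hdo : orderOf d = Nat.card D := by
    rw [← Subgroup.orderOf_mk d hd]; exact orderOf_eq_card_of_forall_mem_zpowers hdg
  refine isCyclic_of_orderOf_eq_card (⟨k * d, mul_mem (P.left.K_le hk) (P.D_le_Z hd)⟩ : Z) ?_
  rw [Subgroup.orderOf_mk, Commute.orderOf_mul_eq_mul_orderOf_of_coprime
    (Subgroup.mem_centralizer_iff.1 (P.commutes hk) d hd).symm (by rw [hko, hdo]; exact P.coprime), hko, hdo, P.card_eq]

theorem comm : IsMulCommutative Z := by
  haveI := P.cyclic hG
  infer_instance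

/-- `outer Z = Z \ (K ∪ D)`. -/
theorem outer_eq : outer Z = (Z : Set G) \ ((K : Set G) ∪ (D : Set G)) := by
  ext z
  refine ⟨fun h => ⟨h.1, ?_⟩, fun h => ⟨h.1, fun N' hN' hz => ?_⟩⟩
  · rintro (hk | hd)
    · exact h.2 N ⟨D, P.right⟩ (P.right_inf.ge hk).1
    · exact h.2 M ⟨K, P.left⟩ (P.D_le hd)
  · obtain ⟨K', m'⟩ := hN'
    rcases P.only N' K' m' with e | e <;> subst e
    · exact h.2 (Or.inr (P.left_inf.le ⟨hz, h.1⟩))
    · exact h.2 (Or.inl (P.right_inf.le ⟨hz, h.1⟩))

theorem conjOuter_eq :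
    conjOuter Z = {a : G | ∃ g : G, ∃ z ∈ (Z : Set G) \ ((K : Set G) ∪ (D : Set G)), a = g * z * g⁻¹} := by
  rw [conjOuter, P.outer_eq hG]

theorem ncard_outer_add : (outer Z).ncard + Nat.card K + Nat.card D = Nat.card K * Nat.card D + 1 := by
  classical
  have h := ncard_outer hG P.left {M, N} fun N' => by
    simp only [Finset.mem_insert, Finset.mem_singleton]
    refine ⟨?_, fun ⟨K', m'⟩ => P.only N' K' m'⟩
    rintro (rfl | rfl)
    exacts [⟨K, P.left⟩, ⟨D, P.right⟩]
  rw [Finset.card_pair P.ne.symm, Finset.sum_pair P.ne.symm, P.left_inf, P.right_inf, P.card_eq] at h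
  omega

theorem card_mul_ncard : Nat.card K * Nat.card D * (conjOuter Z).ncard = (outer Z).ncard * Nat.card G := by
  rw [← P.card_eq, ncard_conjOuter hG P.left, ← mul_assoc, Z.card_mul_index, mul_comm]

/-- The conjugates of `outer Z` cover more than half of `G`. -/
theorem card_lt : Nat.card G < 2 * (conjOuter Z).ncard := by
  have hk : 3 ≤ Nat.card K := by
    obtain ⟨j, hj⟩ := hG.1.of_dvd_nat K.card_subgroup_dvd_card
    have : Nat.card K ≠ 1 := fun e => P.left.ne (Subgroup.card_eq_one.1 e)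
    omega
  have hd : 3 ≤ Nat.card D := by
    obtain ⟨j, hj⟩ := hG.1.of_dvd_nat D.card_subgroup_dvd_card
    have : Nat.card D ≠ 1 := fun e => P.right.ne (Subgroup.card_eq_one.1 e)
    omega
  have hne : Nat.card K ≠ Nat.card D := fun e => by
    have := P.coprime
    rw [e, Nat.coprime_self] at this
    omega
  have h1 := P.ncard_outer_add hG
  have h2 := P.card_mul_ncard hG
  obtain ⟨a, ha⟩ : ∃ a, Nat.card K = a + 3 := ⟨_, (Nat.sub_add_cancel hk).symm⟩
  obtain ⟨b, hb⟩ : ∃ b, Nat.card D = b + 3 := ⟨_, (Nat.sub_add_cancel hd).symm⟩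
  have hgpos : 0 < Nat.card G := Nat.card_pos
  have hab : 2 ≤ a + b := by
    obtain ⟨i, hi⟩ := hG.1.of_dvd_nat K.card_subgroup_dvd_card
    obtain ⟨j, hj⟩ := hG.1.of_dvd_nat D.card_subgroup_dvd_card
    omega
  rw [ha, hb] at h1 h2 hne
  have hT : (outer Z).ncard = a * b + 2 * a + 2 * b + 4 := by
    have : (a + 3) * (b + 3) + 1 = a * b + 3 * a + 3 * b + 10 := by ring
    omega
  have hlt : (a + 3) * (b + 3) < 2 * (outer Z).ncard := by
    have : (a + 3) * (b + 3) = a * b + 3 * a + 3 * b + 9 := by ring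
    omega
  refine Nat.lt_of_mul_lt_mul_left (a := (a + 3) * (b + 3)) ?_
  calc (a + 3) * (b + 3) * Nat.card G < 2 * (outer Z).ncard * Nat.card G := Nat.mul_lt_mul_of_pos_right hlt hgpos
    _ = (a + 3) * (b + 3) * (2 * (conjOuter Z).ncard) := by rw [mul_left_comm _ 2, h2]; ring

/-- BG 14.7(g): every maximal subgroup with `κ ≠ ∅` is conjugate to `M` or `N`. -/
theorem conj_of_kappa {H : Subgroup G} (hH : IsCoatom H) (hne : (Cfsg.kappa H).Nonempty) :
    ∃ g : G, H = M.map (MulAut.conj g).toMonoidHom ∨ H = N.map (MulAut.conj g).toMonoidHom := by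
  obtain ⟨Z', K', m'⟩ := exists_member hG hH hne
  obtain ⟨N', D', P'⟩ := m'.exists_pair hG
  obtain ⟨a, ⟨g, z, hz, rfl⟩, g', z', hz', he⟩ : ∃ a, a ∈ conjOuter Z ∧ a ∈ conjOuter Z' := by
    by_contra hno
    push Not at hno
    have h1 := P.card_lt hG
    have h2 := P'.card_lt hG
    have h3 := Set.ncard_union_eq (s := conjOuter Z) (t := conjOuter Z') (Set.disjoint_left.2 hno)
    have h4 := Set.ncard_le_card (conjOuter Z ∪ conjOuter Z')
    omega
  obtain ⟨k', hk', d', hd', rfl, hkd⟩ := m'.sup_split hz'.1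
  have hd1 : d' ≠ 1 := fun e => by
    rw [e, mul_one] at hz'
    exact hz'.2 N' ⟨D', P'.right⟩ (P'.right_inf.ge hk').1
  obtain ⟨r, hr, hrd⟩ := Nat.exists_prime_and_dvd fun e => hd1 (orderOf_eq_one_iff.1 e)
  have hcop : (orderOf k').Coprime (orderOf d') := Nat.coprime_of_dvd fun t ht h1 h2 =>
    m'.K_primes hk' ht h1 (primes_of_mem_sigmaCore hd'.1 ht h2)
  have hdvd : r ∣ orderOf z := by
    have h1 : orderOf z = orderOf (k' * d') := by
      rw [← MulEquiv.orderOf_eq (MulAut.conj g) z, ← MulEquiv.orderOf_eq (MulAut.conj g') (k' * d')]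
      exact congrArg orderOf he
    rw [h1, hkd.orderOf_mul_eq_mul_orderOf_of_coprime hcop]
    exact hrd.trans (dvd_mul_left _ _)
  have hrH := primes_of_mem_sigmaCore hd'.1 hr hrd
  rcases hr.dvd_mul.1 (P.card_eq ▸ hdvd.trans (Subgroup.orderOf_dvd_natCard Z hz.1) :
      r ∣ Nat.card K * Nat.card D) with h | h
  · obtain ⟨c, hc⟩ := SigmaDisj.conj_of_sigma hG P.right.coatom hH
      (mem_sigma_of_dvd hr (h.trans (Subgroup.card_dvd_of_le (P.right_inf ▸ inf_le_left)))) hrH
    exact ⟨c, Or.inr hc⟩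
  · obtain ⟨c, hc⟩ := SigmaDisj.conj_of_sigma hG P.hM hH
      (mem_sigma_of_dvd hr (h.trans (Subgroup.card_dvd_of_le P.D_le))) hrH
    exact ⟨c, Or.inl hc⟩

/-- If `M_σ` is nilpotent then `M_σ ∩ N = D`. -/
theorem inter_core (hnil : Group.IsNilpotent (Cfsg.sigmaCore M)) : Cfsg.sigmaCore M ⊓ N = D := by
  have hle : D ≤ Cfsg.sigmaCore M ⊓ N := le_inf P.D_le (P.D_le_Z.trans P.right.Z_le)
  refine le_antisymm ?_ hle
  rw [← Subgroup.relIndex_eq_one]
  by_contra hne
  obtain ⟨t, ht, htd⟩ := Nat.exists_prime_and_dvd hne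
  haveI := Fact.mk ht
  have htD : ¬ t ∣ Nat.card D := fun h => P.right.hall.2.2 t ht (P.right.hall.2.1 t ht h)
    (htd.trans (Dvd.intro _ (Subgroup.relIndex_mul_relIndex D (Cfsg.sigmaCore M ⊓ N) N hle inf_le_right)))
  obtain ⟨X, hXW, hX⟩ := exists_line_of_dvd ht (htd.trans (Subgroup.relIndex_dvd_card _ _))
  obtain ⟨s, hs, hsd⟩ := Nat.exists_prime_and_dvd fun e => P.right.ne (Subgroup.card_eq_one.1 e)
  haveI := Fact.mk hs
  obtain ⟨Y, hYD, hY⟩ := exists_line_of_dvd hs hsd
  have hXY : X ≤ Subgroup.centralizer (Y : Set G) := by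
    intro x hx
    refine Subgroup.mem_centralizer_iff.2 fun y hy => ?_
    have hcop : (orderOf x).Coprime (orderOf y) :=
      Nat.Coprime.coprime_dvd_left (Subgroup.orderOf_dvd_natCard X hx) (Nat.Coprime.coprime_dvd_right
        (Subgroup.orderOf_dvd_natCard Y hy) (by rw [hX, hY]; exact (Nat.coprime_primes ht hs).2 fun e => htD (e ▸ hsd)))
    exact (CN.commute_of_coprime hnil (hXW hx).1 (P.D_le (hYD hy)) hcop).eq.symm
  have hXD : X ≤ D := by
    rw [← P.left_inf, ← P.right.normalizer_line hG hYD (hY.symm ▸ hs)]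
    exact le_inf (hXW.trans inf_le_left)
      (le_inf (hXW.trans inf_le_right) (hXY.trans (Subgroup.centralizer_le_normalizer _)))
  exact htD (hX ▸ Subgroup.card_dvd_of_le hXD)

theorem inter_of_nilpotent (hnil : Group.IsNilpotent (Cfsg.sigmaCore M)) : M ⊓ N = Z := by
  refine le_antisymm ?_ (le_inf P.left.Z_le P.right.Z_le)
  have hn : M ⊓ N ≤ Subgroup.normalizer (D : Set G) := by
    rw [← P.inter_core hG hnil]
    exact (le_inf (inf_le_left.trans (le_normalizer_sigmaCore M)) (inf_le_right.trans Subgroup.le_normalizer)).trans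
      Subgroup.inf_normalizer_le_normalizer_inf
  obtain ⟨E, U, hE, F⟩ := P.right.factor hG
  rw [← P.right.sup, ← F.normalizer_of_subgroup le_rfl P.right.ne Subgroup.le_normalizer hE]
  exact le_inf inf_le_right hn

/-- BG 14.7(d): `M ∩ N = Z`. -/
theorem inter : M ⊓ N = Z := by
  rcases P.large with h | h
  · exact P.inter_of_nilpotent hG (P.left.of_large hG h).2.2
  · rw [inf_comm]
    exact P.symm.inter_of_nilpotent hG (P.right.of_large hG h).2.2

end Pair

/-- A standard factorisation is large iff `U ≠ 1`. -/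
theorem large_iff {U : Subgroup G} (h : Cfsg.IsSigmaDecomposition M K U) : Large M K ↔ U ≠ ⊥ := by
  rw [Large, not_iff_not, Compl.card_eq (decomp_compl h), decomp_card h, ← Subgroup.card_eq_one, mul_assoc]
  exact ⟨fun e => Nat.eq_of_mul_eq_mul_right (Nat.mul_pos Nat.card_pos Nat.card_pos) (e.trans (one_mul _).symm),
    fun e => by rw [e, one_mul]⟩

end Cfsg.Agent.OddOrder.Pairing
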