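/-
`M' = U M_σ` and `C_{M_σ}(K) ≤ M''` (BG 14.7, 15.2).
-/
import Cfsg.Agent.Lib.OddOrder.PartnerPair
import Cfsg.Agent.S1352

set_option autoImplicit false
set_option linter.style.haveILetI false
set_option linter.unusedSectionVars false

namespace Cfsg.Agent.OddOrder.Pairing

open scoped commutatorElement IsMulCommutative Pointwise
open Exceptional TauOne Kappa Support

universe u

variable {G : Type u} [Group G] [Finite G]

theorem derived_inf_fixed {Q : Type u} [Group Q] [Finite Q] {W K : Subgroup Q} [IsMulCommutative W]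
    [IsMulCommutative K] (hn : K ≤ Subgroup.normalizer (W : Set Q)) (hcop : (Nat.card K).Coprime (Nat.card W))
    (htop : ∀ q : Q, ∃ w ∈ W, ∃ k ∈ K, q = w * k) :
    W ⊓ Subgroup.centralizer (K : Set Q) ⊓ ⁅(⊤ : Subgroup Q), (⊤ : Subgroup Q)⁆ = ⊥ := by
  refine le_bot_iff.1 ((inf_le_inf_left _ (Subgroup.commutator_le.2 fun a _ b _ => ?_)).trans
    (CoprimeAct.centralizer_inf_commutator_eq_bot hn hcop).le)
  obtain ⟨w, hw, k, hk, rfl⟩ := htop a
  obtain ⟨w', hw', k', hk', rfl⟩ := htop b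
  have hkk : k * k' = k' * k := Subgroup.mem_centralizer_iff.1 (Subgroup.le_centralizer K hk') k hk
  have hcW : k' * w⁻¹ * k'⁻¹ ∈ W := (Subgroup.mem_normalizer_iff.1 (hn hk') w⁻¹).1 (W.inv_mem hw)
  have haW : k * w' * k⁻¹ ∈ W := (Subgroup.mem_normalizer_iff.1 (hn hk) w').1 hw'
  have hcom : ∀ x ∈ W, ∀ y ∈ W, x * y = y * x := fun x hx y hy =>
    Subgroup.mem_centralizer_iff.1 (Subgroup.le_centralizer W hy) x hx
  have he : ⁅w * k, w' * k'⁆ = ⁅k, w'⁆ * ⁅k', w⁻¹⁆ := by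
    calc ⁅w * k, w' * k'⁆ = w * (k * w' * k⁻¹) * (k * k' * k⁻¹ * w⁻¹ * k'⁻¹) * w'⁻¹ := by
          rw [commutatorElement_def]; group
      _ = w * (k * w' * k⁻¹ * (k' * w⁻¹ * k'⁻¹ * w'⁻¹)) := by rw [hkk]; group
      _ = k * w' * k⁻¹ * (k' * w⁻¹ * k'⁻¹ * w'⁻¹) * w :=
          hcom w hw _ (W.mul_mem haW (W.mul_mem hcW (W.inv_mem hw')))
      _ = k * w' * k⁻¹ * (w'⁻¹ * (k' * w⁻¹ * k'⁻¹)) * w := by rw [hcom _ hcW _ (W.inv_mem hw')]
      _ = ⁅k, w'⁆ * ⁅k', w⁻¹⁆ := by rw [commutatorElement_def, commutatorElement_def]; group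
  rw [he, Subgroup.commutator_comm W K]
  exact mul_mem (Subgroup.commutator_mem_commutator hk hw') (Subgroup.commutator_mem_commutator hk' (W.inv_mem hw))

variable {M N Z K U D : Subgroup G} (hG : Cfsg.IsMinSimpleOddOrder G) (hM : IsCoatom M)
  (hKU : Cfsg.IsSigmaDecomposition M K U) (hK1 : K ≠ ⊥)
include hG hM hKU hK1

theorem decomp_generic : U = ⁅U ⊔ K, U ⊔ K⁆ ∧ ∀ r ∈ Cfsg.kappa M, r ∈ Cfsg.tau1 M :=
  (Member.of_hall hM hKU.hall hK1).generic hG (decomp_factor hG hM hKU hK1)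

omit hK1 in
theorem sigmaCore_le_derived : Cfsg.sigmaCore M ≤ ⁅M, M⁆ :=
  Sigma.piCoreOf_le_derived hG hM le_rfl

theorem U_le_derived : U ≤ ⁅M, M⁆ := by
  rw [(decomp_generic hG hM hKU hK1).1]
  exact Subgroup.commutator_mono (decomp_compl hKU).1 (decomp_compl hKU).1

omit hK1 in
theorem exists_UK {x : G} (hx : x ∈ M) : ∃ w ∈ U ⊔ Cfsg.sigmaCore M, ∃ k ∈ K, x = w * k := by
  obtain ⟨e, he, s, hs, rfl⟩ := (decomp_compl hKU).2.2.2 x hx
  have he' : e ∈ (U : Set G) * (K : Set G) := by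
    rw [← Subgroup.coe_mul_of_right_le_normalizer_left U K hKU.normal]; exact he
  obtain ⟨u, hu, k, hk, rfl⟩ := he'
  refine ⟨u * (k * s * k⁻¹), mul_mem (Subgroup.mem_sup_left hu) (Subgroup.mem_sup_right
    ((Subgroup.mem_normalizer_iff.1 (le_normalizer_sigmaCore M (hKU.hall.1 hk)) s).1 hs)), k, hk, ?_⟩
  show u * k * s = u * (k * s * k⁻¹) * k
  group

omit hK1 in
theorem normalizer_UK : M ≤ Subgroup.normalizer ((U ⊔ Cfsg.sigmaCore M : Subgroup G) : Set G) :=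
  (S1352.result hG M hM K hKU.cyclic hKU.hall).2 U hKU

/-- `M' = U M_σ`. -/
theorem derived_eq : ⁅M, M⁆ = U ⊔ Cfsg.sigmaCore M := by
  refine le_antisymm (Subgroup.commutator_le.2 fun a ha b hb => ?_)
    (sup_le (U_le_derived hG hM hKU hK1) (sigmaCore_le_derived hG hM hKU))
  haveI := hKU.cyclic
  obtain ⟨w, hw, k, hk, rfl⟩ := exists_UK hG hM hKU ha
  obtain ⟨w', hw', k', hk', rfl⟩ := exists_UK hG hM hKU hb
  set W := U ⊔ Cfsg.sigmaCore M
  have hn := normalizer_UK hG hM hKU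
  have hkk : k * k' = k' * k := Subgroup.mem_centralizer_iff.1 (Subgroup.le_centralizer K hk') k hk
  have he : ⁅w * k, w' * k'⁆ = w * (k * w' * k⁻¹) * (k' * w⁻¹ * k'⁻¹) * w'⁻¹ := by
    calc ⁅w * k, w' * k'⁆ = w * (k * w' * k⁻¹) * (k * k' * k⁻¹ * w⁻¹ * k'⁻¹) * w'⁻¹ := by
          rw [commutatorElement_def]; group
      _ = _ := by rw [hkk]; group
  rw [he]
  refine W.mul_mem (W.mul_mem (W.mul_mem hw ?_) ?_) (W.inv_mem hw')
  · exact (Subgroup.mem_normalizer_iff.1 (hn (hKU.hall.1 hk)) w').1 hw'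
  · exact (Subgroup.mem_normalizer_iff.1 (hn (hKU.hall.1 hk')) w⁻¹).1 (W.inv_mem hw)

/-- `C_{M_σ}(K) ≤ M''`. -/
theorem fixed_le_derived_two :
    Cfsg.sigmaCore M ⊓ Subgroup.centralizer (K : Set G) ≤ ⁅⁅M, M⁆, ⁅M, M⁆⁆ := by
  haveI := hKU.cyclic
  haveI := (decomp_factor hG hM hKU hK1).comm
  set W := U ⊔ Cfsg.sigmaCore M with hW
  set R := ⁅Cfsg.sigmaCore M, W⁆ with hR
  have hWM : W ≤ M := sup_le hKU.compl.1 (sigmaCore_le M)
  have hRM : R ≤ M := Subgroup.commutator_le.2 fun a ha b hb => by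
    rw [commutatorElement_def]
    exact M.mul_mem (M.mul_mem (M.mul_mem (sigmaCore_le M ha) (hWM hb)) (M.inv_mem (sigmaCore_le M ha)))
      (M.inv_mem (hWM hb))
  have hMn : M ≤ Subgroup.normalizer (R : Set G) := fun g hg => by
    rw [Subgroup.mem_normalizer_iff_map_conj_eq, hR, Subgroup.map_commutator,
      Subgroup.mem_normalizer_iff_map_conj_eq.1 (le_normalizer_sigmaCore M hg),
      Subgroup.mem_normalizer_iff_map_conj_eq.1 (normalizer_UK hG hM hKU hg)]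
  haveI : (R.subgroupOf M).Normal := Subgroup.normal_subgroupOf_of_le_normalizer hMn
  set φ := QuotientGroup.mk' (R.subgroupOf M) with hφ
  have hcomm : ∀ a b : M, ⁅(a : G), (b : G)⁆ ∈ R → φ a * φ b = φ b * φ a := fun a b h => by
    rw [← commutatorElement_eq_one_iff_mul_comm, ← map_commutatorElement, hφ, QuotientGroup.mk'_apply,
      QuotientGroup.eq_one_iff]
    exact Subgroup.mem_subgroupOf.2 h
  haveI : IsMulCommutative ((W.subgroupOf M).map φ) := .of_setLike_mul_comm (by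
    rintro _ ⟨a, ha, rfl⟩ _ ⟨b, hb, rfl⟩
    have hs : ∀ (s : M), (s : G) ∈ Cfsg.sigmaCore M → ∀ c : M, (c : G) ∈ W → φ s * φ c = φ c * φ s :=
      fun s hs c hc => hcomm s c (Subgroup.commutator_mem_commutator hs hc)
    have hsplit : ∀ c : M, (c : G) ∈ W → ∃ u s : M, (u : G) ∈ U ∧ (s : G) ∈ Cfsg.sigmaCore M ∧ c = u * s := by
      intro c hc
      have hc' : (c : G) ∈ (U : Set G) * (Cfsg.sigmaCore M : Set G) := by
        rw [← Subgroup.coe_mul_of_left_le_normalizer_right _ _ (hKU.compl.1.trans (le_normalizer_sigmaCore M))]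
        exact hc
      obtain ⟨u, hu, s, hs', he⟩ := hc'
      exact ⟨⟨u, hKU.compl.1 hu⟩, ⟨s, sigmaCore_le M hs'⟩, hu, hs', Subtype.ext he.symm⟩
    obtain ⟨u, s, hu, hs', rfl⟩ := hsplit a ha
    obtain ⟨v, t, hv, ht, rfl⟩ := hsplit b hb
    have huv : φ u * φ v = φ v * φ u := hcomm u v (by
      rw [commutatorElement_eq_one_iff_mul_comm.2
        (Subgroup.mem_centralizer_iff.1 (Subgroup.le_centralizer U hv) u hu)]
      exact one_mem R)
    have h1 : φ s * φ (v * t) = φ (v * t) * φ s := hs s hs' _ hb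
    have h2 : φ t * φ u = φ u * φ t := hs t ht _ (Subgroup.mem_sup_left hu)
    rw [map_mul φ u s, mul_assoc, h1, map_mul φ v t, ← mul_assoc, ← mul_assoc, huv, mul_assoc (φ v), ← h2]
    simp only [mul_assoc])
  haveI : IsCyclic (K.subgroupOf M) :=
    isCyclic_of_surjective _ (Subgroup.subgroupOfEquivOfLe hKU.hall.1).symm.surjective
  intro d hd
  have hdM : d ∈ M := sigmaCore_le M hd.1
  refine Subgroup.commutator_mono (sigmaCore_le_derived hG hM hKU)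
    (sup_le (U_le_derived hG hM hKU hK1) (sigmaCore_le_derived hG hM hKU)) (?_ : d ∈ R)
  refine Subgroup.mem_subgroupOf.1 ((QuotientGroup.eq_one_iff (⟨d, hdM⟩ : M)).1 (Subgroup.mem_bot.1
    ((derived_inf_fixed (W := (W.subgroupOf M).map φ) (K := (K.subgroupOf M).map φ) ?_ ?_ ?_).le ⟨⟨?_, ?_⟩, ?_⟩)))
  · rintro _ ⟨k, hk, rfl⟩
    refine ComplAbelian.mem_normalizer_of_map_le ?_
    rintro _ ⟨c, hc, rfl⟩
    refine ⟨k * c * k⁻¹, ?_, by simp⟩
    exact (Subgroup.mem_normalizer_iff.1 (normalizer_UK hG hM hKU (hKU.hall.1 hk)) c).1 hc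
  · refine (Nat.Coprime.coprime_dvd_left (Subgroup.card_map_dvd _ φ) (Nat.Coprime.coprime_dvd_right
      (Subgroup.card_map_dvd _ φ) ?_))
    rw [Nat.card_congr (Subgroup.subgroupOfEquivOfLe hKU.hall.1).toEquiv,
      Nat.card_congr (Subgroup.subgroupOfEquivOfLe hWM).toEquiv]
    refine Nat.coprime_of_dvd fun r hr h1 h2 => ?_
    have h3 : Nat.card W ∣ Nat.card (Cfsg.sigmaCore M) * Nat.card U := by
      rw [hW, sup_comm]
      exact Dvd.intro _ (SolvBasic.card_sup_mul_card_inf (hKU.compl.1.trans (le_normalizer_sigmaCore M)))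
    rcases hr.dvd_mul.1 (h2.trans h3) with h | h
    · exact (hKU.hall.2.1 r hr h1).2.2.1 (mem_sigma_of_dvd hr h)
    · exact decomp_U_primes hKU hr h (hKU.hall.2.1 r hr h1)
  · intro q
    obtain ⟨a, rfl⟩ := QuotientGroup.mk'_surjective (R.subgroupOf M) q
    obtain ⟨w, hw, k, hk, he⟩ := exists_UK hG hM hKU a.2
    refine ⟨φ ⟨w, hWM hw⟩, ⟨_, hw, rfl⟩, φ ⟨k, hKU.hall.1 hk⟩, ⟨_, hk, rfl⟩, ?_⟩
    rw [← map_mul]
    exact congrArg φ (Subtype.ext he)
  · exact ⟨⟨d, hdM⟩, Subgroup.mem_sup_right hd.1, rfl⟩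
  · refine Subgroup.mem_centralizer_iff.2 ?_
    rintro _ ⟨k, hk, rfl⟩
    refine (map_mul φ k ⟨d, hdM⟩).symm.trans ((congrArg φ (Subtype.ext ?_)).trans (map_mul φ _ _))
    exact Subgroup.mem_centralizer_iff.1 hd.2 (k : G) hk
  · have h1 : (⟨d, hdM⟩ : M) ∈ ⁅(⊤ : Subgroup M), (⊤ : Subgroup M)⁆ := by
      rw [← Subgroup.mem_map_iff_mem M.subtype_injective, Subgroup.map_commutator, ← MonoidHom.range_eq_map,
        Subgroup.range_subtype]
      exact sigmaCore_le_derived hG hM hKU hd.1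
    have h2 : φ ⟨d, hdM⟩ ∈ (⁅(⊤ : Subgroup M), (⊤ : Subgroup M)⁆).map φ := Subgroup.mem_map_of_mem φ h1
    rw [Subgroup.map_commutator, ← MonoidHom.range_eq_map,
      MonoidHom.range_eq_top.2 (QuotientGroup.mk'_surjective _)] at h2
    exact h2

end Cfsg.Agent.OddOrder.Pairing
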