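/-
A Frobenius group `E K` acting on a normal `q`-subgroup `Q` with `C_Q(k) = D` of order `q` (BG 15.2(b)).
-/
import Cfsg.Agent.Lib.OddOrder.PartnerPair
import Cfsg.Agent.Lib.Signalizer.SFT.HH
import Cfsg.Agent.S1446

set_option autoImplicit false
set_option linter.style.haveILetI false
set_option linter.unusedSectionVars false

namespace Cfsg.Agent.OddOrder.Twist

open scoped commutatorElement IsMulCommutative Pointwise

universe u

variable {X : Type u} [Group X] [Finite X]

/-- `X = Q E K`, `E K` Frobenius, `K` prime on `Q` with fixed points `D` of order `q`, `E` moving `Q`. -/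
structure Setup (q : ℕ) (Q E K D : Subgroup X) : Prop where
  odd : Odd (Nat.card X)
  solvable : Group.IsSolvable X
  prime : q.Prime
  pgroup : IsPGroup q Q
  normal : Q.Normal
  copE : ¬ q ∣ Nat.card E
  copK : ¬ q ∣ Nat.card K
  copEK : (Nat.card E).Coprime (Nat.card K)
  norm : K ≤ Subgroup.normalizer (E : Set X)
  top : Q ⊔ E ⊔ K = ⊤
  K_ne : K ≠ ⊥
  cardD : Nat.card D = q
  D_le : D ≤ Q
  fix_one : ∀ k ∈ K, k ≠ 1 → Q ⊓ Subgroup.centralizer ({k} : Set X) = D
  fix_all : Q ⊓ Subgroup.centralizer (K : Set X) = D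
  fix_E : ∀ k ∈ K, k ≠ 1 → E ⊓ Subgroup.centralizer ({k} : Set X) = ⊥
  moving : ¬ E ≤ Subgroup.centralizer (Q : Set X)

theorem coprime_of_not_dvd {q : ℕ} (hq : q.Prime) {A B : Subgroup X} (hA : IsPGroup q A)
    (hB : ¬ q ∣ Nat.card B) : (Nat.card B).Coprime (Nat.card A) := by
  haveI := Fact.mk hq
  obtain ⟨n, hn⟩ := IsPGroup.iff_card.1 hA
  rw [hn]
  exact (Nat.Coprime.pow_right n ((hq.coprime_iff_not_dvd.2 hB).symm))

theorem card_map_mk (S : Subgroup X) (A : Subgroup X) [A.Normal] (hAS : A ≤ S) :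
    Nat.card S = Nat.card A * Nat.card (S.map (QuotientGroup.mk' A)) := by
  rw [← Subgroup.relIndex_ker (f := QuotientGroup.mk' A), QuotientGroup.ker_mk', ← Subgroup.relIndex_bot_left,
    ← Subgroup.relIndex_bot_left A, Subgroup.relIndex_mul_relIndex ⊥ A S bot_le hAS]

namespace Setup

variable {q : ℕ} {Q E K D : Subgroup X} (s : Setup q Q E K D)
include s

/-- The action of `E K` on an abelian section of `Q` not centralized by `E`. -/
theorem key {A B : Subgroup X} [hA : A.Normal] [hB : B.Normal] (hAB : A ≤ B) (hBQ : B ≤ Q) (hcomm : ⁅B, B⁆ ≤ A)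
    (hmove : ¬ ⁅B, E⁆ ≤ A) :
    (Nat.card K).Prime ∧ D ≤ B ∧ ¬ D ≤ A ∧
      Nat.card (⁅B.map (QuotientGroup.mk' A), E.map (QuotientGroup.mk' A)⁆ : Subgroup (X ⧸ A)) = q ^ Nat.card K ∧
      D.map (QuotientGroup.mk' A) ≤ ⁅B.map (QuotientGroup.mk' A), E.map (QuotientGroup.mk' A)⁆ ∧
      ⁅E.map (QuotientGroup.mk' A), E.map (QuotientGroup.mk' A)⁆ ≤
        Subgroup.centralizer ((⁅B.map (QuotientGroup.mk' A), E.map (QuotientGroup.mk' A)⁆ : Subgroup (X ⧸ A)) : Set (X ⧸ A)) := by
  haveI := s.solvable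
  haveI := Fact.mk s.prime
  set f := QuotientGroup.mk' A with hf
  set W := ⁅B.map f, E.map f⁆ with hW
  haveI : IsMulCommutative (B.map f) := .of_setLike_mul_comm (by
    rintro _ ⟨a, ha, rfl⟩ _ ⟨b, hb, rfl⟩
    rw [← commutatorElement_eq_one_iff_mul_comm, ← map_commutatorElement]
    exact (QuotientGroup.eq_one_iff _).2 (hcomm (Subgroup.commutator_mem_commutator ha hb)))
  have hsur : Function.Surjective f := QuotientGroup.mk'_surjective A
  haveI : (B.map f).Normal := hB.map f hsur
  haveI : Group.IsSolvable (X ⧸ A) := solvable_of_surjective hsur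
  have hWB : W ≤ B.map f := CoprimeAct.commutator_le_left Subgroup.le_normalizer_of_normal
  have hAp : IsPGroup q A := s.pgroup.to_le (hAB.trans hBQ)
  have hBp : IsPGroup q B := s.pgroup.to_le hBQ
  have hWp : IsPGroup q W := (hBp.map f).to_le hWB
  have hEA : ∀ e ∈ E, e ∈ A → e = 1 := fun e he hea => Subgroup.mem_bot.1
    ((Subgroup.inf_eq_bot_of_coprime (coprime_of_not_dvd s.prime hAp s.copE)).le ⟨he, hea⟩)
  have hKA : ∀ k ∈ K, k ∈ A → k = 1 := fun k hk hka => Subgroup.mem_bot.1
    ((Subgroup.inf_eq_bot_of_coprime (coprime_of_not_dvd s.prime hAp s.copK)).le ⟨hk, hka⟩)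
  have hKcard : Nat.card (K.map f) = Nat.card K := by
    refine (Nat.card_congr (Equiv.ofBijective (fun k : K => (⟨f k, k, k.2, rfl⟩ : K.map f)) ⟨fun a b h => ?_, ?_⟩)).symm
    · have h1 : f ((a : X)⁻¹ * b) = 1 := by
        rw [map_mul, map_inv, show f (a : X) = f b from congrArg Subtype.val h, inv_mul_cancel]
      exact Subtype.ext (inv_mul_eq_one.1 (hKA _ (K.mul_mem (K.inv_mem a.2) b.2) ((QuotientGroup.eq_one_iff _).1 h1)))
    · rintro ⟨_, k, hk, rfl⟩
      exact ⟨⟨k, hk⟩, rfl⟩
  have hEne : E.map f ≠ ⊥ := fun e => hmove (Subgroup.commutator_le.2 fun b hb x hx => by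
    have : f x = 1 := Subgroup.mem_bot.1 (e.le ⟨x, hx, rfl⟩)
    rw [hEA x hx ((QuotientGroup.eq_one_iff _).1 this), commutatorElement_one_right]
    exact A.one_mem)
  have hKne : K.map f ≠ ⊥ := fun e => s.K_ne (Subgroup.card_eq_one.1 (hKcard ▸ Subgroup.card_eq_one.2 e))
  have hKE : K.map f ≤ Subgroup.normalizer ((E.map f : Subgroup (X ⧸ A)) : Set (X ⧸ A)) :=
    (Subgroup.map_mono s.norm).trans (Subgroup.le_normalizer_map f)
  have hfrob : ∀ r ∈ K.map f, r ≠ 1 → E.map f ⊓ Subgroup.centralizer ({r} : Set (X ⧸ A)) = ⊥ := by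
    rintro _ ⟨k, hk, rfl⟩ hk1
    rw [Subgroup.eq_bot_iff_forall]
    rintro _ ⟨⟨e, he, rfl⟩, hek⟩
    have hk1' : k ≠ 1 := fun h => hk1 (by rw [h, map_one])
    have h1 : ⁅k, e⁆ ∈ A := (QuotientGroup.eq_one_iff _).1 (by
      show f ⁅k, e⁆ = 1
      rw [map_commutatorElement, commutatorElement_eq_one_iff_mul_comm]
      exact (Subgroup.mem_centralizer_singleton_iff.1 hek).symm)
    have h2 : ⁅k, e⁆ ∈ E := by
      rw [commutatorElement_def]
      exact E.mul_mem ((Subgroup.mem_normalizer_iff.1 (s.norm hk) e).1 he) (E.inv_mem he)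
    have h3 : e ∈ E ⊓ Subgroup.centralizer ({k} : Set X) := ⟨he, Subgroup.mem_centralizer_singleton_iff.2
      (commutatorElement_eq_one_iff_mul_comm.1 (hEA _ h2 h1)).symm⟩
    rw [Subgroup.mem_bot.1 ((s.fix_E k hk hk1').le h3), map_one]
  have hKEcop : (Nat.card (K.map f)).Coprime (Nat.card (E.map f)) :=
    Nat.Coprime.coprime_dvd_left (Subgroup.card_map_dvd _ f)
      (Nat.Coprime.coprime_dvd_right (Subgroup.card_map_dvd _ f) s.copEK.symm)
  have hsup : Nat.card (E.map f ⊔ K.map f : Subgroup (X ⧸ A)) ∣ Nat.card E * Nat.card K :=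
    (Dvd.intro _ (SolvBasic.card_sup_mul_card_inf hKE)).trans
      (Nat.mul_dvd_mul (Subgroup.card_map_dvd _ f) (Subgroup.card_map_dvd _ f))
  have hcop : (Nat.card (E.map f ⊔ K.map f : Subgroup (X ⧸ A))).Coprime (Nat.card W) :=
    Nat.Coprime.coprime_dvd_left hsup (by
      obtain ⟨n, hn⟩ := IsPGroup.iff_card.1 hWp
      rw [hn]
      exact Nat.Coprime.pow_right n (Nat.Coprime.mul_left (s.prime.coprime_iff_not_dvd.2 s.copE).symm
        (s.prime.coprime_iff_not_dvd.2 s.copK).symm))
  have hfixall : B.map f ⊓ Subgroup.centralizer ((K.map f : Subgroup (X ⧸ A)) : Set (X ⧸ A)) = (B ⊓ D).map f := by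
    rw [← CoprimeAct.map_inf_centralizer f Subgroup.le_normalizer_of_normal
      (coprime_of_not_dvd s.prime hBp s.copK) (Or.inr inferInstance), ← s.fix_all, ← inf_assoc,
      inf_eq_left.2 hBQ]
  have hfixone : ∀ k ∈ K, k ≠ 1 → B.map f ⊓ Subgroup.centralizer ({f k} : Set (X ⧸ A)) = (B ⊓ D).map f := by
    intro k hk hk1
    rw [← Plane.centralizer_zpowers (f k), ← MonoidHom.map_zpowers, ← CoprimeAct.map_inf_centralizer f
      Subgroup.le_normalizer_of_normal
      ((coprime_of_not_dvd s.prime hBp s.copK).coprime_dvd_left (Subgroup.card_dvd_of_le (Subgroup.zpowers_le.2 hk)))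
      (Or.inr inferInstance), Plane.centralizer_zpowers, ← s.fix_one k hk hk1, ← inf_assoc, inf_eq_left.2 hBQ]
  have hEW : E.map f ≤ Subgroup.normalizer (W : Set (X ⧸ A)) := Subgroup.normalizer_commutator_ge_right _ _
  have hKW : K.map f ≤ Subgroup.normalizer (W : Set (X ⧸ A)) := fun k hk => by
    rw [Subgroup.mem_normalizer_iff_map_conj_eq, hW, Subgroup.map_commutator,
      Subgroup.mem_normalizer_iff_map_conj_eq.1 (Subgroup.le_normalizer_of_normal (hk : k ∈ K.map f)),
      Subgroup.mem_normalizer_iff_map_conj_eq.1 (hKE hk)]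
  have hW1 : W ≠ ⊥ := fun e => hmove (Subgroup.commutator_le.2 fun b hb x hx => (QuotientGroup.eq_one_iff _).1 (by
    show f ⁅b, x⁆ = 1
    rw [map_commutatorElement]
    exact Subgroup.mem_bot.1 (e.le (Subgroup.commutator_mem_commutator ⟨b, hb, rfl⟩ ⟨x, hx, rfl⟩))))
  have hEB : (Nat.card (E.map f)).Coprime (Nat.card (B.map f)) :=
    coprime_of_not_dvd s.prime (hBp.map f) fun h => s.copE (h.trans (Subgroup.card_map_dvd _ f))
  have hCE : W ⊓ Subgroup.centralizer ((E.map f : Subgroup (X ⧸ A)) : Set (X ⧸ A)) = ⊥ :=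
    le_bot_iff.1 ((le_inf (inf_le_inf_right _ hWB) inf_le_left).trans
      (CoprimeAct.centralizer_inf_commutator_eq_bot Subgroup.le_normalizer_of_normal hEB).le)
  have hWfix : ∀ C : Subgroup (X ⧸ A), B.map f ⊓ C = (B ⊓ D).map f → W ⊓ C = W ⊓ (B ⊓ D).map f := fun C h => by
    rw [← h, ← inf_assoc, inf_eq_left.2 hWB]
  have hoddQ : Odd (Nat.card (X ⧸ A)) := s.odd.of_dvd_nat (Subgroup.card_quotient_dvd_card A)
  obtain ⟨hp, hcard, hcyc⟩ := S1446.result (E.map f) (K.map f) W hEne hKne
    (Subgroup.inf_eq_bot_of_coprime hKEcop.symm) hKE hfrob inferInstance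
    (hoddQ.of_dvd_nat (Subgroup.card_subgroup_dvd_card _)) hW1 hWp.isNilpotent hEW hKW hcop hCE (by
      rintro _ ⟨k, hk, rfl⟩ hk1
      rw [hWfix _ (hfixone k hk fun h => hk1 (by rw [h, map_one])), hWfix _ hfixall])
  rw [hKcard] at hp hcard
  rw [hWfix _ hfixall] at hcard
  have hne : W ⊓ (B ⊓ D).map f ≠ ⊥ := fun e => hW1 (Subgroup.card_eq_one.1 (by
    rw [hcard, e, Subgroup.card_bot, one_pow]))
  have hBD1 : (B ⊓ D).map f ≠ ⊥ := fun e => hne (by rw [e, inf_bot_eq])
  have hDcases : ∀ Y : Subgroup X, Y ≤ D → Y = ⊥ ∨ Y = D := fun Y hY => by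
    rcases (Nat.dvd_prime s.prime).1 (s.cardD ▸ Subgroup.card_dvd_of_le hY) with h | h
    · exact Or.inl (Subgroup.card_eq_one.1 h)
    · exact Or.inr (Subgroup.eq_of_le_of_card_ge hY (by rw [h, s.cardD]))
  have hDB : D ≤ B := by
    rcases hDcases (B ⊓ D) inf_le_right with h | h
    · exact absurd (by rw [h, Subgroup.map_bot]) hBD1
    · exact h ▸ inf_le_left
  rw [inf_eq_right.2 hDB] at hne hcard hBD1
  have hDA : ¬ D ≤ A := fun h => hBD1 ((Subgroup.map_eq_bot_iff _).2 (by rwa [hf, QuotientGroup.ker_mk']))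
  have hDc : Nat.card (D.map f) = q := by
    rcases (Nat.dvd_prime s.prime).1 (s.cardD ▸ Subgroup.card_map_dvd D f) with h | h
    · exact absurd (Subgroup.card_eq_one.1 h) hBD1
    · exact h
  have hWD : W ⊓ D.map f = D.map f := by
    refine Subgroup.eq_of_le_of_card_ge inf_le_right ?_
    rcases (Nat.dvd_prime s.prime).1 (hDc ▸ Subgroup.card_dvd_of_le (inf_le_right : W ⊓ D.map f ≤ D.map f)) with h | h
    · exact absurd (Subgroup.card_eq_one.1 h) hne
    · rw [h, hDc]
  rw [hWD, hDc] at hcard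
  refine ⟨hp, hDB, hDA, hcard, inf_eq_right.1 hWD, hcyc ?_⟩
  rw [hWfix _ hfixall, inf_eq_right.2 hDB, hWD]
  exact isCyclic_of_prime_card (p := q) hDc

/-- The Frattini subgroup of `Q`, in `X`. -/
theorem phi_normal : ((frattini Q).map Q.subtype).Normal := by
  haveI := s.normal
  exact FittingCores.normal_map_of_characteristic inferInstance inferInstance

theorem comm_phi : ⁅Q, Q⁆ ≤ (frattini Q).map Q.subtype := by
  haveI := Fact.mk s.prime
  haveI := s.pgroup.isNilpotent
  rw [← Subgroup.map_subtype_commutator]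
  exact Subgroup.map_mono (SolvStruct.commutator_le_frattini Q)

theorem pow_phi {x : X} (hx : x ∈ Q) : x ^ q ∈ (frattini Q).map Q.subtype := by
  haveI := Fact.mk s.prime
  exact ⟨⟨x, hx⟩ ^ q, PGroupBasics.pow_mem_frattini s.pgroup ⟨x, hx⟩, rfl⟩

theorem moves_phi : ¬ ⁅Q, E⁆ ≤ (frattini Q).map Q.subtype := by
  haveI := s.normal
  intro h
  refine s.moving (CoprimeAct.le_centralizer_of_frattini Subgroup.le_normalizer_of_normal
    ((coprime_of_not_dvd s.prime s.pgroup s.copE).coprime_dvd_right (Subgroup.card_subgroup_dvd_card _))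
    fun a ha k hk => ?_)
  rw [← commutatorElement_def, ← commutatorElement_inv]
  exact inv_mem (h (Subgroup.commutator_mem_commutator hk ha))

theorem first : (Nat.card K).Prime ∧ ¬ D ≤ (frattini Q).map Q.subtype ∧
    ¬ D ≤ Subgroup.centralizer (E : Set X) := by
  haveI := s.normal
  haveI := s.phi_normal
  obtain ⟨hp, -, hDA, -, hDW, -⟩ := s.key (A := (frattini Q).map Q.subtype) (B := Q) (Subgroup.map_subtype_le _) le_rfl
    s.comm_phi s.moves_phi
  refine ⟨hp, hDA, fun hDC => hDA ?_⟩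
  set A := (frattini Q).map Q.subtype
  set f := QuotientGroup.mk' A with hf
  haveI : IsMulCommutative (Q.map f) := .of_setLike_mul_comm (by
    rintro _ ⟨a, ha, rfl⟩ _ ⟨b, hb, rfl⟩
    rw [← commutatorElement_eq_one_iff_mul_comm, ← map_commutatorElement]
    exact (QuotientGroup.eq_one_iff _).2 (s.comm_phi (Subgroup.commutator_mem_commutator ha hb)))
  haveI : (Q.map f).Normal := s.normal.map f (QuotientGroup.mk'_surjective A)
  have h0 : D.map f ≤ (Q.map f ⊓ Subgroup.centralizer ((E.map f : Subgroup (X ⧸ A)) : Set (X ⧸ A))) ⊓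
      ⁅Q.map f, E.map f⁆ := by
    refine le_inf (le_inf (Subgroup.map_mono s.D_le) ?_) hDW
    rintro _ ⟨d, hd, rfl⟩
    refine Subgroup.mem_centralizer_iff.2 ?_
    rintro _ ⟨e, he, rfl⟩
    rw [← map_mul, ← map_mul, Subgroup.mem_centralizer_iff.1 (hDC hd) e he]
  have h1 := le_bot_iff.1 (h0.trans (CoprimeAct.centralizer_inf_commutator_eq_bot Subgroup.le_normalizer_of_normal
    (coprime_of_not_dvd s.prime (s.pgroup.map f) fun h => s.copE (h.trans (Subgroup.card_map_dvd _ f)))).le)
  exact ((Subgroup.map_eq_bot_iff _).1 h1).trans (QuotientGroup.ker_mk' A).le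

/-- `E` centralizes the Frattini subgroup of `Q`. -/
theorem phi_le : (frattini Q).map Q.subtype ≤ Q ⊓ Subgroup.centralizer (E : Set X) := by
  haveI := s.normal
  haveI := s.phi_normal
  refine le_inf (Subgroup.map_subtype_le _) ?_
  set B := (frattini Q).map Q.subtype with hB
  rw [Subgroup.le_centralizer_iff]
  by_contra hmove
  haveI : ((frattini B).map B.subtype).Normal := FittingCores.normal_map_of_characteristic inferInstance inferInstance
  haveI := Fact.mk s.prime
  have hBp : IsPGroup q B := s.pgroup.to_le (Subgroup.map_subtype_le _)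
  haveI := hBp.isNilpotent
  refine s.first.2.1 (s.key (A := (frattini B).map B.subtype) (B := B) (Subgroup.map_subtype_le _)
    (Subgroup.map_subtype_le _) ?_ fun h => ?_).2.1
  · rw [← Subgroup.map_subtype_commutator]
    exact Subgroup.map_mono (SolvStruct.commutator_le_frattini B)
  · refine hmove (CoprimeAct.le_centralizer_of_frattini Subgroup.le_normalizer_of_normal
      ((coprime_of_not_dvd s.prime hBp s.copE).coprime_dvd_right (Subgroup.card_subgroup_dvd_card _)) fun a ha k hk => ?_)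
    rw [← commutatorElement_def, ← commutatorElement_inv]
    exact inv_mem (h (Subgroup.commutator_mem_commutator hk ha))

/-- `C_Q(E)` is normal. -/
theorem fixed_normal : (Q ⊓ Subgroup.centralizer (E : Set X)).Normal := by
  haveI := s.normal
  set F := Q ⊓ Subgroup.centralizer (E : Set X) with hF
  rw [← Subgroup.normalizer_eq_top_iff, eq_top_iff, ← s.top]
  refine sup_le (sup_le (fun g hg => ComplAbelian.mem_normalizer_of_map_le fun x hx => ?_) ?_) ?_
  · have h1 : g * x * g⁻¹ = ⁅g, x⁆ * x := by rw [commutatorElement_def]; group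
    rw [h1]
    exact mul_mem (s.phi_le (s.comm_phi (Subgroup.commutator_mem_commutator hg hx.1))) hx
  · exact (Subgroup.le_centralizer_iff.1 (inf_le_right : F ≤ _)).trans (Subgroup.centralizer_le_normalizer _)
  · exact (le_inf Subgroup.le_normalizer_of_normal
      (s.norm.trans (FitOf.normalizer_le_normalizer_centralizer _))).trans Subgroup.inf_normalizer_le_normalizer_inf

theorem fixed_lt : Q ⊓ Subgroup.centralizer (E : Set X) < Q :=
  lt_of_le_of_ne inf_le_left fun e => s.moving (Subgroup.le_centralizer_iff.1 (e.ge.trans inf_le_right))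

/-- `|Q| = |C_Q(E)| q^|K|`, and `Q / C_Q(E)` is a chief factor. -/
theorem fixed_card :
    Nat.card Q = Nat.card (Q ⊓ Subgroup.centralizer (E : Set X) : Subgroup X) * q ^ Nat.card K ∧
      ∀ N : Subgroup X, N.Normal → Q ⊓ Subgroup.centralizer (E : Set X) < N → N ≤ Q → N = Q := by
  haveI := s.normal
  haveI := s.phi_normal
  haveI := s.solvable
  set A := (frattini Q).map Q.subtype with hA
  set f := QuotientGroup.mk' A with hf
  set F := Q ⊓ Subgroup.centralizer (E : Set X) with hF
  obtain ⟨-, -, -, hW, -, -⟩ := s.key (A := A) (B := Q) (Subgroup.map_subtype_le _) le_rfl s.comm_phi s.moves_phi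
  haveI : IsMulCommutative (Q.map f) := .of_setLike_mul_comm (by
    rintro _ ⟨a, ha, rfl⟩ _ ⟨b, hb, rfl⟩
    rw [← commutatorElement_eq_one_iff_mul_comm, ← map_commutatorElement]
    exact (QuotientGroup.eq_one_iff _).2 (s.comm_phi (Subgroup.commutator_mem_commutator ha hb)))
  haveI : (Q.map f).Normal := s.normal.map f (QuotientGroup.mk'_surjective A)
  have hcop : (Nat.card (E.map f)).Coprime (Nat.card (Q.map f)) :=
    coprime_of_not_dvd s.prime (s.pgroup.map f) fun h => s.copE (h.trans (Subgroup.card_map_dvd _ f))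
  have hC : Q.map f ⊓ Subgroup.centralizer ((E.map f : Subgroup (X ⧸ A)) : Set (X ⧸ A)) = F.map f :=
    (CoprimeAct.map_inf_centralizer f Subgroup.le_normalizer_of_normal (coprime_of_not_dvd s.prime s.pgroup s.copE)
      (Or.inr inferInstance)).symm
  have hsup := CoprimeAct.centralizer_sup_commutator (A := E.map f) (V := Q.map f) Subgroup.le_normalizer_of_normal hcop
  have hinf := CoprimeAct.centralizer_inf_commutator_eq_bot (A := E.map f) (V := Q.map f)
    Subgroup.le_normalizer_of_normal hcop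
  rw [hC] at hsup hinf
  refine ⟨?_, fun N hN hFN hNQ => ?_⟩
  · have hn : ⁅Q.map f, E.map f⁆ ≤ Subgroup.normalizer ((F.map f : Subgroup (X ⧸ A)) : Set (X ⧸ A)) :=
      (CoprimeAct.commutator_le_left Subgroup.le_normalizer_of_normal).trans
        ((Subgroup.le_centralizer (Q.map f)).trans ((Subgroup.centralizer_le (Subgroup.map_mono inf_le_left)).trans
          (Subgroup.centralizer_le_normalizer _)))
    have h := SolvBasic.card_sup_mul_card_inf hn
    rw [hsup, hinf, Subgroup.card_bot, mul_one, hW] at h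
    rw [card_map_mk Q A (Subgroup.map_subtype_le _), card_map_mk F A s.phi_le, h, mul_assoc]
  · have hAN : A ≤ N := s.phi_le.trans hFN.le
    obtain ⟨-, -, -, hWN, -, -⟩ := s.key (A := A) (B := N) hAN hNQ
      ((Subgroup.commutator_mono hNQ hNQ).trans s.comm_phi) fun h => hFN.not_ge fun n hn => by
        obtain ⟨c, hc, hnc⟩ := CoprimeAct.exists_mem_centralizer (A := E) (K := N) Subgroup.le_normalizer_of_normal
          (coprime_of_not_dvd s.prime (s.pgroup.to_le hNQ) s.copE) (Or.inr inferInstance) hAN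
          Subgroup.le_normalizer_of_normal Subgroup.le_normalizer_of_normal hn fun a ha => by
            rw [← commutatorElement_def, ← commutatorElement_inv]
            exact inv_mem (h (Subgroup.commutator_mem_commutator hn ha))
        have : n = c * (n⁻¹ * c)⁻¹ := by group
        rw [this]
        exact F.mul_mem ⟨hNQ hc.1, hc.2⟩ (F.inv_mem (s.phi_le hnc))
    have hWle : ⁅Q.map f, E.map f⁆ ≤ N.map f := by
      rw [← Subgroup.eq_of_le_of_card_ge (Subgroup.commutator_mono (Subgroup.map_mono hNQ) le_rfl :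
        ⁅N.map f, E.map f⁆ ≤ ⁅Q.map f, E.map f⁆) (by rw [hW, hWN])]
      haveI : (N.map f).Normal := hN.map f (QuotientGroup.mk'_surjective A)
      exact CoprimeAct.commutator_le_left Subgroup.le_normalizer_of_normal
    refine le_antisymm hNQ fun x hx => ?_
    have h1 : f x ∈ N.map f := (hsup ▸ sup_le (Subgroup.map_mono hFN.le) hWle : Q.map f ≤ N.map f) ⟨x, hx, rfl⟩
    obtain ⟨n, hn, hnx⟩ := h1
    have h2 : n⁻¹ * x ∈ A := QuotientGroup.eq.1 hnx
    have := N.mul_mem hn (hAN h2)
    rwa [mul_inv_cancel_left] at this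

/-- `E'` centralizes `Q`. -/
theorem derived_le : ⁅E, E⁆ ≤ Subgroup.centralizer (Q : Set X) := by
  haveI := s.normal
  haveI := s.phi_normal
  haveI := s.solvable
  set A := (frattini Q).map Q.subtype with hA
  set f := QuotientGroup.mk' A with hf
  obtain ⟨-, -, -, -, -, hW⟩ := s.key (A := A) (B := Q) (Subgroup.map_subtype_le _) le_rfl s.comm_phi s.moves_phi
  have hEE : ⁅E, E⁆ ≤ E := Subgroup.le_normalizer_iff_commutator_le_left.1 Subgroup.le_normalizer
  haveI : IsMulCommutative (Q.map f) := .of_setLike_mul_comm (by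
    rintro _ ⟨a, ha, rfl⟩ _ ⟨b, hb, rfl⟩
    rw [← commutatorElement_eq_one_iff_mul_comm, ← map_commutatorElement]
    exact (QuotientGroup.eq_one_iff _).2 (s.comm_phi (Subgroup.commutator_mem_commutator ha hb)))
  haveI : (Q.map f).Normal := s.normal.map f (QuotientGroup.mk'_surjective A)
  have hsup := CoprimeAct.centralizer_sup_commutator (A := E.map f) (V := Q.map f) Subgroup.le_normalizer_of_normal
    (coprime_of_not_dvd s.prime (s.pgroup.map f) fun h => s.copE (h.trans (Subgroup.card_map_dvd _ f)))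
  refine CoprimeAct.le_centralizer_of_frattini Subgroup.le_normalizer_of_normal
    (((coprime_of_not_dvd s.prime s.pgroup s.copE).coprime_dvd_right (Subgroup.card_subgroup_dvd_card _)).coprime_dvd_left
      (Subgroup.card_dvd_of_le hEE)) fun a ha k hk => ?_
  have h1 : Q.map f ≤ Subgroup.centralizer ((⁅E.map f, E.map f⁆ : Subgroup (X ⧸ A)) : Set (X ⧸ A)) := by
    rw [← hsup]
    exact sup_le (inf_le_right.trans (Subgroup.centralizer_le
      (Subgroup.le_normalizer_iff_commutator_le_left.1 Subgroup.le_normalizer)))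
      (Subgroup.le_centralizer_iff.1 hW)
  have ha' : f a ∈ ⁅E.map f, E.map f⁆ := Subgroup.map_commutator E E f ▸ Subgroup.mem_map_of_mem f ha
  rw [← commutatorElement_def]
  refine (QuotientGroup.eq_one_iff _).1 (show f ⁅a, k⁆ = 1 from ?_)
  rw [map_commutatorElement, commutatorElement_eq_one_iff_mul_comm]
  exact Subgroup.mem_centralizer_iff.1 (h1 ⟨k, hk, rfl⟩) _ ha'

end Setup

end Cfsg.Agent.OddOrder.Twist
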