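/-
Every nonidentity element lies in some `Ñ_σ` or is conjugate into `Z \ (K ∪ D)` (BG 14.5, 14.8).
-/
import Cfsg.Agent.Lib.OddOrder.PartnerPair
import Cfsg.Agent.S1374
import Cfsg.Agent.S1378

set_option autoImplicit false
set_option linter.style.haveILetI false
set_option linter.unusedSectionVars false

namespace Cfsg.Agent.OddOrder.Pairing

open scoped commutatorElement IsMulCommutative Pointwise
open Exceptional TauOne Kappa Support
open Tau3 (line_pgroup line_ne_bot)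

universe u

variable {G : Type u} [Group G] [Finite G]

/-- The `π`-part and the `π'`-part of an element. -/
theorem exists_pi_parts (π : Set ℕ) (g : G) :
    ∃ s r : G, g = s * r ∧ Commute s r ∧ s ∈ Subgroup.zpowers g ∧ r ∈ Subgroup.zpowers g ∧
      (∀ t : ℕ, t.Prime → t ∣ orderOf s → t ∈ π) ∧ ∀ t : ℕ, t.Prime → t ∣ orderOf r → t ∉ π := by
  classical
  set P := (orderOf g).primeFactors
  set f : ℕ → ℕ := fun p => p ^ (orderOf g).factorization p
  set a := ∏ p ∈ P.filter (fun p => p ∈ π), f p with ha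
  set b := ∏ p ∈ P.filter (fun p => ¬ p ∈ π), f p with hb
  have hab : orderOf g = a * b := by
    rw [ha, hb, Finset.prod_filter_mul_prod_filter_not]
    simp only [P, f]
    exact Nat.prod_primeFactors_pow_factorization (orderOf_pos g).ne'
  have hprimes : ∀ S : Finset ℕ, S ⊆ P → ∀ t : ℕ, t.Prime → t ∣ ∏ p ∈ S, f p → t ∈ S := by
    intro S hS t ht hd
    obtain ⟨p, hp, hdp⟩ := (Prime.dvd_finsetProd_iff ht.prime f).1 hd
    exact (Nat.prime_dvd_prime_iff_eq ht (Nat.prime_of_mem_primeFactors (hS hp))).1 (ht.dvd_of_dvd_pow hdp) ▸ hp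
  have ha' : ∀ t : ℕ, t.Prime → t ∣ a → t ∈ π := fun t ht hd =>
    (Finset.mem_filter.1 (hprimes _ (Finset.filter_subset _ _) t ht hd)).2
  have hb' : ∀ t : ℕ, t.Prime → t ∣ b → t ∉ π := fun t ht hd =>
    (Finset.mem_filter.1 (hprimes _ (Finset.filter_subset _ _) t ht hd)).2
  have hcop : a.Coprime b := Nat.coprime_of_dvd fun t ht h1 h2 => hb' t ht h2 (ha' t ht h1)
  have hgcd := Nat.gcd_eq_gcd_ab a b
  rw [hcop, Nat.cast_one] at hgcd
  refine ⟨g ^ ((b : ℤ) * Nat.gcdB a b), g ^ ((a : ℤ) * Nat.gcdA a b), ?_, (Commute.refl g).zpow_zpow _ _,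
    Subgroup.zpow_mem _ (Subgroup.mem_zpowers g) _, Subgroup.zpow_mem _ (Subgroup.mem_zpowers g) _,
    fun t ht hd => ha' t ht (hd.trans ?_), fun t ht hd => hb' t ht (hd.trans ?_)⟩
  · rw [← zpow_add, add_comm, ← hgcd, zpow_one]
  · rw [orderOf_dvd_iff_pow_eq_one, ← zpow_natCast, ← zpow_mul, mul_comm ((b : ℤ) * _), ← mul_assoc, zpow_mul,
      ← Nat.cast_mul, ← hab, zpow_natCast, pow_orderOf_eq_one, one_zpow]
  · rw [orderOf_dvd_iff_pow_eq_one, ← zpow_natCast, ← zpow_mul, mul_comm ((a : ℤ) * _), ← mul_assoc, zpow_mul,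
      ← Nat.cast_mul, mul_comm b a, ← hab, zpow_natCast, pow_orderOf_eq_one, one_zpow]

/-- Conjugation into a Hall subgroup of a solvable subgroup. -/
theorem exists_conj_hall {X H : Subgroup G} [hsol : Group.IsSolvable X] (hHX : H ≤ X)
    (hH : (Nat.card H).Coprime (H.relIndex X)) {b : G} (hb : b ∈ X) (hbo : (orderOf b).Coprime (H.relIndex X)) :
    ∃ c ∈ X, c * b * c⁻¹ ∈ H := by
  have hcard : Nat.card X = Nat.card H * H.relIndex X := by
    have := Subgroup.relIndex_mul_relIndex ⊥ H X bot_le hHX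
    rw [Subgroup.relIndex_bot_left, Subgroup.relIndex_bot_left] at this
    exact this.symm
  obtain ⟨⟨c, hc⟩, hle⟩ := HallSolv.hall_conj_le (G := X) hcard hH
    (H := H.subgroupOf X) (K := (Subgroup.zpowers b).subgroupOf X)
    (Nat.card_congr (Subgroup.subgroupOfEquivOfLe hHX).toEquiv)
    (by rwa [Nat.card_congr (Subgroup.subgroupOfEquivOfLe (Subgroup.zpowers_le.2 hb)).toEquiv, Nat.card_zpowers])
  exact ⟨c, hc, hle (Subgroup.smul_mem_pointwise_smul (⟨b, hb⟩ : X) (MulAut.conj (⟨c, hc⟩ : X))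
    ((Subgroup.zpowers b).subgroupOf X) (Subgroup.mem_zpowers b))⟩

/-- `σ(M)`-elements of `M` lie in `M_σ`. -/
theorem mem_sigmaCore_of_primes (hG : Cfsg.IsMinSimpleOddOrder G) {M : Subgroup G} (hM : IsCoatom M) {x : G}
    (hx : x ∈ M) (h : ∀ t : ℕ, t.Prime → t ∣ orderOf x → t ∈ Cfsg.sigma M) : x ∈ Cfsg.sigmaCore M :=
  le_sigmaCore_of_primes hG hM (Subgroup.zpowers_le.2 hx) (fun t ht hd => h t ht (by rwa [Nat.card_zpowers] at hd))
    (Subgroup.mem_zpowers x)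

/-- The predicate "lies in some `Ñ_σ`". -/
def InTilde (g : G) : Prop :=
  ∃ L : Subgroup G, IsCoatom L ∧ g ∈ Cfsg.tildeOf L ((Cfsg.sigmaCore L : Set G) \ {1})

theorem InTilde.conj {g : G} (h : InTilde g) (c : G) : InTilde (c * g * c⁻¹) := by
  obtain ⟨L, hL, a, ha, r, hr, y, rfl⟩ := h
  exact ⟨L, hL, a, ha, r, hr, c * y, by group⟩

theorem InTilde.of_conj {g : G} (c : G) (h : InTilde (c * g * c⁻¹)) : InTilde g := by
  have := h.conj c⁻¹
  rwa [show c⁻¹ * (c * g * c⁻¹) * c⁻¹⁻¹ = g by group] at this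

variable {M : Subgroup G} (hG : Cfsg.IsMinSimpleOddOrder G) (hM : IsCoatom M)
include hG hM

/-- A `τ₂(M)`-element with a unique maximal overgroup is conjugate into the `σ`-core of each `σ`-overgroup. -/
theorem exists_conj_sigmaCore {x : G} (hx1 : x ≠ 1) (hσ : ∀ t : ℕ, t.Prime → t ∣ orderOf x → t ∉ Cfsg.sigma M)
    (hu : ∀ L : Subgroup G, IsCoatom L → Subgroup.centralizer ({x} : Set G) ≤ L → L = M) {L : Subgroup G}
    (hL : IsCoatom L) (hxL : ∀ t : ℕ, t.Prime → t ∣ orderOf x → t ∈ Cfsg.sigma L) :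
    ∃ L₁ : Subgroup G, IsCoatom L₁ ∧ x ∈ Cfsg.sigmaCore L₁ := by
  obtain ⟨q, Q, hq, hQ, hQx⟩ := exists_line_zpowers hx1
  haveI := Fact.mk hq
  obtain ⟨y, hy, hy1⟩ := Plane.exists_ne_one hQ
  have hqd : q ∣ orderOf x := by
    rw [← Nat.card_zpowers, ← hQ]
    exact Subgroup.card_dvd_of_le hQx
  obtain ⟨h, hh⟩ := Sigma.exists_conj_le (hxL q hq hqd) (line_pgroup hQ)
  set L₁ := L.map (MulAut.conj h⁻¹).toMonoidHom with hL₁
  have hL₁c : IsCoatom L₁ := coatom_conj hL h⁻¹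
  have hσ₁ : ∀ t : ℕ, t.Prime → t ∣ orderOf x → t ∈ Cfsg.sigma L₁ := fun t ht htd => sigma_conj _ (hxL t ht htd)
  have hyL : y ∈ L₁ := ⟨h * y * h⁻¹, hh ⟨y, hy, rfl⟩, by simp [mul_assoc]⟩
  have hyσ : y ∈ Cfsg.sigmaCore L₁ := mem_sigmaCore_of_primes hG hL₁c hyL fun t ht htd =>
    hσ₁ t ht (htd.trans (orderOf_dvd_of_mem_zpowers (hQx hy)))
  obtain ⟨i, hi⟩ := hQx hy
  have hxy : x ∈ Subgroup.centralizer ({y} : Set G) :=
    Subgroup.mem_centralizer_singleton_iff.2 (by rw [← hi]; exact (Commute.self_zpow x i).eq)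
  by_cases hC : Subgroup.centralizer ({y} : Set G) ≤ L₁
  · exact ⟨L₁, hL₁c, mem_sigmaCore_of_primes hG hL₁c (hC hxy) hσ₁⟩
  obtain ⟨N, hN, hCN, -, -, -, -, hcompl, -⟩ := exists_support hG hL₁c hyσ hy1 hC
  have hCx : Subgroup.centralizer ({x} : Set G) ≤ Subgroup.centralizer ({y} : Set G) := by
    intro c hc
    rw [Subgroup.mem_centralizer_singleton_iff, ← hi]
    exact ((show Commute c x from Subgroup.mem_centralizer_singleton_iff.1 hc).zpow_right i).eq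
  obtain rfl : N = M := hu N hN (hCx.trans hCN)
  have hsplit := centralizer_compl hcompl hyL (hCN (Subgroup.mem_centralizer_singleton_iff.2 rfl)) hCN
  set C := Subgroup.centralizer ({y} : Set G)
  haveI := MinSimple.isSolvable hG (ne_top_of_le_ne_top hN.1 hCN)
  have hrel : (L₁ ⊓ C).relIndex C = Nat.card (Cfsg.sigmaCore N ⊓ C : Subgroup G) := by
    have h1 := Subgroup.relIndex_mul_relIndex ⊥ (L₁ ⊓ C) C bot_le inf_le_right
    rw [Subgroup.relIndex_bot_left, Subgroup.relIndex_bot_left] at h1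
    have hn : L₁ ⊓ C ≤ Subgroup.normalizer ((Cfsg.sigmaCore N ⊓ C : Subgroup G) : Set G) :=
      inf_le_right.trans (centralizer_le_normalizer_core hCN)
    have hsup : (Cfsg.sigmaCore N ⊓ C) ⊔ (L₁ ⊓ C) = C := le_antisymm (sup_le inf_le_right inf_le_right) fun c hc => by
      obtain ⟨a, ha, r, hr, rfl⟩ := hsplit.2.2.2 c hc
      exact mul_mem (Subgroup.mem_sup_right ha) (Subgroup.mem_sup_left hr)
    have h2 := SolvBasic.card_sup_mul_card_inf hn
    rw [hsup, inf_comm (Cfsg.sigmaCore N ⊓ C) (L₁ ⊓ C), hsplit.2.2.1, Subgroup.card_bot, mul_one, ← h1,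
      mul_comm (Nat.card (Cfsg.sigmaCore N ⊓ C : Subgroup G))] at h2
    exact Nat.eq_of_mul_eq_mul_left Nat.card_pos h2
  have hcσ : ∀ t : ℕ, t.Prime → t ∣ (L₁ ⊓ C).relIndex C → t ∈ Cfsg.sigma N := fun t ht htd =>
    mem_sigma_of_dvd ht ((hrel ▸ htd).trans (Subgroup.card_dvd_of_le inf_le_left))
  have hle : L₁ ⊓ C ≤ L₁ ⊓ N := inf_le_inf_left _ hCN
  obtain ⟨c, -, hc'⟩ := exists_conj_hall (X := C) (H := L₁ ⊓ C) inf_le_right
    (Nat.coprime_of_dvd fun t ht h1 h2 => not_dvd_complement hG hN hcompl ht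
      (h1.trans (Subgroup.card_dvd_of_le hle)) (hcσ t ht h2)) hxy
    (Nat.coprime_of_dvd fun t ht h1 h2 => hσ t ht h1 (hcσ t ht h2))
  refine ⟨L₁.map (MulAut.conj c⁻¹).toMonoidHom, coatom_conj hL₁c c⁻¹, mem_sigmaCore_of_primes hG
    (coatom_conj hL₁c c⁻¹) ⟨c * x * c⁻¹, hc'.1, by simp [mul_assoc]⟩ fun t ht htd => sigma_conj _ (hσ₁ t ht htd)⟩

/-- An element of `M` with nontrivial `σ(M)`-part. -/
theorem cover_of_mem {g : G} (hg : g ∈ M) {p : ℕ} (hp : p ∈ Cfsg.sigma M) (hpg : p ∣ orderOf g) :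
    InTilde g ∨ ((Cfsg.kappa M).Nonempty ∧ ∀ Z K : Subgroup G, Member Z M K → g ∈ conjOuter Z) := by
  obtain ⟨s, r, rfl, hsr, hs, hr, hsσ, hrσ⟩ := exists_pi_parts (Cfsg.sigma M) g
  have hsM : s ∈ M := Subgroup.zpowers_le.2 hg hs
  have hrM : r ∈ M := Subgroup.zpowers_le.2 hg hr
  have hsc : s ∈ Cfsg.sigmaCore M := mem_sigmaCore_of_primes hG hM hsM hsσ
  have hs1 : s ≠ 1 := fun e => by
    rw [e, one_mul] at hpg
    exact hrσ p hp.1 hpg hp
  by_cases hr1 : r = 1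
  · left
    refine ⟨M, hM, s, ⟨hsc, fun e => hs1 (Set.mem_singleton_iff.1 e)⟩, 1, one_mem _, 1, ?_⟩
    rw [hr1]
    group
  rcases S1432.result hG M hM s hsc hs1 r ⟨hrM, Subgroup.mem_centralizer_singleton_iff.2 hsr.eq.symm⟩ hr1 hrσ with
    ⟨hκ, -⟩ | ⟨hτ, ⟨L, hL, hLσ⟩, -, hu⟩
  · right
    obtain ⟨t, ht, htd⟩ := Nat.exists_prime_and_dvd fun e => hr1 (orderOf_eq_one_iff.1 e)
    refine ⟨⟨t, hκ t ht htd⟩, fun Z K m => ?_⟩
    obtain ⟨N, D, P⟩ := m.exists_pair hG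
    obtain ⟨E, U, hE, F⟩ := m.factor hG
    haveI := m.cyclic hG
    haveI := MinSimple.isSolvable hG hM.1
    obtain ⟨c, hc, hck⟩ := exists_conj_hall (X := M) (H := K) m.hall.1
      (Nat.coprime_of_dvd fun t ht h1 h2 => m.hall.2.2 t ht (m.hall.2.1 t ht h1) h2) hrM
      (Nat.coprime_of_dvd fun t ht h1 h2 => m.hall.2.2 t ht (hκ t ht h1) h2)
    have hk1 : c * r * c⁻¹ ≠ 1 := fun e => hr1 (conj_eq_one_iff.1 e)
    have hzC : ∀ w : G, w ∈ M → Commute w r → c * w * c⁻¹ ∈ Z := fun w hw hwr => by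
      rw [← m.sup, ← F.centralizer_of_mem hE inferInstance hck hk1]
      exact ⟨M.mul_mem (M.mul_mem hc hw) (M.inv_mem hc),
        Subgroup.mem_centralizer_singleton_iff.2 ((Commute.conj_iff c).2 hwr).eq⟩
    have hsD : c * s * c⁻¹ ∈ D := P.left_inf.le ⟨(Subgroup.mem_normalizer_iff.1 (le_normalizer_sigmaCore M hc) s).1 hsc,
      hzC s hsM hsr⟩
    refine ⟨c⁻¹, c * (s * r) * c⁻¹, ?_, by group⟩
    rw [P.outer_eq hG]
    have hz : c * (s * r) * c⁻¹ = c * s * c⁻¹ * (c * r * c⁻¹) := by group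
    refine ⟨hz ▸ Z.mul_mem (P.D_le_Z hsD) (m.K_le hck), ?_⟩
    rw [hz]
    rintro (h | h)
    · refine hs1 (conj_eq_one_iff.1 (Subgroup.mem_bot.1 (P.inf_eq.le ⟨?_, hsD⟩)))
      have := K.mul_mem h (K.inv_mem hck)
      rwa [mul_inv_cancel_right] at this
    · refine hk1 (Subgroup.mem_bot.1 (P.inf_eq.le ⟨hck, ?_⟩))
      have := D.mul_mem (D.inv_mem hsD) h
      rwa [inv_mul_cancel_left] at this
  · left
    obtain ⟨L₁, hL₁, hrL⟩ := exists_conj_sigmaCore hG hM hr1 hrσ hu hL hLσ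
    obtain ⟨t, ht, htd⟩ := Nat.exists_prime_and_dvd fun e => hr1 (orderOf_eq_one_iff.1 e)
    have hne : L₁ ≠ M := fun e => hrσ t ht htd (e ▸ primes_of_mem_sigmaCore hrL ht htd)
    rcases supportR_cases hG hL₁ hrL hr1 with ⟨hC, -⟩ | ⟨L', hL', -, hC, -, -, -, he⟩
    · exact absurd (hu L₁ hL₁ hC) hne
    obtain rfl := hu L' hL' hC
    refine ⟨L₁, hL₁, r, ⟨hrL, fun e => hr1 (Set.mem_singleton_iff.1 e)⟩, s, ?_, 1, ?_⟩
    · rw [he]
      exact ⟨hsc, Subgroup.mem_centralizer_singleton_iff.2 hsr.eq⟩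
    · rw [hsr.eq]
      group

omit hM in
/-- Every nonidentity element is conjugate into some `M` with a nontrivial `σ(M)`-part. -/
theorem exists_sigma_mem {g : G} (hg1 : g ≠ 1) :
    ∃ (M : Subgroup G) (p : ℕ) (c : G), IsCoatom M ∧ p ∈ Cfsg.sigma M ∧ p ∣ orderOf g ∧ c * g * c⁻¹ ∈ M := by
  obtain ⟨p, X, hp, hX, hXg⟩ := exists_line_zpowers hg1
  haveI := Fact.mk hp
  have hpg : p ∣ orderOf g := by
    rw [← Nat.card_zpowers, ← hX]
    exact Subgroup.card_dvd_of_le hXg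
  obtain ⟨M₀, hM₀, hp₀⟩ := (S1378.result hG).1 p hp (hX ▸ X.card_subgroup_dvd_card)
  obtain ⟨h, hh⟩ := Sigma.exists_conj_le hp₀ (line_pgroup hX)
  set M := M₀.map (MulAut.conj h⁻¹).toMonoidHom
  have hM : IsCoatom M := coatom_conj hM₀ h⁻¹
  have hpM : p ∈ Cfsg.sigma M := sigma_conj _ hp₀
  obtain ⟨a, ha, ha1⟩ := Plane.exists_ne_one hX
  have haM : a ∈ M := ⟨h * a * h⁻¹, hh ⟨a, ha, rfl⟩, by simp [mul_assoc]⟩
  have haσ : a ∈ Cfsg.sigmaCore M := mem_sigmaCore_of_primes hG hM haM fun t ht htd => by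
    rw [(Nat.prime_dvd_prime_iff_eq ht hp).1 (hX ▸ htd.trans (Subgroup.orderOf_dvd_natCard X ha))]
    exact hpM
  obtain ⟨i, hi⟩ := hXg ha
  have hgC : g ∈ Subgroup.centralizer ({a} : Set G) :=
    Subgroup.mem_centralizer_singleton_iff.2 (by rw [← hi]; exact (Commute.self_zpow g i).eq)
  by_cases hC : Subgroup.centralizer ({a} : Set G) ≤ M
  · exact ⟨M, p, 1, hM, hpM, hpg, by simpa using hC hgC⟩
  obtain ⟨N, hN, hCN, -, -, -, -, hcompl, -⟩ := exists_support hG hM haσ ha1 hC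
  by_cases hq : ∃ q, q ∈ Cfsg.sigma N ∧ q ∣ orderOf g
  · obtain ⟨q, hq1, hq2⟩ := hq
    exact ⟨N, q, 1, hN, hq1, hq2, by simpa using hCN hgC⟩
  push Not at hq
  have hsplit := centralizer_compl hcompl haM (hCN (Subgroup.mem_centralizer_singleton_iff.2 rfl)) hCN
  set C := Subgroup.centralizer ({a} : Set G)
  haveI := MinSimple.isSolvable hG (ne_top_of_le_ne_top hN.1 hCN)
  obtain ⟨hcop, -⟩ := S1374.result hG M hM a haσ ha1
  have hd : (M ⊓ C).relIndex C ∣ Nat.card (Cfsg.sigmaCore N) := by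
    have h1 := Subgroup.relIndex_mul_relIndex ⊥ (M ⊓ C) C bot_le inf_le_right
    rw [Subgroup.relIndex_bot_left, Subgroup.relIndex_bot_left] at h1
    have hsup : (Cfsg.sigmaCore N ⊓ C) ⊔ (M ⊓ C) = C := le_antisymm (sup_le inf_le_right inf_le_right) fun c hc => by
      obtain ⟨x, hx, r, hr, rfl⟩ := hsplit.2.2.2 c hc
      exact mul_mem (Subgroup.mem_sup_right hx) (Subgroup.mem_sup_left hr)
    have h2 := SolvBasic.card_sup_mul_card_inf (inf_le_right.trans (centralizer_le_normalizer_core hCN) :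
      M ⊓ C ≤ Subgroup.normalizer ((Cfsg.sigmaCore N ⊓ C : Subgroup G) : Set G))
    rw [hsup, inf_comm (Cfsg.sigmaCore N ⊓ C) (M ⊓ C), hsplit.2.2.1, Subgroup.card_bot, mul_one, ← h1,
      mul_comm (Nat.card (Cfsg.sigmaCore N ⊓ C : Subgroup G))] at h2
    exact (Nat.eq_of_mul_eq_mul_left Nat.card_pos h2) ▸ Subgroup.card_dvd_of_le inf_le_left
  obtain ⟨c, -, hc'⟩ := exists_conj_hall (X := C) (H := M ⊓ C) inf_le_right hcop hgC
    (Nat.coprime_of_dvd fun t ht h1 h2 => hq t (mem_sigma_of_dvd ht (h2.trans hd)) h1)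
  exact ⟨M, p, c, hM, hpM, hpg, hc'.1⟩

omit hM in
/-- If every `κ` is empty the sets `Ñ_σ` cover `G^#`. -/
theorem cover_of_kappa_empty (h : ∀ M : Subgroup G, IsCoatom M → Cfsg.kappa M = ∅) {g : G} (hg1 : g ≠ 1) :
    InTilde g := by
  obtain ⟨M, p, c, hM, hp, hpg, hc⟩ := exists_sigma_mem hG hg1
  rcases cover_of_mem hG hM hc hp (by rwa [← MulAut.conj_apply, MulEquiv.orderOf_eq]) with h' | ⟨⟨t, ht⟩, -⟩
  · exact h'.of_conj c
  · simp [h M hM] at ht

omit hM in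
/-- With a pair, every element of `G^#` is in some `Ñ_σ` or conjugate into `outer Z`. -/
theorem cover_of_pair {Z K N D : Subgroup G} {M₀ : Subgroup G} (P : Pair Z M₀ K N D) {g : G} (hg1 : g ≠ 1) :
    InTilde g ∨ g ∈ conjOuter Z := by
  obtain ⟨M, p, c, hM, hp, hpg, hc⟩ := exists_sigma_mem hG hg1
  rcases cover_of_mem hG hM hc hp (by rwa [← MulAut.conj_apply, MulEquiv.orderOf_eq]) with h' | ⟨hne, -⟩
  · exact Or.inl (h'.of_conj c)
  obtain ⟨d, hd⟩ := P.conj_of_kappa hG hM hne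
  obtain ⟨M', K', hM', m', hMM⟩ : ∃ M' K' : Subgroup G, IsCoatom M' ∧ Member Z M' K' ∧
      M = M'.map (MulAut.conj d).toMonoidHom := by
    rcases hd with e | e
    · exact ⟨M₀, K, P.left.coatom, P.left, e⟩
    · exact ⟨N, D, P.right.coatom, P.right, e⟩
  have hg' : d⁻¹ * c * g * (d⁻¹ * c)⁻¹ ∈ M' := by
    have := mem_map_conj.1 (hMM ▸ hc)
    simpa [mul_assoc] using this
  rcases cover_of_mem hG hM' hg' ((sigma_conj_iff d).1 (hMM ▸ hp))
      (by rwa [← MulAut.conj_apply, MulEquiv.orderOf_eq]) with h' | ⟨-, h'⟩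
  · exact Or.inl (h'.of_conj _)
  · obtain ⟨y, z, hz, he⟩ := h' Z K' m'
    refine Or.inr ⟨(d⁻¹ * c)⁻¹ * y, z, hz, ?_⟩
    calc g = (d⁻¹ * c)⁻¹ * (d⁻¹ * c * g * (d⁻¹ * c)⁻¹) * (d⁻¹ * c) := by group
      _ = _ := by rw [he]; group

end Cfsg.Agent.OddOrder.Pairing
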