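/-
The structure of a maximal subgroup whose `M_σ` is not nilpotent (BG 15.2).
-/
import Cfsg.Agent.Lib.OddOrder.PrimeTwist
import Cfsg.Agent.Lib.OddOrder.SigmaCover
import Cfsg.Agent.Lib.OddOrder.DerivedSigma
import Cfsg.Agent.Lib.Components.Fitting
import Cfsg.Agent.Lib.Solvable.Fitting
import Cfsg.Agent.S1414
import Cfsg.Agent.S1426
import Cfsg.Agent.S1445

set_option autoImplicit false
set_option linter.style.haveILetI false
set_option linter.unusedSectionVars false

namespace Cfsg.Agent.OddOrder.NonNil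

open scoped commutatorElement IsMulCommutative Pointwise
open Exceptional TauOne Kappa Support Pairing
open Tau3 (line_pgroup line_ne_bot)

universe u

variable {G : Type u} [Group G] [Finite G] {M K U : Subgroup G}

/-- `M' < M`. -/
theorem derived_lt (hG : Cfsg.IsMinSimpleOddOrder G) (hM : IsCoatom M) : ⁅M, M⁆ < M := by
  haveI := MinSimple.isSolvable hG hM.1
  haveI : Nontrivial M := (Subgroup.nontrivial_iff_ne_bot M).2 (coatom_ne_bot hG hM)
  have h := Group.IsSolvable.commutator_lt_top_of_nontrivial (G := M)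
  rw [← Subgroup.map_subtype_commutator]
  refine lt_of_le_of_ne (Subgroup.map_subtype_le _) fun e => h.ne ?_
  refine Subgroup.map_injective M.subtype_injective (e.trans ?_)
  rw [← MonoidHom.range_eq_map, Subgroup.range_subtype]

/-- A normal nilpotent subgroup has its elements of `q`-power order in `O_q`. -/
theorem mem_pCore_of_nilpotent {X : Type u} [Group X] [Finite X] {F : Subgroup X} (hF : F.Normal)
    (hn : Group.IsNilpotent F) {q : ℕ} [hq : Fact q.Prime] {x : X} (hx : x ∈ F)
    (hxq : IsPGroup q (Subgroup.zpowers x)) : x ∈ Cfsg.pCore q X := by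
  haveI := hF
  obtain ⟨P, hP⟩ := (hxq.of_equiv (Subgroup.subgroupOfEquivOfLe (Subgroup.zpowers_le.2 hx)).symm).exists_le_sylow
  haveI : (P : Subgroup F).Normal := (Group.isNilpotent_of_finite_tfae (G := F)).out 0 3 rfl rfl |>.1 hn q ⟨hq.out⟩ P
  haveI := P.characteristic_of_normal this
  exact FittingCores.le_pCore (FittingCores.normal_map_of_characteristic hF inferInstance) (P.isPGroup'.map F.subtype)
    ⟨⟨x, hx⟩, hP (Subgroup.mem_subgroupOf.2 (Subgroup.mem_zpowers x)), rfl⟩

/-- The data of BG 15.2. -/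
structure Data (M K : Subgroup G) (q : ℕ) (Q E : Subgroup G) : Prop where
  prime : q.Prime
  cardD : Nat.card (Cfsg.sigmaCore M ⊓ Subgroup.centralizer (K : Set G) : Subgroup G) = q
  Q_le : Q ≤ Cfsg.sigmaCore M
  pgroup : IsPGroup q Q
  D_le : Cfsg.sigmaCore M ⊓ Subgroup.centralizer (K : Set G) ≤ Q
  normal : M ≤ Subgroup.normalizer (Q : Set G)
  hall : ¬ q ∣ Q.relIndex (Cfsg.sigmaCore M)
  compl : Cfsg.IsComplIn Q E (Cfsg.sigmaCore M)
  norm : K ≤ Subgroup.normalizer (E : Set G)
  nilpotent : Group.IsNilpotent E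
  moving : ¬ E ≤ Subgroup.centralizer (Q : Set G)

variable (hG : Cfsg.IsMinSimpleOddOrder G) (hM : IsCoatom M) (hKU : Cfsg.IsSigmaDecomposition M K U)
  (hnn : ¬ Group.IsNilpotent (Cfsg.sigmaCore M))
include hG hM hKU hnn

theorem U_eq_bot : U = ⊥ := by
  by_contra hU
  obtain ⟨r, hr, hrd⟩ := Nat.exists_prime_and_dvd fun e => hU (Subgroup.card_eq_one.1 e)
  haveI := Fact.mk hr
  have hrσ := not_dvd_complement hG hM (decomp_compl hKU) hr (hrd.trans (Subgroup.card_dvd_of_le le_sup_left))
  have hrκ := decomp_U_primes hKU hr hrd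
  have hrM : r ∣ Nat.card M := hrd.trans (Subgroup.card_dvd_of_le hKU.compl.1)
  exact hnn (S1429.result hG M hM (fun h => hrκ (h r hr hrM hrσ)) r hrM (fun h => h.elim hrσ hrκ) default).2.2

theorem compl_K : Cfsg.IsComplIn K (Cfsg.sigmaCore M) M := by
  have h := decomp_compl hKU
  rwa [U_eq_bot hG hM hKU hnn, bot_sup_eq] at h

theorem K_ne : K ≠ ⊥ := by
  intro e
  have h := compl_K hG hM hKU hnn
  refine (derived_lt hG hM).not_ge fun x hx => ?_
  obtain ⟨a, ha, s, hs, rfl⟩ := h.2.2.2 x hx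
  rw [e, Subgroup.mem_bot] at ha
  rw [ha, one_mul]
  exact sigmaCore_le_derived hG hM hKU hs

theorem D_prime : (Nat.card (Cfsg.sigmaCore M ⊓ Subgroup.centralizer (K : Set G) : Subgroup G)).Prime := by
  have m := Member.of_hall hM hKU.hall (K_ne hG hM hKU hnn)
  obtain ⟨N, D, P⟩ := m.exists_pair hG
  rw [P.D_eq]
  exact (P.right.of_large hG (P.large.resolve_left fun h => (large_iff hKU).1 h (U_eq_bot hG hM hKU hnn))).2.1

theorem prime_fix {k : G} (hk : k ∈ K) (hk1 : k ≠ 1) :
    Cfsg.sigmaCore M ⊓ Subgroup.centralizer ({k} : Set G) = Cfsg.sigmaCore M ⊓ Subgroup.centralizer (K : Set G) :=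
  (decomp_factor hG hM hKU (K_ne hG hM hKU hnn)).prime k hk hk1

/-- `O_q(M)` is a Sylow subgroup of `M_σ` containing `C_{M_σ}(K)`. -/
theorem exists_sylow : ∃ (q : ℕ) (Q : Subgroup G), q.Prime ∧
    Nat.card (Cfsg.sigmaCore M ⊓ Subgroup.centralizer (K : Set G) : Subgroup G) = q ∧
    Q ≤ Cfsg.sigmaCore M ∧ IsPGroup q Q ∧ Cfsg.sigmaCore M ⊓ Subgroup.centralizer (K : Set G) ≤ Q ∧
    M ≤ Subgroup.normalizer (Q : Set G) ∧ ¬ q ∣ Q.relIndex (Cfsg.sigmaCore M) ∧
    ∀ E : Subgroup G, E ≤ Cfsg.sigmaCore M → Q ⊓ E = ⊥ → Group.IsNilpotent E := by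
  set D := Cfsg.sigmaCore M ⊓ Subgroup.centralizer (K : Set G) with hD
  have hq := D_prime hG hM hKU hnn
  set q := Nat.card D with hqdef
  haveI := Fact.mk hq
  have hKM := hKU.hall.1
  have hcompl := compl_K hG hM hKU hnn
  haveI := MinSimple.isSolvable hG hM.1
  set N := (Cfsg.sigmaCore M).subgroupOf M with hN
  haveI hNn : N.Normal := Subgroup.normal_subgroupOf_of_le_normalizer (le_normalizer_sigmaCore M)
  set R := K.subgroupOf M with hR
  have hodd : Odd (Nat.card M) := hG.1.of_dvd_nat M.card_subgroup_dvd_card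
  have hcop : (Nat.card N).Coprime (Nat.card R) := by
    rw [Nat.card_congr (Subgroup.subgroupOfEquivOfLe (sigmaCore_le M)).toEquiv,
      Nat.card_congr (Subgroup.subgroupOfEquivOfLe hKM).toEquiv]
    exact (ComplBasics.coprime_card hG hM hcompl).symm
  have hfix : ∀ k : M, k ∈ R → k ≠ 1 → ∀ x : M, x ∈ N → k * x = x * k → (x : G) ∈ D := by
    intro k hk hk1 x hx hkx
    rw [hD, ← prime_fix hG hM hKU hnn hk fun e => hk1 (Subtype.ext e)]
    exact ⟨hx, Subgroup.mem_centralizer_singleton_iff.2 (congrArg Subtype.val hkx).symm⟩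
  set O := Cfsg.pCore q M with hO
  haveI : O.Normal := FittingCores.pCore_normal q
  have hqσ : q ∈ Cfsg.sigma M := mem_sigma_of_dvd hq (Subgroup.card_dvd_of_le inf_le_left)
  have hON : O ≤ N := fun x hx => mem_sigmaCore_of_primes hG hM x.2 fun t ht htd => by
    obtain ⟨n, hn⟩ := IsPGroup.iff_card.1 (FittingCores.pCore_isPGroup (G := M) q)
    rw [Subgroup.coe_subtype, Subgroup.orderOf_coe] at htd
    have h := ht.dvd_of_dvd_pow (hn ▸ htd.trans (Subgroup.orderOf_dvd_natCard _ hx))
    exact (Nat.prime_dvd_prime_iff_eq ht hq).1 h ▸ hqσ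
  have hDO : ∀ d : M, (d : G) ∈ D → d ∈ O := by
    by_contra hDO
    push Not at hDO
    obtain ⟨d, hd, hdO⟩ := hDO
    have hprime : ∀ x ∈ R, x ≠ 1 → N ⊓ Subgroup.centralizer ({x} : Set M) = N ⊓ Subgroup.centralizer (R : Set M) := by
      intro x hx hx1
      refine le_antisymm (fun y hy => ⟨hy.1, Subgroup.mem_centralizer_iff.2 fun r hr => Subtype.ext ?_⟩)
        (inf_le_inf_left _ (Kappa.le_singleton hx))
      exact Subgroup.mem_centralizer_iff.1
        (hfix x hx hx1 y hy.1 (Subgroup.mem_centralizer_singleton_iff.1 hy.2).symm).2 (r : G) hr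
    have hF : Cfsg.fittingOf N ⊓ Subgroup.centralizer (R : Set M) = ⊥ := by
      rw [Subgroup.eq_bot_iff_forall]
      rintro x ⟨hxF, hxC⟩
      by_contra hx1
      have hxN : x ∈ N := Subgroup.map_subtype_le _ hxF
      have hxD : (x : G) ∈ D := ⟨hxN, Subgroup.mem_centralizer_iff.2 fun k hk => congrArg Subtype.val
        (Subgroup.mem_centralizer_iff.1 hxC ⟨k, hKM hk⟩ hk)⟩
      haveI : (Cfsg.fittingOf N).Normal :=
        FittingCores.normal_map_of_characteristic hNn Components.fittingSubgroup_characteristic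
      haveI : Group.IsNilpotent (Cfsg.fittingSubgroup N) := Components.fittingSubgroup_nilpotent
      have hxo : orderOf (x : G) = q := (Nat.dvd_prime hq).1 (Subgroup.orderOf_dvd_natCard D hxD) |>.resolve_left
        fun e => hx1 (Subtype.ext (orderOf_eq_one_iff.1 e))
      have hzp : Subgroup.zpowers (x : G) = D :=
        Subgroup.eq_of_le_of_card_ge (Subgroup.zpowers_le.2 hxD) (by rw [Nat.card_zpowers, hxo])
      have hxO : x ∈ O := mem_pCore_of_nilpotent
        (show (Cfsg.fittingOf N).Normal from inferInstance)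
        (Group.nilpotent_of_mulEquiv ((Cfsg.fittingSubgroup N).equivMapOfInjective N.subtype N.subtype_injective)) hxF
        (IsPGroup.of_card (n := 1) (by rw [Nat.card_zpowers, ← Subgroup.orderOf_coe, hxo, pow_one]))
      obtain ⟨i, hi⟩ := hzp.ge hd
      refine hdO ?_
      rw [show d = x ^ i from Subtype.ext (by rw [SubgroupClass.coe_zpow]; exact hi.symm)]
      exact O.zpow_mem hxO i
    have hKR : N ⊔ R = ⊤ := by
      rw [← Subgroup.subgroupOf_sup (sigmaCore_le M) hKM, Subgroup.subgroupOf_eq_top]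
      intro x hx
      obtain ⟨a, ha, s, hs, rfl⟩ := hcompl.2.2.2 x hx
      exact mul_mem (Subgroup.mem_sup_right ha) (Subgroup.mem_sup_left hs)
    have h1 := S1445.result hodd N R hKR hcop hprime hF
    have h2 : ⁅N, R⁆ = N := Subgroup.map_injective M.subtype_injective (by
      rw [Subgroup.map_commutator, hN, hR, Subgroup.map_subgroupOf_eq_of_le (sigmaCore_le M),
        Subgroup.map_subgroupOf_eq_of_le hKM]
      exact (S1426.result hG M hM K hcompl).2.1)
    have h3 : Cfsg.fittingOf N = N := le_antisymm (Subgroup.map_subtype_le _) (h2.ge.trans h1)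
    refine hnn ?_
    haveI : Group.IsNilpotent (Cfsg.fittingSubgroup N) := Components.fittingSubgroup_nilpotent
    haveI : Group.IsNilpotent N := Group.nilpotent_of_mulEquiv
      (((Cfsg.fittingSubgroup N).equivMapOfInjective N.subtype N.subtype_injective).trans (MulEquiv.subgroupCongr h3))
    exact Group.nilpotent_of_mulEquiv (Subgroup.subgroupOfEquivOfLe (sigmaCore_le M))
  set f := QuotientGroup.mk' O with hf
  haveI : (N.map f).Normal := hNn.map f (QuotientGroup.mk'_surjective O)
  have hnilq : Group.IsNilpotent (N.map f) := by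
    obtain ⟨r, hr, hrd⟩ := Nat.exists_prime_and_dvd fun e => K_ne hG hM hKU hnn (Subgroup.card_eq_one.1 e)
    haveI := Fact.mk hr
    obtain ⟨X, hXK, hX⟩ := exists_line_of_dvd hr hrd
    obtain ⟨k, hk, hk1⟩ := Plane.exists_ne_one hX
    set k' : M := ⟨k, hKM (hXK hk)⟩ with hk'
    refine FixedPointFreeThompson.isNilpotent_of_conj (N.map f) hr (f k') ?_ ?_
    · rw [← map_pow]
      refine (QuotientGroup.eq_one_iff _).2 ?_
      have : k' ^ r = 1 := Subtype.ext (by
        have h := pow_card_eq_one' (G := X) (x := ⟨k, hk⟩)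
        rw [hX] at h
        have h' := congrArg Subtype.val h
        simpa [hk'] using h')
      rw [this]
      exact one_mem _
    intro x hx hxk
    have h1 : x ∈ N.map f ⊓ Subgroup.centralizer (((Subgroup.zpowers k').map f : Subgroup (M ⧸ O)) : Set (M ⧸ O)) := by
      refine ⟨hx, ?_⟩
      rw [MonoidHom.map_zpowers, Plane.centralizer_zpowers]
      exact Subgroup.mem_centralizer_singleton_iff.2 hxk.symm
    rw [← CoprimeAct.map_inf_centralizer f Subgroup.le_normalizer_of_normal
      ((Nat.Coprime.coprime_dvd_left (Subgroup.card_dvd_of_le (Subgroup.zpowers_le.2 (show k' ∈ R from hXK hk)))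
        hcop.symm)) (Or.inr inferInstance)] at h1
    obtain ⟨y, hy, rfl⟩ := h1
    refine (QuotientGroup.eq_one_iff _).2 (hDO y (hfix k' (hXK hk) (fun e => hk1 (congrArg Subtype.val e)) y hy.1 ?_))
    exact Subgroup.mem_centralizer_iff.1 hy.2 k' (Subgroup.mem_zpowers k')
  have hidx : ¬ q ∣ Nat.card (N.map f) := by
    intro hd
    set P : Sylow q (N.map f) := default with hP
    haveI : (P : Subgroup (N.map f)).Normal :=
      (Group.isNilpotent_of_finite_tfae (G := N.map f)).out 0 3 rfl rfl |>.1 hnilq q ⟨hq⟩ P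
    haveI := P.characteristic_of_normal this
    set P' := (P : Subgroup (N.map f)).map (N.map f).subtype
    haveI : P'.Normal := FittingCores.normal_map_of_characteristic inferInstance inferInstance
    have h1 : IsPGroup q (P'.comap f) := (P.isPGroup'.map _).comap_of_ker_isPGroup f
      (by rw [QuotientGroup.ker_mk']; exact FittingCores.pCore_isPGroup q)
    have h2 : P'.comap f ≤ O := FittingCores.le_pCore inferInstance h1
    refine P.ne_bot_of_dvd_card hd ((Subgroup.eq_bot_iff_forall _).2 fun y hy => ?_)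
    obtain ⟨z, hz⟩ := QuotientGroup.mk'_surjective O (y : M ⧸ O)
    have : z ∈ O := h2 (show f z ∈ P' from hz ▸ ⟨y, hy, rfl⟩)
    exact Subtype.ext (hz.symm.trans ((QuotientGroup.eq_one_iff z).2 this))
  set Q := O.map M.subtype with hQ
  have hQM : Q ≤ M := Subgroup.map_subtype_le _
  refine ⟨q, Q, hq, hqdef.symm, ?_, (FittingCores.pCore_isPGroup q).map _, ?_, ?_, ?_, fun E hE hdis => ?_⟩
  · rintro _ ⟨x, hx, rfl⟩; exact hON hx
  · exact fun x hx => ⟨⟨x, sigmaCore_le M hx.1⟩, hDO _ hx, rfl⟩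
  · refine fun g hg => ComplAbelian.mem_normalizer_of_map_le ?_
    rintro _ ⟨x, hx, rfl⟩
    exact ⟨⟨g, hg⟩ * x * ⟨g, hg⟩⁻¹, (inferInstance : O.Normal).conj_mem x hx _, rfl⟩
  · intro hd
    refine hidx ?_
    rw [← Subgroup.relIndex_ker, QuotientGroup.ker_mk']
    rwa [hQ, ← Subgroup.map_subgroupOf_eq_of_le (sigmaCore_le M), ← hN,
      Subgroup.relIndex_map_map_of_injective _ _ M.subtype_injective] at hd
  · have hEM : E ≤ M := hE.trans (sigmaCore_le M)
    haveI := hnilq
    haveI : Group.IsNilpotent ((E.subgroupOf M).map f) := PlaneUnique.isNilpotent_of_le hnilq (Subgroup.map_mono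
      (fun x hx => hE hx : E.subgroupOf M ≤ N))
    have hinj : Function.Injective (f.comp (E.subgroupOf M).subtype) := (injective_iff_map_eq_one _).2 fun x hx => by
      have h1 : (x : M) ∈ O := (QuotientGroup.eq_one_iff _).1 hx
      exact Subtype.ext (Subtype.ext (Subgroup.mem_bot.1 (hdis.le ⟨⟨x, h1, rfl⟩, x.2⟩)))
    haveI : Group.IsNilpotent (E.subgroupOf M) := Group.nilpotent_of_mulEquiv
      ((MulEquiv.subgroupCongr (by rw [MonoidHom.range_comp, Subgroup.range_subtype])).trans
        (MonoidHom.ofInjective hinj).symm : (E.subgroupOf M).map f ≃* E.subgroupOf M)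
    exact Group.nilpotent_of_mulEquiv (Subgroup.subgroupOfEquivOfLe hEM)

end Cfsg.Agent.OddOrder.NonNil
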