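/-
BG 15.2: `|K|` and `|D|` primes, `q ∈ β(M)`, `Q / C_Q(E)` a chief factor of order `q ^ |K|`.
-/
import Cfsg.Agent.Lib.OddOrder.NonNilCore

set_option autoImplicit false
set_option linter.style.haveILetI false
set_option linter.unusedSectionVars false

namespace Cfsg.Agent.OddOrder.NonNil

open scoped commutatorElement IsMulCommutative Pointwise
open Exceptional TauOne Kappa Support Pairing
open Tau3 (line_pgroup line_ne_bot)

universe u

variable {G : Type u} [Group G] [Finite G] {M K U Q E : Subgroup G} {q : ℕ}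

theorem Data.card_mul (d : Data M K q Q E) : Nat.card Q * Nat.card E = Nat.card (Cfsg.sigmaCore M) := by
  have hn : E ≤ Subgroup.normalizer (Q : Set G) := (d.compl.2.1.trans (sigmaCore_le M)).trans d.normal
  have h := SolvBasic.card_sup_mul_card_inf hn
  have hsup : Q ⊔ E = Cfsg.sigmaCore M := le_antisymm (sup_le d.Q_le d.compl.2.1) fun x hx => by
    obtain ⟨a, ha, b, hb, rfl⟩ := d.compl.2.2.2 x hx
    exact mul_mem (Subgroup.mem_sup_left ha) (Subgroup.mem_sup_right hb)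
  rw [hsup, d.compl.2.2.1, Subgroup.card_bot, mul_one] at h
  exact h.symm

theorem Data.not_dvd (d : Data M K q Q E) : ¬ q ∣ Nat.card E := by
  have h1 := Subgroup.relIndex_mul_relIndex ⊥ Q (Cfsg.sigmaCore M) bot_le d.Q_le
  rw [Subgroup.relIndex_bot_left, Subgroup.relIndex_bot_left, ← d.card_mul] at h1
  exact Nat.eq_of_mul_eq_mul_left Nat.card_pos h1 ▸ d.hall

variable (hG : Cfsg.IsMinSimpleOddOrder G) (hM : IsCoatom M) (hKU : Cfsg.IsSigmaDecomposition M K U)
  (hnn : ¬ Group.IsNilpotent (Cfsg.sigmaCore M))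
include hG hM hKU hnn

theorem exists_data : ∃ (q : ℕ) (Q E : Subgroup G), Data M K q Q E := by
  obtain ⟨q, Q, hq, hD, hQ, hQp, hDQ, hQn, hQh, hnil⟩ := exists_sylow hG hM hKU hnn
  haveI := Fact.mk hq
  haveI := MinSimple.isSolvable hG hM.1
  have hcompl := compl_K hG hM hKU hnn
  have hqσ : q ∈ Cfsg.sigma M := mem_sigma_of_dvd hq (hD ▸ Subgroup.card_dvd_of_le inf_le_left)
  have hKq : ∀ r : ℕ, r.Prime → r ∣ Nat.card K → r ∈ {t : ℕ | t ≠ q} := fun r hr hd e =>
    (hKU.hall.2.1 r hr hd).2.2.1 (e ▸ hqσ)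
  obtain ⟨H, hH, hKH⟩ := exists_piHall {t : ℕ | t ≠ q} hKU.hall.1 hKq
  set E := H ⊓ Cfsg.sigmaCore M with hE
  have hdis : Q ⊓ E = ⊥ := by
    refine le_bot_iff.1 ((inf_le_inf_left Q inf_le_left).trans (Subgroup.inf_eq_bot_of_coprime
      (Nat.coprime_of_dvd fun t ht h1 h2 => hH.2.1 t ht h2 ?_)).le)
    obtain ⟨n, hn⟩ := IsPGroup.iff_card.1 hQp
    exact (Nat.prime_dvd_prime_iff_eq ht hq).1 (ht.dvd_of_dvd_pow (hn ▸ h1))
  have hQM : Q ≤ M := hQ.trans (sigmaCore_le M)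
  have hHn : H ≤ Subgroup.normalizer (Q : Set G) := hH.1.trans hQn
  have hsup : Q ⊔ H = M := by
    refine le_antisymm (sup_le hQM hH.1) ?_
    rw [← Subgroup.relIndex_eq_one]
    by_contra hne
    obtain ⟨t, ht, htd⟩ := Nat.exists_prime_and_dvd hne
    by_cases htq : t = q
    · subst htq
      have h1 : t ∣ Q.relIndex M :=
        htd.trans (Dvd.intro_left _ (Subgroup.relIndex_mul_relIndex Q (Q ⊔ H) M le_sup_left (sup_le hQM hH.1)))
      rw [← Subgroup.relIndex_mul_relIndex Q (Cfsg.sigmaCore M) M hQ (sigmaCore_le M)] at h1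
      rcases ht.dvd_mul.1 h1 with h | h
      · exact hQh h
      · obtain ⟨⟨-, -, hhall⟩, -, -⟩ := S1350.result hG M hM
        exact hhall t ht hqσ h
    · exact hH.2.2 t ht htq
        (htd.trans (Dvd.intro_left _ (Subgroup.relIndex_mul_relIndex H (Q ⊔ H) M le_sup_right (sup_le hQM hH.1))))
  have hc : Cfsg.IsComplIn Q E (Cfsg.sigmaCore M) := by
    refine ⟨hQ, inf_le_right, hdis, fun x hx => ?_⟩
    have hx' : x ∈ (Q : Set G) * (H : Set G) := by
      rw [← Subgroup.coe_mul_of_right_le_normalizer_left Q H hHn, hsup]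
      exact sigmaCore_le M hx
    obtain ⟨a, ha, h, hh, rfl⟩ := hx'
    refine ⟨a, ha, h, ⟨hh, ?_⟩, rfl⟩
    have := mul_mem (inv_mem (hQ ha)) hx
    rwa [inv_mul_cancel_left] at this
  have hKn : K ≤ Subgroup.normalizer (E : Set G) :=
    (le_inf (hKH.trans Subgroup.le_normalizer) (hKU.hall.1.trans (le_normalizer_sigmaCore M))).trans
      Subgroup.inf_normalizer_le_normalizer_inf
  refine ⟨q, Q, E, hq, hD, hQ, hQp, hDQ, hQn, hQh, hc, hKn, hnil E inf_le_right hdis, fun hcomm => hnn ?_⟩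
  haveI := hnil E inf_le_right hdis
  haveI := hQp.isNilpotent
  have hco : ∀ (a : Q) (b : E), Commute (Q.subtype a) (E.subtype b) := fun a b =>
    Subgroup.mem_centralizer_iff.1 (hcomm b.2) a a.2
  set φ := MonoidHom.noncommCoprod Q.subtype E.subtype hco with hφ
  have hr : φ.range = Cfsg.sigmaCore M := by
    rw [hφ, MonoidHom.noncommCoprod_range, Subgroup.range_subtype, Subgroup.range_subtype]
    refine le_antisymm (sup_le hQ inf_le_right) fun x hx => ?_
    obtain ⟨a, ha, b, hb, rfl⟩ := hc.2.2.2 x hx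
    exact mul_mem (Subgroup.mem_sup_left ha) (Subgroup.mem_sup_right hb)
  exact hr ▸ Group.nilpotent_of_surjective φ.rangeRestrict φ.rangeRestrict_surjective

variable (d : Data M K q Q E)
include d

/-- `q ∈ β(M)`. -/
theorem mem_beta : q ∈ Cfsg.beta M := by
  haveI := Fact.mk d.prime
  by_contra hβ
  obtain ⟨-, -, -, -, h⟩ := S1414.result hG M hM
  set S := Cfsg.sigmaCore M
  obtain ⟨-, ⟨P, N, hN, hc⟩, -⟩ := h q d.prime
    ((d.cardD ▸ Subgroup.card_dvd_of_le inf_le_left : q ∣ Nat.card (Cfsg.sigmaCore M)).trans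
      (Subgroup.card_dvd_of_le (sigmaCore_le M))) hβ
  haveI := hN
  haveI hQn : (Q.subgroupOf S).Normal :=
    Subgroup.normal_subgroupOf_of_le_normalizer ((sigmaCore_le M).trans d.normal)
  have hQP : Q.subgroupOf S ≤ (P : Subgroup S) :=
    (d.pgroup.of_equiv (Subgroup.subgroupOfEquivOfLe d.Q_le).symm).le_sylow_of_normal P
  have hEN : E.subgroupOf S ≤ N := Exceptional.le_of_coprime_index (by
    rw [hc.symm.index_eq_card]
    exact Twist.coprime_of_not_dvd d.prime P.isPGroup' (by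
      rw [Nat.card_congr (Subgroup.subgroupOfEquivOfLe d.compl.2.1).toEquiv]
      exact d.not_dvd))
  refine d.moving fun e he => Subgroup.mem_centralizer_iff.2 fun a ha => ?_
  set e' : S := ⟨e, d.compl.2.1 he⟩
  set a' : S := ⟨a, d.Q_le ha⟩
  have h1 : ⁅a', e'⁆ ∈ N ⊓ (P : Subgroup S) := by
    refine ⟨Subgroup.commutator_le_right (Q.subgroupOf S) N (Subgroup.commutator_mem_commutator ha (hEN he)),
      hQP ?_⟩
    exact Subgroup.commutator_le_left (Q.subgroupOf S) (E.subgroupOf S ⊔ N)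
      (Subgroup.commutator_mem_commutator ha (Subgroup.mem_sup_left he))
  have h2 : ⁅a', e'⁆ = 1 := Subgroup.mem_bot.1 (hc.disjoint.le_bot h1)
  exact congrArg Subtype.val (commutatorElement_eq_one_iff_mul_comm.1 h2)

theorem setup : Twist.Setup q (Q.subgroupOf M) (E.subgroupOf M) (K.subgroupOf M)
    ((Cfsg.sigmaCore M ⊓ Subgroup.centralizer (K : Set G)).subgroupOf M) := by
  have hσM := sigmaCore_le M
  have hQM : Q ≤ M := d.Q_le.trans hσM
  have hEM : E ≤ M := d.compl.2.1.trans hσM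
  have hKM := hKU.hall.1
  have hqσ : q ∈ Cfsg.sigma M := mem_sigma_of_dvd d.prime (d.cardD ▸ Subgroup.card_dvd_of_le inf_le_left)
  set D := Cfsg.sigmaCore M ⊓ Subgroup.centralizer (K : Set G) with hD
  have hDM : D ≤ M := inf_le_left.trans hσM
  have hfix : ∀ k : M, k ∈ K.subgroupOf M → k ≠ 1 → ∀ x : M, (x : G) ∈ Cfsg.sigmaCore M → x * k = k * x →
      (x : G) ∈ D := fun k hk hk1 x hx h => by
    rw [hD, ← prime_fix hG hM hKU hnn hk fun e => hk1 (Subtype.ext e)]
    exact ⟨hx, Subgroup.mem_centralizer_singleton_iff.2 (congrArg Subtype.val h)⟩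
  have hDfix : ∀ x : M, (x : G) ∈ D → x ∈ Q.subgroupOf M ⊓ Subgroup.centralizer ((K.subgroupOf M : Subgroup M) : Set M) :=
    fun x hx => ⟨d.D_le hx, Subgroup.mem_centralizer_iff.2 fun k hk =>
      Subtype.ext (Subgroup.mem_centralizer_iff.1 hx.2 (k : G) hk)⟩
  obtain ⟨k₀, hk₀, hk₀1⟩ := (Subgroup.bot_or_exists_ne_one K).resolve_left (K_ne hG hM hKU hnn)
  refine ⟨hG.1.of_dvd_nat M.card_subgroup_dvd_card, MinSimple.isSolvable hG hM.1, d.prime,
    d.pgroup.of_equiv (Subgroup.subgroupOfEquivOfLe hQM).symm, Subgroup.normal_subgroupOf_of_le_normalizer d.normal,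
    ?_, ?_, ?_, fun k hk => ?_, ?_, ?_, ?_, fun x hx => d.D_le hx, fun k hk hk1 => ?_, ?_, fun k hk hk1 => ?_, ?_⟩
  · rw [Nat.card_congr (Subgroup.subgroupOfEquivOfLe hEM).toEquiv]
    exact d.not_dvd
  · rw [Nat.card_congr (Subgroup.subgroupOfEquivOfLe hKM).toEquiv]
    exact fun h => (hKU.hall.2.1 q d.prime h).2.2.1 hqσ
  · rw [Nat.card_congr (Subgroup.subgroupOfEquivOfLe hKM).toEquiv, Nat.card_congr (Subgroup.subgroupOfEquivOfLe hEM).toEquiv]
    exact ((ComplBasics.coprime_card hG hM (compl_K hG hM hKU hnn)).coprime_dvd_right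
      (Subgroup.card_dvd_of_le d.compl.2.1)).symm
  · exact ComplAbelian.mem_normalizer_of_map_le fun x hx => (Subgroup.mem_normalizer_iff.1 (d.norm hk) (x : G)).1 hx
  · rw [← Subgroup.subgroupOf_sup hQM hEM, ← Subgroup.subgroupOf_sup (sup_le hQM hEM) hKM, Subgroup.subgroupOf_eq_top]
    intro x hx
    obtain ⟨a, ha, s, hs, rfl⟩ := (compl_K hG hM hKU hnn).2.2.2 x hx
    obtain ⟨b, hb, e, he, rfl⟩ := d.compl.2.2.2 s hs
    exact mul_mem (Subgroup.mem_sup_right ha)
      (Subgroup.mem_sup_left (mul_mem (Subgroup.mem_sup_left hb) (Subgroup.mem_sup_right he)))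
  · exact fun e => hk₀1 (congrArg Subtype.val (Subgroup.mem_bot.1 (e.le (show (⟨k₀, hKM hk₀⟩ : M) ∈ K.subgroupOf M from hk₀))))
  · rw [Nat.card_congr (Subgroup.subgroupOfEquivOfLe hDM).toEquiv]
    exact d.cardD
  · refine le_antisymm (fun x hx => hfix k hk hk1 x (d.Q_le hx.1) (Subgroup.mem_centralizer_singleton_iff.1 hx.2))
      fun x hx => ⟨d.D_le hx, Kappa.le_singleton hk (hDfix x hx).2⟩
  · refine le_antisymm (fun x hx => hfix ⟨k₀, hKM hk₀⟩ hk₀ (fun e => hk₀1 (congrArg Subtype.val e)) x (d.Q_le hx.1) ?_)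
      hDfix
    exact (Subgroup.mem_centralizer_iff.1 hx.2 ⟨k₀, hKM hk₀⟩ hk₀).symm
  · rw [Subgroup.eq_bot_iff_forall]
    rintro x ⟨hx, hxk⟩
    exact Subtype.ext (Subgroup.mem_bot.1 (d.compl.2.2.1.le
      ⟨d.D_le (hfix k hk hk1 x (d.compl.2.1 hx) (Subgroup.mem_centralizer_singleton_iff.1 hxk)), hx⟩))
  · refine fun h => d.moving fun e he => Subgroup.mem_centralizer_iff.2 fun a ha => ?_
    exact congrArg Subtype.val (Subgroup.mem_centralizer_iff.1
      (h (show (⟨e, hEM he⟩ : M) ∈ E.subgroupOf M from he)) ⟨a, hQM ha⟩ ha)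

/-- `|K|` is prime. -/
theorem K_prime : (Nat.card K).Prime := by
  rw [← Nat.card_congr (Subgroup.subgroupOfEquivOfLe hKU.hall.1).toEquiv]
  exact (setup hG hM hKU hnn d).first.1

theorem map_fixed : ((Q.subgroupOf M ⊓ Subgroup.centralizer ((E.subgroupOf M : Subgroup M) : Set M)).map M.subtype) =
    Q ⊓ Subgroup.centralizer (E : Set G) := by
  refine le_antisymm ?_ fun x hx => ⟨⟨x, sigmaCore_le M (d.Q_le hx.1)⟩, ⟨hx.1, ?_⟩, rfl⟩
  · rintro _ ⟨x, hx, rfl⟩
    exact ⟨hx.1, Subgroup.mem_centralizer_iff.2 fun e he => congrArg Subtype.val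
      (Subgroup.mem_centralizer_iff.1 hx.2 ⟨e, sigmaCore_le M (d.compl.2.1 he)⟩ he)⟩
  · exact Subgroup.mem_centralizer_iff.2 fun e he => Subtype.ext (Subgroup.mem_centralizer_iff.1 hx.2 (e : G) he)

theorem fixed_normal : M ≤ Subgroup.normalizer ((Q ⊓ Subgroup.centralizer (E : Set G) : Subgroup G) : Set G) := by
  rw [← map_fixed hG hM hKU hnn d]
  refine fun g hg => ComplAbelian.mem_normalizer_of_map_le ?_
  rintro _ ⟨x, hx, rfl⟩
  exact ⟨⟨g, hg⟩ * x * ⟨g, hg⟩⁻¹, (setup hG hM hKU hnn d).fixed_normal.conj_mem x hx _, rfl⟩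

theorem fixed_lt : Q ⊓ Subgroup.centralizer (E : Set G) < Q := by
  refine lt_of_le_of_ne inf_le_left fun e => d.moving ?_
  exact Subgroup.le_centralizer_iff.1 (e.ge.trans inf_le_right)

theorem fixed_card :
    Nat.card Q = Nat.card (Q ⊓ Subgroup.centralizer (E : Set G) : Subgroup G) * q ^ Nat.card K := by
  have h := (setup hG hM hKU hnn d).fixed_card.1
  rwa [Nat.card_congr (Subgroup.subgroupOfEquivOfLe (d.Q_le.trans (sigmaCore_le M))).toEquiv,
    Nat.card_congr (Subgroup.subgroupOfEquivOfLe hKU.hall.1).toEquiv,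
    ← Subgroup.card_map_of_injective M.subtype_injective, map_fixed hG hM hKU hnn d] at h

theorem pow_comm {a b : G} (ha : a ∈ Q) (hb : b ∈ Q) : a ^ q ∈ Q ⊓ Subgroup.centralizer (E : Set G) ∧
    a * b * a⁻¹ * b⁻¹ ∈ Q ⊓ Subgroup.centralizer (E : Set G) := by
  have s := setup hG hM hKU hnn d
  have hQM : Q ≤ M := d.Q_le.trans (sigmaCore_le M)
  rw [← map_fixed hG hM hKU hnn d]
  exact ⟨⟨(⟨a, hQM ha⟩ : M) ^ q, s.phi_le (s.pow_phi ha), rfl⟩, ⟨⁅(⟨a, hQM ha⟩ : M), ⟨b, hQM hb⟩⁆,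
    s.phi_le (s.comm_phi (Subgroup.commutator_mem_commutator ha hb)), rfl⟩⟩

theorem chief {N : Subgroup G} (h1 : Q ⊓ Subgroup.centralizer (E : Set G) < N) (h2 : N < Q) :
    ¬ M ≤ Subgroup.normalizer (N : Set G) := by
  intro hn
  have hQM : Q ≤ M := d.Q_le.trans (sigmaCore_le M)
  have hNM : N ≤ M := h2.le.trans hQM
  have hinj : ∀ A B : Subgroup G, A ≤ M → B ≤ M → A.subgroupOf M = B.subgroupOf M → A = B := fun A B hA hB e => by
    rw [← Subgroup.map_subgroupOf_eq_of_le hA, e, Subgroup.map_subgroupOf_eq_of_le hB]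
  refine h2.ne (hinj _ _ hNM hQM ((setup hG hM hKU hnn d).fixed_card.2 _
    (Subgroup.normal_subgroupOf_of_le_normalizer hn) ?_ fun x hx => h2.le hx))
  have hF : Q.subgroupOf M ⊓ Subgroup.centralizer ((E.subgroupOf M : Subgroup M) : Set M) =
      (Q ⊓ Subgroup.centralizer (E : Set G)).subgroupOf M := by
    rw [← map_fixed hG hM hKU hnn d]
    exact (Subgroup.comap_map_eq_self_of_injective M.subtype_injective _).symm
  rw [hF]
  exact lt_of_le_of_ne (fun x hx => h1.le hx) fun e => h1.ne (hinj _ _ (inf_le_left.trans hQM) hNM e)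

/-- Complements of `Q` in `M_σ` are conjugate under `M`. -/
theorem compl_conj {E' : Subgroup G} (hE' : Cfsg.IsComplIn Q E' (Cfsg.sigmaCore M)) :
    ∃ c ∈ M, E'.map (MulAut.conj c).toMonoidHom = E ∧ Group.IsNilpotent E' ∧
      Q ⊓ Subgroup.centralizer (E' : Set G) = Q ⊓ Subgroup.centralizer (E : Set G) := by
  set S := Cfsg.sigmaCore M with hS
  haveI := MinSimple.isSolvable hG (ne_top_of_le_ne_top hM.1 (sigmaCore_le M))
  have hcard : Nat.card S = Nat.card E * Nat.card Q := by rw [← d.card_mul, mul_comm]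
  have hE'c : Nat.card E' = Nat.card E := by
    have h := SolvBasic.card_sup_mul_card_inf (hE'.2.1.trans ((sigmaCore_le M).trans d.normal))
    have hsup : Q ⊔ E' = S := le_antisymm (sup_le hE'.1 hE'.2.1) fun x hx => by
      obtain ⟨a, ha, b, hb, rfl⟩ := hE'.2.2.2 x hx
      exact mul_mem (Subgroup.mem_sup_left ha) (Subgroup.mem_sup_right hb)
    rw [hsup, hE'.2.2.1, Subgroup.card_bot, mul_one, ← d.card_mul] at h
    exact Nat.eq_of_mul_eq_mul_left Nat.card_pos h.symm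
  have hcop := Twist.coprime_of_not_dvd d.prime d.pgroup d.not_dvd
  obtain ⟨⟨c, hc⟩, hle⟩ := HallSolv.hall_conj_le (G := S) hcard hcop
    (H := E.subgroupOf S) (K := E'.subgroupOf S) (Nat.card_congr (Subgroup.subgroupOfEquivOfLe d.compl.2.1).toEquiv)
    (by rwa [Nat.card_congr (Subgroup.subgroupOfEquivOfLe hE'.2.1).toEquiv, hE'c])
  have hmap : E'.map (MulAut.conj c).toMonoidHom = E := by
    refine Subgroup.eq_of_le_of_card_ge ?_ (by rw [Subgroup.card_map_of_injective (MulAut.conj c).injective, hE'c])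
    rintro _ ⟨x, hx, rfl⟩
    exact hle (Subgroup.smul_mem_pointwise_smul (⟨x, hE'.2.1 hx⟩ : S) (MulAut.conj (⟨c, hc⟩ : S)) (E'.subgroupOf S) hx)
  have hcM : c ∈ M := sigmaCore_le M hc
  refine ⟨c, hcM, hmap, ?_, ?_⟩
  · haveI : Group.IsNilpotent (E'.map (MulAut.conj c).toMonoidHom) := hmap ▸ d.nilpotent
    exact Group.nilpotent_of_mulEquiv
      (E'.equivMapOfInjective (MulAut.conj c).toMonoidHom (MulAut.conj c).injective).symm
  · ext x
    have key : c * x * c⁻¹ ∈ Q ⊓ Subgroup.centralizer (E : Set G) ↔ x ∈ Q ⊓ Subgroup.centralizer (E' : Set G) := by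
      rw [Subgroup.mem_inf, Subgroup.mem_inf, ← Subgroup.mem_normalizer_iff.1 (d.normal hcM) x, ← hmap]
      refine and_congr_right fun _ => ⟨fun h => Subgroup.mem_centralizer_iff.2 fun e he => ?_,
        fun h => Subgroup.mem_centralizer_iff.2 ?_⟩
      · exact (Commute.conj_iff c).1 (Subgroup.mem_centralizer_iff.1 h _ ⟨e, he, rfl⟩)
      · rintro _ ⟨e, he, rfl⟩
        exact (Commute.conj_iff c).2 (Subgroup.mem_centralizer_iff.1 h e he)
    rw [← key, ← Subgroup.mem_normalizer_iff.1 (fixed_normal hG hM hKU hnn d hcM) x]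

end Cfsg.Agent.OddOrder.NonNil
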