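/-
The complement `U` of a standard factorisation (BG 14.?, consequences of 12.12).
-/
import Cfsg.Agent.Lib.OddOrder.TauTwoCore
import Cfsg.Agent.Lib.OddOrder.TauOnePartner

set_option autoImplicit false
set_option linter.style.haveILetI false
set_option linter.unusedSectionVars false

namespace Cfsg.Agent.OddOrder.TypeU

open Exceptional

universe u

variable {G : Type u} [Group G] [Finite G] {M K U : Subgroup G}

theorem card_mul_relIndex {H L : Subgroup G} (h : H ≤ L) : Nat.card H * H.relIndex L = Nat.card L := by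
  rw [← Nat.card_congr (Subgroup.subgroupOfEquivOfLe h).toEquiv, Subgroup.relIndex]
  exact Subgroup.card_mul_index _

/-- `κ(M)` consists of primes of rank one. -/
theorem kappa_rank {p : ℕ} (h : p ∈ Cfsg.kappa M) : Cfsg.PRankLE p 1 M := by
  haveI := Fact.mk h.1
  obtain ⟨P⟩ : Nonempty (Sylow p M) := inferInstance
  refine LocalFactor.prankLE_of_sylow P fun B hB hBp => ?_
  haveI := (h.2.2.2 P).1
  haveI : IsCyclic B := isCyclic_of_injective B.subtype B.subtype_injective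
  rw [pow_one, ← IsCyclic.exponent_eq_card]
  exact Nat.le_of_dvd h.1.pos (Monoid.exponent_dvd_of_forall_pow_eq_one fun b => Subtype.ext (hBp b b.2))

variable (hG : Cfsg.IsMinSimpleOddOrder G) (hM : IsCoatom M) (hKU : Cfsg.IsSigmaDecomposition M K U)
include hG hM hKU

theorem U_le : U ≤ M := hKU.compl.1

theorem K_normalizes_sigma : K ≤ Subgroup.normalizer (Cfsg.sigmaCore M : Set G) :=
  hKU.hall.1.trans (le_normalizer_sigmaCore M)

theorem card_U : (K ⊔ Cfsg.sigmaCore M).relIndex M = Nat.card U := Compl.relIndex_right hKU.compl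

theorem not_sigma_kappa {q : ℕ} (hq : q.Prime) (hd : q ∣ Nat.card U) :
    q ∉ Cfsg.sigma M ∧ q ∉ Cfsg.kappa M := by
  haveI := Fact.mk hq
  rw [← card_U hG hM hKU] at hd
  refine ⟨fun hσ => ?_, fun hκ => ?_⟩
  · refine (Sigma.hall hG hM (π := Cfsg.sigma M)
      (fun a ha => by haveI := Fact.mk ha.1; exact Sigma.alpha_subset_sigma hG hM ha) subset_rfl).1.2.2 q hq hσ ?_
    show q ∣ (Cfsg.sigmaCore M).relIndex M
    rw [← Subgroup.relIndex_mul_relIndex (Cfsg.sigmaCore M) _ M le_sup_right (sup_le hKU.hall.1 (sigmaCore_le M))]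
    exact hd.mul_left _
  · refine hKU.hall.2.2 q hq hκ ?_
    rw [← Subgroup.relIndex_mul_relIndex K _ M le_sup_left (sup_le hKU.hall.1 (sigmaCore_le M))]
    exact hd.mul_left _

/-- Elements of prime order and rank one of `U` act without fixed points on `M_σ`. -/
theorem regular : TauTwoAb.Regular M U := by
  intro x hx hxp hr1
  haveI := Fact.mk hxp
  obtain ⟨hσ, hκ⟩ := not_sigma_kappa hG hM hKU hxp (Subgroup.orderOf_dvd_natCard U hx)
  have hxM : x ∈ M := hKU.compl.1 hx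
  rw [Subgroup.eq_bot_iff_forall]
  rintro y ⟨hy, hyx⟩
  by_contra hy1
  refine hκ ⟨hxp, Subgroup.orderOf_dvd_natCard M hxM, hσ, fun P => ⟨?_, ?_⟩⟩
  · haveI : IsCyclic ((P : Subgroup M).map M.subtype) := TauOne.isCyclic_of_rank_one hG hr1
      (P.isPGroup'.map M.subtype) (Subgroup.map_subtype_le _)
    exact isCyclic_of_injective (M.subtype.subgroupMap (P : Subgroup M)) fun a b h =>
      Subtype.ext (M.subtype_injective (show ((a : M) : G) = ((b : M) : G) from
        congrArg (fun t : (P : Subgroup M).map M.subtype => (t : G)) h))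
  · have hxg : IsPGroup (orderOf x) (Subgroup.zpowers (⟨x, hxM⟩ : M)) :=
      IsPGroup.of_card (n := 1) (by rw [Nat.card_zpowers, Subgroup.orderOf_mk, pow_one])
    obtain ⟨Q, hQ⟩ := hxg.exists_le_sylow
    obtain ⟨m, hm⟩ := MulAction.exists_smul_eq M Q P
    refine ⟨m * ⟨x, hxM⟩ * m⁻¹, ?_, ?_, (m : G) * y * (m : G)⁻¹,
      (Subgroup.mem_normalizer_iff.1 (le_normalizer_sigmaCore M m.2) y).1 hy, ?_, ?_⟩
    · rw [← hm, Sylow.coe_subgroup_smul]
      exact Subgroup.smul_mem_pointwise_smul (⟨x, hxM⟩ : M) (MulAut.conj m) _ (hQ (Subgroup.mem_zpowers _))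
    · rw [Ne, conj_eq_one_iff]
      exact fun e => hxp.ne_one (by rw [show x = 1 from congrArg Subtype.val e, orderOf_one])
    · rw [Ne, conj_eq_one_iff]; exact hy1
    · simp only [Subgroup.coe_mul, Subgroup.coe_inv]
      have h := Subgroup.mem_centralizer_singleton_iff.1 hyx
      calc (m : G) * x * (m : G)⁻¹ * ((m : G) * y * (m : G)⁻¹) = m * (x * y) * (m : G)⁻¹ := by group
        _ = m * (y * x) * (m : G)⁻¹ := by rw [h]
        _ = _ := by group

theorem exists_compl : ∃ E : Subgroup G, Cfsg.IsComplIn E (Cfsg.sigmaCore M) M ∧ U ≤ E ∧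
    ∀ q ∈ Cfsg.tau2 M, ¬ q ∣ U.relIndex E := by
  obtain ⟨E, hE, hUE⟩ := ComplBasics.exists_complement_containing hG hM (U_le hG hM hKU)
    (ComplBasics.coprime_sigmaCore_of_not_sigma fun q hq hd => (not_sigma_kappa hG hM hKU hq hd).1)
  refine ⟨E, hE, hUE, fun q hq hd => ?_⟩
  have h1 := card_mul_relIndex hUE
  rw [← Compl.relIndex_right hE, ← Subgroup.relIndex_mul_relIndex (Cfsg.sigmaCore M) (K ⊔ Cfsg.sigmaCore M) M
    le_sup_right (sup_le hKU.hall.1 (sigmaCore_le M)), card_U hG hM hKU, mul_comm (Nat.card U)] at h1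
  rw [Nat.eq_of_mul_eq_mul_right Nat.card_pos h1] at hd
  have hdK : q ∣ Nat.card K := hd.trans (by
    have h2 := SolvBasic.card_sup_mul_card_inf (K_normalizes_sigma hG hM hKU)
    rw [sup_comm, ← card_mul_relIndex (le_sup_right : Cfsg.sigmaCore M ≤ K ⊔ Cfsg.sigmaCore M)] at h2
    refine Dvd.intro (Nat.card (Cfsg.sigmaCore M ⊓ K : Subgroup G)) ?_
    refine Nat.eq_of_mul_eq_mul_left (Nat.card_pos (α := Cfsg.sigmaCore M)) ?_
    rw [← mul_assoc]
    exact h2)
  exact hq.2.2.2 (kappa_rank (hKU.hall.2.1 q hq.1 hdK))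

/-- The elements of `U` with fixed points on `M_σ` are `τ₂`-elements. -/
theorem mem_tau2_of_hat {u : G} (hu : u ∈ U) (hσ : u ∈ Cfsg.sigmaHat M) {q : ℕ} (hq : q.Prime)
    (hd : q ∣ orderOf u) : q ∈ Cfsg.tau2 M := by
  obtain ⟨-, y, hy, hy1, huy⟩ := hσ
  obtain ⟨E, hE, hUE, -⟩ := exists_compl hG hM hKU
  exact TauTwoAb.mem_tau2 hG hM hE hUE (regular hG hM hKU) hu hy hy1 huy hq hd

theorem sylow_small (p : ℕ) [Fact p.Prime] (P : Sylow p U) :
    IsMulCommutative (P : Subgroup U) ∧ Cfsg.PRankLE p 2 (P : Subgroup U) := by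
  by_cases hP : (P : Subgroup U) = ⊥
  · refine ⟨.of_setLike_mul_comm fun a ha b hb => ?_, fun B _ _ => ?_⟩
    · rw [hP, Subgroup.mem_bot] at ha hb
      rw [ha, hb]
    · exact le_trans (Nat.le_of_dvd Nat.card_pos (Subgroup.card_subgroup_dvd_card B))
        (le_trans (le_of_eq (by rw [hP, Subgroup.card_bot])) (Nat.one_le_pow _ _ (Fact.out : p.Prime).pos))
  have hd : p ∣ Nat.card U := (P.isPGroup'.card_eq_or_dvd.resolve_left fun e =>
    hP (Subgroup.card_eq_one.1 e)).trans (Subgroup.card_subgroup_dvd_card _)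
  have hσ := (not_sigma_kappa hG hM hKU Fact.out hd).1
  have hUM := U_le hG hM hKU
  haveI := ComplBasics.isMulCommutative_of_not_sigma hG hM hσ (P.isPGroup'.map U.subtype)
    ((Subgroup.map_subtype_le _).trans hUM)
  refine ⟨.of_setLike_mul_comm fun a ha b hb => Subtype.ext (congrArg (fun t : (P : Subgroup U).map U.subtype => (t : G))
    (mul_comm' (⟨(a : G), ⟨a, ha, rfl⟩⟩ : (P : Subgroup U).map U.subtype) ⟨b, ⟨b, hb, rfl⟩⟩)), fun B hB hBp => ?_⟩
  have hr2 : Cfsg.PRankLE p 2 M := by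
    by_contra h
    exact hσ (Sigma.alpha_subset_sigma hG hM ⟨Fact.out, h⟩)
  haveI := hB
  have h := hr2 (B.map ((Subgroup.inclusion hUM).comp (P : Subgroup U).subtype)) inferInstance (by
    rintro _ ⟨b, hb, rfl⟩
    rw [← map_pow, hBp b hb, map_one])
  rwa [Subgroup.card_map_of_injective (f := (Subgroup.inclusion hUM).comp (P : Subgroup U).subtype) ((Subgroup.inclusion_injective hUM).comp (Subgroup.subtype_injective _))] at h

/-- Nonabelian Sylow subgroups or not. -/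
theorem cases {E : Subgroup G} (hE : Cfsg.IsComplIn E (Cfsg.sigmaCore M) M) :
    (∃ (p : ℕ) (_ : Fact p.Prime) (A : Subgroup G), p ∈ Cfsg.tau2 M ∧ A ≤ E ∧ Cfsg.IsElementaryAbelian p A ∧
        Nat.card A = p ^ 2 ∧ ∀ S : Sylow p G, ¬ IsMulCommutative (S : Subgroup G)) ∨
      ∀ p ∈ Cfsg.tau2 M, ∃ (A : Subgroup G) (S : Sylow p G), ∀ _ : Fact p.Prime, TauTwoAb.Data p M E A S := by
  by_cases hna : ∃ p, p ∈ Cfsg.tau2 M ∧ ∀ _ : Fact p.Prime, ∀ S : Sylow p G, ¬ IsMulCommutative (S : Subgroup G)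
  · obtain ⟨p, hp, hS⟩ := hna
    haveI := Fact.mk hp.1
    obtain ⟨A, hAE, hAe, hA⟩ := TauTwo.exists_plane (p := p) hG hM hE hp
    exact Or.inl ⟨p, inferInstance, A, hp, hAE, hAe, hA, hS inferInstance⟩
  · refine Or.inr fun p hp => ?_
    haveI := Fact.mk hp.1
    obtain ⟨A, hAE, hAe, hA⟩ := TauTwo.exists_plane (p := p) hG hM hE hp
    obtain ⟨S, hAS, hS⟩ := TauTwoAb.exists_abelian_sylow (p := p) (fun hall => hna ⟨p, hp, fun _ => hall⟩)
      (Plane.isPGroup hA)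
    exact ⟨A, S, fun _ => ⟨hG, hM, hE, hp, hAE, hAe, hA, hAS, hS⟩⟩

theorem hat_abelian : IsMulCommutative (Subgroup.closure ((U : Set G) ∩ Cfsg.sigmaHat M)) := by
  obtain ⟨E, hE, hUE, -⟩ := exists_compl hG hM hKU
  have aux : ∀ B : Subgroup G, IsMulCommutative B → (U : Set G) ∩ Cfsg.sigmaHat M ⊆ B →
      IsMulCommutative (Subgroup.closure ((U : Set G) ∩ Cfsg.sigmaHat M)) := fun B hB hsub =>
    .of_setLike_mul_comm fun a ha b hb => by
      haveI := hB
      exact congrArg Subtype.val (mul_comm' (⟨a, (Subgroup.closure_le B).2 hsub ha⟩ : B)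
        ⟨b, (Subgroup.closure_le B).2 hsub hb⟩)
  rcases cases hG hM hKU hE with ⟨p, _, A, hp, hAE, hAe, hA, hS⟩ | hdata
  · refine aux (A ⊓ Subgroup.centralizer (Cfsg.sigmaCore M : Set G)) ?_ ?_
    · haveI := hAe.1
      exact .of_setLike_mul_comm fun a ha b hb => congrArg Subtype.val (mul_comm' (⟨a, ha.1⟩ : A) ⟨b, hb.1⟩)
    rintro u ⟨hu, hσ⟩
    obtain ⟨-, y, hy, hy1, huy⟩ := id hσ
    exact TauTwoAb.mem_line hG hM hE hp hS hAE hAe hA (hUE hu)
      (fun q hq hd => mem_tau2_of_hat hG hM hKU hu hσ hq hd) hy hy1 huy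
  · obtain ⟨hab, hmem⟩ := TauTwoAb.core_abelian hG hM hE hdata
    exact aux _ hab fun u ⟨hu, hσ⟩ => hmem u (hUE hu) fun q hq hd => mem_tau2_of_hat hG hM hKU hu hσ hq hd

theorem exists_regular : ∃ U₀ : Subgroup G, U₀ ≤ U ∧ Monoid.exponent U₀ = Monoid.exponent U ∧
    ∀ u ∈ U₀, u ∈ Cfsg.sigmaHat M → u = 1 := by
  obtain ⟨E, hE, hUE, hidx⟩ := exists_compl hG hM hKU
  obtain ⟨U₀, hle, hexp, hreg⟩ : ∃ E₀ : Subgroup G, E₀ ≤ U ∧ Monoid.exponent E₀ = Monoid.exponent U ∧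
      ∀ e ∈ E₀, e ≠ 1 → Cfsg.sigmaCore M ⊓ Subgroup.centralizer ({e} : Set G) = ⊥ := by
    rcases cases hG hM hKU hE with ⟨p, _, A, hp, hAE, hAe, hA, hS⟩ | hdata
    · exact (TauTwoAb.main_nonabelian hG hM hE hp hS hAE hAe hA hUE hidx (regular hG hM hKU)).2
    · exact (TauTwoAb.main_abelian hG hM hE hUE hidx (regular hG hM hKU) hdata).2
  refine ⟨U₀, hle, hexp, fun u hu hσ => by_contra fun hu1 => ?_⟩
  obtain ⟨-, y, hy, hy1, huy⟩ := hσ
  exact hy1 (Subgroup.mem_bot.1 (hreg u hu hu1 ▸ ⟨hy, Subgroup.mem_centralizer_singleton_iff.2 huy.symm⟩))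

theorem centralizer_unique {X : Subgroup G} (hXU : X ≤ U) (hX : X ≠ ⊥)
    (hXc : Cfsg.sigmaCore M ⊓ Subgroup.centralizer (X : Set G) ≠ ⊥) :
    Subgroup.centralizer (X : Set G) ≤ M ∧
      ∀ L : Subgroup G, IsCoatom L → Subgroup.centralizer (X : Set G) ≤ L → L = M := by
  obtain ⟨E, hE, hUE, -⟩ := exists_compl hG hM hKU
  obtain ⟨⟨y, hy⟩, hy1⟩ := Subgroup.ne_bot_iff_exists_ne_one.1 hXc
  have hy1' : y ≠ 1 := fun e => hy1 (Subtype.ext e)
  have hXτ : ∀ x ∈ X, ∀ q : ℕ, q.Prime → q ∣ orderOf x → q ∈ Cfsg.tau2 M := fun x hx q hq hd =>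
    mem_tau2_of_hat hG hM hKU (hXU hx) ⟨U_le hG hM hKU (hXU hx), y, hy.1, hy1', Subgroup.mem_centralizer_iff.1 hy.2 x hx⟩ hq hd
  obtain ⟨⟨x, hx⟩, hx1⟩ := Subgroup.ne_bot_iff_exists_ne_one.1 hX
  have hx1' : x ≠ 1 := fun e => hx1 (Subtype.ext e)
  obtain ⟨p, hp, hpx⟩ := Nat.exists_prime_and_dvd (fun e => hx1' (orderOf_eq_one_iff.1 e))
  haveI := Fact.mk hp
  have hpτ := hXτ x hx p hp hpx
  obtain ⟨A, hAE, hAe, hA⟩ := TauTwo.exists_plane (p := p) hG hM hE hpτ
  obtain ⟨A₀, hexc, -⟩ := PlaneUnique.exists_exc hG hM (hAE.trans hE.1) hAe hA hpτ.2.1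
  have hEA := hexc.compl_normalizes hE hAE
  have hXA : X ≤ Subgroup.centralizer (A : Set G) := by
    rw [← Subgroup.subgroupOf_eq_top]
    refine FittingCores.eq_top_of_forall_sylow_le fun q hq => ⟨default, fun z hz => Subgroup.mem_subgroupOf.2 ?_⟩
    haveI := Fact.mk hq
    set Q : Sylow q X := default with hQ
    set Qm := (Q : Subgroup X).map X.subtype with hQm
    by_cases hz1 : z = 1
    · rw [hz1]; exact one_mem _
    obtain ⟨k, hk⟩ := IsPGroup.iff_orderOf.1 Q.isPGroup' ⟨z, hz⟩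
    rw [Subgroup.orderOf_mk] at hk
    have hk0 : k ≠ 0 := fun h => hz1 (orderOf_eq_one_iff.1 (by rw [hk, h, pow_zero]))
    have hqτ := hXτ z z.2 q hq (by rw [Subgroup.orderOf_coe, hk]; exact dvd_pow_self q hk0)
    have hQE : Qm ≤ E := (Subgroup.map_subtype_le _).trans (hXU.trans hUE)
    by_cases hqp : q = p
    · subst hqp
      set T := Qm ⊔ A with hT
      have hTp : IsPGroup q T := (Q.isPGroup'.map X.subtype).to_sup_of_normal_right' (Plane.isPGroup hA) (hQE.trans hEA)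
      haveI := ComplBasics.isMulCommutative_of_not_sigma hG hM hpτ.2.1 hTp ((sup_le hQE hAE).trans hE.1)
      exact (Subgroup.le_centralizer T).trans (Subgroup.centralizer_le (le_sup_right : A ≤ T))
        (Subgroup.mem_sup_left ⟨z, hz, rfl⟩)
    · exact ComplBasics.centralizes_plane hG hM hE hpτ hAE hAe hA hqp hqτ (Q.isPGroup'.map X.subtype) hQE
        ⟨z, hz, rfl⟩
  have hAC : A ≤ Subgroup.centralizer (X : Set G) := Subgroup.le_centralizer_iff.1 hXA
  have key : ∀ L : Subgroup G, IsCoatom L → Subgroup.centralizer (X : Set G) ≤ L → L = M := fun L hL hle => by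
    by_contra hne
    have hbot := PlaneUnique.inf_eq_bot hG hM (hAE.trans hE.1) hAe hA hpτ.2.1 hL (hAC.trans hle) hne
    exact hy1' (Subgroup.mem_bot.1 (hbot ▸ ⟨hy.1, hle hy.2⟩))
  obtain ⟨L, hL, hle⟩ := Uniq.exists_maximal_ge (show Subgroup.centralizer (X : Set G) ≠ ⊤ from fun e =>
    MinSimple.centralizer_singleton_ne_top hG hx1' (top_le_iff.1 (e ▸ Subgroup.centralizer_le (by simpa using hx))))
  exact ⟨key L hL hle ▸ hle, key⟩

theorem normalizes_U_sigma : M ≤ Subgroup.normalizer ((U ⊔ Cfsg.sigmaCore M : Subgroup G) : Set G) := by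
  intro m hm
  obtain ⟨u, hu, v, hv, rfl⟩ := hKU.compl.2.2.2 m hm
  refine mul_mem (Subgroup.le_normalizer (Subgroup.mem_sup_left hu)) (sup_le ?_ (le_sup_right.trans Subgroup.le_normalizer) hv)
  exact (le_inf hKU.normal (K_normalizes_sigma hG hM hKU)).trans
    (Subgroup.normalizer_inf_normalizer_le_normalizer_sup _ _)

theorem ti_subset : Cfsg.IsTISubset (Cfsg.sigmaA M U \ (Cfsg.sigmaCore M : Set G)) := by
  intro g hg a ha hga
  exfalso
  apply hg
  set n := Nat.card (Cfsg.sigmaCore M) with hn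
  have key : ∀ a ∈ Cfsg.sigmaA M U \ (Cfsg.sigmaCore M : Set G),
      Subgroup.centralizer ({a ^ n} : Set G) ≤ M ∧
      ∀ L : Subgroup G, IsCoatom L → Subgroup.centralizer ({a ^ n} : Set G) ≤ L → L = M := by
    rintro a ⟨⟨⟨haM, y, hy, hy1, hay⟩, haU⟩, haσ⟩
    set W := U ⊔ Cfsg.sigmaCore M with hW
    have hUn : U ≤ Subgroup.normalizer (Cfsg.sigmaCore M : Set G) :=
      (U_le hG hM hKU).trans (le_normalizer_sigmaCore M)
    have hWc : Nat.card W = Nat.card U * Nat.card (Cfsg.sigmaCore M) := by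
      have h2 := SolvBasic.card_sup_mul_card_inf hUn
      rw [sup_comm, show Cfsg.sigmaCore M ⊓ U = ⊥ from le_bot_iff.1 (by
        rw [inf_comm]; exact (inf_le_inf_left U le_sup_right).trans hKU.compl.2.2.1.le), Subgroup.card_bot, mul_one] at h2
      rw [hW, h2, mul_comm]
    set b := a ^ n with hb
    have hbW : b ∈ W := W.pow_mem haU _
    have hbo : orderOf b ∣ Nat.card U := orderOf_dvd_of_pow_eq_one (by
      rw [hb, ← pow_mul, mul_comm, ← hWc]
      exact orderOf_dvd_iff_pow_eq_one.1 (Subgroup.orderOf_dvd_natCard W haU))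
    have hb1 : b ≠ 1 := fun e => haσ (by
      haveI : ((Cfsg.sigmaCore M).subgroupOf M).Normal :=
        Subgroup.normal_subgroupOf_of_le_normalizer (le_normalizer_sigmaCore M)
      have hcop : (Nat.card (Cfsg.sigmaCore M)).Coprime ((Cfsg.sigmaCore M).subgroupOf M).index :=
        Nat.coprime_of_dvd fun q hq h1 h2 => (Sigma.hall hG hM (π := Cfsg.sigma M)
          (fun r hr => by haveI := Fact.mk hr.1; exact Sigma.alpha_subset_sigma hG hM hr) subset_rfl).1.2.2 q hq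
            (mem_sigma_of_dvd hq h1) h2
      exact Exceptional.le_of_coprime_index (N := (Cfsg.sigmaCore M).subgroupOf M)
        (X := Subgroup.zpowers (⟨a, haM⟩ : M)) (by
          rw [Nat.card_zpowers, Subgroup.orderOf_mk]
          exact Nat.Coprime.coprime_dvd_left (orderOf_dvd_of_pow_eq_one e) hcop)
        (Subgroup.mem_zpowers _))
    -- conjugate `b` into `U`
    haveI := MinSimple.isSolvable hG hM.1
    haveI : Group.IsSolvable W := SolvBasic.isSolvable_of_le (H := W) (K := M)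
      (sup_le (U_le hG hM hKU) (sigmaCore_le M))
    have hcop : (Nat.card U).Coprime (Nat.card (Cfsg.sigmaCore M)) :=
      ComplBasics.coprime_sigmaCore_of_not_sigma fun q hq hd => (not_sigma_kappa hG hM hKU hq hd).1
    obtain ⟨⟨m, hm⟩, hle⟩ := HallSolv.hall_conj_le (G := W) hWc hcop (H := U.subgroupOf W)
      (K := Subgroup.zpowers (⟨b, hbW⟩ : W)) (Nat.card_congr (Subgroup.subgroupOfEquivOfLe le_sup_left).toEquiv)
      (by rw [Nat.card_zpowers, Subgroup.orderOf_mk]; exact Nat.Coprime.coprime_dvd_left hbo hcop)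
    have hbU : m * b * m⁻¹ ∈ U :=
      hle (Subgroup.smul_mem_pointwise_smul (⟨b, hbW⟩ : W) (MulAut.conj (⟨m, hm⟩ : W)) _ (Subgroup.mem_zpowers _))
    have hmM : m ∈ M := sup_le (U_le hG hM hKU) (sigmaCore_le M) hm
    have hσ : m * b * m⁻¹ ∈ Cfsg.sigmaHat M := by
      refine ⟨U_le hG hM hKU hbU, m * y * m⁻¹, (Subgroup.mem_normalizer_iff.1 (le_normalizer_sigmaCore M hmM) y).1 hy,
        by rwa [Ne, conj_eq_one_iff], ?_⟩
      have h : b * y = y * b := (show Commute a y from hay).pow_left _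
      calc m * b * m⁻¹ * (m * y * m⁻¹) = m * (b * y) * m⁻¹ := by group
        _ = m * (y * b) * m⁻¹ := by rw [h]
        _ = _ := by group
    have hbM : b ∈ M := M.pow_mem haM _
    obtain ⟨p, hp, hpb⟩ := Nat.exists_prime_and_dvd (fun e => hb1 (orderOf_eq_one_iff.1 e))
    haveI := Fact.mk hp
    obtain ⟨h1, h2⟩ := ComplBasics.tau_two_element (p := p) hG hM hbM hpb (fun q hq hd => by
      refine mem_tau2_of_hat hG hM hKU hbU hσ hq ?_
      rwa [← MulAut.conj_apply, MulEquiv.orderOf_eq]) ⟨hbM, y, hy, hy1, (show Commute a y from hay).pow_left _⟩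
    exact ⟨h1, h2⟩
  obtain ⟨hb1, -⟩ := key a ha
  obtain ⟨hc1, hc2⟩ := key _ hga
  rw [conj_pow] at hc1 hc2
  have hco : IsCoatom (M.map (MulAut.conj g).toMonoidHom) :=
    (OrderIso.isCoatom_iff (MulEquiv.mapSubgroup (MulAut.conj g)) M).2 hM
  have hMeq : M.map (MulAut.conj g).toMonoidHom = M := hc2 _ hco fun z hz => by
    refine ⟨g⁻¹ * z * g, hb1 (Subgroup.mem_centralizer_singleton_iff.2 ?_), by simp [mul_assoc]⟩
    have h := Subgroup.mem_centralizer_singleton_iff.1 hz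
    calc g⁻¹ * z * g * a ^ n = g⁻¹ * (z * (g * a ^ n * g⁻¹)) * g := by group
      _ = g⁻¹ * (g * a ^ n * g⁻¹ * z) * g := by rw [h]
      _ = _ := by group
  have haM : a ∈ M := ha.1.1.1
  have hM1 : M ≠ ⊥ := fun e => ha.2 (by
    rw [show a = 1 from Subgroup.mem_bot.1 (e ▸ haM)]
    exact one_mem _)
  have hgM : g ∈ M := ((hM.le_iff_eq (MinSimple.normalizer_ne_top hG hM1 hM.1)).1 Subgroup.le_normalizer).le
    (Subgroup.mem_normalizer_iff_map_conj_eq.2 hMeq)
  -- `M` normalizes the set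
  have hconj : ∀ m ∈ M, ∀ x ∈ Cfsg.sigmaA M U \ (Cfsg.sigmaCore M : Set G),
      m * x * m⁻¹ ∈ Cfsg.sigmaA M U \ (Cfsg.sigmaCore M : Set G) := by
    rintro m hm x ⟨⟨⟨hxM, y, hy, hy1, hxy⟩, hxU⟩, hxσ⟩
    refine ⟨⟨⟨M.mul_mem (M.mul_mem hm hxM) (M.inv_mem hm), m * y * m⁻¹,
      (Subgroup.mem_normalizer_iff.1 (le_normalizer_sigmaCore M hm) y).1 hy, by rwa [Ne, conj_eq_one_iff], ?_⟩,
      (Subgroup.mem_normalizer_iff.1 (normalizes_U_sigma hG hM hKU hm) x).1 hxU⟩,
      fun h => hxσ ((Subgroup.mem_normalizer_iff.1 (le_normalizer_sigmaCore M hm) x).2 h)⟩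
    calc m * x * m⁻¹ * (m * y * m⁻¹) = m * (x * y) * m⁻¹ := by group
      _ = m * (y * x) * m⁻¹ := by rw [hxy]
      _ = _ := by group
  refine Subgroup.mem_set_normalizer_iff.2 fun x => ⟨hconj g hgM x, fun hx => ?_⟩
  simpa [mul_assoc] using hconj g⁻¹ (M.inv_mem hgM) _ hx

end Cfsg.Agent.OddOrder.TypeU
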