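/-
`M_F`, `F(M)` and `M''` for a maximal subgroup `M` (BG 15.2, 15.3).
-/
import Cfsg.Agent.Lib.OddOrder.NonNil
import Cfsg.Agent.S1351
import Cfsg.Agent.S1359
import Cfsg.Agent.Lib.OddOrder.FittingHall
import Cfsg.Agent.Lib.OddOrder.FittingOf
import Cfsg.Agent.Lib.OddOrder.PlaneUnique

set_option autoImplicit false
set_option linter.style.haveILetI false
set_option linter.unusedSectionVars false

namespace Cfsg.Agent.OddOrder.FStruct

open scoped commutatorElement IsMulCommutative Pointwise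
open Exceptional TauOne Kappa Support Pairing
open Tau3 (line_pgroup line_ne_bot)

universe u

variable {G : Type u} [Group G] [Finite G] {M K U Q E : Subgroup G}

/-- Commutators of automorphisms of a cyclic group are trivial. -/
theorem commutator_le_centralizer_of_cyclic {A X : Subgroup G} (hX : IsCyclic X)
    (hA : A ≤ Subgroup.normalizer (X : Set G)) : ⁅A, A⁆ ≤ Subgroup.centralizer (X : Set G) := by
  obtain ⟨⟨c, hc⟩, hgen⟩ := hX.exists_generator
  have hgen' : ∀ x ∈ X, ∃ k : ℤ, c ^ k = x := fun x hx => by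
    obtain ⟨k, hk⟩ := Subgroup.mem_zpowers_iff.1 (hgen ⟨x, hx⟩)
    exact ⟨k, by simpa using congrArg Subtype.val hk⟩
  rw [Subgroup.commutator_le]
  intro g hg y hy
  have key : ∀ z ∈ X, g * (y * z * y⁻¹) * g⁻¹ = y * (g * z * g⁻¹) * y⁻¹ := by
    intro z hz
    obtain ⟨n, hn⟩ := hgen' z hz
    obtain ⟨a, ha⟩ := hgen' _ ((Subgroup.mem_normalizer_iff.1 (hA hg) c).1 hc)
    obtain ⟨b, hb⟩ := hgen' _ ((Subgroup.mem_normalizer_iff.1 (hA hy) c).1 hc)
    have hg' : ∀ k : ℤ, g * c ^ k * g⁻¹ = c ^ (a * k) := fun k => by rw [← conj_zpow, ← ha, ← zpow_mul]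
    have hy' : ∀ k : ℤ, y * c ^ k * y⁻¹ = c ^ (b * k) := fun k => by rw [← conj_zpow, ← hb, ← zpow_mul]
    rw [← hn, hy' n, hg' _, hg' n, hy' _]
    ring_nf
  refine Subgroup.mem_centralizer_iff.2 fun x hx => ?_
  have hz : g⁻¹ * (y⁻¹ * x * y⁻¹⁻¹) * g⁻¹⁻¹ ∈ X := (Subgroup.mem_normalizer_iff.1 (inv_mem (hA hg)) _).1
    ((Subgroup.mem_normalizer_iff.1 (inv_mem (hA hy)) x).1 hx)
  have h := key _ hz
  have h2 : ⁅g, y⁆ * x * ⁅g, y⁆⁻¹ = x := by
    calc ⁅g, y⁆ * x * ⁅g, y⁆⁻¹ = g * (y * (g⁻¹ * (y⁻¹ * x * y⁻¹⁻¹) * g⁻¹⁻¹) * y⁻¹) * g⁻¹ := by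
          rw [commutatorElement_def]; group
      _ = x := by rw [h]; group
  exact (mul_inv_eq_iff_eq_mul.1 h2).symm

/-- The image of `M'` in a quotient over which `E` covers `M`. -/
theorem map_commutator_eq {X : Type u} [Group X] {N E : Subgroup X} [N.Normal] (h : N ⊔ E = ⊤) :
    (commutator X).map (QuotientGroup.mk' N) = (⁅E, E⁆).map (QuotientGroup.mk' N) := by
  have h1 : (⊤ : Subgroup X).map (QuotientGroup.mk' N) = E.map (QuotientGroup.mk' N) := by
    rw [← h, Subgroup.map_sup, (Subgroup.map_eq_bot_iff _).2 (QuotientGroup.ker_mk' N).ge, bot_sup_eq]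
  rw [commutator_def, Subgroup.map_commutator, Subgroup.map_commutator, h1]

theorem fittingHall_mem {x : M} : x ∈ Cfsg.fittingHall M ↔ (x : G) ∈ Cfsg.fittingHallOf M :=
  (Subgroup.mem_map_iff_mem M.subtype_injective).symm

variable (hG : Cfsg.IsMinSimpleOddOrder G) (hM : IsCoatom M)
include hG hM

theorem exists_decomp : ∃ K U : Subgroup G, Cfsg.IsSigmaDecomposition M K U := by
  obtain ⟨⟨K, hK⟩, hc⟩ := S1351.result hG M hM
  obtain ⟨⟨U, hU⟩, -⟩ := S1352.result hG M hM K (hc K hK) hK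
  exact ⟨K, U, hU⟩

theorem Q_le_fittingHall {q : ℕ} (hKU : Cfsg.IsSigmaDecomposition M K U)
    (hnn : ¬ Group.IsNilpotent (Cfsg.sigmaCore M)) (d : NonNil.Data M K q Q E) : Q ≤ Cfsg.fittingHallOf M := by
  haveI := Fact.mk d.prime
  refine FHall.le_fittingHallOf (d.Q_le.trans (sigmaCore_le M)) d.normal d.pgroup.isNilpotent
    (Nat.coprime_of_dvd fun t ht h1 h2 => ?_)
  obtain ⟨n, hn⟩ := IsPGroup.iff_card.1 d.pgroup
  obtain rfl := (Nat.prime_dvd_prime_iff_eq ht d.prime).1 (ht.dvd_of_dvd_pow (hn ▸ h1))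
  rw [← Subgroup.relIndex_mul_relIndex Q (Cfsg.sigmaCore M) M d.Q_le (sigmaCore_le M)] at h2
  rcases ht.dvd_mul.1 h2 with h | h
  · exact d.hall h
  · obtain ⟨⟨-, -, hhall⟩, -, -⟩ := S1350.result hG M hM
    exact hhall t ht (mem_sigma_of_dvd ht (d.cardD ▸ Subgroup.card_dvd_of_le inf_le_left)) h

/-- `M_F ≠ 1`. -/
theorem fittingHall_ne_bot : Cfsg.fittingHallOf M ≠ ⊥ := by
  by_cases hn : Group.IsNilpotent (Cfsg.sigmaCore M)
  · rw [fittingHall_eq hG hM hn]
    exact sigmaCore_ne_bot hG hM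
  obtain ⟨K, U, hKU⟩ := exists_decomp hG hM
  obtain ⟨q, Q, E, d⟩ := NonNil.exists_data hG hM hKU hn
  intro e
  have hQ : Q = ⊥ := le_bot_iff.1 (e ▸ Q_le_fittingHall hG hM hKU hn d)
  exact (NonNil.fixed_lt hG hM hKU hn d).not_ge (hQ ▸ bot_le)

/-- `C_{M_σ}(K) ≤ M_F` and `M_F` is not cyclic. -/
theorem kappa_fittingHall (hKU : Cfsg.IsSigmaDecomposition M K U) (hK1 : K ≠ ⊥) :
    Cfsg.sigmaCore M ⊓ Subgroup.centralizer (K : Set G) ≤ Cfsg.fittingHallOf M ∧
      ¬ IsCyclic (Cfsg.fittingHallOf M) := by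
  have hMn := le_normalizer_sigmaCore M
  by_cases hn : Group.IsNilpotent (Cfsg.sigmaCore M)
  · rw [fittingHall_eq hG hM hn]
    refine ⟨inf_le_left, fun hc => ?_⟩
    haveI := hc
    haveI := (decomp_factor hG hM hKU hK1).comm
    have hd := derived_eq hG hM hKU hK1
    have hcen := commutator_le_centralizer_of_cyclic hc hMn
    haveI : IsMulCommutative (Cfsg.sigmaCore M) := inferInstance
    have hab : ⁅⁅M, M⁆, ⁅M, M⁆⁆ = ⊥ := by
      rw [Subgroup.commutator_eq_bot_iff_le_centralizer]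
      have hUS : U ≤ Subgroup.centralizer (Cfsg.sigmaCore M : Set G) := (U_le_derived hG hM hKU hK1).trans hcen
      calc ⁅M, M⁆ = U ⊔ Cfsg.sigmaCore M := hd
        _ ≤ Subgroup.centralizer ((⁅M, M⁆ : Subgroup G) : Set G) := by
          rw [hd]
          refine sup_le ?_ ?_ <;> rw [Subgroup.le_centralizer_iff] <;> refine sup_le ?_ ?_
          exacts [Subgroup.le_centralizer U, Subgroup.le_centralizer_iff.1 hUS, hUS, Subgroup.le_centralizer _]
    exact (Member.of_hall hM hKU.hall hK1).inf_ne_bot hG (by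
      rw [(Member.of_hall hM hKU.hall hK1).inf_eq]
      exact le_bot_iff.1 ((fixed_le_derived_two hG hM hKU hK1).trans hab.le))
  obtain ⟨q, Q, E, d⟩ := NonNil.exists_data hG hM hKU hn
  have hQF := Q_le_fittingHall hG hM hKU hn d
  refine ⟨d.D_le.trans hQF, fun hc => d.moving ?_⟩
  haveI := hc
  have hQc : IsCyclic Q := isCyclic_of_injective (Subgroup.inclusion hQF) (Subgroup.inclusion_injective hQF)
  exact (d.compl.2.1.trans (sigmaCore_le_derived hG hM hKU)).trans
    (commutator_le_centralizer_of_cyclic hQc d.normal)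

/-- The image of `M'` over `M_F` is nilpotent. -/
theorem derived_nilpotent_quotient :
    Group.IsNilpotent ↥((commutator ↥M).map (QuotientGroup.mk' (Cfsg.fittingHall ↥M))) := by
  obtain ⟨K, U, hKU⟩ := exists_decomp hG hM
  set f := QuotientGroup.mk' (Cfsg.fittingHall ↥M) with hf
  by_cases hn : Group.IsNilpotent (Cfsg.sigmaCore M)
  · have hE := decomp_compl hKU
    set E₁ := (U ⊔ K).subgroupOf M with hE₁
    have htop : Cfsg.fittingHall M ⊔ E₁ = ⊤ := by
      refine eq_top_iff.2 fun x _ => ?_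
      obtain ⟨e, he, s, hs, hx⟩ := hE.2.2.2 x x.2
      have hxe : x = ⟨e, hE.1 he⟩ * ⟨s, sigmaCore_le M hs⟩ := Subtype.ext hx
      rw [hxe]
      refine mul_mem (Subgroup.mem_sup_right he) (Subgroup.mem_sup_left (fittingHall_mem.2 ?_))
      rw [fittingHall_eq hG hM hn]
      exact hs
    rw [map_commutator_eq htop]
    haveI := ComplBasics.derived_abelian hG hM hE
    haveI : IsMulCommutative (⁅E₁, E₁⁆.map f) := .of_setLike_mul_comm (by
      rintro _ ⟨a, ha, rfl⟩ _ ⟨b, hb, rfl⟩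
      have h : ∀ c ∈ ⁅E₁, E₁⁆, (c : G) ∈ ⁅U ⊔ K, U ⊔ K⁆ := fun c hc => by
        have := Subgroup.mem_map_of_mem M.subtype hc
        rwa [Subgroup.map_commutator, hE₁, Subgroup.map_subgroupOf_eq_of_le hE.1] at this
      have hab : a * b = b * a := Subtype.ext
        (Subgroup.mem_centralizer_iff.1 (Subgroup.le_centralizer ⁅U ⊔ K, U ⊔ K⁆ (h b hb)) _ (h a ha))
      rw [← map_mul, ← map_mul, hab])
    infer_instance
  obtain ⟨q, Q, E, d⟩ := NonNil.exists_data hG hM hKU hn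
  have hEM : E ≤ M := d.compl.2.1.trans (sigmaCore_le M)
  haveI := d.nilpotent
  haveI : Group.IsNilpotent (E.subgroupOf M) := Group.nilpotent_of_mulEquiv (Subgroup.subgroupOfEquivOfLe hEM).symm
  have hle : (commutator M).map f ≤ (E.subgroupOf M).map f := by
    rintro _ ⟨x, hx, rfl⟩
    have hxs : (x : G) ∈ Cfsg.sigmaCore M := by
      have h1 : (x : G) ∈ ⁅M, M⁆ := Subgroup.map_subtype_commutator M ▸ Subgroup.mem_map_of_mem M.subtype hx
      rwa [derived_eq hG hM hKU (NonNil.K_ne hG hM hKU hn), NonNil.U_eq_bot hG hM hKU hn, bot_sup_eq] at h1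
    obtain ⟨a, ha, b, hb, he⟩ := d.compl.2.2.2 _ hxs
    refine ⟨⟨b, hEM hb⟩, hb, QuotientGroup.eq.2 ?_⟩
    have hxe : x = ⟨a, sigmaCore_le M (d.Q_le ha)⟩ * ⟨b, hEM hb⟩ := Subtype.ext he
    rw [hxe, ← mul_assoc]
    exact (Cfsg.fittingHall_normal M).conj_mem' _ (fittingHall_mem.2 (Q_le_fittingHall hG hM hKU hn d ha)) _
  haveI : Group.IsNilpotent ((E.subgroupOf M).map f) :=
    Group.nilpotent_of_surjective _ (f.subgroupMap_surjective (E.subgroupOf M))
  exact PlaneUnique.isNilpotent_of_le inferInstance hle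

/-- The centralizer of a nilpotent `M_σ` in `M`. -/
theorem centralizer_nil (hKU : Cfsg.IsSigmaDecomposition M K U) (hn : Group.IsNilpotent (Cfsg.sigmaCore M)) :
    IsMulCommutative ↥(M ⊓ Subgroup.centralizer (Cfsg.sigmaCore M : Set G)) ∧
      M ⊓ Subgroup.centralizer (Cfsg.sigmaCore M : Set G) ≤ U ⊔ Cfsg.sigmaCore M := by
  set S := Cfsg.sigmaCore M
  set C := M ⊓ Subgroup.centralizer (S : Set G) with hC
  have hcompl := decomp_compl hKU
  have hCn : M ≤ Subgroup.normalizer (C : Set G) := FitOf.le_normalizer_inf Subgroup.le_normalizer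
    ((le_normalizer_sigmaCore M).trans (FitOf.normalizer_le_normalizer_centralizer _))
  obtain ⟨y, hy, hy1⟩ := (Subgroup.bot_or_exists_ne_one _).resolve_left (sigmaCore_ne_bot hG hM)
  -- no element of `κ(M)` centralizes `M_σ`
  have hκ : ∀ c ∈ C, ∀ r : ℕ, r.Prime → r ∣ orderOf c → r ∉ Cfsg.kappa M := by
    intro c hc r hr hrd hκ
    have hK1 : K ≠ ⊥ := fun e => hKU.hall.2.2 r hr hκ (by rw [e, Subgroup.relIndex_bot_left]; exact hκ.2.1)
    haveI := MinSimple.isSolvable hG hM.1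
    haveI := Fact.mk hr
    set b := c ^ (orderOf c / r) with hb
    have hbo : orderOf b = r := orderOf_pow_orderOf_div (orderOf_pos c).ne' hrd
    obtain ⟨m, hm, hmk⟩ := exists_conj_hall (X := M) (H := K) hKU.hall.1
      (Nat.coprime_of_dvd fun t ht h1 h2 => hKU.hall.2.2 t ht (hKU.hall.2.1 t ht h1) h2) (C.pow_mem hc _).1
      (Nat.coprime_of_dvd fun t ht h1 h2 => hKU.hall.2.2 t ht
        (by rwa [(Nat.prime_dvd_prime_iff_eq ht hr).1 (hbo ▸ h1)]) h2)
    have hbC : m * b * m⁻¹ ∈ C := (Subgroup.mem_normalizer_iff.1 (hCn hm) b).1 (C.pow_mem hc _)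
    have hb1 : m * b * m⁻¹ ≠ 1 := fun e => by
      rw [conj_eq_one_iff.1 e, orderOf_one] at hbo
      exact hr.ne_one hbo.symm
    have h1 := (decomp_factor hG hM hKU hK1).prime _ hmk hb1
    have hSD : S ≤ S ⊓ Subgroup.centralizer (K : Set G) := h1 ▸ le_inf le_rfl fun s hs =>
      Subgroup.mem_centralizer_singleton_iff.2 (Subgroup.mem_centralizer_iff.1 hbC.2 s hs)
    have hDc : IsCyclic (S ⊓ Subgroup.centralizer (K : Set G) : Subgroup G) := by
      have m := Member.of_hall hM hKU.hall hK1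
      obtain ⟨N, D, P⟩ := m.exists_pair hG
      rw [P.D_eq]
      exact P.right.cyclic hG
    refine (kappa_fittingHall hG hM hKU hK1).2 ?_
    rw [fittingHall_eq hG hM hn]
    exact isCyclic_of_injective (Subgroup.inclusion hSD) (Subgroup.inclusion_injective hSD)
  have hY : (U ⊔ K) ⊓ Subgroup.centralizer (S : Set G) ≤ U := by
    set Y := (U ⊔ K) ⊓ Subgroup.centralizer (S : Set G)
    haveI : (U.subgroupOf (U ⊔ K)).Normal :=
      Subgroup.normal_subgroupOf_of_le_normalizer (sup_le Subgroup.le_normalizer hKU.normal)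
    intro x hx
    refine Subgroup.mem_subgroupOf.1 (Exceptional.le_of_coprime_index (N := U.subgroupOf (U ⊔ K))
      (X := (Subgroup.zpowers x).subgroupOf (U ⊔ K)) (Nat.coprime_of_dvd fun t ht h1 h2 => ?_)
      (show (⟨x, hx.1⟩ : ↥(U ⊔ K)) ∈ _ from Subgroup.mem_zpowers x))
    rw [Nat.card_congr (Subgroup.subgroupOfEquivOfLe (Subgroup.zpowers_le.2 hx.1)).toEquiv, Nat.card_zpowers] at h1
    refine hκ x ⟨hcompl.1 hx.1, hx.2⟩ t ht h1 (hKU.hall.2.1 t ht (h2.trans ?_))
    have h3 := Subgroup.relIndex_mul_relIndex ⊥ U (U ⊔ K) bot_le le_sup_left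
    rw [Subgroup.relIndex_bot_left, Subgroup.relIndex_bot_left, decomp_card hKU] at h3
    exact (Nat.eq_of_mul_eq_mul_left Nat.card_pos h3).dvd
  have hsplit : ∀ x ∈ C, ∃ e ∈ (U ⊔ K) ⊓ Subgroup.centralizer (S : Set G),
      ∃ s ∈ S ⊓ Subgroup.centralizer (S : Set G), x = e * s := by
    intro x hx
    obtain ⟨e, he, s, hs, rfl⟩ := hcompl.2.2.2 x hx.1
    have hes : Commute e s := by
      have h2 := Subgroup.mem_centralizer_iff.1 hx.2 s hs
      rw [← mul_assoc] at h2
      exact (mul_right_cancel h2).symm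
    have hcop : (orderOf e).Coprime (orderOf s) := Nat.Coprime.coprime_dvd_left (Subgroup.orderOf_dvd_natCard _ he)
      (Nat.Coprime.coprime_dvd_right (Subgroup.orderOf_dvd_natCard _ hs) (ComplBasics.coprime_card hG hM hcompl))
    have h1 : e ∈ Subgroup.zpowers (e * s) := mem_zpowers_mul hes hcop.symm
    have h2 : s ∈ Subgroup.zpowers (e * s) := hes.eq ▸ mem_zpowers_mul hes.symm hcop
    exact ⟨e, ⟨he, Subgroup.zpowers_le.2 hx.2 h1⟩, s, ⟨hs, Subgroup.zpowers_le.2 hx.2 h2⟩, rfl⟩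
  haveI := S1359.result hG M hM K U hKU
  refine ⟨.of_setLike_mul_comm ?_, fun x hx => ?_⟩
  · intro a ha b hb
    obtain ⟨e, he, s, hs, rfl⟩ := hsplit a ha
    obtain ⟨e', he', s', hs', rfl⟩ := hsplit b hb
    have hmem : ∀ z ∈ (U ⊔ K) ⊓ Subgroup.centralizer (S : Set G), z ∈ Subgroup.closure ((U : Set G) ∩ Cfsg.sigmaHat M) :=
      fun z hz => Subgroup.subset_closure ⟨hY hz, hcompl.1 hz.1, y, hy, hy1, (Subgroup.mem_centralizer_iff.1 hz.2 y hy).symm⟩
    have hee : Commute e e' :=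
      Subgroup.mem_centralizer_iff.1 (Subgroup.le_centralizer _ (hmem e' he')) e (hmem e he)
    have hes : Commute e s' := (Subgroup.mem_centralizer_iff.1 he.2 s' hs'.1).symm
    have hse : Commute s e' := Subgroup.mem_centralizer_iff.1 he'.2 s hs.1
    have hss : Commute s s' := Subgroup.mem_centralizer_iff.1 hs'.2 s hs.1
    exact ((hee.mul_right hes).mul_left (hse.mul_right hss)).eq
  · obtain ⟨e, he, s, hs, rfl⟩ := hsplit x hx
    exact mul_mem (Subgroup.mem_sup_left (hY he)) (Subgroup.mem_sup_right hs.1)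

/-- The centralizer of `M_F` for a nonnilpotent `M_σ`. -/
theorem centralizer_nonnil (hKU : Cfsg.IsSigmaDecomposition M K U) (hnn : ¬ Group.IsNilpotent (Cfsg.sigmaCore M)) :
    Group.IsNilpotent ↥(M ⊓ Subgroup.centralizer (Cfsg.fittingHallOf M : Set G)) ∧
      M ⊓ Subgroup.centralizer (Cfsg.fittingHallOf M : Set G) ≤ Cfsg.sigmaCore M := by
  obtain ⟨q, Q, E, d⟩ := NonNil.exists_data hG hM hKU hnn
  haveI := Fact.mk d.prime
  set C := M ⊓ Subgroup.centralizer (Q : Set G) with hC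
  have hle : M ⊓ Subgroup.centralizer (Cfsg.fittingHallOf M : Set G) ≤ C :=
    inf_le_inf_left _ (Subgroup.centralizer_le (Q_le_fittingHall hG hM hKU hnn d))
  have hCn : M ≤ Subgroup.normalizer (C : Set G) := FitOf.le_normalizer_inf Subgroup.le_normalizer
    (d.normal.trans (FitOf.normalizer_le_normalizer_centralizer _))
  have hK1 := NonNil.K_ne hG hM hKU hnn
  have hcompl := NonNil.compl_K hG hM hKU hnn
  have hCS : C ≤ Cfsg.sigmaCore M := by
    intro x hx
    refine mem_sigmaCore_of_primes hG hM hx.1 fun t ht htd => ?_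
    by_contra htσ
    haveI := Fact.mk ht
    have htκ : t ∈ Cfsg.kappa M := by
      have h := htd.trans (Subgroup.orderOf_dvd_natCard M hx.1)
      rw [Compl.card_eq hcompl] at h
      exact hKU.hall.2.1 t ht ((ht.dvd_mul.1 h).resolve_right fun h => htσ (mem_sigma_of_dvd ht h))
    haveI := MinSimple.isSolvable hG hM.1
    set b := x ^ (orderOf x / t) with hb
    have hbo : orderOf b = t := orderOf_pow_orderOf_div (orderOf_pos x).ne' htd
    obtain ⟨m, hm, hmk⟩ := exists_conj_hall (X := M) (H := K) hKU.hall.1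
      (Nat.coprime_of_dvd fun t ht h1 h2 => hKU.hall.2.2 t ht (hKU.hall.2.1 t ht h1) h2) (C.pow_mem hx _).1
      (Nat.coprime_of_dvd fun s hs h1 h2 => hKU.hall.2.2 s hs
        (by rwa [(Nat.prime_dvd_prime_iff_eq hs ht).1 (hbo ▸ h1)]) h2)
    have hbC : m * b * m⁻¹ ∈ C := (Subgroup.mem_normalizer_iff.1 (hCn hm) b).1 (C.pow_mem hx _)
    have hb1 : m * b * m⁻¹ ≠ 1 := fun e => by
      rw [conj_eq_one_iff.1 e, orderOf_one] at hbo
      exact ht.ne_one hbo.symm
    have hQD : Q ≤ Cfsg.sigmaCore M ⊓ Subgroup.centralizer (K : Set G) := by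
      rw [← NonNil.prime_fix hG hM hKU hnn hmk hb1]
      exact le_inf d.Q_le fun a ha => Subgroup.mem_centralizer_singleton_iff.2 (Subgroup.mem_centralizer_iff.1 hbC.2 a ha)
    have h1 : q ^ Nat.card K ∣ q := by
      have := Subgroup.card_dvd_of_le hQD
      rw [d.cardD, NonNil.fixed_card hG hM hKU hnn d] at this
      exact (dvd_mul_left _ _).trans this
    have h2 := Nat.le_of_dvd d.prime.pos h1
    have h3 : q < q ^ Nat.card K := lt_self_pow₀ d.prime.one_lt (NonNil.K_prime hG hM hKU hnn d).one_lt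
    omega
  refine ⟨PlaneUnique.isNilpotent_of_le ?_ hle, hle.trans hCS⟩
  haveI := d.nilpotent
  have hsplit : ∀ x : C, ∃ a ∈ Q ⊓ Subgroup.centralizer (Q : Set G), ∃ e ∈ E ⊓ Subgroup.centralizer (Q : Set G),
      (x : G) = a * e := by
    rintro ⟨x, hx⟩
    obtain ⟨a, ha, e, he, rfl⟩ := d.compl.2.2.2 x (hCS hx)
    have hae : Commute a e := by
      have h2 := Subgroup.mem_centralizer_iff.1 hx.2 a ha
      rw [mul_assoc a e] at h2
      exact mul_left_cancel h2
    have hcop : (orderOf a).Coprime (orderOf e) :=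
      (Nat.Coprime.coprime_dvd_left (Subgroup.orderOf_dvd_natCard _ he) (Nat.Coprime.coprime_dvd_right
        (Subgroup.orderOf_dvd_natCard _ ha) (Twist.coprime_of_not_dvd d.prime d.pgroup d.not_dvd))).symm
    have h1 : a ∈ Subgroup.zpowers (a * e) := mem_zpowers_mul hae hcop.symm
    have h2 : e ∈ Subgroup.zpowers (a * e) := hae.eq ▸ mem_zpowers_mul hae.symm hcop
    exact ⟨a, ⟨ha, Subgroup.zpowers_le.2 hx.2 h1⟩, e, ⟨he, Subgroup.zpowers_le.2 hx.2 h2⟩, rfl⟩
  haveI : (Q.subgroupOf M).Normal := Subgroup.normal_subgroupOf_of_le_normalizer d.normal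
  have hEM : E ≤ M := d.compl.2.1.trans (sigmaCore_le M)
  haveI : Group.IsNilpotent (E.subgroupOf M) := Group.nilpotent_of_mulEquiv (Subgroup.subgroupOfEquivOfLe hEM).symm
  set g := (QuotientGroup.mk' (Q.subgroupOf M)).comp (Subgroup.inclusion (inf_le_left : C ≤ M)) with hg
  have hrange : g.range ≤ (E.subgroupOf M).map (QuotientGroup.mk' (Q.subgroupOf M)) := by
    rintro _ ⟨x, rfl⟩
    obtain ⟨a, ha, e, he, hxe⟩ := hsplit x
    refine ⟨⟨e, hEM he.1⟩, he.1, QuotientGroup.eq.2 ?_⟩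
    have h1 : Subgroup.inclusion (inf_le_left : C ≤ M) x = (⟨a, sigmaCore_le M (d.Q_le ha.1)⟩ : M) * ⟨e, hEM he.1⟩ :=
      Subtype.ext hxe
    rw [h1, ← mul_assoc]
    exact (inferInstance : (Q.subgroupOf M).Normal).conj_mem' _ ha.1 _
  haveI : Group.IsNilpotent ((E.subgroupOf M).map (QuotientGroup.mk' (Q.subgroupOf M))) :=
    Group.nilpotent_of_surjective _ ((QuotientGroup.mk' (Q.subgroupOf M)).subgroupMap_surjective (E.subgroupOf M))
  haveI : Group.IsNilpotent g.range := PlaneUnique.isNilpotent_of_le inferInstance hrange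
  refine Subgroup.isNilpotent_of_ker_le_center g.rangeRestrict fun z hz => Subgroup.mem_center_iff.2 fun w => ?_
  have h1 : g z = 1 := congrArg Subtype.val (MonoidHom.mem_ker.1 hz)
  have hzQ : (z : G) ∈ Q := (QuotientGroup.eq_one_iff (Subgroup.inclusion (inf_le_left : C ≤ M) z)).1 h1
  exact Subtype.ext (Subgroup.mem_centralizer_iff.1 w.2.2 (z : G) hzQ).symm

/-- `F(M) = C_M(M_F) M_F`. -/
theorem fitting_eq :
    Cfsg.fittingOf M = (M ⊓ Subgroup.centralizer (Cfsg.fittingHallOf M : Set G)) ⊔ Cfsg.fittingHallOf M := by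
  obtain ⟨K, U, hKU⟩ := exists_decomp hG hM
  set F := Cfsg.fittingHallOf M with hF
  set C := M ⊓ Subgroup.centralizer (F : Set G) with hC
  have hFn := FHall.le_normalizer_fittingHallOf M
  have hCnil : Group.IsNilpotent C := by
    by_cases hn : Group.IsNilpotent (Cfsg.sigmaCore M)
    · haveI := (centralizer_nil hG hM hKU hn).1
      rw [hC, hF, fittingHall_eq hG hM hn]
      infer_instance
    · exact (centralizer_nonnil hG hM hKU hn).1
  haveI := hCnil
  haveI := FHall.fittingHallOf_nilpotent M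
  refine le_antisymm ?_ (sup_le (FitOf.le_fittingOf inf_le_left (FitOf.le_normalizer_inf Subgroup.le_normalizer
      (hFn.trans (FitOf.normalizer_le_normalizer_centralizer _))))
    (FitOf.le_fittingOf (FHall.fittingHallOf_le M) hFn))
  rw [FitOf.fittingOf_le_iff]
  intro p hp
  by_cases hd : p ∣ Nat.card F
  · refine le_trans ?_ le_sup_right
    intro x hx
    have hxM : x ∈ M := FitOf.pCoreOf_le p M hx
    haveI : (F.subgroupOf M).Normal := Subgroup.normal_subgroupOf_of_le_normalizer hFn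
    haveI := Fact.mk hp
    refine Subgroup.mem_subgroupOf.1 (Exceptional.le_of_coprime_index (N := F.subgroupOf M)
      (X := (Cfsg.pCoreOf p M).subgroupOf M) (Nat.coprime_of_dvd fun t ht h1 h2 => ?_)
      (show (⟨x, hxM⟩ : M) ∈ _ from hx))
    rw [Nat.card_congr (Subgroup.subgroupOfEquivOfLe (FitOf.pCoreOf_le p M)).toEquiv] at h1
    obtain ⟨n, hn⟩ := IsPGroup.iff_card.1 (FitOf.isPGroup_pCoreOf p M)
    obtain rfl := (Nat.prime_dvd_prime_iff_eq ht hp).1 (ht.dvd_of_dvd_pow (hn ▸ h1))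
    exact Nat.not_coprime_of_dvd_of_dvd ht.one_lt hd h2 (FHall.fittingHallOf_coprime M)
  · refine le_trans (le_inf (FitOf.pCoreOf_le p M) fun x hx => Subgroup.mem_centralizer_iff.2 fun y hy => ?_)
      le_sup_left
    exact (AxB.commute_of_coprime ((FitOf.pCoreOf_le p M).trans hFn)
      ((FHall.fittingHallOf_le M).trans (FitOf.le_normalizer_pCoreOf p M))
      (Twist.coprime_of_not_dvd hp (FitOf.isPGroup_pCoreOf p M) hd).symm hx hy).symm

/-- `F(M) ≤ M'` when `κ(M) ≠ ∅`. -/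
theorem fitting_le_derived (hne : (Cfsg.kappa M).Nonempty) : Cfsg.fittingOf M ≤ ⁅M, M⁆ := by
  obtain ⟨K, U, hKU⟩ := exists_decomp hG hM
  have hK1 : K ≠ ⊥ := fun e => by
    obtain ⟨r, hr⟩ := hne
    exact hKU.hall.2.2 r hr.1 hr (by rw [e, Subgroup.relIndex_bot_left]; exact hr.2.1)
  have hS := sigmaCore_le_derived hG hM hKU
  rw [fitting_eq hG hM]
  refine sup_le ?_ ((fittingHall_le hG hM).trans hS)
  by_cases hn : Group.IsNilpotent (Cfsg.sigmaCore M)
  · rw [fittingHall_eq hG hM hn, derived_eq hG hM hKU hK1]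
    exact (centralizer_nil hG hM hKU hn).2
  · exact (centralizer_nonnil hG hM hKU hn).2.trans hS

/-- `M'' ≤ F(M)`. -/
theorem derived_two_le : ⁅⁅M, M⁆, ⁅M, M⁆⁆ ≤ Cfsg.fittingOf M := by
  obtain ⟨K, U, hKU⟩ := exists_decomp hG hM
  have hcompl := decomp_compl hKU
  by_cases hn : Group.IsNilpotent (Cfsg.sigmaCore M)
  · haveI := hn
    refine le_trans ?_ (FitOf.le_fittingOf (sigmaCore_le M) (le_normalizer_sigmaCore M))
    haveI := ComplBasics.derived_abelian hG hM hcompl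
    set N := (Cfsg.sigmaCore M).subgroupOf M
    haveI : N.Normal := Subgroup.normal_subgroupOf_of_le_normalizer (le_normalizer_sigmaCore M)
    set f := QuotientGroup.mk' N with hf
    set E₁ := (U ⊔ K).subgroupOf M with hE₁
    have htop : N ⊔ E₁ = ⊤ := by
      refine eq_top_iff.2 fun x _ => ?_
      obtain ⟨e, he, s, hs, hx⟩ := hcompl.2.2.2 x x.2
      have hxe : x = ⟨e, hcompl.1 he⟩ * ⟨s, sigmaCore_le M hs⟩ := Subtype.ext hx
      rw [hxe]
      exact mul_mem (Subgroup.mem_sup_right he) (Subgroup.mem_sup_left hs)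
    have h1 : (⁅commutator M, commutator M⁆).map f = ⊥ := by
      rw [Subgroup.map_commutator, map_commutator_eq htop, ← Subgroup.map_commutator,
        (Subgroup.commutator_eq_bot_iff_le_centralizer.2 ?_ : ⁅⁅E₁, E₁⁆, ⁅E₁, E₁⁆⁆ = ⊥), Subgroup.map_bot]
      have h : ∀ c ∈ ⁅E₁, E₁⁆, (c : G) ∈ ⁅U ⊔ K, U ⊔ K⁆ := fun c hc => by
        have := Subgroup.mem_map_of_mem M.subtype hc
        rwa [Subgroup.map_commutator, hE₁, Subgroup.map_subgroupOf_eq_of_le hcompl.1] at this
      exact fun a ha => Subgroup.mem_centralizer_iff.2 fun b hb => Subtype.ext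
        (Subgroup.mem_centralizer_iff.1 (Subgroup.le_centralizer ⁅U ⊔ K, U ⊔ K⁆ (h a ha)) _ (h b hb))
    have h2 : ⁅⁅M, M⁆, ⁅M, M⁆⁆ = (⁅commutator M, commutator M⁆).map M.subtype := by
      rw [Subgroup.map_commutator, Subgroup.map_subtype_commutator]
    rw [h2]
    rintro _ ⟨x, hx, rfl⟩
    exact ((Subgroup.map_eq_bot_iff _).1 h1).trans (QuotientGroup.ker_mk' N).le hx
  obtain ⟨q, Q, E, d⟩ := NonNil.exists_data hG hM hKU hn
  rw [derived_eq hG hM hKU (NonNil.K_ne hG hM hKU hn), NonNil.U_eq_bot hG hM hKU hn, bot_sup_eq]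
  set S := Cfsg.sigmaCore M with hS
  set E' := ⁅E, E⁆ with hE'
  have hEM : E ≤ M := d.compl.2.1.trans (sigmaCore_le M)
  have hE'E : E' ≤ E := Subgroup.le_normalizer_iff_commutator_le_left.1 Subgroup.le_normalizer
  have hE'C : E' ≤ Subgroup.centralizer (Q : Set G) := by
    intro x hx
    obtain ⟨x', hx', rfl⟩ : x ∈ (⁅E.subgroupOf M, E.subgroupOf M⁆).map M.subtype := by
      rwa [Subgroup.map_commutator, Subgroup.map_subgroupOf_eq_of_le hEM]
    exact Subgroup.mem_centralizer_iff.2 fun a ha => congrArg Subtype.val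
      (Subgroup.mem_centralizer_iff.1 ((NonNil.setup hG hM hKU hn d).derived_le hx')
        ⟨a, sigmaCore_le M (d.Q_le ha)⟩ ha)
  haveI := Fact.mk d.prime
  haveI := d.pgroup.isNilpotent
  haveI : Group.IsNilpotent E' := PlaneUnique.isNilpotent_of_le d.nilpotent hE'E
  have hco : ∀ (a : Q) (b : E'), Commute (Q.subtype a) (E'.subtype b) := fun a b =>
    Subgroup.mem_centralizer_iff.1 (hE'C b.2) a a.2
  set φ := MonoidHom.noncommCoprod Q.subtype E'.subtype hco with hφ
  have hr : φ.range = Q ⊔ E' := by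
    rw [hφ, MonoidHom.noncommCoprod_range, Subgroup.range_subtype, Subgroup.range_subtype]
  haveI : Group.IsNilpotent (Q ⊔ E' : Subgroup G) :=
    hr ▸ Group.nilpotent_of_surjective φ.rangeRestrict φ.rangeRestrict_surjective
  have hle : ⁅S, S⁆ ≤ Q ⊔ E' := by
    set N := Q.subgroupOf S
    haveI : N.Normal := Subgroup.normal_subgroupOf_of_le_normalizer ((sigmaCore_le M).trans d.normal)
    have htop : N ⊔ E.subgroupOf S = ⊤ := by
      refine eq_top_iff.2 fun x _ => ?_
      obtain ⟨a, ha, b, hb, hx⟩ := d.compl.2.2.2 x x.2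
      have hxe : x = ⟨a, d.Q_le ha⟩ * ⟨b, d.compl.2.1 hb⟩ := Subtype.ext hx
      rw [hxe]
      exact mul_mem (Subgroup.mem_sup_left ha) (Subgroup.mem_sup_right hb)
    rw [← Subgroup.map_subtype_commutator]
    rintro _ ⟨x, hx, rfl⟩
    obtain ⟨e, he, hxe⟩ : QuotientGroup.mk' N x ∈ (⁅E.subgroupOf S, E.subgroupOf S⁆).map (QuotientGroup.mk' N) :=
      map_commutator_eq htop ▸ Subgroup.mem_map_of_mem _ hx
    have he' : (e : G) ∈ E' := by
      have := Subgroup.mem_map_of_mem S.subtype he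
      rwa [Subgroup.map_commutator, Subgroup.map_subgroupOf_eq_of_le d.compl.2.1] at this
    have h1 : e⁻¹ * x ∈ N := QuotientGroup.eq.1 hxe
    have : (x : G) = (e : G) * ((e⁻¹ * x : S) : G) := by simp
    rw [Subgroup.coe_subtype, this]
    exact mul_mem (Subgroup.mem_sup_right he') (Subgroup.mem_sup_left h1)
  have hSM : ⁅S, S⁆ ≤ M := (Subgroup.le_normalizer_iff_commutator_le_left.1 Subgroup.le_normalizer).trans (sigmaCore_le M)
  haveI : Group.IsNilpotent (⁅S, S⁆ : Subgroup G) := PlaneUnique.isNilpotent_of_le inferInstance hle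
  refine FitOf.le_fittingOf hSM fun g hg => ?_
  rw [Subgroup.mem_normalizer_iff_map_conj_eq, Subgroup.map_commutator,
    Subgroup.mem_normalizer_iff_map_conj_eq.1 (le_normalizer_sigmaCore M hg)]

end Cfsg.Agent.OddOrder.FStruct
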