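/-
Hall subgroups of `M_σ`: centralizers and fusion (BG 14.10).
-/
import Cfsg.Agent.Lib.OddOrder.FittingStruct
import Cfsg.Agent.S1359
import Cfsg.Agent.S1431

set_option autoImplicit false
set_option linter.style.haveILetI false
set_option linter.unusedSectionVars false

namespace Cfsg.Agent.OddOrder.HallFus

open scoped commutatorElement IsMulCommutative Pointwise
open Exceptional TauOne Kappa Support Pairing
open Tau3 (line_pgroup line_ne_bot)

universe u

variable {G : Type u} [Group G] [Finite G] {M : Subgroup G}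

/-- A Hall subgroup contains a Sylow subgroup for each of its primes. -/
theorem exists_sylow_le {W S : Subgroup G} (hWS : W ≤ S) (hW : (Nat.card W).Coprime (W.relIndex S)) {t : ℕ}
    [ht : Fact t.Prime] (hd : t ∣ Nat.card W) :
    ∃ P : Sylow t S, (P : Subgroup S).map S.subtype ≤ W := by
  obtain ⟨Q⟩ : Nonempty (Sylow t W) := inferInstance
  set X := (Q : Subgroup W).map W.subtype with hX
  have hXW : X ≤ W := Subgroup.map_subtype_le _
  have hidx : X.relIndex W = (Q : Subgroup W).index := by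
    rw [Subgroup.relIndex, Subgroup.subgroupOf, Subgroup.comap_map_eq_self_of_injective W.subtype_injective]
  have hnd : ¬ t ∣ (X.subgroupOf S).index := fun h => by
    have h' : t ∣ X.relIndex S := h
    rw [← Subgroup.relIndex_mul_relIndex X W S hXW hWS, hidx] at h'
    rcases ht.out.dvd_mul.1 h' with h1 | h1
    · exact Q.not_dvd_index h1
    · exact ht.out.ne_one (Nat.eq_one_of_dvd_coprimes hW hd h1)
  have hp : IsPGroup t (X.subgroupOf S) :=
    (Q.isPGroup'.map W.subtype).of_equiv (Subgroup.subgroupOfEquivOfLe (hXW.trans hWS)).symm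
  exact ⟨hp.toSylow hnd, (Subgroup.map_subgroupOf_eq_of_le (hXW.trans hWS)).le.trans hXW⟩

/-- Hall subgroups of a nilpotent group are invariant under its normalizer. -/
theorem normalizer_le_of_hall {W S : Subgroup G} (hS : Group.IsNilpotent S) (hWS : W ≤ S)
    (hW : (Nat.card W).Coprime (W.relIndex S)) :
    Subgroup.normalizer (S : Set G) ≤ Subgroup.normalizer (W : Set G) := by
  intro g hg
  refine Subgroup.mem_normalizer_iff_map_conj_eq.2 (Subgroup.eq_of_le_of_card_ge ?_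
    (Subgroup.card_map_of_injective (MulAut.conj g).injective).ge)
  rw [Subgroup.map_le_iff_le_comap, ← Subgroup.subgroupOf_eq_top]
  refine FittingCores.eq_top_of_forall_sylow_le fun t ht => ?_
  haveI := Fact.mk ht
  obtain ⟨Q⟩ : Nonempty (Sylow t W) := inferInstance
  refine ⟨Q, fun x hx => ?_⟩
  set X := (Q : Subgroup W).map W.subtype with hX
  have hXW : X ≤ W := Subgroup.map_subtype_le _
  by_cases hd : t ∣ Nat.card W
  · have hidx : ¬ t ∣ X.relIndex S := fun h' => by
      rw [← Subgroup.relIndex_mul_relIndex X W S hXW hWS, Subgroup.relIndex, Subgroup.subgroupOf,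
        Subgroup.comap_map_eq_self_of_injective W.subtype_injective] at h'
      rcases ht.dvd_mul.1 h' with h1 | h1
      · exact Q.not_dvd_index h1
      · exact ht.ne_one (Nat.eq_one_of_dvd_coprimes hW hd h1)
    have hn := normalizer_le_of_nilpotent hS (hXW.trans hWS) (Q.isPGroup'.map W.subtype) hidx hg
    exact hXW ((Subgroup.mem_normalizer_iff_map_conj_eq.1 hn).le ⟨x, ⟨x, hx, rfl⟩, rfl⟩)
  · obtain ⟨n, hn⟩ := IsPGroup.iff_card.1 Q.isPGroup'
    have hn0 : n = 0 := by
      by_contra h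
      exact hd ((dvd_pow_self t h).trans (hn ▸ Subgroup.card_subgroup_dvd_card _))
    have hQ : (Q : Subgroup W) = ⊥ := Subgroup.card_eq_one.1 (by rw [hn, hn0, pow_zero])
    rw [hQ, Subgroup.mem_bot] at hx
    rw [hx]
    exact one_mem _

variable (hG : Cfsg.IsMinSimpleOddOrder G) (hM : IsCoatom M)
include hG hM

/-- Hall subgroups of `M_σ` are normal in `M` when `M_σ` is nilpotent or when they contain `O_q(M)`. -/
theorem normal_of_hall {W : Subgroup G} (hWS : W ≤ Cfsg.sigmaCore M)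
    (hW : (Nat.card W).Coprime (W.relIndex (Cfsg.sigmaCore M)))
    (h : ¬ Group.IsNilpotent (Cfsg.sigmaCore M) → ∃ (K U : Subgroup G) (q : ℕ) (Q E : Subgroup G),
      Cfsg.IsSigmaDecomposition M K U ∧ NonNil.Data M K q Q E ∧ q ∣ Nat.card W) :
    M ≤ Subgroup.normalizer (W : Set G) := by
  by_cases hnil : Group.IsNilpotent (Cfsg.sigmaCore M)
  · exact (le_normalizer_sigmaCore M).trans (normalizer_le_of_hall hnil hWS hW)
  obtain ⟨K, U, q, Q, E, hKU, d, hqW⟩ := h hnil
  haveI := Fact.mk d.prime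
  -- `Q ≤ W`
  obtain ⟨P, hP⟩ := exists_sylow_le hWS hW hqW
  haveI : (Q.subgroupOf (Cfsg.sigmaCore M)).Normal :=
    Subgroup.normal_subgroupOf_of_le_normalizer ((sigmaCore_le M).trans d.normal)
  have hQW : Q ≤ W := fun x hx => by
    have h1 : Q.subgroupOf (Cfsg.sigmaCore M) ⊔ (P : Subgroup (Cfsg.sigmaCore M)) = P :=
      P.is_maximal' ((d.pgroup.of_equiv (Subgroup.subgroupOfEquivOfLe d.Q_le).symm).to_sup_of_normal_left P.isPGroup')
        le_sup_right
    exact hP ⟨⟨x, d.Q_le hx⟩, h1.le (Subgroup.mem_sup_left (Subgroup.mem_subgroupOf.2 hx)), rfl⟩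
  set V := W ⊓ E with hV
  have hES : E ≤ Cfsg.sigmaCore M := d.compl.2.1
  have hsup : Q ⊔ V = W := by
    refine le_antisymm (sup_le hQW inf_le_left) fun x hx => ?_
    obtain ⟨a, ha, e, he, rfl⟩ := d.compl.2.2.2 x (hWS hx)
    refine mul_mem (Subgroup.mem_sup_left ha) (Subgroup.mem_sup_right ⟨?_, he⟩)
    have := mul_mem (inv_mem (hQW ha)) hx
    rwa [inv_mul_cancel_left] at this
  have hVn : V ≤ Subgroup.normalizer (Q : Set G) := (inf_le_right.trans (hES.trans (sigmaCore_le M))).trans d.normal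
  have hcardW : Nat.card W = Nat.card Q * Nat.card V := by
    have := SolvBasic.card_sup_mul_card_inf hVn
    rwa [hsup, le_bot_iff.1 ((inf_le_inf_left Q inf_le_right).trans d.compl.2.2.1.le), Subgroup.card_bot,
      mul_one] at this
  have hrel : V.relIndex E = W.relIndex (Cfsg.sigmaCore M) := by
    have h1 := Subgroup.relIndex_mul_relIndex ⊥ V E bot_le inf_le_right
    have h2 := Subgroup.relIndex_mul_relIndex ⊥ W (Cfsg.sigmaCore M) bot_le hWS
    rw [Subgroup.relIndex_bot_left, Subgroup.relIndex_bot_left] at h1 h2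
    rw [← d.card_mul, hcardW, ← h1, mul_assoc] at h2
    exact (Nat.eq_of_mul_eq_mul_left Nat.card_pos (Nat.eq_of_mul_eq_mul_left Nat.card_pos h2)).symm
  have hVhall : (Nat.card V).Coprime (V.relIndex E) := by
    rw [hrel]
    exact hW.coprime_dvd_left (Dvd.intro_left _ hcardW.symm)
  have hEV := normalizer_le_of_hall d.nilpotent inf_le_right hVhall
  have hgen : ∀ g : G, g ∈ Subgroup.normalizer (E : Set G) → g ∈ M → g ∈ Subgroup.normalizer (W : Set G) := fun g hg hgM => by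
    rw [← hsup]
    refine Subgroup.mem_normalizer_iff_map_conj_eq.2 ?_
    rw [Subgroup.map_sup, Subgroup.mem_normalizer_iff_map_conj_eq.1 (d.normal hgM),
      Subgroup.mem_normalizer_iff_map_conj_eq.1 (hEV hg)]
  intro m hm
  obtain ⟨k, hk, s, hs, rfl⟩ := (NonNil.compl_K hG hM hKU hnil).2.2.2 m hm
  obtain ⟨a, ha, e, he, rfl⟩ := d.compl.2.2.2 s hs
  exact mul_mem (hgen k (d.norm hk) (hKU.hall.1 hk)) (mul_mem (Subgroup.le_normalizer (hQW ha))
    (hgen e (Subgroup.le_normalizer he) (sigmaCore_le M (hES he))))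

variable {H : Subgroup G}

/-- A Hall subgroup of `M_σ` is centralized only by the elements of `M_σ` and a cyclic `τ₂`-group. -/
theorem centralizer_structure (hH : H ≤ Cfsg.sigmaCore M) (hH1 : H ≠ ⊥)
    (hHall : (Nat.card H).Coprime (H.relIndex (Cfsg.sigmaCore M))) :
    ∃ X : Subgroup G, IsCyclic X ∧ (∀ p : ℕ, p.Prime → p ∣ Nat.card X → p ∈ Cfsg.tau2 M) ∧
      M ⊓ Subgroup.centralizer (H : Set G) = (Cfsg.sigmaCore M ⊓ Subgroup.centralizer (H : Set G)) ⊔ X := by
  haveI := MinSimple.isSolvable hG hM.1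
  set C := M ⊓ Subgroup.centralizer (H : Set G) with hC
  set CS := Cfsg.sigmaCore M ⊓ Subgroup.centralizer (H : Set G) with hCS
  haveI : Group.IsSolvable C := MinSimple.isSolvable hG (ne_top_of_le_ne_top hM.1 inf_le_left)
  obtain ⟨X, hX, -⟩ := exists_piHall (X := C) (W := ⊥) {t | t ∉ Cfsg.sigma M} bot_le
    (fun r hr hd => absurd (Subgroup.card_bot (G := G) ▸ hd) hr.not_dvd_one)
  have hXM : X ≤ M := hX.1.trans inf_le_left
  have hXC : X ≤ Subgroup.centralizer (H : Set G) := hX.1.trans inf_le_right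
  have hCSC : CS ≤ C := inf_le_inf_right _ (sigmaCore_le M)
  have hsum : C = CS ⊔ X := by
    refine le_antisymm ?_ (sup_le hCSC hX.1)
    rw [← Subgroup.relIndex_eq_one]
    by_contra hne
    obtain ⟨t, ht, htd⟩ := Nat.exists_prime_and_dvd hne
    have h1 : t ∣ X.relIndex C := htd.trans (Dvd.intro_left _
      (Subgroup.relIndex_mul_relIndex X (CS ⊔ X) C le_sup_right (sup_le hCSC hX.1)))
    have h2 : t ∣ CS.relIndex C := htd.trans (Dvd.intro_left _
      (Subgroup.relIndex_mul_relIndex CS (CS ⊔ X) C le_sup_left (sup_le hCSC hX.1)))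
    have htσ : t ∈ Cfsg.sigma M := by
      by_contra h
      exact hX.2.2 t ht h h1
    have hcs : Cfsg.sigmaCore M ⊓ C = CS := by rw [hC, hCS, ← inf_assoc, inf_eq_left.2 (sigmaCore_le M)]
    rw [← hcs, Subgroup.inf_relIndex_right] at h2
    haveI : ((Cfsg.sigmaCore M).subgroupOf M).Normal :=
      Subgroup.normal_subgroupOf_of_le_normalizer (le_normalizer_sigmaCore M)
    rw [← Subgroup.relIndex_subgroupOf (inf_le_left : C ≤ M)] at h2
    obtain ⟨⟨-, -, hhall⟩, -, -⟩ := S1350.result hG M hM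
    exact hhall t ht htσ (h2.trans (Subgroup.relIndex_dvd_index_of_normal _ _))
  -- move `X` into a standard complement
  obtain ⟨K, U, hKU⟩ := FStruct.exists_decomp hG hM
  have hE := decomp_compl hKU
  obtain ⟨m, hm, hle⟩ := ComplBasics.exists_conj_le hG hM hE hXM
    (ComplBasics.coprime_sigmaCore_of_not_sigma fun t ht hd => hX.2.1 t ht hd)
  set X' := X.map (MulAut.conj m).toMonoidHom with hX'
  set H' := H.map (MulAut.conj m).toMonoidHom with hH'
  have hH'S : H' ≤ Cfsg.sigmaCore M := (Subgroup.map_mono hH).trans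
    (Subgroup.mem_normalizer_iff_map_conj_eq.1 (le_normalizer_sigmaCore M hm)).le
  have hcardH : Nat.card H' = Nat.card H := Subgroup.card_map_of_injective (MulAut.conj m).injective
  have hH'1 : H' ≠ ⊥ := fun e => hH1 ((Subgroup.map_eq_bot_iff_of_injective _ (MulAut.conj m).injective).1 e)
  have hH'hall : (Nat.card H').Coprime (H'.relIndex (Cfsg.sigmaCore M)) := by
    have h := Subgroup.relIndex_map_map_of_injective H (Cfsg.sigmaCore M)
      (f := (MulAut.conj m).toMonoidHom) (MulAut.conj m).injective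
    have e : (Cfsg.sigmaCore M).map (MulAut.conj m).toMonoidHom = Cfsg.sigmaCore M :=
      Subgroup.mem_normalizer_iff_map_conj_eq.1 (le_normalizer_sigmaCore M hm)
    rw [e] at h
    rw [hcardH, h]
    exact hHall
  have hcomm : ∀ a ∈ X', ∀ y ∈ H', a * y = y * a := by
    rintro _ ⟨a, ha, rfl⟩ _ ⟨y, hy, rfl⟩
    rw [← map_mul, ← map_mul, (Subgroup.mem_centralizer_iff.1 (hXC ha) y hy)]
  have hfix : ∀ R : Subgroup G, R ≤ X' → H' ≤ Cfsg.sigmaCore M ⊓ Subgroup.centralizer (R : Set G) := fun R hR y hy =>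
    ⟨hH'S hy, Subgroup.mem_centralizer_iff.2 fun a ha => hcomm a (hR ha) y hy⟩
  have hX'E : X' ≤ U ⊔ K := hle
  have hX'M : X' ≤ M := hX'E.trans hE.1
  have hcardX : Nat.card X' = Nat.card X := Subgroup.card_map_of_injective (MulAut.conj m).injective
  have hnotσ : ∀ r : ℕ, r.Prime → r ∣ Nat.card X' → r ∉ Cfsg.sigma M := fun r hr hd =>
    hX.2.1 r hr (hcardX ▸ hd)
  -- no prime of `κ(M)`
  have hnotκ : ∀ r : ℕ, r.Prime → r ∣ Nat.card X' → r ∉ Cfsg.kappa M := fun r hr hd hκ => by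
    haveI := Fact.mk hr
    obtain ⟨R, hRX, hR⟩ := exists_line_of_dvd hr hd
    obtain ⟨K₁, hK₁, hRK⟩ := exists_piHall (X := M) (W := R) (Cfsg.kappa M) (hRX.trans hX'M) fun t ht htd =>
      ((Nat.prime_dvd_prime_iff_eq ht hr).1 (hR ▸ htd)).symm ▸ hκ
    have hK₁1 : K₁ ≠ ⊥ := fun e => line_ne_bot hR (le_bot_iff.1 (e ▸ hRK))
    obtain ⟨E₁, hE₁, hKE₁⟩ := exists_compl_ge hG hM hK₁
    obtain ⟨U₁, F⟩ := exists_factor hG hM hE₁ hKE₁ hK₁ hK₁1
    obtain ⟨r₀, hr₀, hr₀1⟩ := Plane.exists_ne_one hR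
    have hD : H' ≤ Cfsg.sigmaCore M ⊓ Subgroup.centralizer (K₁ : Set G) := by
      rw [← F.prime r₀ (hRK hr₀) hr₀1]
      exact (hfix R hRX).trans (inf_le_inf_left _ (le_singleton hr₀))
    obtain ⟨t, ht, htd⟩ := Nat.exists_prime_and_dvd fun e => hH'1 (Subgroup.card_eq_one.1 e)
    haveI := Fact.mk ht
    obtain ⟨P, hP⟩ := exists_sylow_le hH'S hH'hall htd
    exact ((S1431.result hG M hM K₁ hK₁ hK₁1).2.2.1 t ht (htd.trans (Subgroup.card_dvd_of_le hD)) P).2.2 (hP.trans hD)
  -- hence `X' ≤ U`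
  have hX'U : X' ≤ U := by
    set E := U ⊔ K with hEdef
    haveI : (U.subgroupOf E).Normal :=
      Subgroup.normal_subgroupOf_of_le_normalizer (sup_le Subgroup.le_normalizer hKU.normal)
    have hidx : U.relIndex E = Nat.card K := by
      have h1 := Subgroup.relIndex_mul_relIndex ⊥ U E bot_le le_sup_left
      rw [Subgroup.relIndex_bot_left, Subgroup.relIndex_bot_left] at h1
      have h2 := SolvBasic.card_sup_mul_card_inf hKU.normal
      rw [decomp_inf hKU, Subgroup.card_bot, mul_one, ← h1] at h2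
      exact Nat.eq_of_mul_eq_mul_left Nat.card_pos h2
    have h : X'.subgroupOf E ≤ U.subgroupOf E := Exceptional.le_of_coprime_index (by
      rw [Nat.card_congr (Subgroup.subgroupOfEquivOfLe hX'E).toEquiv]
      exact Nat.coprime_of_dvd fun r hr h1 h2 => hnotκ r hr h1 (hKU.hall.2.1 r hr (hidx ▸ h2)))
    exact fun x hx => h (x := ⟨x, hX'E hx⟩) hx
  have hτ : ∀ r : ℕ, r.Prime → r ∣ Nat.card X' → r ∈ Cfsg.tau2 M := fun r hr hd => by
    haveI := Fact.mk hr
    refine (rank_one_or_tau2 hG hM hr (hnotσ r hr hd)).resolve_left fun h1 => hnotκ r hr hd ?_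
    obtain ⟨R, hRX, hR⟩ := exists_line_of_dvd hr hd
    exact kappa_of_line hG (hnotσ r hr hd) h1 hR (hRX.trans hX'M) fun e => hH'1 (le_bot_iff.1 ((hfix R hRX).trans e.le))
  haveI hab : IsMulCommutative X' := by
    haveI := S1359.result hG M hM K U hKU
    obtain ⟨y, hy, hy1⟩ := (Subgroup.bot_or_exists_ne_one _).resolve_left hH'1
    have hsub : (X' : Set G) ⊆ (U : Set G) ∩ Cfsg.sigmaHat M := fun a ha =>
      ⟨hX'U ha, hX'M ha, y, hH'S hy, hy1, hcomm a ha y hy⟩
    refine .of_setLike_mul_comm fun a ha b hb => ?_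
    exact congrArg Subtype.val (mul_comm' (⟨a, Subgroup.subset_closure (hsub ha)⟩ :
      Subgroup.closure ((U : Set G) ∩ Cfsg.sigmaHat M)) ⟨b, Subgroup.subset_closure (hsub hb)⟩)
  haveI hcyc : IsCyclic X' := by
    by_contra hnc
    obtain ⟨q, A₀, hq, hA₀, hexp⟩ := CoprimeAct.exists_elementary_of_not_isCyclic hnc
    haveI := Fact.mk hq
    set A := A₀.map X'.subtype with hA
    have hAX : A ≤ X' := Subgroup.map_subtype_le _
    have hAc : Nat.card A = q ^ 2 := by rw [hA, Subgroup.card_map_of_injective X'.subtype_injective, hA₀]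
    have hAe : Cfsg.IsElementaryAbelian q A := by
      refine ⟨.of_setLike_mul_comm fun a ha b hb => congrArg Subtype.val (mul_comm' (⟨a, hAX ha⟩ : X') ⟨b, hAX hb⟩), ?_⟩
      rintro _ ⟨a, ha, rfl⟩
      rw [← map_pow, show a ^ q = 1 from congrArg Subtype.val (hexp ⟨a, ha⟩), map_one]
    have hqd : q ∣ Nat.card X' := (hAc ▸ dvd_pow_self q two_ne_zero).trans (Subgroup.card_dvd_of_le hAX)
    obtain ⟨-, -, -, hbot, -⟩ := S1417.result hG M hM q (hτ q hq hqd) A ⟨hAX.trans hX'M, hAe, hAc⟩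
    exact hH'1 (le_bot_iff.1 ((hfix A hAX).trans hbot.le))
  refine ⟨X, ?_, fun p hp hd => hτ p hp (hcardX ▸ hd), hsum⟩
  exact (X.equivMapOfInjective (MulAut.conj m).toMonoidHom (MulAut.conj m).injective).isCyclic.2 hcyc

/-- Fusion in a Hall subgroup of `M_σ` is controlled by its normalizer in `M`. -/
theorem fusion (hH : H ≤ Cfsg.sigmaCore M) (hHall : (Nat.card H).Coprime (H.relIndex (Cfsg.sigmaCore M)))
    {x : G} (hx : x ∈ H) {g : G} (hgx : g * x * g⁻¹ ∈ H) :
    ∃ n ∈ M ⊓ Subgroup.normalizer (H : Set G), n * x * n⁻¹ = g * x * g⁻¹ := by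
  by_cases hx1 : x = 1
  · exact ⟨1, one_mem _, by simp [hx1]⟩
  have hSM := sigmaCore_le M
  obtain ⟨c, hc, hce⟩ := Support.conj_eq hG hM (hH hx) hx1 (g := g⁻¹) ⟨g * x * g⁻¹, hSM (hH hgx), by simp [mul_assoc]⟩
  have hm : g * c ∈ M := mem_of_map_conj hG hM (by
    rw [← Sigma.map_conj_map, hce, Sigma.map_conj_map, mul_inv_cancel, Sigma.map_conj_one])
  have hmx : g * c * x * (g * c)⁻¹ = g * x * g⁻¹ := by
    rw [Subgroup.mem_centralizer_singleton_iff] at hc
    calc g * c * x * (g * c)⁻¹ = g * (c * x) * c⁻¹ * g⁻¹ := by group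
      _ = g * (x * c) * c⁻¹ * g⁻¹ := by rw [hc]
      _ = g * x * g⁻¹ := by group
  by_cases hn : M ≤ Subgroup.normalizer (H : Set G)
  · exact ⟨g * c, ⟨hm, hn hm⟩, hmx⟩
  have hnn : ¬ Group.IsNilpotent (Cfsg.sigmaCore M) := fun h => hn (normal_of_hall hG hM hH hHall fun h' => absurd h h')
  obtain ⟨K, U, hKU⟩ := FStruct.exists_decomp hG hM
  obtain ⟨q, Q, E, d⟩ := NonNil.exists_data hG hM hKU hnn
  haveI := Fact.mk d.prime
  have hqH : ¬ q ∣ Nat.card H := fun h => hn (normal_of_hall hG hM hH hHall fun _ => ⟨K, U, q, Q, E, hKU, d, h⟩)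
  obtain ⟨n₀, hn₀⟩ := IsPGroup.iff_card.1 d.pgroup
  have hQH : Q ⊓ H = ⊥ := Subgroup.inf_eq_bot_of_coprime (by
    rw [hn₀]
    exact ((d.prime.coprime_iff_not_dvd).2 hqH).pow_left n₀)
  have hHQ : H ≤ Subgroup.normalizer (Q : Set G) := (hH.trans hSM).trans d.normal
  set W := Q ⊔ H with hW
  have hWS : W ≤ Cfsg.sigmaCore M := sup_le d.Q_le hH
  have hcard : Nat.card W = Nat.card Q * Nat.card H := by
    have := SolvBasic.card_sup_mul_card_inf hHQ
    rwa [hQH, Subgroup.card_bot, mul_one] at this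
  have hWhall : (Nat.card W).Coprime (W.relIndex (Cfsg.sigmaCore M)) := by
    rw [hcard, hn₀]
    refine Nat.Coprime.mul_left (((d.prime.coprime_iff_not_dvd).2 fun h => d.hall (h.trans ?_)).pow_left n₀)
      (hHall.coprime_dvd_right ?_)
    · exact Dvd.intro_left _ (Subgroup.relIndex_mul_relIndex Q W _ le_sup_left hWS)
    · exact Dvd.intro_left _ (Subgroup.relIndex_mul_relIndex H W _ le_sup_right hWS)
  have hWn : M ≤ Subgroup.normalizer (W : Set G) := normal_of_hall hG hM hWS hWhall fun _ =>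
    ⟨K, U, q, Q, E, hKU, d, by
      refine dvd_trans ?_ (Dvd.intro _ hcard.symm)
      rw [← d.cardD]
      exact Subgroup.card_dvd_of_le d.D_le⟩
  -- Frattini
  set H₁ := H.map (MulAut.conj (g * c)).toMonoidHom with hH₁
  have hH₁W : H₁ ≤ W := (Subgroup.map_mono le_sup_right).trans
    (Subgroup.mem_normalizer_iff_map_conj_eq.1 (hWn hm)).le
  haveI : Group.IsSolvable W := MinSimple.isSolvable hG (ne_top_of_le_ne_top hM.1 (hWS.trans hSM))
  have hcardW : Nat.card W = Nat.card H * Nat.card Q := by rw [hcard, mul_comm]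
  obtain ⟨⟨w, hw⟩, hle⟩ := HallSolv.hall_conj_le (G := W) hcardW
    (by rw [hn₀]; exact (((d.prime.coprime_iff_not_dvd).2 hqH).pow_left n₀).symm)
    (H := H.subgroupOf W) (K := H₁.subgroupOf W) (Nat.card_congr (Subgroup.subgroupOfEquivOfLe le_sup_right).toEquiv)
    (by
      rw [Nat.card_congr (Subgroup.subgroupOfEquivOfLe hH₁W).toEquiv,
        Subgroup.card_map_of_injective (MulAut.conj (g * c)).injective, hn₀]
      exact (((d.prime.coprime_iff_not_dvd).2 hqH).pow_left n₀).symm)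
  have hwn : w * (g * c) ∈ Subgroup.normalizer (H : Set G) := by
    refine Subgroup.mem_normalizer_iff_map_conj_eq.2 (Subgroup.eq_of_le_of_card_ge ?_
      (Subgroup.card_map_of_injective (MulAut.conj (w * (g * c))).injective).ge)
    show H.map (MulAut.conj (w * (g * c))).toMonoidHom ≤ H
    rw [← Sigma.map_conj_map]
    rintro _ ⟨z, hz, rfl⟩
    exact hle (Subgroup.smul_mem_pointwise_smul (⟨z, hH₁W hz⟩ : W) (MulAut.conj (⟨w, hw⟩ : W)) (H₁.subgroupOf W) hz)
  have hw' : w⁻¹ ∈ (Q : Set G) * (H : Set G) := by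
    rw [← Subgroup.coe_mul_of_right_le_normalizer_left Q H hHQ]
    exact inv_mem hw
  obtain ⟨a, ha, h, hh, hah⟩ := hw'
  have hah' : a * h = w⁻¹ := hah
  set n := h * (w * (g * c)) with hndef
  have hnN : n ∈ Subgroup.normalizer (H : Set G) := mul_mem (Subgroup.le_normalizer hh) hwn
  have hnM : n ∈ M := mul_mem (hSM (hH hh)) (mul_mem (hSM (hWS hw)) hm)
  have han : g * c = a * n := by rw [hndef, ← mul_assoc, hah', inv_mul_cancel_left]
  refine ⟨n, ⟨hnM, hnN⟩, ?_⟩
  have hz : n * x * n⁻¹ ∈ H := (Subgroup.mem_normalizer_iff.1 hnN x).1 hx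
  set z := n * x * n⁻¹ with hzdef
  have hy : g * x * g⁻¹ = a * z * a⁻¹ := by rw [← hmx, han, hzdef]; group
  have h1 : g * x * g⁻¹ * z⁻¹ ∈ Q ⊓ H := by
    refine ⟨?_, H.mul_mem hgx (H.inv_mem hz)⟩
    show g * x * g⁻¹ * z⁻¹ ∈ Q
    rw [hy, mul_assoc a z a⁻¹, mul_assoc]
    exact mul_mem ha ((Subgroup.mem_normalizer_iff.1 (hHQ hz) a⁻¹).1 (inv_mem ha))
  rw [hQH, Subgroup.mem_bot, mul_inv_eq_one] at h1
  exact h1.symm

end Cfsg.Agent.OddOrder.HallFus
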