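/-
The Fitting subgroup outside `σ(M)` (BG 15.1 / 12.?).
-/
import Cfsg.Agent.Lib.OddOrder.TauTwoAbelian
import Cfsg.Agent.Lib.OddOrder.TauTwoNonabelian
import Mathlib.GroupTheory.SpecificGroups.ZGroup

set_option autoImplicit false
set_option linter.style.haveILetI false
set_option linter.unusedSectionVars false

namespace Cfsg.Agent.OddOrder.TauTwoFit

open Exceptional

universe u

variable {G : Type u} [Group G] [Finite G] {M : Subgroup G}

/-- `O_r(M)` is cyclic for `r ∉ σ(M)`. -/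
theorem isCyclic_pCoreOf (hG : Cfsg.IsMinSimpleOddOrder G) (hM : IsCoatom M) {r : ℕ} [hr : Fact r.Prime]
    (hσ : r ∉ Cfsg.sigma M) : IsCyclic (Cfsg.pCoreOf r M) := by
  by_contra hc
  set Y := Cfsg.pCoreOf r M with hY
  have hYp : IsPGroup r Y := FitOf.isPGroup_pCoreOf r M
  have hYM : Y ≤ M := FitOf.pCoreOf_le r M
  have hτ : r ∈ Cfsg.tau2 M := by
    by_contra hτ
    exact hc (by rw [hY, TauTwo.pCoreOf_eq_bot hG hM hσ hτ]; exact inferInstance)
  have hr2 : r ≠ 2 := by
    have hY1 : Y ≠ ⊥ := fun e => hc (e ▸ inferInstance)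
    haveI : Nontrivial Y := (Subgroup.nontrivial_iff_ne_bot Y).2 hY1
    obtain ⟨n, hn, hn'⟩ := hYp.nontrivial_iff_card.1 inferInstance
    exact Uniq.ne_two_of_dvd hG ((hn' ▸ dvd_pow_self r hn.ne').trans Y.card_subgroup_dvd_card)
  obtain ⟨W, -, hWe, hW2⟩ := S0126.result hr2 hYp hc
  haveI := hWe.1
  set B := W.map Y.subtype with hB
  have hBe : Cfsg.IsElementaryAbelian r B := ⟨inferInstance, by
    rintro _ ⟨w, hw, rfl⟩
    rw [← map_pow, hWe.2 w hw, map_one]⟩
  have hBc : Nat.card B = r ^ 2 := by rw [hB, Subgroup.card_map_of_injective Y.subtype_injective, hW2]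
  have hBY : B ≤ Y := Subgroup.map_subtype_le _
  obtain ⟨E, hE, hYE⟩ := ComplBasics.exists_complement_containing hG hM hYM
    (ComplBasics.coprime_sigmaCore_of_not_sigma fun q hq hqd =>
      Set.mem_singleton_iff.1 (Inv.primes_of_isPGroup hYp q hq hqd) ▸ hσ)
  obtain ⟨⟨-, hline⟩, ⟨-, -, hnot⟩, -⟩ := S1418.result hG M hM E hE r hτ B ⟨hBY.trans hYE, hBe, hBc⟩
  have hMB : M ≤ Subgroup.normalizer (B : Set G) := fun m hm => by
    refine ComplAbelian.mem_normalizer_of_map_le fun b hb => ?_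
    have hbY : m * b * m⁻¹ ∈ Y := (Subgroup.mem_normalizer_iff.1 (FitOf.le_normalizer_pCoreOf r M hm) b).1 (hBY hb)
    by_cases h1 : m * b * m⁻¹ = 1
    · rw [h1]; exact one_mem _
    have hord : orderOf (m * b * m⁻¹) = r := orderOf_eq_prime (by rw [conj_pow, hBe.2 b hb]; simp) h1
    exact hline _ (Subgroup.zpowers_le.2 (hYE hbY)) (by rw [Nat.card_zpowers, hord]) (Subgroup.mem_zpowers _)
  exact hnot ((hM.le_iff_eq (MinSimple.normalizer_ne_top hG (Plane.ne_bot (p := r) hBc)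
    (MinSimple.pSubgroup_ne_top hG (Plane.isPGroup hBc)))).1 hMB).le

theorem fitting_sigma_compl (hG : Cfsg.IsMinSimpleOddOrder G) (hM : IsCoatom M) :
    IsCyclic ↥(Cfsg.piCoreOf {q | q.Prime ∧ q ∉ Cfsg.sigma M} (Cfsg.fittingOf M)) ∧
      (∀ p : ℕ, p.Prime → p ∣ Nat.card ↥(Cfsg.piCoreOf {q | q.Prime ∧ q ∉ Cfsg.sigma M} (Cfsg.fittingOf M)) → p ∈ Cfsg.tau2 M) ∧
      Cfsg.fittingOf M = Cfsg.fittingOf (Cfsg.sigmaCore M) ⊔ Cfsg.piCoreOf {q | q.Prime ∧ q ∉ Cfsg.sigma M} (Cfsg.fittingOf M) := by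
  set π : Set ℕ := {q | q.Prime ∧ q ∉ Cfsg.sigma M} with hπ
  set F := Cfsg.fittingOf M with hF
  set Y := Cfsg.piCoreOf π F with hY
  have hYF : Y ≤ F := MinSimple.piCoreOf_le
  have hFM : F ≤ M := FitOf.fittingOf_le M
  haveI hFn : Group.IsNilpotent F := FitOf.fittingOf_nilpotent M
  haveI hYn : Group.IsNilpotent Y := PlaneUnique.isNilpotent_of_le hFn hYF
  have hMY : M ≤ Subgroup.normalizer (Y : Set G) :=
    (FitOf.le_normalizer_fittingOf M).trans MinSimple.normalizer_le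
  have hYσ : ∀ q : ℕ, q.Prime → q ∣ Nat.card Y → q ∉ Cfsg.sigma M := fun q hq hd =>
    (MinSimple.isPi_piCoreOf q hq hd).2
  -- Sylow subgroups of `Y` lie in the cores of `M`
  have hsyl : ∀ q : ℕ, ∀ _ : Fact q.Prime, ∀ R : Sylow q Y, (R : Subgroup Y).map Y.subtype ≤ Cfsg.pCoreOf q M := by
    intro q _ R
    refine AxB.le_pCoreOf ((Subgroup.map_subtype_le _).trans (hYF.trans hFM))
      (hMY.trans (Exceptional.normalizer_le_of_nilpotent hYn (Subgroup.map_subtype_le _) (R.isPGroup'.map Y.subtype) ?_))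
      (R.isPGroup'.map Y.subtype)
    rw [Subgroup.relIndex, Subgroup.subgroupOf, Subgroup.comap_map_eq_self_of_injective Y.subtype_injective]
    exact R.not_dvd_index
  refine ⟨?_, fun q hq hd => ?_, ?_⟩
  · haveI : IsZGroup Y := ⟨fun q hq R => by
      haveI := Fact.mk hq
      by_cases hR : (R : Subgroup Y) = ⊥
      · rw [hR]; infer_instance
      have hd : q ∣ Nat.card Y := (R.isPGroup'.card_eq_or_dvd.resolve_left fun e =>
        hR (Subgroup.card_eq_one.1 e)).trans (Subgroup.card_subgroup_dvd_card _)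
      haveI := isCyclic_pCoreOf hG hM (hYσ q hq hd)
      haveI : IsCyclic ((R : Subgroup Y).map Y.subtype) :=
        isCyclic_of_injective (Subgroup.inclusion (hsyl q ⟨hq⟩ R)) (Subgroup.inclusion_injective _)
      exact isCyclic_of_injective (Y.subtype.subgroupMap (R : Subgroup Y)) fun a b h => Subtype.ext
        (Y.subtype_injective (show ((a : Y) : G) = ((b : Y) : G) from
          congrArg (fun t : (R : Subgroup Y).map Y.subtype => (t : G)) h))⟩
    infer_instance
  · haveI := Fact.mk hq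
    by_contra hτ
    obtain ⟨R⟩ : Nonempty (Sylow q Y) := inferInstance
    refine R.ne_bot_of_dvd_card hd ?_
    have h1 := hsyl q ⟨hq⟩ R
    rwa [TauTwo.pCoreOf_eq_bot hG hM (hYσ q hq hd) hτ, le_bot_iff,
      Subgroup.map_eq_bot_iff_of_injective _ Y.subtype_injective] at h1
  · refine le_antisymm (FitOf.fittingOf_le_iff.2 fun q hq => ?_) (sup_le ?_ hYF)
    · haveI := Fact.mk hq
      by_cases hqσ : q ∈ Cfsg.sigma M
      · refine le_trans ?_ le_sup_left
        have hle : Cfsg.pCoreOf q M ≤ Cfsg.sigmaCore M :=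
          le_sigmaCore hG hM hqσ (FitOf.isPGroup_pCoreOf q M) (FitOf.pCoreOf_le q M)
        haveI := (FitOf.isPGroup_pCoreOf q M).isNilpotent
        exact FitOf.le_fittingOf hle ((sigmaCore_le M).trans (FitOf.le_normalizer_pCoreOf q M))
      · refine le_trans ?_ le_sup_right
        exact MinSimple.le_piCoreOf (FitOf.pCoreOf_le_fittingOf hq M) (hFM.trans (FitOf.le_normalizer_pCoreOf q M))
          fun s hs hsd => ⟨hs, Set.mem_singleton_iff.1
            (Inv.primes_of_isPGroup (FitOf.isPGroup_pCoreOf q M) s hs hsd) ▸ hqσ⟩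
    · haveI := FitOf.fittingOf_nilpotent (Cfsg.sigmaCore M)
      exact FitOf.le_fittingOf ((FitOf.fittingOf_le _).trans (sigmaCore_le M))
        ((le_normalizer_sigmaCore M).trans (TauTwoAb.normalizer_le_fittingOf _))

end Cfsg.Agent.OddOrder.TauTwoFit
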