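/-
`F(M)` is a TI-subset when `M` is of type P₂ or `M_σ` is not nilpotent (BG 15.7).
-/
import Cfsg.Agent.Lib.OddOrder.FittingStruct
import Cfsg.Agent.Lib.OddOrder.NarrowGroup
import Cfsg.Agent.Lib.OddOrder.BetaCore
import Cfsg.Agent.S1439

set_option autoImplicit false
set_option linter.style.haveILetI false
set_option linter.unusedSectionVars false

namespace Cfsg.Agent.OddOrder.FTI

open scoped commutatorElement IsMulCommutative Pointwise
open Exceptional TauOne Kappa Support Pairing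
open Tau3 (line_pgroup line_ne_bot)

universe u

variable {G : Type u} [Group G] [Finite G] {M K U : Subgroup G}

theorem line_conj_eq {X : Subgroup G} (hX : IsCyclic X) {a b : G} (ha : a ∈ X) (hb : b ∈ X)
    (h : orderOf a = orderOf b) : Subgroup.zpowers a = Subgroup.zpowers b := by
  classical
  haveI := hX
  letI := Fintype.ofFinite X
  set n := orderOf a with hn
  set S := Finset.univ.filter fun x : X => x ^ n = 1 with hS
  have hle : S.card ≤ n := IsCyclic.card_pow_eq_one_le (orderOf_pos a)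
  have key : ∀ c : X, orderOf (c : G) = n → ∀ x : X, x ∈ S → (x : G) ∈ Subgroup.zpowers (c : G) := by
    intro c hc x hx
    set T := (Finset.range n).image fun i => c ^ i with hT
    have hTc : T.card = n := by
      rw [hT, Finset.card_image_of_injOn, Finset.card_range]
      intro i hi j hj hij
      exact pow_injOn_Iio_orderOf (x := c)
        (by rw [Set.mem_Iio, ← Subgroup.orderOf_coe, hc]; exact Finset.mem_range.1 hi)
        (by rw [Set.mem_Iio, ← Subgroup.orderOf_coe, hc]; exact Finset.mem_range.1 hj) hij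
    have hTS : T ⊆ S := by
      intro y hy
      obtain ⟨i, -, rfl⟩ := Finset.mem_image.1 hy
      refine Finset.mem_filter.2 ⟨Finset.mem_univ _, ?_⟩
      rw [← pow_mul, mul_comm, pow_mul, ← hc, Subgroup.orderOf_coe, pow_orderOf_eq_one, one_pow]
    obtain ⟨i, -, rfl⟩ := Finset.mem_image.1 ((Finset.eq_of_subset_of_card_le hTS (hle.trans hTc.ge)).ge hx)
    exact Subgroup.pow_mem _ (Subgroup.mem_zpowers _) i
  have haS : (⟨a, ha⟩ : X) ∈ S := Finset.mem_filter.2 ⟨Finset.mem_univ _, Subtype.ext (pow_orderOf_eq_one a)⟩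
  have hbS : (⟨b, hb⟩ : X) ∈ S := Finset.mem_filter.2 ⟨Finset.mem_univ _,
    Subtype.ext (show b ^ n = 1 by rw [h, pow_orderOf_eq_one])⟩
  exact le_antisymm (Subgroup.zpowers_le.2 (key ⟨b, hb⟩ h.symm ⟨a, ha⟩ haS))
    (Subgroup.zpowers_le.2 (key ⟨a, ha⟩ rfl ⟨b, hb⟩ hbS))

variable (hG : Cfsg.IsMinSimpleOddOrder G) (hM : IsCoatom M)
include hG hM

theorem normalizer_of_normal {X : Subgroup G} (hXM : X ≤ M) (hX : X ≠ ⊥) (hn : M ≤ Subgroup.normalizer (X : Set G)) :
    Subgroup.normalizer (X : Set G) = M :=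
  (hM.le_iff_eq (MinSimple.normalizer_ne_top hG hX (ne_top_of_le_ne_top hM.1 hXM))).1 hn

/-- The `σ(M)'`-elements of `F(M)` lie in its cyclic part. -/
theorem mem_Y {y : G} (hy : y ∈ Cfsg.fittingOf M) (h : ∀ t : ℕ, t.Prime → t ∣ orderOf y → t ∉ Cfsg.sigma M) :
    y ∈ Cfsg.piCoreOf {q | q.Prime ∧ q ∉ Cfsg.sigma M} (Cfsg.fittingOf M) := by
  set π : Set ℕ := {q | q.Prime ∧ q ∉ Cfsg.sigma M} with hπ
  haveI := FitOf.fittingOf_nilpotent M
  set F := Cfsg.fittingOf M
  refine ⟨⟨y, hy⟩, ?_, rfl⟩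
  obtain ⟨r, s, he, hrs, hr, -, hrπ, hsπ⟩ := exists_pi_parts π (⟨y, hy⟩ : F)
  have hs1 : s = 1 := by
    by_contra hs1
    obtain ⟨t, ht, htd⟩ := Nat.exists_prime_and_dvd fun e => hs1 (orderOf_eq_one_iff.1 e)
    refine hsπ t ht htd ⟨ht, h t ht ?_⟩
    rw [← Subgroup.orderOf_mk y hy, he, hrs.orderOf_mul_eq_mul_orderOf_of_coprime
      (Nat.coprime_of_dvd fun a ha h1 h2 => hsπ a ha h2 (hrπ a ha h1))]
    exact htd.trans (dvd_mul_left _ _)
  rw [he, hs1, mul_one]
  -- a `π`-element of a nilpotent group lies in its `π`-core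
  obtain ⟨t, a, ht, hra⟩ : ∃ (P : Finset ℕ) (a : ℕ → F), (∀ p ∈ P, p.Prime ∧ p ∈ π ∧ IsPGroup p (Subgroup.zpowers (a p))) ∧
      r ∈ Subgroup.closure (a '' (P : Set ℕ)) := by
    classical
    refine ⟨(orderOf r).primeFactors, fun p => r ^ (orderOf r / p ^ (orderOf r).factorization p), fun p hp => ?_, ?_⟩
    · have hpp := Nat.prime_of_mem_primeFactors hp
      refine ⟨hpp, hrπ p hpp (Nat.dvd_of_mem_primeFactors hp), IsPGroup.of_card (n := (orderOf r).factorization p) ?_⟩
      rw [Nat.card_zpowers, orderOf_pow_orderOf_div (orderOf_pos r).ne' (Nat.ordProj_dvd _ _)]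
    · set H := Subgroup.closure ((fun p => r ^ (orderOf r / p ^ (orderOf r).factorization p)) '' ((orderOf r).primeFactors : Set ℕ))
      suffices Subgroup.zpowers r ≤ H from this (Subgroup.mem_zpowers r)
      have hH : H ≤ Subgroup.zpowers r := (Subgroup.closure_le _).2 (by
        rintro _ ⟨p, -, rfl⟩; exact Subgroup.pow_mem _ (Subgroup.mem_zpowers r) _)
      have hd : Nat.card (Subgroup.zpowers r) ∣ Nat.card H := by
        rw [Nat.card_zpowers]
        refine (Nat.factorization_le_iff_dvd (orderOf_pos r).ne' Nat.card_pos.ne').1 fun p => ?_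
        by_cases hp : p ∈ (orderOf r).primeFactors
        · refine (Nat.Prime.pow_dvd_iff_le_factorization (Nat.prime_of_mem_primeFactors hp) Nat.card_pos.ne').1 ?_
          rw [← orderOf_pow_orderOf_div (orderOf_pos r).ne' (Nat.ordProj_dvd (orderOf r) p)]
          exact Subgroup.orderOf_dvd_natCard _ (Subgroup.subset_closure ⟨p, hp, rfl⟩)
        · rw [Finsupp.notMem_support_iff.1 (by rwa [Nat.support_factorization])]
          exact Nat.zero_le _
      exact (Subgroup.eq_of_le_of_card_ge hH (Nat.le_of_dvd Nat.card_pos hd)).ge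
  refine (Subgroup.closure_le _).2 ?_ hra
  rintro _ ⟨p, hp, rfl⟩
  haveI := Fact.mk (ht p hp).1
  refine (le_sSup ⟨FittingCores.pCore_normal p, fun q hq hqd => ?_⟩ : Cfsg.pCore p F ≤ Cfsg.piCore π F)
    (NonNil.mem_pCore_of_nilpotent (F := (⊤ : Subgroup F)) inferInstance
      (Group.nilpotent_of_mulEquiv Subgroup.topEquiv.symm) (Subgroup.mem_top _) (ht p hp).2.2)
  obtain ⟨n, hn⟩ := IsPGroup.iff_card.1 (FittingCores.pCore_isPGroup (G := F) p)
  exact (Nat.prime_dvd_prime_iff_eq hq (ht p hp).1).1 (hq.dvd_of_dvd_pow (hn ▸ hqd)) ▸ (ht p hp).2.1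

/-- A common element of `F(M)` and a different conjugate yields one of prime order in `M_σ`, outside `β(M)`. -/
theorem exists_common {g x : G} (hg : g ∉ M) (hx : x ∈ Cfsg.fittingOf M) (hgx : g * x * g⁻¹ ∈ Cfsg.fittingOf M)
    (hx1 : x ≠ 1) :
    ∃ y : G, (orderOf y).Prime ∧ y ∈ Cfsg.fittingOf M ∧ g * y * g⁻¹ ∈ Cfsg.fittingOf M ∧ y ∈ Cfsg.sigmaCore M ∧
      g * y * g⁻¹ ∈ Cfsg.sigmaCore M ∧ orderOf y ∉ Cfsg.beta M := by
  obtain ⟨r, hr, hrd⟩ := Nat.exists_prime_and_dvd fun e => hx1 (orderOf_eq_one_iff.1 e)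
  set y := x ^ (orderOf x / r) with hy
  have hyo : orderOf y = r := orderOf_pow_orderOf_div (orderOf_pos x).ne' hrd
  have hy1 : y ∈ Cfsg.fittingOf M := Subgroup.pow_mem _ hx _
  have hy2 : g * y * g⁻¹ ∈ Cfsg.fittingOf M := by rw [hy, ← conj_pow]; exact Subgroup.pow_mem _ hgx _
  have hgyo : orderOf (g * y * g⁻¹) = r := by rw [← MulAut.conj_apply, MulEquiv.orderOf_eq, hyo]
  have hne : y ≠ 1 := fun e => hr.ne_one (by rw [← hyo, e, orderOf_one])
  have hrσ : r ∈ Cfsg.sigma M := by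
    by_contra hrσ
    obtain ⟨hYc, -, -⟩ := S1439.result hG M hM
    set Y := Cfsg.piCoreOf {q | q.Prime ∧ q ∉ Cfsg.sigma M} (Cfsg.fittingOf M)
    have hprimes : ∀ z : G, orderOf z = r → ∀ t : ℕ, t.Prime → t ∣ orderOf z → t ∉ Cfsg.sigma M := fun z hz t ht htd => by
      rw [hz] at htd
      exact (Nat.prime_dvd_prime_iff_eq ht hr).1 htd ▸ hrσ
    have ha := mem_Y hG hM hy1 (hprimes y hyo)
    have hb := mem_Y hG hM hy2 (hprimes _ hgyo)
    have hn : M ≤ Subgroup.normalizer (Subgroup.zpowers y : Set G) := fun m hm => by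
      have hc : m * y * m⁻¹ ∈ Y := mem_Y hG hM ((Subgroup.mem_normalizer_iff.1 (FitOf.le_normalizer_fittingOf M hm) y).1 hy1)
        (hprimes _ (by rw [← MulAut.conj_apply, MulEquiv.orderOf_eq, hyo]))
      rw [Subgroup.mem_normalizer_iff_map_conj_eq, MonoidHom.map_zpowers]
      exact line_conj_eq hYc hc ha (MulEquiv.orderOf_eq (MulAut.conj m) y)
    have hgn : g ∈ Subgroup.normalizer (Subgroup.zpowers y : Set G) := by
      rw [Subgroup.mem_normalizer_iff_map_conj_eq, MonoidHom.map_zpowers]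
      exact line_conj_eq hYc hb ha (hgyo.trans hyo.symm)
    exact hg (normalizer_of_normal hG hM (Subgroup.zpowers_le.2 (FitOf.fittingOf_le M hy1))
      (fun e => hne (Subgroup.zpowers_eq_bot.1 e)) hn ▸ hgn)
  have hσel : ∀ z ∈ Cfsg.fittingOf M, orderOf z = r → z ∈ Cfsg.sigmaCore M := fun z hz hzo =>
    mem_sigmaCore_of_primes hG hM (FitOf.fittingOf_le M hz) fun t ht htd => by
      rw [hzo] at htd
      exact (Nat.prime_dvd_prime_iff_eq ht hr).1 htd ▸ hrσ
  have hyσ := hσel y hy1 hyo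
  refine ⟨y, hyo.symm ▸ hr, hy1, hy2, hyσ, hσel _ hy2 hgyo, ?_⟩
  obtain ⟨E, hE⟩ := exists_complement hG hM
  obtain ⟨-, -, hint⟩ := S1426.result hG M hM E hE
  rw [hyo]
  refine (hint g⁻¹ (fun h => hg (inv_inv g ▸ M.inv_mem h))).2.1 r hr (hyo ▸ Subgroup.orderOf_dvd_natCard _
    (show y ∈ Cfsg.sigmaCore M ⊓ M.map (MulAut.conj g⁻¹).toMonoidHom from
      ⟨hyσ, g * y * g⁻¹, FitOf.fittingOf_le M hy2, by simp [mul_assoc]⟩))

/-- `β(M)` contains `π(M_σ)` for `M` of type P₂. -/
theorem beta_of_P2 (hKU : Cfsg.IsSigmaDecomposition M K U) (hK1 : K ≠ ⊥) (hU1 : U ≠ ⊥) {r : ℕ} (hr : r.Prime)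
    (hd : r ∣ Nat.card (Cfsg.sigmaCore M)) : r ∈ Cfsg.beta M := by
  haveI := Fact.mk hr
  by_contra hβ
  have m := Member.of_hall hM hKU.hall hK1
  haveI := (m.of_large hG ((large_iff hKU).2 hU1)).2.2
  have F := decomp_factor hG hM hKU hK1
  haveI := F.comm
  set S := Cfsg.sigmaCore M with hS
  set R := (Cfsg.pCore r ↥S).map S.subtype with hR
  have hRS : R ≤ S := Subgroup.map_subtype_le _
  have hRp : IsPGroup r R := (FittingCores.pCore_isPGroup r).map _
  have hRne : R ≠ ⊥ := by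
    intro e
    set P : Sylow r S := default
    haveI : (P : Subgroup S).Normal :=
      (Group.isNilpotent_of_finite_tfae (G := S)).out 0 3 rfl rfl |>.1 inferInstance r ⟨hr⟩ P
    exact P.ne_bot_of_dvd_card hd (le_bot_iff.1
      ((FittingCores.le_pCore inferInstance P.isPGroup').trans
        ((Subgroup.map_eq_bot_iff_of_injective _ S.subtype_injective).1 e).le))
  have hRn : M ≤ Subgroup.normalizer (R : Set G) := fun g hg => by
    haveI : (S.subgroupOf M).Normal := Subgroup.normal_subgroupOf_of_le_normalizer (le_normalizer_sigmaCore M)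
    have h := FittingCores.pCore_characteristic (G := S) r
    exact Subgroup.mem_normalizer_iff_map_conj_eq.2 (by
      have hgS := Subgroup.mem_normalizer_iff_map_conj_eq.1 (le_normalizer_sigmaCore M hg)
      rw [hR, Subgroup.map_map]
      set φ : MulAut S := ((MulAut.conj g).subgroupMap S).trans (MulEquiv.subgroupCongr hgS)
      conv_rhs => rw [← Subgroup.characteristic_iff_map_eq.1 h φ]
      rw [Subgroup.map_map]
      rfl)
  obtain ⟨T, hT⟩ := (hRp.of_equiv (Subgroup.subgroupOfEquivOfLe (hRS.trans (sigmaCore_le M))).symm).exists_le_sylow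
    (P := R.subgroupOf M)
  have hRT : R.subgroupOf M = (T : Subgroup M) := by
    refine le_antisymm hT fun x hx => ?_
    have hxσ : (x : G) ∈ S := mem_sigmaCore_of_primes hG hM x.2 fun t ht htd => by
      obtain ⟨n, hn⟩ := IsPGroup.iff_card.1 T.isPGroup'
      rw [Subgroup.orderOf_coe] at htd
      exact (Nat.prime_dvd_prime_iff_eq ht hr).1
        (ht.dvd_of_dvd_pow (hn ▸ htd.trans (Subgroup.orderOf_dvd_natCard _ hx))) ▸ mem_sigma_of_dvd hr hd
    have hxO : (⟨x, hxσ⟩ : S) ∈ Cfsg.pCore r S := NonNil.mem_pCore_of_nilpotent (F := (⊤ : Subgroup S)) inferInstance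
      (Group.nilpotent_of_mulEquiv Subgroup.topEquiv.symm) (Subgroup.mem_top _) (IsPGroup.of_equiv
        (T.isPGroup'.to_le (Subgroup.zpowers_le.2 hx)) (by
          refine MulEquiv.trans (MulEquiv.trans ((Subgroup.zpowers x).equivMapOfInjective M.subtype M.subtype_injective)
            (MulEquiv.subgroupCongr ?_)) ((Subgroup.zpowers (⟨x, hxσ⟩ : S)).equivMapOfInjective S.subtype S.subtype_injective).symm
          rw [MonoidHom.map_zpowers, MonoidHom.map_zpowers]
          rfl))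
    exact ⟨⟨x, hxσ⟩, hxO, rfl⟩
  have hr2 : r ≠ 2 := fun e => by
    have h := hG.1.of_dvd_nat (hd.trans S.card_subgroup_dvd_card)
    rw [e] at h
    exact absurd h (by decide)
  have hnar : Cfsg.IsNarrow r R := NarrowSolvable.isNarrow_of_equiv
    ((MulEquiv.subgroupCongr hRT.symm).trans (Subgroup.subgroupOfEquivOfLe (hRS.trans (sigmaCore_le M))))
    (BetaCore.isNarrow_sylow hG hM hr2 hβ T)
  set A := U ⊔ K with hA
  have hE := decomp_compl hKU
  have hAn : A ≤ Subgroup.normalizer (R : Set G) := hE.1.trans hRn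
  set c := Blackburn.conjAct R A hAn with hc
  haveI := MinSimple.isSolvable hG (ne_top_of_le_ne_top hM.1 hE.1)
  haveI : Group.IsSolvable c.range := solvable_of_surjective c.rangeRestrict_surjective
  have hrA : ¬ r ∣ Nat.card A := fun h =>
    not_dvd_complement hG hM hE hr h (mem_sigma_of_dvd hr hd)
  have hcard : Nat.card c.range ∣ Nat.card A := Subgroup.card_range_dvd c
  have hder := NarrowGroup.derived_pgroup hr2 hRp hnar ((hG.1.of_dvd_nat A.card_subgroup_dvd_card).of_dvd_nat hcard)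
    c.range.subtype Subtype.val_injective
  have hbot : commutator c.range = ⊥ := by
    rw [← Subgroup.card_eq_one]
    obtain ⟨n, hn⟩ := IsPGroup.iff_card.1 hder
    rcases n with _ | n
    · simpa using hn
    · exact absurd (((hn ▸ dvd_pow_self r n.succ_ne_zero) : r ∣ Nat.card (commutator c.range)).trans
        ((Subgroup.card_subgroup_dvd_card _).trans hcard)) hrA
  have hKA : ∀ a b : A, ∀ x ∈ R, ⁅(a : G), (b : G)⁆ * x * ⁅(a : G), (b : G)⁆⁻¹ = x := by
    intro a b x hx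
    have h1 : c ⁅a, b⁆ = 1 := by
      have h2 : ⁅c.rangeRestrict a, c.rangeRestrict b⁆ ∈ commutator c.range :=
        Subgroup.commutator_mem_commutator (Subgroup.mem_top _) (Subgroup.mem_top _)
      rw [hbot, Subgroup.mem_bot] at h2
      rw [map_commutatorElement]
      exact congrArg Subtype.val h2
    exact congrArg (fun φ : MulAut R => ((φ ⟨x, hx⟩ : R) : G)) h1
  have hUC : ⁅U, K⁆ ≤ Subgroup.centralizer (R : Set G) := Subgroup.commutator_le.2 fun a ha b hb =>
    Subgroup.mem_centralizer_iff.2 fun x hx =>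
      (mul_inv_eq_iff_eq_mul.1 (hKA ⟨a, Subgroup.mem_sup_left ha⟩ ⟨b, Subgroup.mem_sup_right hb⟩ x hx)).symm
  have hUeq : ⁅U, K⁆ = U := by
    have hfix : U ⊓ Subgroup.centralizer (K : Set G) = ⊥ := by
      obtain ⟨k, hk, hk1⟩ := (Subgroup.bot_or_exists_ne_one K).resolve_left hK1
      exact le_bot_iff.1 ((inf_le_inf_left _ (Kappa.le_singleton hk)).trans (F.regular k hk hk1).le)
    have hcop : (Nat.card K).Coprime (Nat.card U) :=
      Nat.coprime_of_dvd fun t ht h1 h2 => decomp_U_primes hKU ht h2 (hKU.hall.2.1 t ht h1)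
    have := CoprimeAct.commutator_sup_centralizer (A := K) (K := U) hKU.normal hcop (Or.inr inferInstance)
    rwa [hfix, sup_bot_eq] at this
  obtain ⟨x, hx, hx1⟩ := (Subgroup.bot_or_exists_ne_one _).resolve_left hRne
  obtain ⟨q, hq, hqd⟩ := Nat.exists_prime_and_dvd fun e => hU1 (Subgroup.card_eq_one.1 e)
  haveI := Fact.mk hq
  obtain ⟨T', hT'⟩ : ∃ T' : Sylow q M, (T' : Subgroup M).map M.subtype ≤ U := by
    set T₀ : Sylow q U := default with hT₀
    set Q := (T₀ : Subgroup U).map U.subtype with hQ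
    have hQU : Q ≤ U := Subgroup.map_subtype_le _
    have hQM : Q ≤ M := hQU.trans hKU.compl.1
    obtain ⟨T', hT'⟩ := ((T₀.isPGroup'.map U.subtype).of_equiv
      (Subgroup.subgroupOfEquivOfLe hQM).symm).exists_le_sylow (P := Q.subgroupOf M)
    refine ⟨T', (le_of_eq ?_).trans hQU⟩
    refine Eq.trans (congrArg (Subgroup.map M.subtype) (Subgroup.eq_of_le_of_card_ge hT' (le_of_eq ?_)).symm)
      (Subgroup.map_subgroupOf_eq_of_le hQM)
    have h1 := Subgroup.relIndex_mul_relIndex ⊥ U M bot_le hKU.compl.1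
    rw [Subgroup.relIndex_bot_left, Subgroup.relIndex_bot_left] at h1
    rw [Nat.card_congr (Subgroup.subgroupOfEquivOfLe hQM).toEquiv, hQ,
      Subgroup.card_map_of_injective U.subtype_injective, T'.card_eq_multiplicity, T₀.card_eq_multiplicity, ← h1,
      Nat.factorization_mul Nat.card_pos.ne' (show U.relIndex M ≠ 0 from fun e => by rw [e, mul_zero] at h1; exact Nat.card_pos.ne h1),
      Finsupp.add_apply, Nat.factorization_eq_zero_of_not_dvd
        ((F.U_hall hE hG hM hKU.hall).2.2 q hq ⟨hq, F.U_primes q hq hqd,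
          not_dvd_complement hG hM hE hq (hqd.trans (Subgroup.card_dvd_of_le le_sup_left))⟩), add_zero]
  have hqκ := F.U_primes q hq hqd
  have hqσ := not_dvd_complement hG hM hE hq (hqd.trans (Subgroup.card_dvd_of_le le_sup_left))
  have hqM := hqd.trans (Subgroup.card_dvd_of_le hKU.compl.1)
  obtain ⟨-, hΩ, -⟩ := S1429.result hG M hM (fun h => hqκ (h q hq hqM hqσ)) q hqM (fun h => h.elim hqσ hqκ) T'
  refine hx1 (Subgroup.mem_bot.1 (hΩ.le ⟨hRS hx, ?_⟩))
  refine Subgroup.centralizer_le ((Subgroup.closure_le _).2 fun z hz => hT' hz.1) ?_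
  exact Subgroup.le_centralizer_iff.1 (hUeq ▸ hUC) hx

/-- `F(M)` is TI for type P₂. -/
theorem ti_of_P2 (hKU : Cfsg.IsSigmaDecomposition M K U) (hK1 : K ≠ ⊥) (hU1 : U ≠ ⊥) :
    Cfsg.IsTISubset (Cfsg.fittingOf M : Set G) := by
  intro g hg x hx hgx
  by_contra hx1
  obtain ⟨y, hy, -, -, hyσ, -, hβ⟩ := exists_common hG hM (fun h => hg (FitOf.le_normalizer_fittingOf M h)) hx hgx hx1
  exact hβ (beta_of_P2 hG hM hKU hK1 hU1 hy (Subgroup.orderOf_dvd_natCard _ hyσ))

/-- `F(M)` is TI when `M_σ` is not nilpotent. -/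
theorem ti_of_nonnil (hnn : ¬ Group.IsNilpotent (Cfsg.sigmaCore M)) :
    Cfsg.IsTISubset (Cfsg.fittingOf M : Set G) := by
  intro g hg x hx hgx
  by_contra hx1
  have hgM : g ∉ M := fun h => hg (FitOf.le_normalizer_fittingOf M h)
  obtain ⟨y, hy, hy1, hy2, hyσ, -, hβ⟩ := exists_common hG hM hgM hx hgx hx1
  obtain ⟨K', U', hKU⟩ := FStruct.exists_decomp hG hM
  obtain ⟨q, Q, E, d⟩ := NonNil.exists_data hG hM hKU hnn
  haveI := Fact.mk d.prime
  have hQM : Q ≤ M := d.Q_le.trans (sigmaCore_le M)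
  haveI := d.pgroup.isNilpotent
  have hQF : Q ≤ Cfsg.fittingOf M := FitOf.le_fittingOf hQM d.normal
  have hqy : q ≠ orderOf y := fun e => hβ (e ▸ NonNil.mem_beta hG hM hKU hnn d)
  have hcomm : ∀ z ∈ Cfsg.fittingOf M, orderOf z = orderOf y → Q ≤ Subgroup.centralizer ({z} : Set G) := by
    intro z hz hzo a ha
    refine Subgroup.mem_centralizer_singleton_iff.2 (CN.commute_of_coprime (FitOf.fittingOf_nilpotent M) (hQF ha) hz ?_).eq
    obtain ⟨n, hn⟩ := IsPGroup.iff_card.1 d.pgroup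
    refine Nat.Coprime.coprime_dvd_left (hn ▸ Subgroup.orderOf_dvd_natCard Q ha) (Nat.Coprime.pow_left n ?_)
    rw [hzo]
    exact (Nat.coprime_primes d.prime hy).2 hqy
  have hy1' : y ≠ 1 := fun e => hy.ne_one (by rw [e, orderOf_one])
  set C := Subgroup.centralizer ({y} : Set G) with hC
  have hCtop : C ≠ ⊤ := by
    intro e
    have h1 : Subgroup.normalizer (Subgroup.zpowers y : Set G) = ⊤ := top_le_iff.1
      (e ▸ ((Plane.centralizer_zpowers y).ge.trans (Subgroup.centralizer_le_normalizer _)) : ⊤ ≤ _)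
    exact MinSimple.normalizer_ne_top hG (fun e' => hy1' (Subgroup.zpowers_eq_bot.1 e'))
      (ne_top_of_le_ne_top hM.1 (Subgroup.zpowers_le.2 (sigmaCore_le M hyσ))) h1
  obtain ⟨L, hL, hCL⟩ := Uniq.exists_maximal_ge hCtop
  have hu : Cfsg.InUniqueMaximal Q := by
    have hK1 := NonNil.K_ne hG hM hKU hnn
    have m := Member.of_hall hM hKU.hall hK1
    obtain ⟨E', U'', hE', F'⟩ := m.factor hG
    set S : Sylow q ↥(Cfsg.sigmaCore M) := default
    have hu := (F'.line_unique hG hM hE' hKU.hall hK1 (r := q) d.cardD le_rfl S).2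
    suffices hSQ : (S : Subgroup ↥(Cfsg.sigmaCore M)).map (Cfsg.sigmaCore M).subtype = Q from hSQ ▸ hu
    haveI : (Q.subgroupOf (Cfsg.sigmaCore M)).Normal :=
      Subgroup.normal_subgroupOf_of_le_normalizer ((sigmaCore_le M).trans d.normal)
    have hle : Q.subgroupOf (Cfsg.sigmaCore M) ≤ (S : Subgroup ↥(Cfsg.sigmaCore M)) :=
      (d.pgroup.of_equiv (Subgroup.subgroupOfEquivOfLe d.Q_le).symm).le_sylow_of_normal S
    have heq : Q.subgroupOf (Cfsg.sigmaCore M) = (S : Subgroup ↥(Cfsg.sigmaCore M)) := by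
      refine le_antisymm hle (Exceptional.le_of_coprime_index ?_)
      obtain ⟨n, hn⟩ := IsPGroup.iff_card.1 S.isPGroup'
      rw [hn]
      exact Nat.Coprime.pow_left n (d.prime.coprime_iff_not_dvd.2 d.hall)
    rw [← heq, Subgroup.map_subgroupOf_eq_of_le d.Q_le]
  obtain rfl : L = M := hu.unique ⟨hL, (hcomm y hy1 rfl).trans hCL⟩ ⟨hM, hQM⟩
  have hgQ : Q.map (MulAut.conj g⁻¹).toMonoidHom ≤ Q := by
    intro z hz
    have hzM : z ∈ L := hCL (by
      obtain ⟨a, ha, rfl⟩ := hz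
      have h := Subgroup.mem_centralizer_singleton_iff.1 (hcomm _ hy2 (MulEquiv.orderOf_eq (MulAut.conj g) y) ha)
      refine Subgroup.mem_centralizer_singleton_iff.2 ((Commute.conj_iff g).1 ?_)
      show Commute (g * (g⁻¹ * a * g⁻¹⁻¹) * g⁻¹) (g * y * g⁻¹)
      rw [show g * (g⁻¹ * a * g⁻¹⁻¹) * g⁻¹ = a by group]
      exact h)
    haveI : (Q.subgroupOf L).Normal := Subgroup.normal_subgroupOf_of_le_normalizer d.normal
    refine Subgroup.mem_subgroupOf.1 (Exceptional.le_of_coprime_index (N := Q.subgroupOf L)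
      (X := Subgroup.zpowers (⟨z, hzM⟩ : L)) (Nat.coprime_of_dvd fun t ht h1 h2 => ?_) (Subgroup.mem_zpowers _))
    rw [Nat.card_zpowers, Subgroup.orderOf_mk] at h1
    obtain ⟨n, hn⟩ := IsPGroup.iff_card.1 d.pgroup
    have h3 := h1.trans (Subgroup.orderOf_dvd_natCard _ hz)
    rw [Subgroup.card_map_of_injective (MulAut.conj g⁻¹).injective, hn] at h3
    obtain rfl := (Nat.prime_dvd_prime_iff_eq ht d.prime).1 (ht.dvd_of_dvd_pow h3)
    have h4 : t ∣ Q.relIndex (Cfsg.sigmaCore L) * (Cfsg.sigmaCore L).relIndex L := by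
      rw [Subgroup.relIndex_mul_relIndex Q (Cfsg.sigmaCore L) L d.Q_le (sigmaCore_le L)]
      exact h2
    rcases ht.dvd_mul.1 h4 with h | h
    · exact d.hall h
    · obtain ⟨⟨-, -, hhall⟩, -, -⟩ := S1350.result hG L hM
      exact hhall t ht (mem_sigma_of_dvd ht (d.cardD ▸ Subgroup.card_dvd_of_le inf_le_left)) h
  have hgn : g⁻¹ ∈ Subgroup.normalizer (Q : Set G) := Subgroup.mem_normalizer_iff_map_conj_eq.2
    (Subgroup.eq_of_le_of_card_ge hgQ (by rw [Subgroup.card_map_of_injective (MulAut.conj g⁻¹).injective]))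
  have hQ1 : Q ≠ ⊥ := fun e => (NonNil.fixed_lt hG hM hKU hnn d).not_ge (e ▸ bot_le)
  exact hgM (inv_mem_iff.1 (normalizer_of_normal hG hM hQM hQ1 d.normal ▸ hgn))

end Cfsg.Agent.OddOrder.FTI
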