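/-
The maximal subgroups over the normalizer of a Sylow subgroup of `U` for `M` of type P₂ (BG 14.12).
-/
import Cfsg.Agent.Lib.OddOrder.FittingTI
import Cfsg.Agent.Lib.OddOrder.PartnerPair
import Cfsg.Agent.Lib.CN.Basic
import Cfsg.Agent.S1352
import Cfsg.Agent.S1355
import Cfsg.Agent.S1361
import Cfsg.Agent.S1372
import Cfsg.Agent.S1378
import Cfsg.Agent.S1404
import Cfsg.Agent.S1418

set_option autoImplicit false
set_option linter.style.haveILetI false
set_option linter.unusedSectionVars false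

namespace Cfsg.Agent.OddOrder.Sig

open scoped commutatorElement IsMulCommutative Pointwise
open Exceptional TauOne Kappa Support Pairing
open Tau3 (line_pgroup line_ne_bot)

universe u

variable {G : Type u} [Group G] [Finite G] {M N K U H Z D : Subgroup G} {p : ℕ} [hp : Fact p.Prime]

/-- A Frobenius group `W K` acting coprimely with `C(K) = 1` has `W` acting trivially. -/
theorem frobenius_centralizes {W S : Subgroup G} (hKp : Nat.card K = p) (hKW : K ≤ Subgroup.normalizer (W : Set G))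
    (hreg : W ⊓ Subgroup.centralizer (K : Set G) = ⊥) (hn : W ⊔ K ≤ Subgroup.normalizer (S : Set G))
    (hS : Group.IsSolvable S) (hcop : (Nat.card S).Coprime (Nat.card (W ⊔ K : Subgroup G))) (hWp : ¬ p ∣ Nat.card W)
    (hfix : S ⊓ Subgroup.centralizer (K : Set G) = ⊥) : W ≤ Subgroup.centralizer (S : Set G) := by
  have hWK : W ⊓ K = ⊥ := Subgroup.inf_eq_bot_of_coprime (hKp ▸ (hp.out.coprime_iff_not_dvd.2 hWp).symm)
  have h := Char.Wielandt.frobenius_formula W K S hWK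
    (fun e he u hu => (Subgroup.mem_normalizer_iff.1 (hKW he) u).1 hu)
    (fun e he he1 u hu hc => by
      refine Subgroup.mem_bot.1 (hreg.le ⟨hu, ?_⟩)
      rw [← Plane.zpowers_eq hKp he he1, Plane.centralizer_zpowers]
      exact Subgroup.mem_centralizer_singleton_iff.2 hc.symm)
    (fun x hx y hy => (Subgroup.mem_normalizer_iff.1 (hn hx) y).1 hy) hS hcop
  have hWK' : S ⊓ Subgroup.centralizer ((W ⊔ K : Subgroup G) : Set G) = ⊥ := le_bot_iff.1
    ((inf_le_inf_left S (Subgroup.centralizer_le (SetLike.coe_subset_coe.2 (le_sup_right : K ≤ W ⊔ K)))).trans hfix.le)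
  rw [hfix, hWK', Subgroup.card_bot, one_pow, one_mul, one_mul] at h
  have heq : S ⊓ Subgroup.centralizer (W : Set G) = S := Subgroup.eq_of_le_of_card_ge inf_le_left h.le
  exact Subgroup.le_centralizer_iff.1 (inf_eq_left.1 heq)

variable (hG : Cfsg.IsMinSimpleOddOrder G) (P : Pair Z M K N D) (hKp : Nat.card K = p)
include hG P hKp

theorem p_sigma : p ∈ Cfsg.sigma N :=
  mem_sigma_of_dvd hp.out (hKp ▸ Subgroup.card_dvd_of_le (P.right_inf ▸ inf_le_left))

/-- No Frobenius group `W X` with `|X| = p` lies in `M*`. -/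
theorem eq_bot_of_partner {W X : Subgroup G} [IsMulCommutative W] (hX : Nat.card X = p) (hXN : X ≤ N) (hWN : W ≤ N)
    (hXW : X ≤ Subgroup.normalizer (W : Set G)) (hWp : ¬ p ∣ Nat.card W)
    (hreg : W ⊓ Subgroup.centralizer (X : Set G) = ⊥) : W = ⊥ := by
  have hN := P.right.coatom
  have hXσ : X ≤ Cfsg.sigmaCore N := le_sigmaCore hG hN (p_sigma hG P hKp) (line_pgroup hX) hXN
  have hcop : (Nat.card X).Coprime (Nat.card W) := hX ▸ hp.out.coprime_iff_not_dvd.2 hWp
  have hWX : ⁅W, X⁆ = W := by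
    have h := CoprimeAct.commutator_sup_centralizer (K := W) hXW hcop
      (Or.inr (Group.isSolvable_of_comm fun a b => mul_comm' a b))
    rwa [hreg, sup_bot_eq] at h
  have hWσ : W ≤ Cfsg.sigmaCore N := by
    rw [← hWX]
    refine (Subgroup.commutator_mono hWN hXσ).trans ?_
    rw [Subgroup.commutator_comm]
    exact Subgroup.le_normalizer_iff_commutator_le_left.1 (le_normalizer_sigmaCore N)
  by_cases hnil : Group.IsNilpotent (Cfsg.sigmaCore N)
  · refine le_bot_iff.1 ((le_inf le_rfl fun w hw => Subgroup.mem_centralizer_iff.2 fun x hx => ?_).trans hreg.le)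
    exact (CN.commute_of_coprime hnil (hXσ hx) (hWσ hw) (Nat.Coprime.coprime_dvd_left
      (Subgroup.orderOf_dvd_natCard _ hx) (hcop.coprime_dvd_right (Subgroup.orderOf_dvd_natCard _ hw)))).eq
  haveI := P.right.cyclic hG
  obtain ⟨U', hU'⟩ := (S1352.result hG N hN D inferInstance P.right.hall).1
  obtain ⟨q, Q, E, d⟩ := NonNil.exists_data hG hN hU' hnil
  have hqp : q = p := by rw [← d.cardD, ← P.right.inf_eq, P.right_inf, hKp]
  subst hqp
  haveI : (Q.subgroupOf (Cfsg.sigmaCore N)).Normal :=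
    Subgroup.normal_subgroupOf_of_le_normalizer ((sigmaCore_le N).trans d.normal)
  have hXQ : X ≤ Q := fun x hx => Subgroup.mem_subgroupOf.1 (Exceptional.le_of_coprime_index
    (N := Q.subgroupOf (Cfsg.sigmaCore N)) (X := X.subgroupOf (Cfsg.sigmaCore N)) (by
      rw [Nat.card_congr (Subgroup.subgroupOfEquivOfLe hXσ).toEquiv, hX]
      exact hp.out.coprime_iff_not_dvd.2 d.hall) (show (⟨x, hXσ hx⟩ : Cfsg.sigmaCore N) ∈ _ from hx))
  have hWQ : W ≤ Q := by
    rw [← hWX]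
    refine (Subgroup.commutator_mono hWN hXQ).trans ?_
    rw [Subgroup.commutator_comm]
    exact Subgroup.le_normalizer_iff_commutator_le_left.1 d.normal
  obtain ⟨n, hn⟩ := IsPGroup.iff_card.1 (d.pgroup.to_le hWQ)
  by_contra hne
  refine hWp (hn ▸ dvd_pow_self _ fun e => hne (Subgroup.card_eq_one.1 (by rw [hn, e, pow_zero])))

/-- `p ∉ σ(L)` for a maximal `L` containing such a Frobenius group. -/
theorem not_sigma {L W X : Subgroup G} [IsMulCommutative W] (hL : IsCoatom L) (hX : Nat.card X = p) (hXL : X ≤ L)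
    (hWL : W ≤ L) (hXW : X ≤ Subgroup.normalizer (W : Set G)) (hWp : ¬ p ∣ Nat.card W)
    (hreg : W ⊓ Subgroup.centralizer (X : Set G) = ⊥) (hW1 : W ≠ ⊥) : p ∉ Cfsg.sigma L := fun hσ => by
  obtain ⟨a, ha⟩ := SigmaDisj.conj_of_sigma hG P.right.coatom hL (p_sigma hG P hKp) hσ
  set f := (MulAut.conj a⁻¹).toMonoidHom with hf
  have hfi : Function.Injective f := (MulAut.conj a⁻¹).injective
  have hLN : L.map f = N := by rw [ha, hf, Sigma.map_conj_map, inv_mul_cancel, Sigma.map_conj_one]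
  haveI : IsMulCommutative (W.map f) := .of_setLike_mul_comm fun u hu v hv => by
    obtain ⟨u₀, hu₀, rfl⟩ := hu
    obtain ⟨v₀, hv₀, rfl⟩ := hv
    rw [← map_mul, ← map_mul]
    exact congrArg f (congrArg Subtype.val (mul_comm' (⟨u₀, hu₀⟩ : W) ⟨v₀, hv₀⟩))
  have h := eq_bot_of_partner hG P hKp (W := W.map f) (X := X.map f)
    (by rw [Subgroup.card_map_of_injective hfi, hX]) ((Subgroup.map_mono hXL).trans hLN.le)
    ((Subgroup.map_mono hWL).trans hLN.le) ((Subgroup.map_mono hXW).trans (Subgroup.le_normalizer_map f))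
    (by rwa [Subgroup.card_map_of_injective hfi]) (by
      rw [Subgroup.eq_bot_iff_forall]
      rintro _ ⟨⟨w, hw, rfl⟩, hc⟩
      rw [Subgroup.mem_bot.1 (hreg.le ⟨hw, Subgroup.mem_centralizer_iff.2 fun x hx => hfi (by
        rw [map_mul, map_mul]
        exact Subgroup.mem_centralizer_iff.1 hc _ ⟨x, hx, rfl⟩)⟩), map_one])
  exact hW1 ((Subgroup.map_eq_bot_iff_of_injective _ hfi).1 h)

variable (hH : IsCoatom H) (hpH : p ∉ Cfsg.sigma H) (hκ : Cfsg.kappa H = ∅) (hKH : K ≤ H)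
include hH hpH hκ hKH

theorem fixed_eq_bot : Cfsg.sigmaCore H ⊓ Subgroup.centralizer (K : Set G) = ⊥ := by
  by_contra hfix
  have hτ : p ∈ Cfsg.tau2 H := (rank_one_or_tau2 hG hH hp.out hpH).resolve_left fun h1 =>
    (Set.eq_empty_iff_forall_notMem.1 hκ p) (kappa_of_line hG hpH h1 hKp hKH hfix)
  obtain ⟨E, hE, hKE⟩ := ComplBasics.exists_complement_containing hG hH hKH
    (ComplBasics.coprime_sigmaCore_of_not_sigma fun t ht hd =>
      (Nat.prime_dvd_prime_iff_eq ht hp.out).1 (hKp ▸ hd) ▸ hpH)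
  obtain ⟨A, hAE, hAe, hA⟩ := TauTwo.exists_plane (p := p) hG hH hE hτ
  obtain ⟨⟨-, hlines⟩, -, huniq⟩ := S1418.result hG H hH E hE p hτ A ⟨hAE, hAe, hA⟩
  obtain ⟨-, hu⟩ := huniq K (hlines K hKE hKp) hKp hfix
  have h := P.right.unique_line hG hKp (P.right_inf.symm ▸ le_rfl)
  exact hpH (hu N P.right.coatom h.1 ▸ p_sigma hG P hKp)

variable (hKU : Cfsg.IsSigmaDecomposition M K U) (hU1 : U ≠ ⊥)
include hKU hU1

/-- `K` centralizes the invariant `q`-subgroups of a complement of `H_σ`, `q ≠ p`. -/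
theorem no_moved {E : Subgroup G} (hE : Cfsg.IsComplIn E (Cfsg.sigmaCore H) H) (hKE : K ≤ E) {q : ℕ}
    [hq : Fact q.Prime] (hqp : q ≠ p) {V : Subgroup G} (hV : IsPGroup q V) (hVE : V ≤ E)
    (hKV : K ≤ Subgroup.normalizer (V : Set G)) : V ≤ Subgroup.centralizer (K : Set G) := by
  have hM := P.left.coatom
  have hK1 := P.left.ne
  have hEH : E ≤ H := hE.1
  by_contra hnc
  have hd : q ∣ Nat.card V := hV.card_eq_or_dvd.resolve_left fun e =>
    hnc ((Subgroup.card_eq_one.1 e).le.trans bot_le)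
  have hqσ : q ∉ Cfsg.sigma H := not_dvd_complement hG hH hE hq.out (hd.trans (Subgroup.card_dvd_of_le hVE))
  haveI := ComplBasics.isMulCommutative_of_not_sigma hG hH hqσ hV (hVE.trans hEH)
  have hVp : ¬ p ∣ Nat.card V := fun h => by
    obtain ⟨n, hn⟩ := IsPGroup.iff_card.1 hV
    exact hqp ((Nat.prime_dvd_prime_iff_eq hp.out hq.out).1 (hp.out.dvd_of_dvd_pow (hn ▸ h))).symm
  have hcop : (Nat.card K).Coprime (Nat.card V) := hKp ▸ hp.out.coprime_iff_not_dvd.2 hVp
  set W := ⁅V, K⁆ with hW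
  have hWV : W ≤ V := CoprimeAct.commutator_le_left hKV
  haveI hWc : IsMulCommutative W := .of_setLike_mul_comm fun a ha b hb =>
    congrArg Subtype.val (mul_comm' (⟨a, hWV ha⟩ : V) ⟨b, hWV hb⟩)
  have hW1 : W ≠ ⊥ := fun e => hnc (Subgroup.commutator_eq_bot_iff_le_centralizer.1 e)
  have hWE : W ≤ E := hWV.trans hVE
  have hWp : ¬ p ∣ Nat.card W := fun h => hVp (h.trans (Subgroup.card_dvd_of_le hWV))
  have hKW : K ≤ Subgroup.normalizer (W : Set G) := Subgroup.normalizer_commutator_ge_right V K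
  have hreg : W ⊓ Subgroup.centralizer (K : Set G) = ⊥ := by
    rw [← le_bot_iff, ← CoprimeAct.centralizer_inf_commutator_eq_bot hKV hcop]
    exact le_inf (inf_le_inf_right _ hWV) inf_le_left
  have hEn : E ≤ Subgroup.normalizer (Cfsg.sigmaCore H : Set G) := hEH.trans (le_normalizer_sigmaCore H)
  have hsol : Group.IsSolvable (Cfsg.sigmaCore H) :=
    MinSimple.isSolvable hG (ne_top_of_le_ne_top hH.1 (sigmaCore_le H))
  have hfix := fixed_eq_bot hG P hKp hH hpH hκ hKH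
  have hS1 : Cfsg.sigmaCore H ≠ ⊥ := fun e =>
    (S1355.result hG H hH).1 (le_bot_iff.1 ((S1355.result hG H hH).2.1.trans e.le))
  have hcop' : ∀ X : Subgroup G, X ≤ E → (Nat.card (Cfsg.sigmaCore H)).Coprime (Nat.card X) := fun X hX =>
    (ComplBasics.coprime_card hG hH hE).symm.coprime_dvd_right (Subgroup.card_dvd_of_le hX)
  have hWS := frobenius_centralizes hKp hKW hreg ((sup_le hWE hKE).trans hEn) hsol (hcop' _ (sup_le hWE hKE)) hWp hfix
  obtain ⟨X, hXW, hX⟩ := exists_line_of_dvd hq.out ((hV.to_le hWV).card_eq_or_dvd.resolve_left fun e =>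
    hW1 (Subgroup.card_eq_one.1 e))
  have hXfix : Cfsg.sigmaCore H ⊓ Subgroup.centralizer (X : Set G) ≠ ⊥ := fun e => hS1 (le_bot_iff.1
    ((le_inf le_rfl ((Subgroup.le_centralizer_iff.1 hWS).trans (Subgroup.centralizer_le hXW))).trans e.le))
  have hτ : q ∈ Cfsg.tau2 H := (rank_one_or_tau2 hG hH hq.out hqσ).resolve_left fun h1 =>
    (Set.eq_empty_iff_forall_notMem.1 hκ q) (kappa_of_line hG hqσ h1 hX (hXW.trans (hWE.trans hEH)) hXfix)
  obtain ⟨A, hAE, hAe, hA⟩ := TauTwo.exists_plane (p := q) hG hH hE hτ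
  obtain ⟨⟨hEA, hlines⟩, -, huniq⟩ := S1418.result hG H hH E hE q hτ A ⟨hAE, hAe, hA⟩
  have hXA : X ≤ A := hlines X (hXW.trans hWE) hX
  obtain ⟨hCXH, hCXu⟩ := huniq X hXA hX hXfix
  -- `K` fixes an element of the plane
  have hAK : A ⊓ Subgroup.centralizer (K : Set G) ≠ ⊥ := fun e => by
    have hAp : ¬ p ∣ Nat.card A := fun h => hqp ((Nat.prime_dvd_prime_iff_eq hp.out hq.out).1
      (hp.out.dvd_of_dvd_pow (hA ▸ h))).symm
    have hAS := frobenius_centralizes hKp (hKE.trans hEA) e ((sup_le hAE hKE).trans hEn) hsol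
      (hcop' _ (sup_le hAE hKE)) hAp hfix
    obtain ⟨-, -, -, hbot, -⟩ := S1417.result hG H hH q hτ A ⟨hAE.trans hEH, hAe, hA⟩
    exact hS1 (le_bot_iff.1 ((le_inf le_rfl (Subgroup.le_centralizer_iff.1 hAS)).trans hbot.le))
  -- a maximal subgroup `L` with `q ∈ σ(L)` containing the complement
  obtain ⟨L₀, hL₀, hqL₀⟩ := (S1378.result hG).1 q hq.out ((hX ▸ dvd_rfl : q ∣ Nat.card X).trans X.card_subgroup_dvd_card)
  obtain ⟨g₀, hg₀⟩ := Sigma.exists_conj_le hqL₀ (line_pgroup hX)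
  obtain ⟨L₁, hL₁, hqL₁, hXL₁⟩ : ∃ L₁ : Subgroup G, IsCoatom L₁ ∧ q ∈ Cfsg.sigma L₁ ∧ X ≤ L₁ :=
    ⟨L₀.map (MulAut.conj g₀⁻¹).toMonoidHom, coatom_conj hL₀ _, (sigma_conj_iff _).2 hqL₀,
      fun x hx => ⟨g₀ * x * g₀⁻¹, hg₀ ⟨x, hx, rfl⟩, by simp [mul_assoc]⟩⟩
  have hne : H ≠ L₁ := fun e => hqσ (e ▸ hqL₁)
  have hNX : Subgroup.normalizer (X : Set G) ≤ H := fun n hn => by
    refine mem_of_map_conj hG hH (hCXu _ (coatom_conj hH _) fun c hc => ?_)
    refine ⟨n⁻¹ * c * n, hCXH ?_, by simp [mul_assoc]⟩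
    refine Subgroup.mem_centralizer_iff.2 fun x hx => ?_
    have h1 : n * x * n⁻¹ ∈ X := (Subgroup.mem_normalizer_iff.1 hn x).1 hx
    have h2 := Subgroup.mem_centralizer_iff.1 hc _ h1
    calc x * (n⁻¹ * c * n) = n⁻¹ * ((n * x * n⁻¹) * c) * n := by group
      _ = n⁻¹ * (c * (n * x * n⁻¹)) * n := by rw [h2]
      _ = n⁻¹ * c * n * x := by group
  obtain ⟨-, -, hcompl⟩ := Support.partner (p := q) hG hL₁ hqL₁ hX hXL₁ hH hNX hne
  obtain ⟨h, hh, hEh⟩ := ComplBasics.exists_conj_le hG hH hcompl hEH (ComplBasics.coprime_card hG hH hE)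
  set L := L₁.map (MulAut.conj h⁻¹).toMonoidHom with hLdef
  have hL : IsCoatom L := coatom_conj hL₁ _
  have hqL : q ∈ Cfsg.sigma L := (sigma_conj_iff _).2 hqL₁
  have hEL : E ≤ L := fun e he => ⟨h * e * h⁻¹, (hEh ⟨e, he, rfl⟩).1, by simp [mul_assoc]⟩
  have hKL : K ≤ L := hKE.trans hEL
  have hpL : p ∉ Cfsg.sigma L := not_sigma hG P hKp hL hKp hKL (hWE.trans hEL) hKW hWp hreg hW1
  have hAL : A ≤ Cfsg.sigmaCore L := le_sigmaCore hG hL hqL (Plane.isPGroup hA) (hAE.trans hEL)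
  have hfixL : Cfsg.sigmaCore L ⊓ Subgroup.centralizer (K : Set G) ≠ ⊥ := fun e =>
    hAK (le_bot_iff.1 ((inf_le_inf_right _ hAL).trans e.le))
  have hCL : ¬ Subgroup.centralizer (X : Set G) ≤ L := fun hc => hqσ (hCXu L hL hc ▸ hqL)
  rcases rank_one_or_tau2 hG hL hp.out hpL with h1 | h2
  · -- `L` is a conjugate of `M`
    obtain ⟨a, ha | ha⟩ := P.conj_of_kappa hG hL ⟨p, kappa_of_line hG hpL h1 hKp hKL hfixL⟩
    · have hqM : q ∈ Cfsg.sigma M := (sigma_conj_iff a).1 (ha ▸ hqL)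
      set X' := X.map (MulAut.conj a⁻¹).toMonoidHom with hX'
      have hX'M : X' ≤ M := (Subgroup.map_mono (hXA.trans (hAE.trans hEL))).trans (by
        rw [ha, Sigma.map_conj_map, inv_mul_cancel, Sigma.map_conj_one])
      have hX'σ : X' ≤ Cfsg.sigmaCore M :=
        le_sigmaCore hG hM hqM ((line_pgroup hX).map _) hX'M
      obtain ⟨-, hTI, hσF⟩ := S1372.result hG M hM K U hKU hK1 hU1
      obtain ⟨x, hx, hx1⟩ := Plane.exists_ne_one hX
      set x' := a⁻¹ * x * a with hx'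
      have hxF : x' ∈ Cfsg.fittingOf M := hσF (hX'σ ⟨x, hx, by simp [hx']⟩)
      have hx'1 : x' ≠ 1 := fun e => hx1 (by
        have : a * x' * a⁻¹ = x := by rw [hx']; group
        rw [← this, e, mul_one, mul_inv_cancel])
      have hNF : Subgroup.normalizer (Cfsg.fittingOf M : Set G) = M := FTI.normalizer_of_normal hG hM
        (FitOf.fittingOf_le M) (fun e => hx'1 (Subgroup.mem_bot.1 (e.le hxF))) (FitOf.le_normalizer_fittingOf M)
      refine hCL fun c hc => ?_
      have hc' : a⁻¹ * c * a ∈ M := by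
        rw [← hNF]
        by_contra hn
        refine hx'1 (hTI _ hn x' hxF ?_)
        have : a⁻¹ * c * a * x' * (a⁻¹ * c * a)⁻¹ = x' := by
          rw [hx']
          calc a⁻¹ * c * a * (a⁻¹ * x * a) * (a⁻¹ * c * a)⁻¹ = a⁻¹ * (c * x) * c⁻¹ * a := by group
            _ = a⁻¹ * (x * c) * c⁻¹ * a := by rw [← Subgroup.mem_centralizer_iff.1 hc x hx]
            _ = a⁻¹ * x * a := by group
        rw [this]
        exact hxF
      rw [ha]
      exact ⟨_, hc', by simp [mul_assoc]⟩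
    · exact hpL (ha ▸ (sigma_conj_iff a).2 (p_sigma hG P hKp))
  · obtain ⟨F, hF, hKF⟩ := ComplBasics.exists_complement_containing hG hL hKL
      (ComplBasics.coprime_sigmaCore_of_not_sigma fun t ht hd =>
        (Nat.prime_dvd_prime_iff_eq ht hp.out).1 (hKp ▸ hd) ▸ hpL)
    obtain ⟨B, hBF, hBe, hB⟩ := TauTwo.exists_plane (p := p) hG hL hF h2
    obtain ⟨⟨-, hlines'⟩, -, huniq'⟩ := S1418.result hG L hL F hF p h2 B ⟨hBF, hBe, hB⟩
    obtain ⟨-, hu⟩ := huniq' K (hlines' K hKF hKp) hKp hfixL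
    exact hpL (hu N P.right.coatom (P.right.unique_line hG hKp (P.right_inf.symm ▸ le_rfl)).1 ▸ p_sigma hG P hKp)

omit hH hpH hκ hKH hKp P in
/-- BG 14.12. -/
theorem main (P : Pair Z M K N D) {r : ℕ} [hr : Fact r.Prime] (hrU : r ∣ Nat.card U) (R : Sylow r U) (hH : IsCoatom H)
    (hNR : Subgroup.normalizer (((R : Subgroup U).map U.subtype : Subgroup G) : Set G) ≤ H) :
    Cfsg.kappa H = ∅ ∧ U ≤ Cfsg.sigmaCore H ∧ M ⊓ H = U ⊔ K ∧ ¬ H ⊓ Subgroup.normalizer (U : Set G) ≤ M ∧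
      K ≤ Cfsg.fittingOf (H ⊓ N) ∧ Cfsg.IsComplIn (H ⊓ N) (Cfsg.sigmaCore H) H := by
  have hM := P.left.coatom
  have hN := P.right.coatom
  have hK1 := P.left.ne
  obtain ⟨p, hKp, hp⟩ : ∃ p, Nat.card K = p ∧ p.Prime := ⟨_, rfl, (S1372.result hG M hM K U hKU hK1 hU1).1⟩
  haveI := Fact.mk hp
  have F := decomp_factor hG hM hKU hK1
  haveI := F.comm
  have hEc := decomp_compl hKU
  have hUM : U ≤ M := hKU.compl.1
  have hKM : K ≤ M := hKU.hall.1
  have hκp : p ∈ Cfsg.kappa M := hKU.hall.2.1 p hp (hKp ▸ dvd_rfl)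
  have hUp : ¬ p ∣ Nat.card U := fun h => decomp_U_primes hKU hp h hκp
  have hUσ : ∀ t : ℕ, t.Prime → t ∣ Nat.card U → t ∉ Cfsg.sigma M := fun t ht hd =>
    not_dvd_complement hG hM hEc ht (hd.trans (Subgroup.card_dvd_of_le le_sup_left))
  have hregU : U ⊓ Subgroup.centralizer (K : Set G) = ⊥ := by
    obtain ⟨k, hk, hk1⟩ := Plane.exists_ne_one hKp
    exact le_bot_iff.1 ((inf_le_inf_left U (le_singleton hk)).trans (F.regular k hk hk1).le)
  set Rm := (R : Subgroup U).map U.subtype with hRm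
  have hRU : Rm ≤ U := Subgroup.map_subtype_le _
  have hR1 : Rm ≠ ⊥ := fun e =>
    R.ne_bot_of_dvd_card hrU ((Subgroup.map_eq_bot_iff_of_injective _ U.subtype_injective).1 e)
  have hRidxU : ¬ r ∣ Rm.relIndex U := by
    rw [Subgroup.relIndex, Subgroup.subgroupOf, Subgroup.comap_map_eq_self_of_injective U.subtype_injective]
    exact R.not_dvd_index
  have hUnil : Group.IsNilpotent U := inferInstance
  have hKR : K ≤ Subgroup.normalizer (Rm : Set G) :=
    hKU.normal.trans (normalizer_le_of_nilpotent hUnil hRU (R.isPGroup'.map U.subtype) hRidxU)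
  have hUR : U ≤ Subgroup.centralizer (Rm : Set G) := fun u hu => Subgroup.mem_centralizer_iff.2 fun x hx =>
    congrArg Subtype.val (mul_comm' (⟨x, hRU hx⟩ : U) ⟨u, hu⟩)
  have hUH : U ≤ H := hUR.trans ((Subgroup.centralizer_le_normalizer _).trans hNR)
  have hKH : K ≤ H := hKR.trans hNR
  -- `R` is a Sylow subgroup of `M`
  have hRidx : ¬ r ∣ Rm.relIndex M := fun h => by
    rw [← Subgroup.relIndex_mul_relIndex Rm U M hRU hUM] at h
    rcases hr.out.dvd_mul.1 h with h | h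
    · exact hRidxU h
    have hc : Nat.card M = Nat.card U * Nat.card K * Nat.card (Cfsg.sigmaCore M) := by
      rw [← decomp_card hKU]; exact Compl.card_eq hEc
    have h1 := Subgroup.relIndex_mul_relIndex ⊥ U M bot_le hUM
    rw [Subgroup.relIndex_bot_left, Subgroup.relIndex_bot_left, hc, mul_assoc] at h1
    rw [Nat.eq_of_mul_eq_mul_left Nat.card_pos h1] at h
    rcases hr.out.dvd_mul.1 h with h | h
    · exact decomp_U_primes hKU hr.out hrU (hKU.hall.2.1 r hr.out h)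
    · exact hUσ r hr.out hrU (mem_sigma_of_dvd hr.out h)
  have hrσ := hUσ r hr.out hrU
  set RM : Sylow r M := ((R.isPGroup'.map U.subtype).of_equiv
    (Subgroup.subgroupOfEquivOfLe (hRU.trans hUM)).symm).toSylow hRidx with hRM
  have hRMm : (RM : Subgroup M).map M.subtype = Rm := Subgroup.map_subgroupOf_eq_of_le (hRU.trans hUM)
  have hne : H ≠ M := fun e => hrσ ⟨hr.out, hrU.trans (Subgroup.card_dvd_of_le hUM), RM, by rw [hRMm]; exact hNR.trans e.le⟩
  have hpH : p ∉ Cfsg.sigma H := not_sigma hG P hKp hH hKp hKH hUH hKU.normal hUp hregU hU1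
  have hnconj : ∀ a : G, H ≠ M.map (MulAut.conj a).toMonoidHom := fun a ha => by
    refine hne ?_
    set R' := Rm.map (MulAut.conj a⁻¹).toMonoidHom with hR'
    have hR'M : R' ≤ M := (Subgroup.map_mono (hRU.trans hUH)).trans (by
      rw [ha, Sigma.map_conj_map, inv_mul_cancel, Sigma.map_conj_one])
    obtain ⟨T, hT⟩ := (((R.isPGroup'.map U.subtype).map (MulAut.conj a⁻¹).toMonoidHom).of_equiv
      (Subgroup.subgroupOfEquivOfLe hR'M).symm).exists_le_sylow (P := R'.subgroupOf M)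
    obtain ⟨m, hm, hmT⟩ := Sigma.exists_sylow_conj RM T
    have hTc : (T : Subgroup M).map M.subtype = R' := by
      refine (Subgroup.eq_of_le_of_card_ge (show R' ≤ (T : Subgroup M).map M.subtype from
        fun x hx => ⟨⟨x, hR'M hx⟩, hT hx, rfl⟩) (le_of_eq ?_)).symm
      have hc : Nat.card Rm = Nat.card (RM : Subgroup M) :=
        (congrArg (fun X : Subgroup G => Nat.card X) hRMm).symm.trans (Subgroup.card_map_of_injective M.subtype_injective)
      rw [Subgroup.card_map_of_injective M.subtype_injective, hR', Subgroup.card_map_of_injective (MulAut.conj a⁻¹).injective,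
        hc, RM.card_eq_multiplicity, T.card_eq_multiplicity]
    rw [hRMm, hTc, hR'] at hmT
    have ham : a * m ∈ H := hNR (Subgroup.mem_normalizer_iff_map_conj_eq.2 (show Rm.map (MulAut.conj (a * m)).toMonoidHom = Rm by
      rw [← Sigma.map_conj_map, ← hmT, Sigma.map_conj_map, mul_inv_cancel, Sigma.map_conj_one]))
    rw [ha] at ham
    obtain ⟨m₁, hm₁, he⟩ := ham
    have he' : a * m₁ * a⁻¹ = a * m := he
    have haM : a ∈ M := by
      have : a = m⁻¹ * m₁ := by
        rw [mul_inv_eq_iff_eq_mul, mul_assoc, mul_right_inj] at he'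
        rw [he', inv_mul_cancel_left]
      rw [this]
      exact M.mul_mem (M.inv_mem hm) hm₁
    rw [ha, map_conj_of_mem haM]
  have hκ : Cfsg.kappa H = ∅ := by
    by_contra hne'
    obtain ⟨a, ha | ha⟩ := P.conj_of_kappa hG hH (Set.nonempty_iff_ne_empty.2 hne')
    · exact hnconj a ha
    · exact hpH (ha ▸ (sigma_conj_iff a).2 (p_sigma hG P hKp))
  have hfix := fixed_eq_bot hG P hKp hH hpH hκ hKH
  -- `U ≤ H_σ`
  have hσU : ∀ t : ℕ, t.Prime → t ∣ Nat.card U → t ∈ Cfsg.sigma H := by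
    intro t ht htd
    by_contra htσ
    haveI := Fact.mk ht
    obtain ⟨T⟩ : Nonempty (Sylow t U) := inferInstance
    set Tm := (T : Subgroup U).map U.subtype with hTm
    have hTU : Tm ≤ U := Subgroup.map_subtype_le _
    have hKT : K ≤ Subgroup.normalizer (Tm : Set G) :=
      hKU.normal.trans (normalizer_le_of_nilpotent hUnil hTU (T.isPGroup'.map U.subtype) (by
        rw [Subgroup.relIndex, Subgroup.subgroupOf, Subgroup.comap_map_eq_self_of_injective U.subtype_injective]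
        exact T.not_dvd_index))
    obtain ⟨E, hE, hsub⟩ := ComplBasics.exists_complement_containing hG hH (X := Tm ⊔ K) (sup_le (hTU.trans hUH) hKH)
      (ComplBasics.coprime_sigmaCore_of_not_sigma fun s hs hd hsσ => by
        rcases hs.dvd_mul.1 (hd.trans (Dvd.intro _ (SolvBasic.card_sup_mul_card_inf hKT))) with h | h
        · exact htσ (Set.mem_singleton_iff.1 (Inv.primes_of_isPGroup (T.isPGroup'.map U.subtype) s hs h) ▸ hsσ)
        · exact hpH ((Nat.prime_dvd_prime_iff_eq hs hp).1 (hKp ▸ h) ▸ hsσ))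
    have hc := no_moved hG P hKp hH hpH hκ hKH hKU hU1 hE (le_sup_right.trans hsub)
      (fun e : t = p => hUp (e ▸ htd)) (T.isPGroup'.map U.subtype) (le_sup_left.trans hsub) hKT
    exact T.ne_bot_of_dvd_card htd ((Subgroup.map_eq_bot_iff_of_injective _ U.subtype_injective).1
      (le_bot_iff.1 ((le_inf hTU hc).trans hregU.le)))
  have hUS : U ≤ Cfsg.sigmaCore H := le_sigmaCore_of_primes hG hH hUH hσU
  -- `M_σ ∩ H = 1`
  have hdis : ∀ t, t ∈ Cfsg.sigma M → t ∉ Cfsg.sigma H := fun t h h' => by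
    obtain ⟨a, ha⟩ := SigmaDisj.conj_of_sigma hG hM hH h h'
    exact hnconj a ha
  have hSS : Cfsg.sigmaCore M ⊓ Cfsg.sigmaCore H = ⊥ := Subgroup.inf_eq_bot_of_coprime
    (Nat.coprime_of_dvd fun t ht h1 h2 => hdis t (mem_sigma_of_dvd ht h1) (mem_sigma_of_dvd ht h2))
  have hMH : Cfsg.sigmaCore M ⊓ H = ⊥ := by
    rw [Subgroup.eq_bot_iff_forall]
    rintro x ⟨hx, hxH⟩
    by_contra hx1
    have hxR : x ∈ Subgroup.centralizer (Rm : Set G) := Subgroup.mem_centralizer_iff.2 fun u hu => by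
      have hu' := hRU hu
      refine commutatorElement_eq_one_iff_mul_comm.1 (Subgroup.mem_bot.1 (hSS.le ⟨?_, ?_⟩))
      · rw [commutatorElement_def]
        exact Subgroup.mul_mem _ ((Subgroup.mem_normalizer_iff.1 (le_normalizer_sigmaCore M (hUM hu')) x).1 hx)
          (Subgroup.inv_mem _ hx)
      · rw [commutatorElement_def, mul_assoc u x, mul_assoc u]
        exact Subgroup.mul_mem _ (hUS hu') ((Subgroup.mem_normalizer_iff.1 (le_normalizer_sigmaCore H hxH) _).1
          (Subgroup.inv_mem _ (hUS hu')))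
    obtain ⟨-, hu⟩ := S1361.result hG M hM K U hKU Rm hRU hR1
      (fun e => hx1 (Subgroup.mem_bot.1 (e.le ⟨hx, hxR⟩)))
    exact hne (hu H hH ((Subgroup.centralizer_le_normalizer _).trans hNR))
  have hinter : M ⊓ H = U ⊔ K := by
    refine le_antisymm ?_ (le_inf (sup_le hUM hKM) (sup_le hUH hKH))
    rintro m ⟨hm, hmH⟩
    obtain ⟨e, he, s, hs, rfl⟩ := hEc.2.2.2 m hm
    have hsH : s ∈ H := by
      have := H.mul_mem (H.inv_mem ((sup_le hUH hKH) he)) hmH
      rwa [inv_mul_cancel_left] at this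
    rw [Subgroup.mem_bot.1 (hMH.le ⟨hs, hsH⟩), mul_one]
    exact he
  have hnilH : Group.IsNilpotent (Cfsg.sigmaCore H) := by
    by_contra hnn
    obtain ⟨K', U', hKU'⟩ := FStruct.exists_decomp hG hH
    have hK' := NonNil.K_ne hG hH hKU' hnn
    obtain ⟨t, ht, htd⟩ := Nat.exists_prime_and_dvd fun e => hK' (Subgroup.card_eq_one.1 e)
    exact Set.eq_empty_iff_forall_notMem.1 hκ t (hKU'.hall.2.1 t ht htd)
  have hnot : ¬ H ⊓ Subgroup.normalizer (U : Set G) ≤ M := fun hle => by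
    have hNσ : Cfsg.sigmaCore H ⊓ Subgroup.normalizer (U : Set G) ≤ U := fun x hx => by
      have hxUK : x ∈ (U ⊔ K : Subgroup G) := hinter ▸ ⟨hle ⟨sigmaCore_le H hx.1, hx.2⟩, sigmaCore_le H hx.1⟩
      obtain ⟨u, hu, k, hk, rfl⟩ := SolvBasic.mem_sup_iff_of_le_normalizer hKU.normal |>.1 hxUK
      have hkσ : k ∈ Cfsg.sigmaCore H := by
        have := Subgroup.mul_mem _ (Subgroup.inv_mem _ (hUS hu)) hx.1
        rwa [inv_mul_cancel_left] at this
      have hk1 : k = 1 := by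
        by_contra hk1
        obtain ⟨t, ht, htd⟩ := Nat.exists_prime_and_dvd fun e => hk1 (orderOf_eq_one_iff.1 e)
        have htp : t = p := (Nat.prime_dvd_prime_iff_eq ht hp).1 (hKp ▸ htd.trans (Subgroup.orderOf_dvd_natCard _ hk))
        exact hpH (htp ▸ primes_of_mem_sigmaCore hkσ ht htd)
      rw [hk1, mul_one]
      exact hu
    haveI := hnilH
    have htop : (U.subgroupOf (Cfsg.sigmaCore H)) = ⊤ := by
      by_contra htop
      obtain ⟨x, hx, hxU⟩ := SetLike.exists_of_lt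
        ((Group.normalizerCondition_of_isNilpotent (G := Cfsg.sigmaCore H)) (U.subgroupOf (Cfsg.sigmaCore H)) (lt_top_iff_ne_top.2 htop))
      refine hxU (hNσ ⟨x.2, Subgroup.mem_normalizer_iff.2 fun y => ?_⟩)
      constructor
      · intro hy
        exact (Subgroup.mem_normalizer_iff.1 hx ⟨y, hUS hy⟩).1 hy
      · intro hy
        have hy' : y ∈ Cfsg.sigmaCore H := by
          have := Subgroup.mul_mem _ (Subgroup.mul_mem _ (Subgroup.inv_mem _ x.2) (hUS hy)) x.2
          simpa [mul_assoc] using this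
        exact (Subgroup.mem_normalizer_iff.1 hx ⟨y, hy'⟩).2 hy
    have hUeq : Cfsg.sigmaCore H ≤ U := Subgroup.subgroupOf_eq_top.1 htop
    have hHN : H ≤ Subgroup.normalizer (U : Set G) := le_antisymm hUS hUeq ▸ le_normalizer_sigmaCore H
    exact hne ((hH.le_iff_eq hM.1).1 ((le_inf le_rfl hHN).trans hle)).symm
  -- the complement `H ∩ M*`
  obtain ⟨E, hE, hKE⟩ := ComplBasics.exists_complement_containing hG hH hKH
    (ComplBasics.coprime_sigmaCore_of_not_sigma fun t ht hd => (Nat.prime_dvd_prime_iff_eq ht hp).1 (hKp ▸ hd) ▸ hpH)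
  haveI : Group.IsSolvable E := MinSimple.isSolvable hG (ne_top_of_le_ne_top hH.1 hE.1)
  set X := Cfsg.pCoreOf p E with hX
  have hXE : X ≤ E := FitOf.pCoreOf_le p E
  have hXp := FitOf.isPGroup_pCoreOf p E
  have hEX := FitOf.le_normalizer_pCoreOf p E
  have hKF : K ≤ Cfsg.fittingOf E := by
    refine (le_inf hKE ?_).trans (FitOf.inf_centralizer_fittingOf_le E)
    rw [Subgroup.le_centralizer_iff]
    refine FitOf.fittingOf_le_iff.2 fun t ht => ?_
    haveI := Fact.mk ht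
    by_cases htp : t = p
    · subst htp
      haveI := ComplBasics.isMulCommutative_of_not_sigma hG hH hpH
        (hXp.to_sup_of_normal_left' (IsPGroup.of_card (n := 1) (by rw [pow_one]; exact hKp)) (hKE.trans hEX))
        (sup_le (hXE.trans hE.1) hKH)
      exact fun x hx => Subgroup.mem_centralizer_iff.2 fun k hk => congrArg Subtype.val
        (mul_comm' (⟨k, Subgroup.mem_sup_right hk⟩ : (X ⊔ K : Subgroup G)) ⟨x, Subgroup.mem_sup_left hx⟩)
    · exact no_moved hG P hKp hH hpH hκ hKH hKU hU1 hE hKE htp (FitOf.isPGroup_pCoreOf t E)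
        (FitOf.pCoreOf_le t E) (hKE.trans (FitOf.le_normalizer_pCoreOf t E))
  have hKX : K ≤ X := fun k hk => by
    obtain ⟨⟨k', hk'⟩, hkF, rfl⟩ := hKF hk
    refine ⟨⟨k', hk'⟩, NonNil.mem_pCore_of_nilpotent FittingCores.fitting_normal FittingCores.fitting_nilpotent hkF ?_, rfl⟩
    refine IsPGroup.to_le ?_ (le_refl _)
    exact ((line_pgroup hKp).comap_subtype (K := E)).to_le (Subgroup.zpowers_le.2 hk)
  haveI := ComplBasics.isMulCommutative_of_not_sigma hG hH hpH hXp (hXE.trans hE.1)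
  have hCK : Subgroup.centralizer (K : Set G) ≤ N := (P.right.unique_line hG hKp (P.right_inf.symm ▸ le_rfl)).1
  have hXN : X ≤ N := fun x hx => hCK (Subgroup.mem_centralizer_iff.2 fun k hk =>
    congrArg Subtype.val (mul_comm' (⟨k, hKX hk⟩ : X) ⟨x, hx⟩))
  have hX1 : X ≠ ⊥ := fun e => hK1 (le_bot_iff.1 (hKX.trans e.le))
  have hEN : E ≤ N := fun g hg => by
    obtain ⟨n, hn, c, hc, rfl⟩ := (S1404.result hG N hN p (p_sigma hG P hKp) X hXp hX1 hXN).1 g
      ((Subgroup.mem_normalizer_iff_map_conj_eq.1 (hEX hg)).le.trans hXN)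
    exact N.mul_mem hn (hCK (Subgroup.centralizer_le hKX hc))
  have hKNσ : K ≤ Cfsg.sigmaCore N := P.right_inf ▸ inf_le_left
  have hSN : Cfsg.sigmaCore H ⊓ N = ⊥ := by
    rw [Subgroup.eq_bot_iff_forall]
    rintro y ⟨hy, hyN⟩
    refine Subgroup.mem_bot.1 (hfix.le ⟨hy, Subgroup.mem_centralizer_iff.2 fun k hk => ?_⟩)
    have hdisN : Cfsg.sigmaCore H ⊓ Cfsg.sigmaCore N = ⊥ := Subgroup.inf_eq_bot_of_coprime
      (Nat.coprime_of_dvd fun t ht h1 h2 => by
        obtain ⟨a, ha⟩ := SigmaDisj.conj_of_sigma hG hN hH (mem_sigma_of_dvd ht h2) (mem_sigma_of_dvd ht h1)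
        exact hpH (ha ▸ (sigma_conj_iff a).2 (p_sigma hG P hKp)))
    refine commutatorElement_eq_one_iff_mul_comm.1 (Subgroup.mem_bot.1 (hdisN.le ⟨?_, ?_⟩))
    · rw [commutatorElement_def]
      exact Subgroup.mul_mem _ ((Subgroup.mem_normalizer_iff.1 (le_normalizer_sigmaCore H (hKH hk)) y).1 hy)
        (Subgroup.inv_mem _ hy)
    · rw [commutatorElement_def, mul_assoc k y, mul_assoc k]
      exact Subgroup.mul_mem _ (hKNσ hk) ((Subgroup.mem_normalizer_iff.1 (le_normalizer_sigmaCore N hyN) _).1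
        (Subgroup.inv_mem _ (hKNσ hk)))
  have hEeq : H ⊓ N = E := by
    refine le_antisymm ?_ (le_inf hE.1 hEN)
    rintro x ⟨hx, hxN⟩
    obtain ⟨e, he, s, hs, rfl⟩ := hE.2.2.2 x hx
    have hsN : s ∈ N := by
      have := N.mul_mem (N.inv_mem (hEN he)) hxN
      rwa [inv_mul_cancel_left] at this
    rw [Subgroup.mem_bot.1 (hSN.le ⟨hs, hsN⟩), mul_one]
    exact he
  exact ⟨hκ, hUS, hinter, hnot, hEeq ▸ hKF, hEeq ▸ hE⟩

end Cfsg.Agent.OddOrder.Sig
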