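/-
Maximal subgroups with `κ(M) ≠ ∅` carry type P data (BG 16.1).
-/
import Cfsg.Agent.Lib.OddOrder.FittingStruct
import Cfsg.Agent.S1354
import Cfsg.Agent.S1356
import Cfsg.Agent.S1360
import Cfsg.Agent.S1363
import Cfsg.Agent.S1364
import Cfsg.Agent.S1365
import Cfsg.Agent.S1366
import Cfsg.Agent.S1368
import Cfsg.Agent.S1370
import Cfsg.Agent.S1357
import Cfsg.Agent.S1372
import Cfsg.Agent.Lib.OddOrder.HallFusion

set_option autoImplicit false
set_option linter.style.haveILetI false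
set_option linter.unusedSectionVars false

namespace Cfsg.Agent.OddOrder.Types

open scoped commutatorElement IsMulCommutative Pointwise
open Exceptional TauOne Kappa Support Pairing
open Tau3 (line_pgroup line_ne_bot)

universe u

variable {G : Type u} [Group G] [Finite G] {M K U : Subgroup G}

theorem K_ne (hKU : Cfsg.IsSigmaDecomposition M K U) (h : (Cfsg.kappa M).Nonempty) : K ≠ ⊥ := fun e => by
  obtain ⟨t, ht⟩ := h
  exact hKU.hall.2.2 t ht.1 ht (by rw [e, Subgroup.relIndex_bot_left]; exact ht.2.1)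

theorem kappa_nonempty (hKU : Cfsg.IsSigmaDecomposition M K U) (hK1 : K ≠ ⊥) : (Cfsg.kappa M).Nonempty := by
  obtain ⟨t, ht, htd⟩ := Nat.exists_prime_and_dvd fun e => hK1 (Subgroup.card_eq_one.1 e)
  exact ⟨t, hKU.hall.2.1 t ht htd⟩

theorem rank_one_of_cyclic {p : ℕ} [hp : Fact p.Prime] {X : Type u} [Group X] [Finite X] (hc : IsCyclic X) :
    Cfsg.PRankLE p 1 X := by
  intro A hA hAp
  haveI := hc
  obtain ⟨a, ha⟩ := (inferInstance : IsCyclic A).exists_generator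
  rw [pow_one, ← orderOf_eq_card_of_forall_mem_zpowers ha]
  exact Nat.le_of_dvd hp.out.pos (orderOf_dvd_of_pow_eq_one (Subtype.ext (hAp a a.2)))

theorem inf_K_sigma (hKU : Cfsg.IsSigmaDecomposition M K U) : K ⊓ Cfsg.sigmaCore M = ⊥ :=
  Subgroup.inf_eq_bot_of_coprime (Nat.coprime_of_dvd fun t ht h1 h2 =>
    (hKU.hall.2.1 t ht h1).2.2.1 (mem_sigma_of_dvd ht h2))

theorem K_inf_sup (hKU : Cfsg.IsSigmaDecomposition M K U) : K ⊓ (U ⊔ Cfsg.sigmaCore M) = ⊥ := by
  have hUn : U ≤ Subgroup.normalizer (Cfsg.sigmaCore M : Set G) := hKU.compl.1.trans (le_normalizer_sigmaCore M)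
  refine (Subgroup.eq_bot_iff_forall _).2 fun x ⟨hxK, hx⟩ => ?_
  have hx' : x ∈ Cfsg.sigmaCore M ⊔ U := (sup_comm U _).le hx
  obtain ⟨s, hs, u, hu, he⟩ := (SolvBasic.mem_sup_iff_of_le_normalizer hUn).1 hx'
  have hu' : u ∈ U ⊓ (K ⊔ Cfsg.sigmaCore M) := ⟨hu, by
    rw [show u = s⁻¹ * x by rw [he, inv_mul_cancel_left]]
    exact mul_mem (Subgroup.mem_sup_right (inv_mem hs)) (Subgroup.mem_sup_left hxK)⟩
  rw [hKU.compl.2.2.1, Subgroup.mem_bot] at hu'
  rw [hu', mul_one] at he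
  have h1 : x ∈ K ⊓ Cfsg.sigmaCore M := ⟨hxK, he ▸ hs⟩
  rwa [inf_K_sigma hKU, Subgroup.mem_bot] at h1

theorem K_hall (hKU : Cfsg.IsSigmaDecomposition M K U) : (Nat.card K).Coprime (K.relIndex M) :=
  Nat.coprime_of_dvd fun t ht h1 h2 => hKU.hall.2.2 t ht (hKU.hall.2.1 t ht h1) h2

variable (hG : Cfsg.IsMinSimpleOddOrder G) (hM : IsCoatom M)
include hG hM

/-- `K` complements `M'`. -/
theorem compl_derived (hKU : Cfsg.IsSigmaDecomposition M K U) (hK1 : K ≠ ⊥) : Cfsg.IsComplIn ⁅M, M⁆ K M := by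
  rw [(S1365.result hG M hM K U hKU hK1).1]
  refine ⟨sup_le hKU.compl.1 (sigmaCore_le M), hKU.hall.1, ?_, fun m hm => ?_⟩
  · rw [inf_comm]; exact K_inf_sup hKU
  · obtain ⟨u, hu, w, hw, rfl⟩ := hKU.compl.2.2.2 m hm
    have hw' : w ∈ Cfsg.sigmaCore M ⊔ K := (sup_comm K _).le hw
    obtain ⟨s, hs, k, hk, rfl⟩ :=
      (SolvBasic.mem_sup_iff_of_le_normalizer (hKU.hall.1.trans (le_normalizer_sigmaCore M))).1 hw'
    exact ⟨u * s, mul_mem (Subgroup.mem_sup_left hu) (Subgroup.mem_sup_right hs), k, hk, (mul_assoc u s k).symm⟩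

/-- The self-normalizing pair of `M`. -/
theorem self_normalizing (hKU : Cfsg.IsSigmaDecomposition M K U) (hK1 : K ≠ ⊥) :
    Cfsg.IsSelfNormalizingCyclic K (Cfsg.sigmaCore M ⊓ Subgroup.centralizer (K : Set G)) := by
  set D := Cfsg.sigmaCore M ⊓ Subgroup.centralizer (K : Set G) with hD
  obtain ⟨-, hDne, -, -⟩ := S1364.result hG M hM K U hKU hK1
  obtain ⟨Ms, ⟨hMs, h1, h2⟩, -⟩ := S1366.result hG M hM K U hKU hK1
  obtain ⟨-, hcyc⟩ := S1368.result hG M hM K U hKU hK1 Ms hMs h1 h2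
  obtain ⟨hTI, hN⟩ := S1370.result hG M hM K U hKU hK1
  haveI := hcyc
  refine ⟨hK1, hDne, le_bot_iff.1 ((inf_le_inf_left K inf_le_left).trans (inf_K_sigma hKU).le),
    fun a ha b hb => Subgroup.mem_centralizer_iff.1 hb.2 a ha, hcyc, fun X hXZ hXne => ?_⟩
  refine le_antisymm (fun g hg => ?_) fun z hz => ?_
  · obtain ⟨x, hx⟩ := hXne
    by_contra hgZ
    have h := hTI g (fun h => hgZ (hN.le h)) x (hXZ hx) (hXZ ((Subgroup.mem_set_normalizer_iff.1 hg x).1 hx))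
    exact (hXZ hx).2 (Or.inl (h ▸ one_mem K))
  · refine Subgroup.mem_set_normalizer_iff.2 fun h => ?_
    have hfix : ∀ y ∈ X, z * y * z⁻¹ = y := fun y hy => by
      have e : z * y = y * z := congrArg Subtype.val
        (mul_comm' (⟨z, hz⟩ : (K ⊔ D : Subgroup G)) ⟨y, (hXZ hy).1⟩)
      rw [e, mul_inv_cancel_right]
    refine ⟨fun hh => by rw [hfix h hh]; exact hh, fun hh => ?_⟩
    have hz' : h = z * h * z⁻¹ := mul_left_cancel (a := z) (mul_right_cancel (b := z⁻¹) (hfix _ hh).symm)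
    rw [hz']
    exact hh

/-- Type P data. -/
theorem data_of (hKU : Cfsg.IsSigmaDecomposition M K U) (hK1 : K ≠ ⊥) {W : Subgroup G}
    (hWn : Group.IsNilpotent W) (hKW : K ≤ Subgroup.normalizer (W : Set G))
    (hW : Cfsg.IsComplIn (Cfsg.fittingHallOf M) W ⁅M, M⁆) :
    Cfsg.IsTypePWith M K W (Cfsg.sigmaCore M ⊓ Subgroup.centralizer (K : Set G)) := by
  obtain ⟨hd2, hFeq, hFle⟩ := S1356.result hG M hM
  obtain ⟨-, -, hDH, hnc⟩ := S1364.result hG M hM K U hKU hK1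
  obtain ⟨-, -, hσd, -, -⟩ := S1355.result hG M hM
  obtain ⟨-, hCk⟩ := S1354.result hG M hM K hKU.cyclic hKU.hall
  set D := Cfsg.sigmaCore M ⊓ Subgroup.centralizer (K : Set G) with hD
  rw [sup_comm] at hFeq
  refine ⟨hK1, hKU.cyclic, K_hall hKU, compl_derived hG hM hKU hK1, hWn, hKW, hW, hnc, hd2.trans hFeq.le, hFeq.symm,
    hFle (kappa_nonempty hKU hK1), le_inf hDH (S1365.result hG M hM K U hKU hK1).2, fun x hx hx1 => ?_,
    self_normalizing hG hM hKU hK1⟩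
  have hDd : D ≤ ⁅M, M⁆ := inf_le_left.trans hσd
  refine le_antisymm ?_ ?_
  · intro y hyy
    obtain ⟨hyd, hyC⟩ := hyy
    have hy' : y ∈ D ⊔ K := by
      rw [sup_comm]
      exact (hCk hK1 x hx hx1).le ⟨(compl_derived hG hM hKU hK1).1 hyd, hyC⟩
    have hKD : K ≤ Subgroup.normalizer (D : Set G) :=
      (Subgroup.le_centralizer_iff.1 inf_le_right).trans (Subgroup.centralizer_le_normalizer _)
    obtain ⟨d, hd, k, hk, rfl⟩ := (SolvBasic.mem_sup_iff_of_le_normalizer hKD).1 hy'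
    have h1 : k ∈ ⁅M, M⁆ ⊓ K := ⟨by simpa using mul_mem (inv_mem (hDd hd)) hyd, hk⟩
    rw [(compl_derived hG hM hKU hK1).2.2.1, Subgroup.mem_bot] at h1
    rw [h1, mul_one]
    exact hd
  · intro y hy
    exact ⟨hDd hy, Subgroup.centralizer_le (Set.singleton_subset_iff.2 hx) hy.2⟩

/-- Type P forces `κ(M) ≠ ∅`. -/
theorem kappa_of_typeP {W₁ W W₂ : Subgroup G} (hP : Cfsg.IsTypePWith M W₁ W W₂) : (Cfsg.kappa M).Nonempty := by
  obtain ⟨r, hr, hrd⟩ := Nat.exists_prime_and_dvd fun e => hP.W₁_ne (Subgroup.card_eq_one.1 e)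
  haveI := Fact.mk hr
  obtain ⟨Y, hYW, hY⟩ := exists_line_of_dvd hr hrd
  obtain ⟨y, hy, hy1⟩ := Plane.exists_ne_one hY
  have hWM := hP.W₁_compl.2.1
  obtain ⟨-, hHσ, hσd, -, -⟩ := S1355.result hG M hM
  have hσ : r ∉ Cfsg.sigma M := fun h => line_ne_bot hY (le_bot_iff.1
    ((le_inf ((le_sigmaCore hG hM h (line_pgroup hY) (hYW.trans hWM)).trans hσd) hYW).trans hP.W₁_compl.2.2.1.le))
  have hr1 : Cfsg.PRankLE r 1 M := by
    obtain ⟨T, hT⟩ := HallFus.exists_sylow_le hWM hP.W₁_hall hrd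
    haveI := hP.W₁_cyclic
    haveI : IsCyclic ((T : Subgroup M).map M.subtype) :=
      isCyclic_of_injective (Subgroup.inclusion hT) (Subgroup.inclusion_injective hT)
    exact LocalFactor.prankLE_of_sylow T (rank_one_of_cyclic
      (((T : Subgroup M).equivMapOfInjective M.subtype M.subtype_injective).isCyclic.2 inferInstance))
  refine ⟨r, kappa_of_line hG hσ hr1 hY (hYW.trans hWM) fun e => hP.selfNormalizing.2.1 (le_bot_iff.1
    ((le_inf ((hP.W₂_le.trans inf_le_left).trans hHσ) ?_).trans e.le))⟩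
  rw [← Plane.zpowers_eq hY hy hy1, Plane.centralizer_zpowers]
  exact (hP.W₂_centralizer y (hYW hy) hy1).ge.trans inf_le_right

/-- The Sylow subgroups of `σ(M)` inside a nilpotent subgroup pull its normalizer into `M`. -/
theorem normalizer_le_of_sigma_hall {W : Subgroup G} (hWn : Group.IsNilpotent W) (hWσ : W ≤ Cfsg.sigmaCore M)
    (hW : (Nat.card W).Coprime (W.relIndex (Cfsg.sigmaCore M))) (hW1 : W ≠ ⊥) :
    Subgroup.normalizer (W : Set G) ≤ M := by
  obtain ⟨t, ht, htd⟩ := Nat.exists_prime_and_dvd fun e => hW1 (Subgroup.card_eq_one.1 e)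
  haveI := Fact.mk ht
  have htσ : t ∈ Cfsg.sigma M := mem_sigma_of_dvd ht (htd.trans (Subgroup.card_dvd_of_le hWσ))
  have hWM : W ≤ M := hWσ.trans (sigmaCore_le M)
  have hWh : (Nat.card W).Coprime (W.relIndex M) := by
    refine Nat.coprime_of_dvd fun s hs h1 h2 => ?_
    rw [← Subgroup.relIndex_mul_relIndex W _ M hWσ (sigmaCore_le M)] at h2
    rcases hs.dvd_mul.1 h2 with h | h
    · exact hs.ne_one (Nat.eq_one_of_dvd_coprimes hW h1 h)
    · exact (S1350.result hG M hM).1.2.2 s hs (mem_sigma_of_dvd hs (h1.trans (Subgroup.card_dvd_of_le hWσ))) h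
  obtain ⟨T, hT⟩ := HallFus.exists_sylow_le hWM hWh htd
  set Tm := (T : Subgroup M).map M.subtype with hTm
  refine le_trans ?_ (Sigma.sigma_normalizer htσ T)
  refine Exceptional.normalizer_le_of_nilpotent hWn hT (T.isPGroup'.map _) fun h => T.not_dvd_index ?_
  have h' : t ∣ Tm.relIndex M := h.trans (Dvd.intro _ (Subgroup.relIndex_mul_relIndex Tm W M hT hWM))
  rwa [Subgroup.relIndex, Subgroup.subgroupOf, hTm, Subgroup.comap_map_eq_self_of_injective M.subtype_injective] at h'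

/-- A `K`-invariant nilpotent complement of `M_F` in `M'` when `M_σ` is not nilpotent. -/
theorem exists_compl_nonnil (hKU : Cfsg.IsSigmaDecomposition M K U)
    (hne : Cfsg.fittingHallOf M ≠ Cfsg.sigmaCore M) :
    ∃ W : Subgroup G, W ≠ ⊥ ∧ Group.IsNilpotent W ∧ K ≤ Subgroup.normalizer (W : Set G) ∧
      Cfsg.IsComplIn (Cfsg.fittingHallOf M) W ⁅M, M⁆ ∧ Subgroup.normalizer (W : Set G) ≤ M := by
  classical
  have hnn : ¬ Group.IsNilpotent (Cfsg.sigmaCore M) := fun h => hne (fittingHall_eq hG hM h)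
  obtain ⟨q, Q, E, d⟩ := NonNil.exists_data hG hM hKU hnn
  have hQH := FStruct.Q_le_fittingHall hG hM hKU hnn d
  have hMd : ⁅M, M⁆ = Cfsg.sigmaCore M := by
    rw [(S1365.result hG M hM K U hKU (NonNil.K_ne hG hM hKU hnn)).1, NonNil.U_eq_bot hG hM hKU hnn, bot_sup_eq]
  set S := Cfsg.sigmaCore M with hS
  set H := Cfsg.fittingHallOf M with hH
  obtain ⟨-, hHS, -, -, -⟩ := S1355.result hG M hM
  haveI := MinSimple.isSolvable hG hM.1
  set π : Set ℕ := {t | ¬ t ∣ Nat.card H} with hπ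
  obtain ⟨L, hL, hKL⟩ := exists_piHall π hKU.hall.1 fun r hr hd h =>
    (hKU.hall.2.1 r hr hd).2.2.1 (mem_sigma_of_dvd hr (h.trans (Subgroup.card_dvd_of_le hHS)))
  have hHM : H ≤ M := FHall.fittingHallOf_le M
  have hLn : L ≤ Subgroup.normalizer (H : Set G) := hL.1.trans (FHall.le_normalizer_fittingHallOf M)
  have hdis : H ⊓ L = ⊥ := Subgroup.inf_eq_bot_of_coprime
    (Nat.coprime_of_dvd fun t ht h1 h2 => hL.2.1 t ht h2 h1)
  have hsup : H ⊔ L = M := by
    refine le_antisymm (sup_le hHM hL.1) ?_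
    rw [← Subgroup.relIndex_eq_one]
    by_contra hne'
    obtain ⟨t, ht, htd⟩ := Nat.exists_prime_and_dvd hne'
    by_cases htH : t ∣ Nat.card H
    · exact ht.ne_one (Nat.eq_one_of_dvd_coprimes (FHall.fittingHallOf_coprime M) htH
        (htd.trans (Dvd.intro_left _ (Subgroup.relIndex_mul_relIndex H (H ⊔ L) M le_sup_left (sup_le hHM hL.1)))))
    · exact hL.2.2 t ht htH
        (htd.trans (Dvd.intro_left _ (Subgroup.relIndex_mul_relIndex L (H ⊔ L) M le_sup_right (sup_le hHM hL.1))))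
  set W := L ⊓ S with hW
  have hcompl : Cfsg.IsComplIn H W S := by
    refine ⟨hHS, inf_le_right, le_bot_iff.1 ((inf_le_inf_left H inf_le_left).trans hdis.le), fun x hx => ?_⟩
    obtain ⟨a, ha, l, hl, rfl⟩ := (SolvBasic.mem_sup_iff_of_le_normalizer hLn).1 (hsup.ge (sigmaCore_le M hx))
    refine ⟨a, ha, l, ⟨hl, ?_⟩, rfl⟩
    have := mul_mem (inv_mem (hHS ha)) hx
    rwa [inv_mul_cancel_left] at this
  have hWne : W ≠ ⊥ := fun e => hne (le_antisymm hHS fun x hx => by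
    obtain ⟨a, ha, b, hb, rfl⟩ := hcompl.2.2.2 x hx
    rw [e, Subgroup.mem_bot] at hb
    rwa [hb, mul_one])
  have hSn : S ≤ Subgroup.normalizer (H : Set G) := (sigmaCore_le M).trans (FHall.le_normalizer_fittingHallOf M)
  haveI : (H.subgroupOf S).Normal := Subgroup.normal_subgroupOf_of_le_normalizer hSn
  set f := QuotientGroup.mk' (H.subgroupOf S) with hf
  haveI hEn : Group.IsNilpotent (E.subgroupOf S) := by
    haveI := d.nilpotent
    exact Group.nilpotent_of_mulEquiv (Subgroup.subgroupOfEquivOfLe d.compl.2.1).symm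
  have hsurj : Function.Surjective (f.comp (E.subgroupOf S).subtype) := fun y => by
    obtain ⟨⟨x, hx⟩, rfl⟩ := QuotientGroup.mk'_surjective _ y
    obtain ⟨a, ha, b, hb, he⟩ := d.compl.2.2.2 x hx
    refine ⟨⟨⟨b, d.compl.2.1 hb⟩, hb⟩, QuotientGroup.eq.2 (Subgroup.mem_subgroupOf.2 ?_)⟩
    show b⁻¹ * x ∈ H
    rw [he]
    rw [show b⁻¹ * (a * b) = b⁻¹ * a * b⁻¹⁻¹ by group]
    exact (Subgroup.mem_normalizer_iff.1 (hSn (inv_mem (d.compl.2.1 hb))) a).1 (hQH ha)
  haveI hQn : Group.IsNilpotent (S ⧸ H.subgroupOf S) := Group.nilpotent_of_surjective _ hsurj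
  have hWn : Group.IsNilpotent W := by
    refine Subgroup.isNilpotent_of_ker_le_center (f.comp (Subgroup.inclusion hcompl.2.1)) ?_
    intro x hx
    have hx' : (x : G) ∈ H ⊓ W :=
      ⟨Subgroup.mem_subgroupOf.1 ((QuotientGroup.eq_one_iff (Subgroup.inclusion hcompl.2.1 x)).1 hx), x.2⟩
    rw [hcompl.2.2.1, Subgroup.mem_bot] at hx'
    rw [show x = 1 from Subtype.ext hx']
    exact one_mem _
  refine ⟨W, hWne, hWn, (le_inf (hKL.trans Subgroup.le_normalizer) (hKU.hall.1.trans (le_normalizer_sigmaCore M))).trans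
    Subgroup.inf_normalizer_le_normalizer_inf, hMd.symm ▸ hcompl,
    normalizer_le_of_sigma_hall hG hM hWn hcompl.2.1 ?_ hWne⟩
  rw [Compl.relIndex_right hcompl]
  exact Nat.coprime_of_dvd fun t ht h1 h2 => hL.2.1 t ht (h1.trans (Subgroup.card_dvd_of_le inf_le_left)) h2

/-- Type P data in the three cases. -/
theorem exists_data (hKU : Cfsg.IsSigmaDecomposition M K U) (hK1 : K ≠ ⊥) :
    ∃ W : Subgroup G, Cfsg.IsTypePWith M K W (Cfsg.sigmaCore M ⊓ Subgroup.centralizer (K : Set G)) ∧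
      (Cfsg.fittingHallOf M = Cfsg.sigmaCore M → W = U) ∧
      (Cfsg.fittingHallOf M ≠ Cfsg.sigmaCore M → W ≠ ⊥ ∧ Subgroup.normalizer (W : Set G) ≤ M) := by
  by_cases he : Cfsg.fittingHallOf M = Cfsg.sigmaCore M
  · haveI := (S1363.result hG M hM K U hKU hK1).1
    refine ⟨U, data_of hG hM hKU hK1 inferInstance hKU.normal ?_, fun _ => rfl, fun h => absurd he h⟩
    rw [he, (S1365.result hG M hM K U hKU hK1).1]
    refine ⟨le_sup_right, le_sup_left, ?_, fun m hm => ?_⟩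
    · rw [inf_comm]
      exact le_bot_iff.1 ((inf_le_inf_left U le_sup_right).trans hKU.compl.2.2.1.le)
    · exact (SolvBasic.mem_sup_iff_of_le_normalizer (hKU.compl.1.trans (le_normalizer_sigmaCore M))).1
        ((sup_comm U _).le hm)
  · obtain ⟨W, hW1, hWn, hKW, hWc, hNW⟩ := exists_compl_nonnil hG hM hKU he
    exact ⟨W, data_of hG hM hKU hK1 hWn hKW hWc, fun h => absurd h he, fun _ => ⟨hW1, hNW⟩⟩

/-- For `M_σ` nilpotent the complement of `M_F` in `M'` is a conjugate of `U`. -/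
theorem compl_conj (hKU : Cfsg.IsSigmaDecomposition M K U) (hK1 : K ≠ ⊥)
    (he : Cfsg.fittingHallOf M = Cfsg.sigmaCore M) {W : Subgroup G}
    (hW : Cfsg.IsComplIn (Cfsg.fittingHallOf M) W ⁅M, M⁆) :
    ∃ m ∈ M, U.map (MulAut.conj m).toMonoidHom = W := by
  rw [he] at hW
  have hMd := (S1365.result hG M hM K U hKU hK1).1
  set S := Cfsg.sigmaCore M with hS
  set X := ⁅M, M⁆ with hX
  have hXM : X ≤ M := (compl_derived hG hM hKU hK1).1
  haveI := MinSimple.isSolvable hG (ne_top_of_le_ne_top hM.1 hXM)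
  have hU : Cfsg.IsComplIn S U X := by
    rw [hMd]
    refine ⟨le_sup_right, le_sup_left, ?_, fun m hm => ?_⟩
    · rw [inf_comm]
      exact le_bot_iff.1 ((inf_le_inf_left U le_sup_right).trans hKU.compl.2.2.1.le)
    · exact (SolvBasic.mem_sup_iff_of_le_normalizer (hKU.compl.1.trans (le_normalizer_sigmaCore M))).1
        ((sup_comm U _).le hm)
  have hcop : (Nat.card U).Coprime (Nat.card S) := Nat.coprime_of_dvd fun t ht h1 h2 =>
    (TypeU.not_sigma_kappa hG hM hKU ht h1).1 (mem_sigma_of_dvd ht h2)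
  have h1 := Compl.card_eq hU
  have h2 := Compl.card_eq hW
  obtain ⟨⟨c, hc⟩, hcU⟩ := HallSolv.hall_conj (G := X) (h1.trans (mul_comm _ _)) hcop
    (H := U.subgroupOf X) (K := W.subgroupOf X) (Nat.card_congr (Subgroup.subgroupOfEquivOfLe hU.2.1).toEquiv)
    ((Nat.card_congr (Subgroup.subgroupOfEquivOfLe hW.2.1).toEquiv).trans
      (Nat.eq_of_mul_eq_mul_left Nat.card_pos (h2.symm.trans h1)))
  refine ⟨c, hXM hc, le_antisymm ?_ fun y hy => ?_⟩
  · rintro _ ⟨u, hu, rfl⟩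
    exact hcU.le (Subgroup.smul_mem_pointwise_smul (⟨u, hU.2.1 hu⟩ : X) (MulAut.conj (⟨c, hc⟩ : X)) _ hu)
  · obtain ⟨z, hz, hze⟩ := hcU.ge (show (⟨y, hW.2.1 hy⟩ : X) ∈ W.subgroupOf X from hy)
    exact ⟨z, hz, congrArg Subtype.val hze⟩

end Cfsg.Agent.OddOrder.Types
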