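/-
The maximal subgroup `H` of BG 14.12 has a cyclic Frobenius complement (BG 15.8, 15.9).
-/
import Cfsg.Agent.Lib.OddOrder.SignalizerP2
import Cfsg.Agent.Lib.OddOrder.DerivedSigma
import Cfsg.Agent.S1408
import Cfsg.Agent.S1419
import Cfsg.Agent.S1426

set_option autoImplicit false
set_option linter.style.haveILetI false
set_option linter.unusedSectionVars false

namespace Cfsg.Agent.OddOrder.NFT

open scoped commutatorElement IsMulCommutative Pointwise
open Exceptional TauOne Kappa Support Pairing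
open Tau3 (line_pgroup line_ne_bot)

universe u

variable {G : Type u} [Group G] [Finite G]

/-- Lines of a complement acting regularly on `H_σ` commute when they normalize each other. -/
theorem lines_commute {H E X Z : Subgroup G} {x z : ℕ} [hx : Fact x.Prime] [hz : Fact z.Prime] (hxz : x ≠ z)
    (hG : Cfsg.IsMinSimpleOddOrder G) (hH : IsCoatom H) (hE : Cfsg.IsComplIn E (Cfsg.sigmaCore H) H)
    (hreg : ∀ (r : ℕ) (Y : Subgroup G), r.Prime → Y ≤ E → Nat.card Y = r →
      Cfsg.sigmaCore H ⊓ Subgroup.centralizer (Y : Set G) = ⊥)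
    (hX : Nat.card X = x) (hXE : X ≤ E) (hZ : Nat.card Z = z) (hZE : Z ≤ E)
    (hn : X ≤ Subgroup.normalizer (Z : Set G)) : Z ≤ Subgroup.centralizer (X : Set G) := by
  by_contra hnc
  have hbot : Z ⊓ Subgroup.centralizer (X : Set G) = ⊥ := by
    by_contra hne
    obtain ⟨w, ⟨hw, hwc⟩, hw1⟩ := (Subgroup.bot_or_exists_ne_one _).resolve_left hne
    refine hnc ?_
    rw [← Plane.zpowers_eq hZ hw hw1]
    exact Subgroup.zpowers_le.2 hwc
  have h := Sig.frobenius_centralizes (S := Cfsg.sigmaCore H) hX hn hbot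
    ((sup_le hZE hXE).trans (hE.1.trans (le_normalizer_sigmaCore H)))
    (MinSimple.isSolvable hG (ne_top_of_le_ne_top hH.1 (sigmaCore_le H)))
    ((ComplBasics.coprime_card hG hH hE).symm.coprime_dvd_right (Subgroup.card_dvd_of_le (sup_le hZE hXE)))
    (hZ ▸ fun h => hxz ((Nat.prime_dvd_prime_iff_eq hx.out hz.out).1 h)) (hreg x X hx.out hXE hX)
  exact (S1355.result hG H hH).1 (le_bot_iff.1 ((S1355.result hG H hH).2.1.trans
    ((le_inf le_rfl (Subgroup.le_centralizer_iff.1 h)).trans (hreg z Z hz.out hZE hZ).le)))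

/-- A nilpotent subgroup lies in the centralizer of a `t`-subgroup when Sylow `t`-subgroups are abelian. -/
theorem nilpotent_le_centralizer {S W : Subgroup G} {t : ℕ} [ht : Fact t.Prime] (hS : Group.IsNilpotent S)
    (hab : ∀ T : Sylow t G, IsMulCommutative (T : Subgroup G)) (hW : IsPGroup t W) (hWS : W ≤ S) :
    S ≤ Subgroup.centralizer (W : Set G) := by
  rw [← Subgroup.subgroupOf_eq_top]
  refine FittingCores.eq_top_of_forall_sylow_le fun r hr => ?_
  haveI := Fact.mk hr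
  obtain ⟨P⟩ : Nonempty (Sylow r S) := inferInstance
  refine ⟨P, fun s hs => Subgroup.mem_subgroupOf.2 (Subgroup.mem_centralizer_iff.2 fun w hw => ?_)⟩
  by_cases hrt : r = t
  · subst hrt
    haveI : (P : Subgroup S).Normal :=
      (Group.isNilpotent_of_finite_tfae (G := S)).out 0 3 rfl rfl |>.1 hS r ⟨hr⟩ P
    have hp : IsPGroup r ((P : Subgroup S) ⊔ W.subgroupOf S : Subgroup S) :=
      P.isPGroup'.to_sup_of_normal_left (hW.of_equiv (Subgroup.subgroupOfEquivOfLe hWS).symm)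
    obtain ⟨T, hT⟩ := (hp.map S.subtype).exists_le_sylow
    haveI := hab T
    exact congrArg Subtype.val (mul_comm'
      (⟨w, hT ⟨⟨w, hWS hw⟩, Subgroup.mem_sup_right (Subgroup.mem_subgroupOf.2 hw), rfl⟩⟩ : (T : Subgroup G))
      ⟨(s : G), hT ⟨s, Subgroup.mem_sup_left hs, rfl⟩⟩)
  · obtain ⟨i, hi⟩ := hW ⟨w, hw⟩
    obtain ⟨j, hj⟩ := P.isPGroup' ⟨s, hs⟩
    have hi' : w ^ t ^ i = 1 := congrArg Subtype.val hi
    have hj' : (s : G) ^ r ^ j = 1 := congrArg (fun y : (P : Subgroup S) => ((y : S) : G)) hj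
    exact (CN.commute_of_coprime hS (hWS hw) s.2 (((Nat.coprime_primes ht.out hr).2 (Ne.symm hrt)).pow i j
      |>.coprime_dvd_left (orderOf_dvd_of_pow_eq_one hi') |>.coprime_dvd_right (orderOf_dvd_of_pow_eq_one hj'))).eq

/-- The configuration of BG 14.12. -/
structure Cfg (Z M K U N D H : Subgroup G) (q : ℕ) : Prop where
  minSimple : Cfsg.IsMinSimpleOddOrder G
  pair : Pair Z M K N D
  decomp : Cfsg.IsSigmaDecomposition M K U
  prime : q.Prime
  cardK : Nat.card K = q
  coatom : IsCoatom H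
  kappa : Cfsg.kappa H = ∅
  U_le : U ≤ Cfsg.sigmaCore H
  inter : M ⊓ H = U ⊔ K
  fitting : K ≤ Cfsg.fittingOf (H ⊓ N)
  compl : Cfsg.IsComplIn (H ⊓ N) (Cfsg.sigmaCore H) H
  not_sigma : q ∉ Cfsg.sigma H
  touched : ∃ u ∈ U, u ≠ 1 ∧ Subgroup.centralizer ({u} : Set G) ≤ M

namespace Cfg

variable {Z M K U N D H : Subgroup G} {q : ℕ} (c : Cfg Z M K U N D H q)
include c

theorem fix : Cfsg.sigmaCore H ⊓ Subgroup.centralizer (K : Set G) = ⊥ :=
  haveI := Fact.mk c.prime
  Sig.fixed_eq_bot c.minSimple c.pair c.cardK c.coatom c.not_sigma c.kappa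
    ((c.fitting.trans (FitOf.fittingOf_le _)).trans inf_le_left)

theorem K_le : K ≤ H ⊓ N := c.fitting.trans (FitOf.fittingOf_le _)

theorem K_sigma : K ≤ Cfsg.sigmaCore N := c.pair.right_inf ▸ inf_le_left

theorem q_sigma : q ∈ Cfsg.sigma N :=
  haveI := Fact.mk c.prime
  Sig.p_sigma c.minSimple c.pair c.cardK

theorem K_eq : Cfsg.sigmaCore N ⊓ Subgroup.centralizer (D : Set G) = K := by
  rw [← c.pair.right.inf_eq, c.pair.right_inf]

theorem exists_decomp : ∃ U' : Subgroup G, Cfsg.IsSigmaDecomposition N D U' := by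
  haveI := c.pair.right.cyclic c.minSimple
  exact (S1352.result c.minSimple N c.pair.right.coatom D inferInstance c.pair.right.hall).1

theorem not_kappa_derived {r : ℕ} (hr : r.Prime) (hd : r ∣ Nat.card (⁅N, N⁆ : Subgroup G)) : r ∉ Cfsg.kappa N := by
  obtain ⟨U', hU'⟩ := c.exists_decomp
  intro hκ
  rw [derived_eq c.minSimple c.pair.right.coatom hU' c.pair.right.ne, sup_comm] at hd
  have hdv : Nat.card (Cfsg.sigmaCore N ⊔ U' : Subgroup G) ∣ Nat.card (Cfsg.sigmaCore N) * Nat.card U' :=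
    Dvd.intro _ (SolvBasic.card_sup_mul_card_inf (hU'.compl.1.trans (le_normalizer_sigmaCore N)))
  rcases hr.dvd_mul.1 (hd.trans hdv) with h | h
  · exact hκ.2.2.1 (mem_sigma_of_dvd hr h)
  · exact decomp_U_primes hU' hr h hκ

/-- `N' ∩ N(K) ≤ C(K)`. -/
theorem derived_inf_normalizer :
    ⁅N, N⁆ ⊓ Subgroup.normalizer (K : Set G) ≤ Subgroup.centralizer (K : Set G) := by
  have hG := c.minSimple
  have hN := c.pair.right.coatom
  haveI := Fact.mk c.prime
  haveI : IsCyclic K := isCyclic_of_prime_card c.cardK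
  haveI := c.pair.right.cyclic hG
  obtain ⟨U', hU'⟩ := c.exists_decomp
  set L := ⁅N, N⁆ ⊓ Subgroup.normalizer (K : Set G) with hL
  have hDN : D ≤ N := c.pair.right.hall.1
  have hDK : D ≤ Subgroup.centralizer (K : Set G) := Subgroup.le_centralizer_iff.1 c.pair.commutes
  have hDL : D ≤ Subgroup.normalizer (L : Set G) :=
    FitOf.le_normalizer_inf (hDN.trans (Subgroup.normalizer_commutator_ge_left N N))
      ((hDK.trans (Subgroup.centralizer_le_normalizer _)).trans Subgroup.le_normalizer)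
  have hcop : (Nat.card D).Coprime (Nat.card L) := Nat.coprime_of_dvd fun r hr h1 h2 =>
    c.not_kappa_derived hr (h2.trans (Subgroup.card_dvd_of_le inf_le_left)) (c.pair.right.hall.2.1 r hr h1)
  rw [← CoprimeAct.commutator_sup_centralizer hDL hcop (Or.inl (Group.isSolvable_of_comm fun a b => mul_comm' a b))]
  refine sup_le ((Subgroup.commutator_mono inf_le_right (hDK.trans (Subgroup.centralizer_le_normalizer _))).trans
    (FStruct.commutator_le_centralizer_of_cyclic inferInstance le_rfl)) ?_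
  rintro x ⟨⟨hx, -⟩, hxD⟩
  rw [derived_eq hG hN hU' c.pair.right.ne, sup_comm] at hx
  obtain ⟨s, hs, v, hv, rfl⟩ :=
    (SolvBasic.mem_sup_iff_of_le_normalizer (hU'.compl.1.trans (le_normalizer_sigmaCore N))).1 hx
  have hcomm : ∀ d ∈ D, d * s * d⁻¹ = s ∧ d * v * d⁻¹ = v := fun d hd => by
    have hds := (Subgroup.mem_normalizer_iff.1 (le_normalizer_sigmaCore N (hDN hd)) s).1 hs
    have hdv := (Subgroup.mem_normalizer_iff.1 (hU'.normal hd) v).1 hv
    have he : d * s * d⁻¹ * (d * v * d⁻¹) = s * v := by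
      calc d * s * d⁻¹ * (d * v * d⁻¹) = d * (s * v) * d⁻¹ := by group
        _ = s * v * d * d⁻¹ := by rw [Subgroup.mem_centralizer_iff.1 hxD d hd]
        _ = s * v := by group
    have h1 : v * (d * v * d⁻¹)⁻¹ ∈ U' ⊓ (D ⊔ Cfsg.sigmaCore N) := by
      refine ⟨Subgroup.mul_mem _ hv (Subgroup.inv_mem _ hdv), Subgroup.mem_sup_right ?_⟩
      have : v * (d * v * d⁻¹)⁻¹ = s⁻¹ * (d * s * d⁻¹) := by
        calc v * (d * v * d⁻¹)⁻¹ = s⁻¹ * (s * v) * (d * v * d⁻¹)⁻¹ := by group
          _ = s⁻¹ * (d * s * d⁻¹ * (d * v * d⁻¹)) * (d * v * d⁻¹)⁻¹ := by rw [he]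
          _ = s⁻¹ * (d * s * d⁻¹) := by group
      rw [this]
      exact Subgroup.mul_mem _ (Subgroup.inv_mem _ hs) hds
    rw [hU'.compl.2.2.1, Subgroup.mem_bot, mul_inv_eq_one] at h1
    rw [← h1] at he
    exact ⟨mul_right_cancel he, h1.symm⟩
  obtain ⟨d, hd, hd1⟩ := (Subgroup.bot_or_exists_ne_one _).resolve_left c.pair.right.ne
  have hv1 : v = 1 := Subgroup.mem_bot.1 (((decomp_factor hG hN hU' c.pair.right.ne).regular d hd hd1).le
    ⟨hv, Subgroup.mem_centralizer_singleton_iff.2 (mul_inv_eq_iff_eq_mul.1 (hcomm d hd).2).symm⟩)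
  rw [hv1, mul_one]
  have hsK : s ∈ K := c.K_eq.le ⟨hs, Subgroup.mem_centralizer_iff.2 fun d hd =>
    mul_inv_eq_iff_eq_mul.1 (hcomm d hd).1⟩
  exact Subgroup.le_centralizer K hsK

/-- When `q ∉ τ₂(H)`, `K` is normal in `H ∩ M*`. -/
theorem normalizes_K (hq2 : q ∉ Cfsg.tau2 H) : H ⊓ N ≤ Subgroup.normalizer (K : Set G) := by
  have hG := c.minSimple
  haveI := Fact.mk c.prime
  have hr1 : Cfsg.PRankLE q 1 H := (rank_one_or_tau2 hG c.coatom c.prime c.not_sigma).resolve_right hq2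
  set O := Cfsg.pCoreOf q (H ⊓ N) with hO
  have hOp := FitOf.isPGroup_pCoreOf q (H ⊓ N)
  have hOE := FitOf.pCoreOf_le q (H ⊓ N)
  have hKO : K ≤ O := fun k hk => by
    obtain ⟨k', hkF, rfl⟩ := c.fitting hk
    refine ⟨k', NonNil.mem_pCore_of_nilpotent FittingCores.fitting_normal FittingCores.fitting_nilpotent hkF ?_, rfl⟩
    exact ((line_pgroup c.cardK).comap_subtype (K := H ⊓ N)).to_le (Subgroup.zpowers_le.2 hk)
  have hcyc := isCyclic_of_rank_one hG hr1 hOp (hOE.trans inf_le_left)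
  intro e he
  rw [Subgroup.mem_normalizer_iff_map_conj_eq]
  set K' := K.map (MulAut.conj e).toMonoidHom with hK'
  have hK'c : Nat.card K' = q := by rw [hK', Subgroup.card_map_of_injective (MulAut.conj e).injective, c.cardK]
  have hK'O : K' ≤ O := (Subgroup.map_mono hKO).trans
    (Subgroup.mem_normalizer_iff_map_conj_eq.1 (FitOf.le_normalizer_pCoreOf q (H ⊓ N) he)).le
  obtain ⟨w, hw, hw1⟩ := (Subgroup.bot_or_exists_ne_one _).resolve_left
    (inf_ne_bot_of_cyclic hcyc hOp hKO hK'O (line_ne_bot c.cardK) (line_ne_bot hK'c))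
  exact (Plane.zpowers_eq hK'c hw.2 hw1).symm.trans (Plane.zpowers_eq c.cardK hw.1 hw1)

/-- `τ₂(H) = ∅`. -/
theorem no_tau2 (t : ℕ) : t ∉ Cfsg.tau2 H := by
  intro ht
  have hG := c.minSimple
  have hH := c.coatom
  have hN := c.pair.right.coatom
  have hE := c.compl
  haveI := Fact.mk c.prime
  haveI := Fact.mk ht.1
  set E := H ⊓ N with hEdef
  have hEH : E ≤ H := inf_le_left
  have hEN : E ≤ N := inf_le_right
  have htσ : t ∉ Cfsg.sigma H := ht.2.1
  have hideal : ¬ Cfsg.IsIdealPrime t G := (S1408.result hG H hH t htσ ht.2.2.1 ht.2.2.2).1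
  obtain ⟨B, hBE, hBe, hB⟩ := TauTwo.exists_plane (p := t) hG hH hE ht
  obtain ⟨⟨hEB, -⟩, -, huniq⟩ := S1418.result hG H hH E hE t ht B ⟨hBE, hBe, hB⟩
  haveI := hBe.1
  have hS1 : Cfsg.sigmaCore H ≠ ⊥ := fun e =>
    (S1355.result hG H hH).1 (le_bot_iff.1 ((S1355.result hG H hH).2.1.trans e.le))
  obtain ⟨W, hWB, hWc, hWfix⟩ : ∃ W : Subgroup G, W ≤ B ∧ Nat.card W = t ∧
      Cfsg.sigmaCore H ⊓ Subgroup.centralizer (W : Set G) ≠ ⊥ := by
    by_contra hno
    push Not at hno
    refine hS1 ?_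
    rw [← CoprimeAct.generated_by_centralizers (Plane.not_isCyclic hBe hB)
      ((hBE.trans hEH).trans (le_normalizer_sigmaCore H))
      ((ComplBasics.coprime_card hG hH hE).coprime_dvd_left (Subgroup.card_dvd_of_le hBE)), ← le_bot_iff]
    refine iSup₂_le fun b hb => ?_
    rw [← hno (Subgroup.zpowers b) (Subgroup.zpowers_le.2 hb.1) (Plane.zpowers_card hBe hb.1 hb.2),
      Plane.centralizer_zpowers]
  obtain ⟨hCWH, -⟩ := huniq W hWB hWc hWfix
  -- `B ⊆ M*_σ`
  have htN : t ∈ Cfsg.sigma N := by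
    by_contra htN
    have htq : t ≠ q := fun e => htN (e ▸ c.q_sigma)
    have hτ : t ∈ Cfsg.tau2 N := (rank_one_or_tau2 hG hN ht.1 htN).resolve_left fun h1 =>
      Plane.not_isCyclic hBe hB (isCyclic_of_rank_one hG h1 (Plane.isPGroup hB) (hBE.trans hEN))
    obtain ⟨-, -, -, hbot, -⟩ := S1417.result hG N hN t hτ B ⟨hBE.trans hEN, hBe, hB⟩
    have hBF : B ≤ Cfsg.fittingOf E :=
      haveI := (Plane.isPGroup hB).isNilpotent
      FitOf.le_fittingOf hBE hEB
    have hcomm : K ≤ Subgroup.centralizer (B : Set G) := fun k hk => Subgroup.mem_centralizer_iff.2 fun b hb =>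
      (CN.commute_of_coprime (FitOf.fittingOf_nilpotent E) (hBF hb) (c.fitting hk)
        ((((Nat.coprime_primes ht.1 c.prime).2 htq).pow_left 2).coprime_dvd_left
          (hB ▸ Subgroup.orderOf_dvd_natCard _ hb) |>.coprime_dvd_right
          (c.cardK ▸ Subgroup.orderOf_dvd_natCard _ hk))).eq
    exact line_ne_bot c.cardK (le_bot_iff.1 ((le_inf c.K_sigma hcomm).trans hbot.le))
  have hBσ : B ≤ Cfsg.sigmaCore N := le_sigmaCore hG hN htN (Plane.isPGroup hB) (hBE.trans hEN)
  obtain ⟨U', hU'⟩ := c.exists_decomp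
  have hU'1 : U' = ⊥ := by
    by_contra hne
    exact hideal (FTI.beta_of_P2 hG hN hU' c.pair.right.ne hne ht.1
      ((hB ▸ dvd_pow_self t two_ne_zero).trans (Subgroup.card_dvd_of_le hBσ))).2
  by_cases hab : ∀ T : Sylow t G, IsMulCommutative (T : Subgroup G)
  · by_cases hnil : Group.IsNilpotent (Cfsg.sigmaCore N)
    · have hWS : Cfsg.sigmaCore N ≤ Subgroup.centralizer (W : Set G) :=
        nilpotent_le_centralizer hnil hab (line_pgroup hWc) (hWB.trans hBσ)
      have hSE : Cfsg.sigmaCore N ≤ E := le_inf (hWS.trans hCWH) (sigmaCore_le N)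
      haveI : IsMulCommutative (Cfsg.sigmaCore N) := ComplBasics.nilpotent_abelian hG hH (hSE.trans hEH) hnil
        fun r hr hd => not_dvd_complement hG hH hE hr (hd.trans (Subgroup.card_dvd_of_le hSE))
      have hc := decomp_compl hU'
      rw [hU'1, bot_sup_eq] at hc
      have h1 := (S1426.result hG N hN D hc).1
      rw [c.K_eq, Subgroup.commutator_eq_bot_iff_le_centralizer.2
        (Subgroup.le_centralizer (Cfsg.sigmaCore N))] at h1
      exact line_ne_bot c.cardK (le_bot_iff.1 h1)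
    · obtain ⟨q', Q, E₀, d⟩ := NonNil.exists_data hG hN hU' hnil
      have hqq : q' = q := by rw [← d.cardD, c.K_eq, c.cardK]
      subst hqq
      have hβ := NonNil.mem_beta hG hN hU' hnil d
      have htq : t ≠ q' := fun e => hideal (e ▸ hβ.2)
      have hq2 : q' ∉ Cfsg.tau2 H := fun h =>
        (S1408.result hG H hH q' h.2.1 h.2.2.1 h.2.2.2).1 hβ.2
      have hES : E₀ ≤ Cfsg.sigmaCore N := d.compl.2.1
      haveI := MinSimple.isSolvable hG (ne_top_of_le_ne_top hN.1 (sigmaCore_le N))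
      have hWS : W ≤ Cfsg.sigmaCore N := hWB.trans hBσ
      obtain ⟨⟨s, hs⟩, hle⟩ := HallSolv.hall_conj_le (G := Cfsg.sigmaCore N)
        (show Nat.card (Cfsg.sigmaCore N) = Nat.card E₀ * Nat.card Q by rw [← d.card_mul, mul_comm])
        (Twist.coprime_of_not_dvd d.prime d.pgroup d.not_dvd) (H := E₀.subgroupOf _) (K := W.subgroupOf _)
        (Nat.card_congr (Subgroup.subgroupOfEquivOfLe hES).toEquiv) (by
          rw [Nat.card_congr (Subgroup.subgroupOfEquivOfLe hWS).toEquiv, hWc]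
          obtain ⟨n, hn⟩ := IsPGroup.iff_card.1 d.pgroup
          rw [hn]
          exact ((Nat.coprime_primes ht.1 d.prime).2 htq).pow_right n)
      set E' := E₀.map (MulAut.conj s⁻¹).toMonoidHom with hE'
      have hsN : s ∈ N := sigmaCore_le N hs
      have hcompl : Cfsg.IsComplIn Q E' (Cfsg.sigmaCore N) := by
        have hQs : Q.map (MulAut.conj s⁻¹).toMonoidHom = Q :=
          Subgroup.mem_normalizer_iff_map_conj_eq.1 (d.normal (N.inv_mem hsN))
        refine ⟨d.Q_le, ?_, ?_, fun y hy => ?_⟩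
        · rintro _ ⟨e, he, rfl⟩
          exact Subgroup.mul_mem _ (Subgroup.mul_mem _ (Subgroup.inv_mem _ hs) (hES he))
            (Subgroup.inv_mem _ (Subgroup.inv_mem _ hs))
        · rw [← hQs, hE', ← Subgroup.map_inf_eq _ _ _ (MulAut.conj s⁻¹).injective, d.compl.2.2.1, Subgroup.map_bot]
        · obtain ⟨a, ha, e, he, hye⟩ := d.compl.2.2.2 (s * y * s⁻¹)
            (Subgroup.mul_mem _ (Subgroup.mul_mem _ hs hy) (Subgroup.inv_mem _ hs))
          refine ⟨s⁻¹ * a * s⁻¹⁻¹, hQs.le ⟨a, ha, rfl⟩, s⁻¹ * e * s⁻¹⁻¹, ⟨e, he, rfl⟩, ?_⟩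
          calc y = s⁻¹ * (s * y * s⁻¹) * s := by group
            _ = s⁻¹ * (a * e) * s := by rw [hye]
            _ = _ := by group
      obtain ⟨-, -, -, hE'nil, hfixeq⟩ := NonNil.compl_conj hG hN hU' hnil d hcompl
      have hWE' : W ≤ E' := fun w hw => ⟨s * w * s⁻¹,
        hle (Subgroup.smul_mem_pointwise_smul (⟨w, hWS hw⟩ : Cfsg.sigmaCore N)
          (MulAut.conj (⟨s, hs⟩ : Cfsg.sigmaCore N)) (W.subgroupOf _) hw), by simp [mul_assoc]⟩
      have hE'E : E' ≤ E := le_inf ((nilpotent_le_centralizer hE'nil hab (line_pgroup hWc) hWE').trans hCWH)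
        (hcompl.2.1.trans (sigmaCore_le N))
      have hE'K : E' ≤ Subgroup.centralizer (K : Set G) :=
        (le_inf (hcompl.2.1.trans (sigmaCore_le_derived hG hN hU')) (hE'E.trans (c.normalizes_K hq2))).trans
          c.derived_inf_normalizer
      have hKQ : K ≤ Q := c.K_eq ▸ d.D_le
      have hKC : K ≤ Subgroup.centralizer (E₀ : Set G) :=
        ((le_inf hKQ (Subgroup.le_centralizer_iff.1 hE'K)).trans hfixeq.le).trans inf_le_right
      have hDN : D ≤ N := hU'.hall.1
      have hdisj : E₀ ⊓ D = ⊥ := by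
        have hc := decomp_compl hU'
        rw [hU'1, bot_sup_eq] at hc
        rw [inf_comm, ← le_bot_iff]
        exact (inf_le_inf_left D hES).trans hc.2.2.1.le
      have h := Char.Wielandt.frobenius_formula E₀ D Q hdisj
        (fun e he v hv => (Subgroup.mem_normalizer_iff.1 (d.norm he) v).1 hv)
        (fun e he he1 v hv hev => by
          have hvK : v ∈ K := by
            rw [← c.K_eq, ← NonNil.prime_fix hG hN hU' hnil he he1]
            exact ⟨hES hv, Subgroup.mem_centralizer_singleton_iff.2 hev.symm⟩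
          exact Subgroup.mem_bot.1 (d.compl.2.2.1.le ⟨hKQ hvK, hv⟩))
        (fun x hx y hy => (Subgroup.mem_normalizer_iff.1
          (sup_le ((hES.trans (sigmaCore_le N)).trans d.normal) (hDN.trans d.normal) hx) y).1 hy)
        (MinSimple.isSolvable hG (ne_top_of_le_ne_top hN.1 (d.Q_le.trans (sigmaCore_le N))))
        (by
          obtain ⟨n, hn⟩ := IsPGroup.iff_card.1 d.pgroup
          rw [hn]
          refine (c.prime.coprime_iff_not_dvd.2 fun hd => ?_).pow_left n
          rcases c.prime.dvd_mul.1 (hd.trans (Dvd.intro _ (SolvBasic.card_sup_mul_card_inf d.norm))) with h1 | h1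
          · exact d.not_dvd h1
          · exact (hU'.hall.2.1 q' c.prime h1).2.2.1 c.q_sigma)
      have heq : Q ⊓ Subgroup.centralizer ((E₀ ⊔ D : Subgroup G) : Set G) = Q ⊓ Subgroup.centralizer (D : Set G) := by
        refine le_antisymm (inf_le_inf_left Q (Subgroup.centralizer_le (SetLike.coe_subset_coe.2 le_sup_right)))
          (le_inf inf_le_left (Subgroup.le_centralizer_iff.1 (sup_le (Subgroup.le_centralizer_iff.1 ?_)
            (Subgroup.le_centralizer_iff.1 inf_le_right))))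
        exact ((inf_le_inf_right _ d.Q_le).trans c.K_eq.le).trans hKC
      rw [heq] at h
      exact (NonNil.fixed_lt hG hN hU' hnil d).ne (Subgroup.eq_of_le_of_card_ge inf_le_left
        (Nat.eq_of_mul_eq_mul_left (pow_pos Nat.card_pos _) h).le)
  · -- a nonabelian Sylow subgroup makes `W` central on `H_σ`
    obtain ⟨T₀, hT₀⟩ := not_forall.1 hab
    have hS : ∀ T : Sylow t G, ¬ IsMulCommutative (T : Subgroup G) := fun T hT => hT₀ (by
      haveI := hT
      exact .of_setLike_mul_comm fun a ha b hb => congrArg (fun y : (T₀ : Subgroup G) => (y : G))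
        ((T₀.equiv T).injective (by rw [map_mul, map_mul]; exact mul_comm' _ _) :
          (⟨a, ha⟩ : (T₀ : Subgroup G)) * ⟨b, hb⟩ = ⟨b, hb⟩ * ⟨a, ha⟩))
    obtain ⟨-, ⟨-, -⟩, hothers⟩ := S1419.result hG H hH E hE t ht hS B ⟨hBE, hBe, hB⟩
    have hW0 : W = B ⊓ Subgroup.centralizer (Cfsg.sigmaCore H : Set G) := by
      by_contra hne
      exact hWfix (hothers W (hWB.trans hBE) hWc hne).1
    obtain ⟨u, hu, hu1, hCu⟩ := c.touched
    have hWu : W ≤ Subgroup.centralizer ({u} : Set G) :=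
      ((hW0.le.trans inf_le_right).trans (le_singleton (c.U_le hu)))
    have hWUK : W ≤ U ⊔ K := c.inter ▸ le_inf (hWu.trans hCu) (hWB.trans (hBE.trans hEH))
    have hM := c.pair.left.coatom
    have hK1 := c.pair.left.ne
    haveI : Group.IsSolvable (U ⊔ K : Subgroup G) :=
      MinSimple.isSolvable hG (ne_top_of_le_ne_top hM.1 (sup_le c.decomp.compl.1 c.decomp.hall.1))
    have htU : ¬ t ∣ Nat.card U := fun h => htσ (mem_sigma_of_dvd ht.1 (h.trans (Subgroup.card_dvd_of_le c.U_le)))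
    have hcard : Nat.card (U ⊔ K : Subgroup G) = Nat.card K * Nat.card U := by rw [decomp_card c.decomp, mul_comm]
    obtain ⟨⟨e, he⟩, hle⟩ := HallSolv.hall_conj_le (G := (U ⊔ K : Subgroup G)) hcard
      (Nat.coprime_of_dvd fun r hr h1 h2 => decomp_U_primes c.decomp hr h2 (c.decomp.hall.2.1 r hr h1))
      (H := K.subgroupOf _) (K := W.subgroupOf _) (Nat.card_congr (Subgroup.subgroupOfEquivOfLe le_sup_right).toEquiv)
      (by rw [Nat.card_congr (Subgroup.subgroupOfEquivOfLe hWUK).toEquiv, hWc]; exact ht.1.coprime_iff_not_dvd.2 htU)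
    obtain ⟨w, hw, hw1⟩ := Plane.exists_ne_one hWc
    have hwK : e * w * e⁻¹ ∈ K := hle (Subgroup.smul_mem_pointwise_smul (⟨w, hWUK hw⟩ : (U ⊔ K : Subgroup G))
      (MulAut.conj (⟨e, he⟩ : (U ⊔ K : Subgroup G))) (W.subgroupOf _) hw)
    have hUn : (U ⊔ K : Subgroup G) ≤ Subgroup.normalizer (U : Set G) := sup_le Subgroup.le_normalizer c.decomp.normal
    refine hu1 (conj_eq_one_iff.1 (Subgroup.mem_bot.1 (((decomp_factor hG hM c.decomp hK1).regular _ hwK
      (fun h => hw1 (conj_eq_one_iff.1 h))).le ⟨(Subgroup.mem_normalizer_iff.1 (hUn he) u).1 hu, ?_⟩)))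
    refine Subgroup.mem_centralizer_singleton_iff.2 ?_
    exact ((Commute.conj_iff e).2 (Subgroup.mem_centralizer_singleton_iff.1 (hWu hw))).eq.symm

/-- `H ∩ M*` acts regularly on `H_σ`. -/
theorem regular {E : Subgroup G} (hE : Cfsg.IsComplIn E (Cfsg.sigmaCore H) H) (r : ℕ) (Y : Subgroup G) (hr : r.Prime)
    (hYE : Y ≤ E) (hY : Nat.card Y = r) : Cfsg.sigmaCore H ⊓ Subgroup.centralizer (Y : Set G) = ⊥ := by
  haveI := Fact.mk hr
  have hσ := not_dvd_complement c.minSimple c.coatom hE hr (hY ▸ Subgroup.card_dvd_of_le hYE)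
  by_contra hfix
  exact Set.eq_empty_iff_forall_notMem.1 c.kappa r (kappa_of_line c.minSimple hσ
    ((rank_one_or_tau2 c.minSimple c.coatom hr hσ).resolve_right (c.no_tau2 r)) hY (hYE.trans hE.1) hfix)

/-- Elements of prime power order centralize the normal lines of `H ∩ M*` in `(M*)'`. -/
theorem centralizes_line {u : ℕ} [hu : Fact u.Prime] {Z₀ : Subgroup G} (hZ : Nat.card Z₀ = u)
    (hZE : Z₀ ≤ ⁅H ⊓ N, H ⊓ N⁆) (hn : H ⊓ N ≤ Subgroup.normalizer (Z₀ : Set G))
    {g : G} (hg : g ∈ H ⊓ N) {w : ℕ} [hw : Fact w.Prime] (hgw : IsPGroup w (Subgroup.zpowers g)) :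
    g ∈ Subgroup.centralizer (Z₀ : Set G) := by
  by_contra hnc
  have hG := c.minSimple
  have hH := c.coatom
  have hN := c.pair.right.coatom
  have hE := c.compl
  haveI := Fact.mk c.prime
  set E := H ⊓ N with hEdef
  have hEH : E ≤ H := inf_le_left
  have hEN : E ≤ N := inf_le_right
  have hreg := c.regular hE
  have hZ' : Z₀ ≤ E := hZE.trans (Subgroup.le_normalizer_iff_commutator_le_left.1 Subgroup.le_normalizer)
  have hKn : E ≤ Subgroup.normalizer (K : Set G) := c.normalizes_K (c.no_tau2 q)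
  set V := Subgroup.zpowers g with hV
  have hVE : V ≤ E := Subgroup.zpowers_le.2 hg
  have hgV : g ∈ V := Subgroup.mem_zpowers g
  have huσH := not_dvd_complement hG hH hE hu.out (hZ ▸ Subgroup.card_dvd_of_le hZ')
  have huw : u ≠ w := by
    intro e
    subst e
    have hp : IsPGroup u (Z₀ ⊔ V : Subgroup G) := (line_pgroup hZ).to_sup_of_normal_left' hgw (hVE.trans hn)
    haveI := isCyclic_of_rank_one hG ((rank_one_or_tau2 hG hH hu.out huσH).resolve_right (c.no_tau2 u)) hp
      ((sup_le hZ' hVE).trans hEH)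
    exact hnc (Subgroup.mem_centralizer_iff.2 fun z hz => congrArg Subtype.val
      (mul_comm' (⟨z, Subgroup.mem_sup_left hz⟩ : (Z₀ ⊔ V : Subgroup G)) ⟨g, Subgroup.mem_sup_right hgV⟩))
  obtain ⟨z, hz, hz1⟩ := Plane.exists_ne_one hZ
  have hzg : ⁅z, g⁆ ∈ Z₀ := by
    rw [commutatorElement_def, mul_assoc, mul_assoc]
    exact Z₀.mul_mem hz (by
      rw [← mul_assoc]
      exact (Subgroup.mem_normalizer_iff.1 (hn hg) _).1 (Z₀.inv_mem hz))
  have hzg1 : ⁅z, g⁆ ≠ 1 := fun e => hnc (Subgroup.mem_centralizer_iff.2 fun y hy => by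
    rw [← Plane.zpowers_eq hZ hz hz1] at hy
    obtain ⟨i, rfl⟩ := Subgroup.mem_zpowers_iff.1 hy
    exact ((commutatorElement_eq_one_iff_commute.1 e).zpow_left i).eq)
  have hg1 : g ≠ 1 := fun e => hzg1 (by rw [e, commutatorElement_one_right])
  obtain ⟨n, hn'⟩ := IsPGroup.iff_card.1 hgw
  have hwd : w ∣ Nat.card V := hn' ▸ dvd_pow_self w fun e => hg1 (by
    have hV1 : V = ⊥ := Subgroup.card_eq_one.1 (by rw [hn', e, pow_zero])
    exact Subgroup.mem_bot.1 (hV1.le hgV))
  obtain ⟨W, hWV, hW⟩ := exists_line_of_dvd hw.out hwd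
  have hWE : W ≤ E := hWV.trans hVE
  have hWZ : Z₀ ≤ Subgroup.centralizer (W : Set G) :=
    lines_commute (Ne.symm huw) hG hH hE hreg hW hWE hZ hZ' (hWE.trans hn)
  have hZN : Z₀ ≤ ⁅N, N⁆ := hZE.trans (Subgroup.commutator_mono hEN hEN)
  have huκ : u ∉ Cfsg.kappa N := c.not_kappa_derived hu.out (hZ ▸ Subgroup.card_dvd_of_le hZN)
  have hZeqK : u = q → Z₀ = K := fun e => by
    subst e
    have hr1 := (rank_one_or_tau2 hG hH hu.out huσH).resolve_right (c.no_tau2 u)
    have hp : IsPGroup u (Z₀ ⊔ K : Subgroup G) :=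
      (line_pgroup hZ).to_sup_of_normal_left' (line_pgroup c.cardK) (c.K_le.trans hn)
    obtain ⟨x, hx, hx1⟩ := (Subgroup.bot_or_exists_ne_one _).resolve_left
      (inf_ne_bot_of_cyclic (isCyclic_of_rank_one hG hr1 hp ((sup_le hZ' c.K_le).trans hEH)) hp
        le_sup_left le_sup_right (line_ne_bot hZ) (line_ne_bot c.cardK))
    exact (Plane.zpowers_eq hZ hx.1 hx1).symm.trans (Plane.zpowers_eq c.cardK hx.2 hx1)
  obtain ⟨U', hU'⟩ := c.exists_decomp
  have hprimesV : ∀ r : ℕ, r.Prime → r ∣ Nat.card V → r = w := fun r hr hd =>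
    (Nat.prime_dvd_prime_iff_eq hr hw.out).1 (hr.dvd_of_dvd_pow (hn' ▸ hd))
  by_cases hwσ : w ∈ Cfsg.sigma N
  · -- `g ∈ M*_σ`
    have hgS : g ∈ Cfsg.sigmaCore N := le_sigmaCore hG hN hwσ hgw (Subgroup.zpowers_le.2 (hEN hg)) hgV
    have hcs : ⁅z, g⁆ ∈ Cfsg.sigmaCore N := by
      rw [commutatorElement_def]
      exact Subgroup.mul_mem _ ((Subgroup.mem_normalizer_iff.1 (le_normalizer_sigmaCore N (hEN (hZ' hz))) g).1 hgS)
        (Subgroup.inv_mem _ hgS)
    have hZS : Z₀ ≤ Cfsg.sigmaCore N := by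
      rw [← Plane.zpowers_eq hZ hzg hzg1]
      exact Subgroup.zpowers_le.2 hcs
    have hcopzg : (orderOf z).Coprime (orderOf g) :=
      (((Nat.coprime_primes hu.out hw.out).2 huw).pow_right n).coprime_dvd_left
        (hZ ▸ Subgroup.orderOf_dvd_natCard _ hz) |>.coprime_dvd_right
        (hn' ▸ Subgroup.orderOf_dvd_natCard _ hgV)
    by_cases hnil : Group.IsNilpotent (Cfsg.sigmaCore N)
    · exact hzg1 (commutatorElement_eq_one_iff_commute.2 (CN.commute_of_coprime hnil (hZS hz) hgS hcopzg))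
    obtain ⟨q', Q, E₀, d⟩ := NonNil.exists_data hG hN hU' hnil
    have hqq : q' = q := by rw [← d.cardD, c.K_eq, c.cardK]
    by_cases huq : u = q
    · refine hnc ?_
      rw [hZeqK huq]
      exact c.derived_inf_normalizer ⟨sigmaCore_le_derived hG hN hU' hgS, hKn hg⟩
    · set S := Cfsg.sigmaCore N with hS
      haveI : (Q.subgroupOf S).Normal :=
        Subgroup.normal_subgroupOf_of_le_normalizer ((sigmaCore_le N).trans d.normal)
      let f : E₀ →* S ⧸ Q.subgroupOf S :=
        (QuotientGroup.mk' (Q.subgroupOf S)).comp (Subgroup.inclusion d.compl.2.1)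
      have hf : Function.Surjective f := by
        intro y
        obtain ⟨⟨y, hy⟩, rfl⟩ := QuotientGroup.mk'_surjective _ y
        obtain ⟨a, ha, e, he, hye⟩ := d.compl.2.2.2 y hy
        refine ⟨⟨e, he⟩, ?_⟩
        show QuotientGroup.mk' (Q.subgroupOf S) ⟨e, d.compl.2.1 he⟩ = _
        rw [QuotientGroup.mk'_eq_mk']
        refine ⟨⟨e⁻¹ * a * e, ?_⟩, ?_, Subtype.ext ?_⟩
        · exact S.mul_mem (S.mul_mem (S.inv_mem (d.compl.2.1 he)) (d.Q_le ha)) (d.compl.2.1 he)
        · show e⁻¹ * a * e ∈ Q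
          have := (Subgroup.mem_normalizer_iff.1 (d.normal (N.inv_mem (sigmaCore_le N (d.compl.2.1 he)))) a).1 ha
          rwa [inv_inv] at this
        · show e * (e⁻¹ * a * e) = y
          rw [hye]; group
      haveI := d.nilpotent
      haveI := Group.nilpotent_of_surjective f hf
      set π := QuotientGroup.mk' (Q.subgroupOf S) with hπ
      have hπc : Commute (π ⟨z, hZS hz⟩) (π ⟨g, hgS⟩) := by
        have hz' : orderOf (⟨z, hZS hz⟩ : S) = orderOf z := Subgroup.orderOf_mk _ _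
        have hg' : orderOf (⟨g, hgS⟩ : S) = orderOf g := Subgroup.orderOf_mk _ _
        exact CN.commute_of_coprime (K := ⊤) (Group.nilpotent_of_mulEquiv Subgroup.topEquiv.symm)
          (Subgroup.mem_top _) (Subgroup.mem_top _)
          ((hcopzg.coprime_dvd_left ((orderOf_map_dvd π _).trans hz'.dvd)).coprime_dvd_right
            ((orderOf_map_dvd π _).trans hg'.dvd))
      have hmem : (⁅(⟨z, hZS hz⟩ : S), ⟨g, hgS⟩⁆ : S) ∈ Q.subgroupOf S := by
        rw [← QuotientGroup.eq_one_iff]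
        show π _ = 1
        rw [map_commutatorElement]
        exact commutatorElement_eq_one_iff_commute.2 hπc
      haveI := Fact.mk d.prime
      have hQZ : Q ⊓ Z₀ = ⊥ := Subgroup.inf_eq_bot_of_coprime (by
        obtain ⟨m, hm⟩ := IsPGroup.iff_card.1 d.pgroup
        rw [hm, hZ]
        exact ((Nat.coprime_primes d.prime hu.out).2 (hqq.symm ▸ Ne.symm huq)).pow_left m)
      exact hzg1 (Subgroup.mem_bot.1 (hQZ.le ⟨hmem, hzg⟩))
  by_cases hwκ : w ∈ Cfsg.kappa N
  · -- `g` lies in a Hall `κ(M*)`-subgroup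
    haveI := MinSimple.isSolvable hG hN.1
    by_cases huσ : u ∈ Cfsg.sigma N
    · obtain ⟨K₁, hK₁, hVK⟩ := exists_piHall (X := N) (W := V) (Cfsg.kappa N) (Subgroup.zpowers_le.2 (hEN hg))
        fun r hr hd => hprimesV r hr hd ▸ hwκ
      have hK₁1 : K₁ ≠ ⊥ := fun e => hg1 (Subgroup.mem_bot.1 (e.le (hVK hgV)))
      obtain ⟨E₁, hE₁, hKE₁⟩ := exists_compl_ge hG hN hK₁
      obtain ⟨U₁, F⟩ := exists_factor hG hN hE₁ hKE₁ hK₁ hK₁1
      obtain ⟨v, hv, hv1⟩ := Plane.exists_ne_one hW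
      have hzv : z ∈ Cfsg.sigmaCore N ⊓ Subgroup.centralizer ({v} : Set G) :=
        ⟨le_sigmaCore hG hN huσ (line_pgroup hZ) (hZ'.trans hEN) hz, le_singleton hv (hWZ hz)⟩
      rw [F.prime v (hVK (hWV hv)) hv1] at hzv
      exact hzg1 (commutatorElement_eq_one_iff_mul_comm.2
        (Subgroup.mem_centralizer_iff.1 hzv.2 g (hVK hgV)).symm)
    · have hE₂ := decomp_compl hU'
      have hWn : W ≤ Subgroup.normalizer (Z₀ : Set G) := hWE.trans hn
      obtain ⟨a, ha, hle⟩ := ComplBasics.exists_conj_le hG hN hE₂ (sup_le (hZ'.trans hEN) (hWE.trans hEN))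
        (ComplBasics.coprime_sigmaCore_of_not_sigma (X := Z₀ ⊔ W) fun r hr hd hrσ => by
          rcases hr.dvd_mul.1 (hd.trans (Dvd.intro _ (SolvBasic.card_sup_mul_card_inf hWn))) with h | h
          · exact huσ ((Nat.prime_dvd_prime_iff_eq hr hu.out).1 (hZ ▸ h) ▸ hrσ)
          · exact hwσ ((Nat.prime_dvd_prime_iff_eq hr hw.out).1 (hW ▸ h) ▸ hrσ))
      haveI : Group.IsSolvable (U' ⊔ D : Subgroup G) :=
        MinSimple.isSolvable hG (ne_top_of_le_ne_top hN.1 hE₂.1)
      obtain ⟨v, hv, hv1⟩ := Plane.exists_ne_one hW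
      have hva : a * v * a⁻¹ ∈ (U' ⊔ D : Subgroup G) := hle ⟨v, Subgroup.mem_sup_right hv, rfl⟩
      have hza : a * z * a⁻¹ ∈ (U' ⊔ D : Subgroup G) := hle ⟨z, Subgroup.mem_sup_left hz, rfl⟩
      have hvo : orderOf (a * v * a⁻¹) = w := by
        rw [← MulAut.conj_apply, MulEquiv.orderOf_eq, ← Nat.card_zpowers, Plane.zpowers_eq hW hv hv1, hW]
      have hzo : orderOf (a * z * a⁻¹) = u := by
        rw [← MulAut.conj_apply, MulEquiv.orderOf_eq, ← Nat.card_zpowers, Plane.zpowers_eq hZ hz hz1, hZ]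
      have hDidx : U'.relIndex (U' ⊔ D) = Nat.card D := by
        have h1 := Subgroup.relIndex_mul_relIndex ⊥ U' (U' ⊔ D) bot_le le_sup_left
        rw [Subgroup.relIndex_bot_left, Subgroup.relIndex_bot_left, decomp_card hU'] at h1
        exact Nat.eq_of_mul_eq_mul_left Nat.card_pos h1
      have hzU : a * z * a⁻¹ ∈ U' := by
        haveI : (U'.subgroupOf (U' ⊔ D)).Normal :=
          Subgroup.normal_subgroupOf_of_le_normalizer (sup_le Subgroup.le_normalizer hU'.normal)
        refine Subgroup.mem_subgroupOf.1 (Exceptional.le_of_coprime_index (N := U'.subgroupOf (U' ⊔ D))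
          (X := Subgroup.zpowers ⟨_, hza⟩) ?_ (Subgroup.mem_zpowers (⟨_, hza⟩ : (U' ⊔ D : Subgroup G))))
        rw [Nat.card_zpowers, Subgroup.orderOf_mk, hzo]
        show u.Coprime (U'.relIndex (U' ⊔ D))
        rw [hDidx]
        exact hu.out.coprime_iff_not_dvd.2 fun h => huκ (hU'.hall.2.1 u hu.out h)
      obtain ⟨⟨e, he⟩, hle'⟩ := HallSolv.hall_conj_le (G := (U' ⊔ D : Subgroup G))
        (show Nat.card (U' ⊔ D : Subgroup G) = Nat.card D * Nat.card U' by rw [decomp_card hU', mul_comm])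
        (Nat.coprime_of_dvd fun r hr h1 h2 => decomp_U_primes hU' hr h2 (hU'.hall.2.1 r hr h1))
        (H := D.subgroupOf _) (K := Subgroup.zpowers ⟨_, hva⟩)
        (Nat.card_congr (Subgroup.subgroupOfEquivOfLe le_sup_right).toEquiv)
        (by
          rw [Nat.card_zpowers, Subgroup.orderOf_mk, hvo]
          exact hw.out.coprime_iff_not_dvd.2 fun h => decomp_U_primes hU' hw.out h hwκ)
      have hvD : e * (a * v * a⁻¹) * e⁻¹ ∈ D := hle' (Subgroup.smul_mem_pointwise_smul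
        (⟨_, hva⟩ : (U' ⊔ D : Subgroup G)) (MulAut.conj (⟨e, he⟩ : (U' ⊔ D : Subgroup G))) _ (Subgroup.mem_zpowers _))
      refine hz1 (conj_eq_one_iff.1 (conj_eq_one_iff.1 (Subgroup.mem_bot.1
        (((decomp_factor hG hN hU' c.pair.right.ne).regular _ hvD
          (fun h => hv1 (conj_eq_one_iff.1 (conj_eq_one_iff.1 h)))).le
          ⟨(Subgroup.mem_normalizer_iff.1 ((sup_le Subgroup.le_normalizer hU'.normal : (U' ⊔ D : Subgroup G) ≤ _) he) _).1
            hzU, ?_⟩))))
      refine Subgroup.mem_centralizer_singleton_iff.2 ?_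
      exact ((Commute.conj_iff e).2 ((Commute.conj_iff a).2
        (Subgroup.mem_centralizer_iff.1 (hWZ hz) v hv).symm)).eq
  -- `g ∈ (M*)'`
  have hgN : g ∈ ⁅N, N⁆ := by
    haveI : ((⁅N, N⁆).subgroupOf N).Normal :=
      Subgroup.normal_subgroupOf_of_le_normalizer (Subgroup.normalizer_commutator_ge_left N N)
    refine Subgroup.mem_subgroupOf.1 (Exceptional.le_of_coprime_index (N := (⁅N, N⁆).subgroupOf N)
      (X := Subgroup.zpowers ⟨g, hEN hg⟩) ?_ (Subgroup.mem_zpowers (⟨g, hEN hg⟩ : N)))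
    rw [Nat.card_zpowers, Subgroup.orderOf_mk, ← Nat.card_zpowers, hn']
    refine (hw.out.coprime_iff_not_dvd.2 fun h => hwκ ?_).pow_left n
    have h' : w ∣ (⁅N, N⁆).relIndex N := h
    have hDle : D ≤ N := hU'.hall.1
    rw [derived_eq hG hN hU' c.pair.right.ne] at h'
    have hd : w ∣ Nat.card D := by
      have h1 := Subgroup.relIndex_mul_relIndex ⊥ (U' ⊔ Cfsg.sigmaCore N) N bot_le
        (sup_le hU'.compl.1 (sigmaCore_le N))
      rw [Subgroup.relIndex_bot_left, Subgroup.relIndex_bot_left, Compl.card_eq (decomp_compl hU'),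
        decomp_card hU'] at h1
      have h2 : Nat.card (Cfsg.sigmaCore N ⊔ U' : Subgroup G) = Nat.card (Cfsg.sigmaCore N) * Nat.card U' := by
        have := SolvBasic.card_sup_mul_card_inf (hU'.compl.1.trans (le_normalizer_sigmaCore N))
        rwa [show Cfsg.sigmaCore N ⊓ U' = ⊥ from le_bot_iff.1
          ((le_inf inf_le_right (inf_le_left.trans le_sup_right)).trans hU'.compl.2.2.1.le), Subgroup.card_bot,
          mul_one] at this
      rw [sup_comm] at h' h1
      rw [h2, show Nat.card U' * Nat.card D * Nat.card (Cfsg.sigmaCore N) =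
        Nat.card (Cfsg.sigmaCore N) * Nat.card U' * Nat.card D by ring] at h1
      exact Nat.eq_of_mul_eq_mul_left (Nat.mul_pos Nat.card_pos Nat.card_pos) h1 ▸ h'
    exact hU'.hall.2.1 w hw.out hd
  have hcentK : g ∈ Subgroup.centralizer (K : Set G) := c.derived_inf_normalizer ⟨hgN, hKn hg⟩
  by_cases huσ : u ∈ Cfsg.sigma N
  · by_cases huq : u = q
    · exact hnc (hZeqK huq ▸ hcentK)
    have hwq : w ≠ q := fun e => hwσ (e ▸ c.q_sigma)
    have hWK : W ≤ Subgroup.centralizer (K : Set G) := hWV.trans (Subgroup.zpowers_le.2 hcentK)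
    have hWN : W ≤ N := hWE.trans hEN
    have hZS : Z₀ ≤ Cfsg.sigmaCore N := le_sigmaCore hG hN huσ (line_pgroup hZ) (hZ'.trans hEN)
    -- a complement containing `D` and a conjugate of `W` in `C(K)`
    set C := N ⊓ Subgroup.centralizer (K : Set G) with hC
    haveI : Group.IsSolvable C := MinSimple.isSolvable hG (ne_top_of_le_ne_top hN.1 inf_le_left)
    have hDC : D ≤ C := le_inf hU'.hall.1 (Subgroup.le_centralizer_iff.1 c.pair.commutes)
    obtain ⟨F₀, hF₀, hDF⟩ := exists_piHall (X := C) (W := D) {r | r ∉ Cfsg.sigma N} hDC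
      fun r hr hd => (hU'.hall.2.1 r hr hd).2.2.1
    have hcardC : Nat.card C = Nat.card F₀ * F₀.relIndex C := by
      have := Subgroup.relIndex_mul_relIndex ⊥ F₀ C bot_le hF₀.1
      rw [Subgroup.relIndex_bot_left, Subgroup.relIndex_bot_left] at this
      exact this.symm
    obtain ⟨⟨b, hb⟩, hle⟩ := HallSolv.hall_conj_le (G := C) hcardC
      (Nat.coprime_of_dvd fun r hr h1 h2 => hF₀.2.2 r hr (hF₀.2.1 r hr h1) h2)
      (H := F₀.subgroupOf C) (K := W.subgroupOf C) (Nat.card_congr (Subgroup.subgroupOfEquivOfLe hF₀.1).toEquiv)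
      (by
        rw [Nat.card_congr (Subgroup.subgroupOfEquivOfLe (le_inf hWN hWK : W ≤ C)).toEquiv, hW]
        exact hw.out.coprime_iff_not_dvd.2 fun h => hF₀.2.2 w hw.out hwσ h)
    set W' := W.map (MulAut.conj b).toMonoidHom with hW'
    set Z' := Z₀.map (MulAut.conj b).toMonoidHom with hZ'def
    have hW'c : Nat.card W' = w := by rw [hW', Subgroup.card_map_of_injective (MulAut.conj b).injective, hW]
    have hW'F : W' ≤ F₀ := by
      rintro _ ⟨y, hy, rfl⟩
      exact hle (Subgroup.smul_mem_pointwise_smul (⟨y, ⟨hWN hy, hWK hy⟩⟩ : C) (MulAut.conj (⟨b, hb⟩ : C))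
        (W.subgroupOf C) hy)
    obtain ⟨E₁, hE₁, hFE⟩ := ComplBasics.exists_complement_containing hG hN (hF₀.1.trans inf_le_left)
      (ComplBasics.coprime_sigmaCore_of_not_sigma fun r hr hd => hF₀.2.1 r hr hd)
    have hDE₁ : D ≤ E₁ := hDF.trans hFE
    obtain ⟨U₁, F⟩ := exists_factor hG hN hE₁ hDE₁ hU'.hall c.pair.right.ne
    have hW'E : W' ≤ E₁ := hW'F.trans hFE
    have hW'K : W' ≤ Subgroup.centralizer (K : Set G) := hW'F.trans (hF₀.1.trans inf_le_right)
    have hτ : w ∈ Cfsg.tau2 N := (rank_one_or_tau2 hG hN hw.out hwσ).resolve_left fun h1 => hwκ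
      (kappa_of_line hG hwσ h1 hW'c (hW'E.trans hE₁.1) fun e => line_ne_bot c.cardK
        (le_bot_iff.1 ((le_inf c.K_sigma (Subgroup.le_centralizer_iff.1 hW'K)).trans e.le)))
    obtain ⟨B, hBE, hBe, hB⟩ := TauTwo.exists_plane (p := w) hG hN hE₁ hτ
    obtain ⟨⟨hE₁B, hlines⟩, -, -⟩ := S1418.result hG N hN E₁ hE₁ w hτ B ⟨hBE, hBe, hB⟩
    obtain ⟨-, -, -, hbot, -⟩ := S1417.result hG N hN w hτ B ⟨hBE.trans hE₁.1, hBe, hB⟩
    haveI := hBe.1
    have hW'B : W' ≤ B := hlines W' hW'E hW'c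
    have hBC : B ⊓ Subgroup.centralizer (K : Set G) = W' := by
      refine (Subgroup.eq_of_le_of_card_ge (le_inf hW'B hW'K) ?_).symm
      obtain ⟨i, hi, hcard⟩ := (Nat.dvd_prime_pow hw.out).1
        (hB ▸ Subgroup.card_dvd_of_le (inf_le_left : B ⊓ Subgroup.centralizer (K : Set G) ≤ B))
      rcases Nat.lt_or_ge i 2 with hi2 | hi2
      · rw [hcard, hW'c]
        calc w ^ i ≤ w ^ 1 := Nat.pow_le_pow_right hw.out.pos (by omega)
          _ = w := pow_one w
      · exfalso
        have heq : B ⊓ Subgroup.centralizer (K : Set G) = B := Subgroup.eq_of_le_of_card_ge inf_le_left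
          (by rw [hB, hcard]; exact Nat.pow_le_pow_right hw.out.pos hi2)
        exact line_ne_bot c.cardK (le_bot_iff.1 ((le_inf c.K_sigma
          (Subgroup.le_centralizer_iff.1 (heq.ge.trans inf_le_right))).trans hbot.le))
    have hDB : D ≤ Subgroup.normalizer (B : Set G) := hDE₁.trans hE₁B
    have hDW : D ≤ Subgroup.normalizer (W' : Set G) := by
      rw [← hBC]
      exact FitOf.le_normalizer_inf hDB
        ((hDC.trans inf_le_right).trans Subgroup.le_normalizer)
    have hBN : B ≤ N := hBE.trans hE₁.1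
    set S := Cfsg.sigmaCore N ⊓ Subgroup.centralizer (W' : Set G) with hS
    have hBW : B ≤ Subgroup.centralizer (W' : Set G) :=
      (Subgroup.le_centralizer B).trans (Subgroup.centralizer_le hW'B)
    have hnorm : B ⊔ D ≤ Subgroup.normalizer (S : Set G) := FitOf.le_normalizer_inf
      ((sup_le hBN hU'.hall.1).trans (le_normalizer_sigmaCore N))
      ((sup_le (hBW.trans (Subgroup.centralizer_le_normalizer _)) hDW).trans
        (FitOf.normalizer_le_normalizer_centralizer _))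
    have hwD : ¬ w ∣ Nat.card D := fun h => hwκ (hU'.hall.2.1 w hw.out h)
    have hBU : B ≤ U₁ := by
      intro b' hb'
      haveI : (U₁.subgroupOf E₁).Normal := Subgroup.normal_subgroupOf_of_le_normalizer F.norm
      refine Subgroup.mem_subgroupOf.1 (Exceptional.le_of_coprime_index (N := U₁.subgroupOf E₁) (X := B.subgroupOf E₁)
        ?_ (show (⟨b', hBE hb'⟩ : E₁) ∈ B.subgroupOf E₁ from hb'))
      rw [Nat.card_congr (Subgroup.subgroupOfEquivOfLe hBE).toEquiv, hB]
      refine ((hw.out.coprime_iff_not_dvd).2 fun h => hwD ?_).pow_left 2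
      have hsup : U₁ ⊔ D = E₁ := le_antisymm (sup_le F.U_le hDE₁) fun e he => by
        obtain ⟨v, hv, k, hk, rfl⟩ := F.sup e he
        exact Subgroup.mul_mem _ (Subgroup.mem_sup_left hv) (Subgroup.mem_sup_right hk)
      have h1 := Subgroup.relIndex_mul_relIndex ⊥ U₁ E₁ bot_le F.U_le
      rw [Subgroup.relIndex_bot_left, Subgroup.relIndex_bot_left] at h1
      have h2 := SolvBasic.card_sup_mul_card_inf (hDE₁.trans F.norm)
      rw [hsup, ← h1, mul_assoc] at h2
      exact (show w ∣ U₁.relIndex E₁ from h).trans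
        (Dvd.intro _ (Nat.eq_of_mul_eq_mul_left Nat.card_pos h2))
    have hwS : ¬ w ∣ Nat.card S := fun h => hwσ (mem_sigma_of_dvd hw.out (h.trans (Subgroup.card_dvd_of_le inf_le_left)))
    have hform := Char.Wielandt.frobenius_formula B D S
      (Subgroup.inf_eq_bot_of_coprime (hB ▸ (hw.out.coprime_iff_not_dvd.2 hwD).pow_left 2))
      (fun e he v hv => (Subgroup.mem_normalizer_iff.1 (hDB he) v).1 hv)
      (fun e he he1 v hv hev => Subgroup.mem_bot.1 ((F.regular e he he1).le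
        ⟨hBU hv, Subgroup.mem_centralizer_singleton_iff.2 hev.symm⟩))
      (fun x hx y hy => (Subgroup.mem_normalizer_iff.1 (hnorm hx) y).1 hy)
      (MinSimple.isSolvable hG (ne_top_of_le_ne_top hN.1 (inf_le_left.trans (sigmaCore_le N))))
      (Nat.coprime_of_dvd fun r hr h1 h2 => by
        rcases hr.dvd_mul.1 (h2.trans (Dvd.intro _ (SolvBasic.card_sup_mul_card_inf hDB))) with h | h
        · have : r = w := (Nat.prime_dvd_prime_iff_eq hr hw.out).1 (hr.dvd_of_dvd_pow (hB ▸ h))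
          exact hwS (this ▸ h1)
        · exact (hU'.hall.2.1 r hr h).2.2.1 (mem_sigma_of_dvd hr (h1.trans (Subgroup.card_dvd_of_le inf_le_left))))
    have hSB : S ⊓ Subgroup.centralizer (B : Set G) = ⊥ :=
      le_bot_iff.1 ((inf_le_inf_right _ inf_le_left).trans hbot.le)
    have hSBD : S ⊓ Subgroup.centralizer ((B ⊔ D : Subgroup G) : Set G) = ⊥ :=
      le_bot_iff.1 ((inf_le_inf_left S (Subgroup.centralizer_le (SetLike.coe_subset_coe.2 le_sup_left))).trans hSB.le)
    rw [hSBD, hSB, Subgroup.card_bot, one_pow, one_mul, mul_one] at hform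
    have hZS' : Z' ≤ S := by
      rintro _ ⟨y, hy, rfl⟩
      refine ⟨(Subgroup.mem_normalizer_iff.1 (le_normalizer_sigmaCore N hb.1) y).1 (hZS hy),
        Subgroup.mem_centralizer_iff.2 ?_⟩
      rintro _ ⟨v, hv, rfl⟩
      rw [← map_mul, ← map_mul, Subgroup.mem_centralizer_iff.1 (hWZ hy) v hv]
    have hud : u ∣ q ^ Nat.card D := by
      have hZc : Nat.card Z' = u := by rw [hZ'def, Subgroup.card_map_of_injective (MulAut.conj b).injective, hZ]
      have h1 : u ∣ Nat.card S := hZc ▸ Subgroup.card_dvd_of_le hZS'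
      rw [hform] at h1
      refine h1.trans (pow_dvd_pow_of_dvd ?_ _)
      rw [← c.cardK]
      exact Subgroup.card_dvd_of_le ((inf_le_inf_right _ inf_le_left).trans c.K_eq.le)
    exact huq ((Nat.prime_dvd_prime_iff_eq hu.out c.prime).1 (hu.out.dvd_of_dvd_pow hud))
  · -- both in `(M*)'`, modulo `M*_σ` abelian
    rw [derived_eq hG hN hU' c.pair.right.ne, sup_comm] at hgN
    have hz' := hZN hz
    rw [derived_eq hG hN hU' c.pair.right.ne, sup_comm] at hz'
    have hn₁ := hU'.compl.1.trans (le_normalizer_sigmaCore N)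
    obtain ⟨s, hs, v, hv, rfl⟩ := (SolvBasic.mem_sup_iff_of_le_normalizer hn₁).1 hgN
    obtain ⟨s', hs', v', hv', rfl⟩ := (SolvBasic.mem_sup_iff_of_le_normalizer hn₁).1 hz'
    haveI := (decomp_factor hG hN hU' c.pair.right.ne).comm
    have hcomm : v' * v = v * v' := congrArg Subtype.val (mul_comm' (⟨v', hv'⟩ : U') ⟨v, hv⟩)
    have hn2 : ∀ y ∈ U', ∀ x ∈ Cfsg.sigmaCore N, y * x * y⁻¹ ∈ Cfsg.sigmaCore N := fun y hy x hx =>
      (Subgroup.mem_normalizer_iff.1 (hn₁ hy) x).1 hx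
    have hmem : ⁅s' * v', s * v⁆ ∈ Cfsg.sigmaCore N := by
      have he : ⁅s' * v', s * v⁆ = s' * (v' * s * v'⁻¹) * ((v' * v * v'⁻¹ * v⁻¹)) * (v * s'⁻¹ * v⁻¹) * s⁻¹ := by
        rw [show v' * v * v'⁻¹ * v⁻¹ = 1 by rw [hcomm]; group, commutatorElement_def]
        calc s' * v' * (s * v) * (s' * v')⁻¹ * (s * v)⁻¹
            = s' * (v' * s * v'⁻¹) * (v' * v * v'⁻¹ * v⁻¹) * (v * s'⁻¹ * v⁻¹) * s⁻¹ := by group
          _ = _ := by rw [show v' * v * v'⁻¹ * v⁻¹ = 1 by rw [hcomm]; group]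
      rw [he, show v' * v * v'⁻¹ * v⁻¹ = 1 by rw [hcomm]; group, mul_one]
      exact Subgroup.mul_mem _ (Subgroup.mul_mem _ (Subgroup.mul_mem _ hs' (hn2 v' hv' s hs))
        (hn2 v hv _ (Subgroup.inv_mem _ hs'))) (Subgroup.inv_mem _ hs)
    have hbot : Cfsg.sigmaCore N ⊓ Z₀ = ⊥ := Subgroup.inf_eq_bot_of_coprime
      (Nat.coprime_of_dvd fun r hr h1 h2 => huσ ((Nat.prime_dvd_prime_iff_eq hr hu.out).1 (hZ ▸ h2) ▸
        mem_sigma_of_dvd hr h1))
    exact hzg1 (Subgroup.mem_bot.1 (hbot.le ⟨hmem, hzg⟩))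

/-- `H ∩ M*` is cyclic. -/
theorem cyclic : IsCyclic (H ⊓ N : Subgroup G) := by
  have hG := c.minSimple
  have hH := c.coatom
  set E := H ⊓ N with hEdef
  have hE := c.compl
  have hEH : E ≤ H := inf_le_left
  haveI hab : IsMulCommutative (⁅E, E⁆ : Subgroup G) := ComplBasics.derived_abelian hG hH hE
  have hEE : ⁅E, E⁆ ≤ E := Subgroup.le_normalizer_iff_commutator_le_left.1 Subgroup.le_normalizer
  have hrank : ∀ r : ℕ, r.Prime → r ∣ Nat.card E → Cfsg.PRankLE r 1 H := fun r hr hd =>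
    (rank_one_or_tau2 hG hH hr (not_dvd_complement hG hH hE hr hd)).resolve_right (c.no_tau2 r)
  have hcent : ∀ (w : ℕ) [Fact w.Prime] (g : G), g ∈ E → IsPGroup w (Subgroup.zpowers g) →
      g ∈ Subgroup.centralizer ((⁅E, E⁆ : Subgroup G) : Set G) := by
    intro w hw g hg hgw
    rw [← Subgroup.zpowers_le, Subgroup.le_centralizer_iff, ← Subgroup.subgroupOf_eq_top]
    refine FittingCores.eq_top_of_forall_sylow_le fun r hr => ?_
    haveI := Fact.mk hr
    obtain ⟨P⟩ : Nonempty (Sylow r (⁅E, E⁆ : Subgroup G)) := inferInstance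
    refine ⟨P, fun x hx => Subgroup.mem_subgroupOf.2 ?_⟩
    set V := (P : Subgroup (⁅E, E⁆ : Subgroup G)).map (⁅E, E⁆ : Subgroup G).subtype with hV
    have hVd : V ≤ ⁅E, E⁆ := Subgroup.map_subtype_le _
    have hxV : (x : G) ∈ V := ⟨x, hx, rfl⟩
    by_cases hV1 : V = ⊥
    · rw [hV1, Subgroup.mem_bot] at hxV
      rw [hxV]
      exact one_mem _
    have hVp : IsPGroup r V := P.isPGroup'.map _
    have hrd : r ∣ Nat.card V := hVp.card_eq_or_dvd.resolve_left fun e => hV1 (Subgroup.card_eq_one.1 e)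
    have hVn : E ≤ Subgroup.normalizer (V : Set G) := (Subgroup.normalizer_commutator_ge_left E E).trans
      (normalizer_le_of_nilpotent inferInstance hVd hVp (by
        rw [Subgroup.relIndex, Subgroup.subgroupOf, hV,
          Subgroup.comap_map_eq_self_of_injective (⁅E, E⁆ : Subgroup G).subtype_injective]
        exact P.not_dvd_index))
    have hgV : Subgroup.zpowers g ≤ Subgroup.normalizer (V : Set G) := (Subgroup.zpowers_le.2 hg).trans hVn
    by_cases hrw : r = w
    · subst hrw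
      have hp : IsPGroup r (V ⊔ Subgroup.zpowers g : Subgroup G) := hVp.to_sup_of_normal_left' hgw hgV
      haveI := isCyclic_of_rank_one hG (hrank r hr (hrd.trans (Subgroup.card_dvd_of_le (hVd.trans hEE)))) hp
        ((sup_le (hVd.trans hEE) (Subgroup.zpowers_le.2 hg)).trans hEH)
      exact Subgroup.mem_centralizer_iff.2 fun y hy => congrArg Subtype.val (mul_comm'
        (⟨y, Subgroup.mem_sup_right hy⟩ : (V ⊔ Subgroup.zpowers g : Subgroup G)) ⟨(x : G), Subgroup.mem_sup_left hxV⟩)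
    haveI : IsMulCommutative V := .of_setLike_mul_comm fun a ha b hb =>
      congrArg Subtype.val (mul_comm' (⟨a, hVd ha⟩ : (⁅E, E⁆ : Subgroup G)) ⟨b, hVd hb⟩)
    have hcop : (Nat.card (Subgroup.zpowers g)).Coprime (Nat.card V) := by
      obtain ⟨i, hi⟩ := IsPGroup.iff_card.1 hgw
      obtain ⟨j, hj⟩ := IsPGroup.iff_card.1 hVp
      rw [hi, hj]
      exact ((Nat.coprime_primes hw.out hr).2 (Ne.symm hrw)).pow i j
    refine Subgroup.le_centralizer_iff.1 (CoprimeAct.le_centralizer_of_fix_prime hgV hcop fun y hy hyo a ha => ?_) hxV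
    haveI := Fact.mk hyo
    have hy1 : y ≠ 1 := fun e => hyo.ne_one (orderOf_eq_one_iff.2 e)
    have hZc : Nat.card (Subgroup.zpowers y) = orderOf y := Nat.card_zpowers y
    have hyr : orderOf y = r := (Nat.prime_dvd_prime_iff_eq hyo hr).1 (by
      obtain ⟨j, hj⟩ := IsPGroup.iff_card.1 hVp
      exact hyo.dvd_of_dvd_pow (hj ▸ Subgroup.orderOf_dvd_natCard _ hy))
    have hZd : Subgroup.zpowers y ≤ ⁅E, E⁆ := Subgroup.zpowers_le.2 (hVd hy)
    have hnZ : E ≤ Subgroup.normalizer ((Subgroup.zpowers y : Subgroup G) : Set G) :=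
      Tau3.le_normalizer_line hG (hrank _ hyo (hyr ▸ hrd.trans (Subgroup.card_dvd_of_le (hVd.trans hEE)))) hEH hZc hZd
    have hgy := c.centralizes_line hZc hZd hnZ hg hgw
    exact (Subgroup.mem_centralizer_iff.1 (Subgroup.zpowers_le.2 hgy ha) y (Subgroup.mem_zpowers y)).symm
  have hcentral : E ≤ Subgroup.centralizer ((⁅E, E⁆ : Subgroup G) : Set G) := by
    rw [← Subgroup.subgroupOf_eq_top]
    refine FittingCores.eq_top_of_forall_sylow_le fun r hr => ?_
    haveI := Fact.mk hr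
    obtain ⟨P⟩ : Nonempty (Sylow r E) := inferInstance
    refine ⟨P, fun x hx => Subgroup.mem_subgroupOf.2 (hcent r x x.2 ?_)⟩
    exact (P.isPGroup'.map E.subtype).to_le (Subgroup.zpowers_le.2 ⟨x, hx, rfl⟩)
  haveI : Group.IsNilpotent E := by
    haveI : Group.IsNilpotent (Abelianization E) := CommGroup.isNilpotent
    refine Subgroup.isNilpotent_of_ker_le_center (Abelianization.of (G := E)) ?_
    rw [Abelianization.ker_of]
    intro x hx
    refine Subgroup.mem_center_iff.2 fun y => Subtype.ext ?_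
    have hx' : (x : G) ∈ ⁅E, E⁆ := by
      rw [← Subgroup.map_subtype_commutator]
      exact ⟨x, hx, rfl⟩
    exact (Subgroup.mem_centralizer_iff.1 (hcentral y.2) _ hx').symm
  haveI : IsZGroup E := ⟨fun r hr S => by
    haveI := Fact.mk hr
    by_cases hd : r ∣ Nat.card E
    · haveI := isCyclic_of_rank_one hG (hrank r hr hd) (S.isPGroup'.map E.subtype) ((Subgroup.map_subtype_le _).trans hEH)
      exact isCyclic_of_surjective _ ((S : Subgroup E).equivMapOfInjective E.subtype E.subtype_injective).symm.surjective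
    · haveI : Subsingleton S := (Nat.card_eq_one_iff_unique.1 (by
        rw [S.card_eq_multiplicity, Nat.factorization_eq_zero_of_not_dvd hd, pow_zero])).1
      infer_instance⟩
  infer_instance

end Cfg

end Cfsg.Agent.OddOrder.NFT
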