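/-
The maximal subgroup over the centralizer of an element of `M_σ` (BG 14.13, 15.9).
-/
import Cfsg.Agent.Lib.OddOrder.NonFType

set_option autoImplicit false
set_option linter.style.haveILetI false
set_option linter.unusedSectionVars false

namespace Cfsg.Agent.OddOrder.PSupp

open scoped commutatorElement IsMulCommutative Pointwise
open Exceptional TauOne Kappa Support Pairing
open Tau3 (line_pgroup line_ne_bot)

universe u

variable {G : Type u} [Group G] [Finite G] {M N : Subgroup G}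

theorem rank_conj_iff {t k : ℕ} [Fact t.Prime] (g : G) :
    Cfsg.PRankLE t k (M.map (MulAut.conj g).toMonoidHom) ↔ Cfsg.PRankLE t k M := by
  refine ⟨fun h => ?_, fun h => PrimeAction.rank_of_conj g h⟩
  have := PrimeAction.rank_of_conj g⁻¹ h
  rwa [Sigma.map_conj_map, inv_mul_cancel, Sigma.map_conj_one] at this

theorem tau2_conj {t : ℕ} (g : G) (h : t ∈ Cfsg.tau2 M) : t ∈ Cfsg.tau2 (M.map (MulAut.conj g).toMonoidHom) :=
  haveI := Fact.mk h.1
  ⟨h.1, fun hσ => h.2.1 ((sigma_conj_iff g).1 hσ), (rank_conj_iff g).2 h.2.2.1, fun hr => h.2.2.2 ((rank_conj_iff g).1 hr)⟩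

theorem beta_conj {t : ℕ} (g : G) (h : t ∈ Cfsg.beta M) : t ∈ Cfsg.beta (M.map (MulAut.conj g).toMonoidHom) :=
  haveI := Fact.mk h.1.1
  ⟨⟨h.1.1, fun hr => h.1.2 ((rank_conj_iff g).1 hr)⟩, h.2⟩

variable (hG : Cfsg.IsMinSimpleOddOrder G)
include hG

theorem sigmaCore_conj (hM : IsCoatom M) (g : G) {y : G} (hy : y ∈ Cfsg.sigmaCore M) :
    g * y * g⁻¹ ∈ Cfsg.sigmaCore (M.map (MulAut.conj g).toMonoidHom) :=
  mem_sigmaCore_of_primes hG (coatom_conj hM g) ⟨y, sigmaCore_le M hy, rfl⟩ fun t ht hd =>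
    (sigma_conj_iff g).2 (primes_of_mem_sigmaCore hy ht (by rwa [← MulAut.conj_apply, MulEquiv.orderOf_eq] at hd))

theorem kappa_conj (hM : IsCoatom M) {t : ℕ} (g : G) (h : t ∈ Cfsg.kappa M) :
    t ∈ Cfsg.kappa (M.map (MulAut.conj g).toMonoidHom) := by
  haveI := Fact.mk h.1
  obtain ⟨Y, hYM, hY⟩ := exists_line_of_dvd h.1 h.2.1
  obtain ⟨y, ⟨hy, hyY⟩, hy1⟩ := (Subgroup.bot_or_exists_ne_one _).resolve_left (fixed_of_kappa h hY hYM)
  refine kappa_of_line hG (fun hσ => h.2.2.1 ((sigma_conj_iff g).1 hσ))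
    ((rank_conj_iff g).2 (rank_one_of_kappa h))
    (X := Y.map (MulAut.conj g).toMonoidHom) (by rw [Subgroup.card_map_of_injective (MulAut.conj g).injective, hY])
    (Subgroup.map_mono hYM) fun e => hy1 ?_
  refine conj_eq_one_iff.1 (Subgroup.mem_bot.1 (e.le ⟨sigmaCore_conj hG hM g hy, Subgroup.mem_centralizer_iff.2 ?_⟩))
  rintro _ ⟨z, hz, rfl⟩
  exact ((Commute.conj_iff g).2 (Subgroup.mem_centralizer_iff.1 hyY z hz)).eq

theorem nilpotent_of_kappa_empty (hM : IsCoatom M) (hκ : Cfsg.kappa M = ∅) :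
    Group.IsNilpotent (Cfsg.sigmaCore M) := by
  by_contra hnn
  obtain ⟨K, U, hKU⟩ := FStruct.exists_decomp hG hM
  have hK := NonNil.K_ne hG hM hKU hnn
  obtain ⟨t, ht, htd⟩ := Nat.exists_prime_and_dvd fun e => hK (Subgroup.card_eq_one.1 e)
  exact Set.eq_empty_iff_forall_notMem.1 hκ t (hKU.hall.2.1 t ht htd)

/-- `N` is the maximal subgroup over the centralizer of `x`. -/
theorem support (hM : IsCoatom M) {x : G} (hx : x ∈ Cfsg.sigmaCore M) (hx1 : x ≠ 1)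
    (hxM : ¬ Subgroup.centralizer ({x} : Set G) ≤ M) (hN : IsCoatom N)
    (hxN : Subgroup.centralizer ({x} : Set G) ≤ N) :
    (∀ L : Subgroup G, IsCoatom L → Subgroup.centralizer ({x} : Set G) ≤ L → L = N) ∧
      Group.IsNilpotent (Cfsg.sigmaCore N) ∧ Cfsg.sigmaCore N ⊓ M = ⊥ ∧
      Cfsg.IsComplIn (M ⊓ N) (Cfsg.sigmaCore N) N ∧
      ∃ (p : ℕ) (X : Subgroup G), p.Prime ∧ p ∈ Cfsg.sigma M ∧ p ∈ Cfsg.tau2 N ∧ Nat.card X = p ∧
        X ≤ Cfsg.sigmaCore M ∧ X ≤ N ∧ Subgroup.centralizer (X : Set G) ≤ N ∧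
        ¬ Subgroup.centralizer (X : Set G) ≤ M := by
  obtain ⟨N₀, hN₀, -, hu, hτ, hnil, hbot, hcompl, -⟩ := Support.exists_support hG hM hx hx1 hxM
  obtain rfl : N = N₀ := hu N hN hxN
  obtain ⟨p, X, hp, hX, hXx⟩ := exists_line_zpowers hx1
  haveI := Fact.mk hp
  have hXσ : X ≤ Cfsg.sigmaCore M := hXx.trans (Subgroup.zpowers_le.2 hx)
  have hC := centralizer_singleton_le hXx
  obtain ⟨L, hL, hXL⟩ := Uniq.exists_maximal_ge (MinSimple.normalizer_ne_top hG (line_ne_bot hX)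
    (MinSimple.pSubgroup_ne_top hG (line_pgroup hX)))
  have hCL : Subgroup.centralizer (X : Set G) ≤ L := (Subgroup.centralizer_le_normalizer _).trans hXL
  have hCN : Subgroup.centralizer (X : Set G) ≤ N := hu L hL (hC.trans hCL) ▸ hCL
  refine ⟨hu, hnil, hbot, hcompl, p, X, hp, mem_sigma_of_dvd hp (hX ▸ Subgroup.card_dvd_of_le hXσ),
    hτ p hp ((hX ▸ Subgroup.card_dvd_of_le hXx).trans (Nat.card_zpowers x).dvd), hX, hXσ, ?_, hCN,
    fun h => hxM (hC.trans h)⟩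
  exact fun y hy => hCN (Subgroup.mem_centralizer_iff.2 fun z hz => by
    haveI : IsMulCommutative X := (isCyclic_of_prime_card hX).isMulCommutative
    exact congrArg Subtype.val (mul_comm' (⟨z, hz⟩ : X) ⟨y, hy⟩))

/-- The configuration of BG 14.12 attached to a maximal subgroup of type P over a centralizer. -/
theorem exists_cfg (hM : IsCoatom M) {x : G} (hx : x ∈ Cfsg.sigmaCore M) (hx1 : x ≠ 1)
    (hxM : ¬ Subgroup.centralizer ({x} : Set G) ≤ M) (hN : IsCoatom N)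
    (hxN : Subgroup.centralizer ({x} : Set G) ≤ N) (hne : (Cfsg.kappa N).Nonempty) :
    ∃ (Z K U Ns D H : Subgroup G) (q : ℕ) (a : G),
      NFT.Cfg Z N K U Ns D H q ∧ H = M.map (MulAut.conj a).toMonoidHom := by
  obtain ⟨-, -, -, -, p, X, hp, hpM, hpN, hX, -, hXN, hCX, -⟩ := support hG hM hx hx1 hxM hN hxN
  haveI := Fact.mk hp
  obtain ⟨K, U, hKU⟩ := FStruct.exists_decomp hG hN
  have hK1 : K ≠ ⊥ := fun e => by
    obtain ⟨r, hr⟩ := hne
    exact hKU.hall.2.2 r hr.1 hr (by rw [e, Subgroup.relIndex_bot_left]; exact hr.2.1)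
  have hE := decomp_compl hKU
  have hpσ : p ∉ Cfsg.sigma N := hpN.2.1
  have hpκ : p ∉ Cfsg.kappa N := fun h => hpN.2.2.2 (rank_one_of_kappa h)
  obtain ⟨b, hb, hle⟩ := ComplBasics.exists_conj_le hG hN hE hXN
    (ComplBasics.coprime_sigmaCore_of_not_sigma fun t ht hd => (Nat.prime_dvd_prime_iff_eq ht hp).1 (hX ▸ hd) ▸ hpσ)
  set X' := X.map (MulAut.conj b).toMonoidHom with hX'
  have hX'c : Nat.card X' = p := by rw [hX', Subgroup.card_map_of_injective (MulAut.conj b).injective, hX]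
  have hX'U : X' ≤ U := by
    haveI : (U.subgroupOf (U ⊔ K)).Normal :=
      Subgroup.normal_subgroupOf_of_le_normalizer (sup_le Subgroup.le_normalizer hKU.normal)
    intro y hy
    refine Subgroup.mem_subgroupOf.1 (Exceptional.le_of_coprime_index (N := U.subgroupOf (U ⊔ K))
      (X := X'.subgroupOf (U ⊔ K)) ?_ (show (⟨y, hle hy⟩ : (U ⊔ K : Subgroup G)) ∈ _ from hy))
    rw [Nat.card_congr (Subgroup.subgroupOfEquivOfLe hle).toEquiv, hX'c]
    refine hp.coprime_iff_not_dvd.2 fun h => hpκ (hKU.hall.2.1 p hp ?_)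
    have h1 := Subgroup.relIndex_mul_relIndex ⊥ U (U ⊔ K) bot_le le_sup_left
    rw [Subgroup.relIndex_bot_left, Subgroup.relIndex_bot_left, decomp_card hKU] at h1
    exact Nat.eq_of_mul_eq_mul_left Nat.card_pos h1 ▸ (show p ∣ U.relIndex (U ⊔ K) from h)
  have hpU : p ∣ Nat.card U := hX'c ▸ Subgroup.card_dvd_of_le hX'U
  have hU1 : U ≠ ⊥ := fun e => line_ne_bot hX'c (le_bot_iff.1 (hX'U.trans e.le))
  obtain ⟨Ns, D, P⟩ := (Member.of_hall hN hKU.hall hK1).exists_pair hG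
  obtain ⟨R⟩ : Nonempty (Sylow p U) := inferInstance
  have hR1 : (R : Subgroup U).map U.subtype ≠ ⊥ := fun e =>
    R.ne_bot_of_dvd_card hpU ((Subgroup.map_eq_bot_iff_of_injective _ U.subtype_injective).1 e)
  obtain ⟨H, hH, hNR⟩ := Uniq.exists_maximal_ge (MinSimple.normalizer_ne_top hG hR1
    (MinSimple.pSubgroup_ne_top hG (R.isPGroup'.map U.subtype)))
  obtain ⟨hκ, hUS, hinter, -, hfit, hcompl⟩ := Sig.main hG hKU hU1 P hpU R hH hNR
  have hq : (Nat.card K).Prime := (S1372.result hG N hN K U hKU hK1 hU1).1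
  haveI := Fact.mk hq
  have F := decomp_factor hG hN hKU hK1
  haveI := F.comm
  have hKH : K ≤ H := (le_sup_right.trans hinter.ge).trans inf_le_right
  have hUH : U ≤ H := hUS.trans (sigmaCore_le H)
  have hregU : U ⊓ Subgroup.centralizer (K : Set G) = ⊥ := by
    obtain ⟨k, hk, hk1⟩ := Plane.exists_ne_one (p := Nat.card K) rfl
    exact le_bot_iff.1 ((inf_le_inf_left U (le_singleton hk)).trans (F.regular k hk hk1).le)
  have hqH : Nat.card K ∉ Cfsg.sigma H := Sig.not_sigma hG P rfl hH rfl hKH hUH hKU.normal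
    (fun h => decomp_U_primes hKU hq h (hKU.hall.2.1 _ hq dvd_rfl)) hregU hU1
  obtain ⟨a, ha⟩ := SigmaDisj.conj_of_sigma hG hM hH hpM (mem_sigma_of_dvd hp (hpU.trans (Subgroup.card_dvd_of_le hUS)))
  obtain ⟨w, hw, hw1⟩ := Plane.exists_ne_one hX
  refine ⟨_, K, U, Ns, D, H, _, a, ⟨hG, P, hKU, hq, rfl, hH, hκ, hUS, hinter, hfit, hcompl, hqH,
    b * w * b⁻¹, hX'U ⟨w, hw, rfl⟩, fun h => hw1 (conj_eq_one_iff.1 h), fun c hc => ?_⟩, ha⟩
  have hc' : b⁻¹ * c * b ∈ Subgroup.centralizer (X : Set G) := by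
    rw [← Plane.zpowers_eq hX hw hw1, Plane.centralizer_zpowers, Subgroup.mem_centralizer_singleton_iff]
    have h := Subgroup.mem_centralizer_singleton_iff.1 hc
    calc b⁻¹ * c * b * w = b⁻¹ * (c * (b * w * b⁻¹)) * b := by group
      _ = b⁻¹ * ((b * w * b⁻¹) * c) * b := by rw [h]
      _ = w * (b⁻¹ * c * b) := by group
  have h := N.mul_mem (N.mul_mem hb (hCX hc')) (N.inv_mem hb)
  rwa [show b * (b⁻¹ * c * b) * b⁻¹ = c by group] at h

/-- BG 15.9(a). -/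
theorem kappa_empty (hM : IsCoatom M) {x : G} (hx : x ∈ Cfsg.sigmaCore M) (hx1 : x ≠ 1)
    (hxM : ¬ Subgroup.centralizer ({x} : Set G) ≤ M) (hN : IsCoatom N)
    (hxN : Subgroup.centralizer ({x} : Set G) ≤ N) (hne : (Cfsg.kappa N).Nonempty) : Cfsg.kappa M = ∅ := by
  obtain ⟨-, -, -, -, p, X, hp, hpM, hpN, -⟩ := support hG hM hx hx1 hxM hN hxN
  obtain ⟨Z, K, U, Ns, D, H, q, a, c, ha⟩ := exists_cfg hG hM hx hx1 hxM hN hxN hne
  by_contra hne'
  obtain ⟨g, hg | hg⟩ := c.pair.conj_of_kappa hG hM (Set.nonempty_iff_ne_empty.2 hne')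
  · exact hpN.2.1 ((sigma_conj_iff g).1 (hg ▸ hpM))
  · exact c.not_sigma (ha ▸ (sigma_conj_iff a).2 (hg ▸ (sigma_conj_iff g).2 c.q_sigma))

/-- BG 15.9(b). -/
theorem tau2_empty (hM : IsCoatom M) {x : G} (hx : x ∈ Cfsg.sigmaCore M) (hx1 : x ≠ 1)
    (hxM : ¬ Subgroup.centralizer ({x} : Set G) ≤ M) (hN : IsCoatom N)
    (hxN : Subgroup.centralizer ({x} : Set G) ≤ N) (hne : (Cfsg.kappa N).Nonempty) : Cfsg.tau2 M = ∅ := by
  obtain ⟨Z, K, U, Ns, D, H, q, a, c, ha⟩ := exists_cfg hG hM hx hx1 hxM hN hxN hne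
  exact Set.eq_empty_iff_forall_notMem.2 fun t ht => c.no_tau2 t (ha ▸ tau2_conj a ht)

/-- A regular complement of `M_σ` is a Frobenius complement. -/
theorem frobenius_of_regular (hM : IsCoatom M) {E : Subgroup G} (hE : Cfsg.IsComplIn E (Cfsg.sigmaCore M) M)
    (hreg : ∀ e ∈ E, e ≠ 1 → ∀ s ∈ Cfsg.sigmaCore M, e * s = s * e → s = 1) :
    Cfsg.IsFrobeniusComplement (E.subgroupOf M) := by
  obtain ⟨hF1, hFσ, hσd, hlt, -⟩ := S1355.result hG M hM
  have hS1 : Cfsg.sigmaCore M ≠ ⊥ := fun e => hF1 (le_bot_iff.1 (hFσ.trans e.le))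
  refine ⟨fun e => ?_, fun e => ?_, fun g hg => ?_⟩
  · refine hlt.not_ge fun m hm => ?_
    obtain ⟨y, hy, s, hs, rfl⟩ := hE.2.2.2 m hm
    have : y = 1 := congrArg Subtype.val
      (Subgroup.mem_bot.1 (e.le (show (⟨y, hE.1 hy⟩ : M) ∈ E.subgroupOf M from hy)))
    rw [this, one_mul]
    exact hσd hs
  · exact hS1 (le_bot_iff.1 ((le_inf (fun s hs => e.ge (Subgroup.mem_top (⟨s, sigmaCore_le M hs⟩ : M))) le_rfl).trans
      hE.2.2.1.le))
  · rw [eq_bot_iff]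
    rintro x ⟨hx, hxg⟩
    obtain ⟨y, hy, rfl⟩ := hxg
    obtain ⟨e, he, s, hs, hes⟩ := hE.2.2.2 (g : G) g.2
    have hx' : (g : G) * y * (g : G)⁻¹ ∈ E := hx
    have hy' : (y : G) ∈ E := hy
    set x' := e⁻¹ * ((g : G) * y * (g : G)⁻¹) * e with hx'def
    have hx'E : x' ∈ E := E.mul_mem (E.mul_mem (E.inv_mem he) hx') he
    have hx'eq : x' = s * y * s⁻¹ := by rw [hx'def, hes]; group
    have h1 : x' * (y : G)⁻¹ ∈ E ⊓ Cfsg.sigmaCore M := by
      refine ⟨E.mul_mem hx'E (E.inv_mem hy'), ?_⟩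
      show x' * (y : G)⁻¹ ∈ Cfsg.sigmaCore M
      rw [hx'eq, mul_assoc s, mul_assoc s]
      exact Subgroup.mul_mem _ hs
        ((Subgroup.mem_normalizer_iff.1 (le_normalizer_sigmaCore M (hE.1 hy')) _).1 (Subgroup.inv_mem _ hs))
    rw [hE.2.2.1, Subgroup.mem_bot, mul_inv_eq_one, hx'eq, mul_inv_eq_iff_eq_mul] at h1
    by_cases hy1 : (y : G) = 1
    · rw [Subgroup.mem_bot, show y = 1 from Subtype.ext hy1]
      exact map_one _
    · refine absurd ?_ hg
      rw [Subgroup.mem_subgroupOf, hes, hreg y hy' hy1 s hs h1.symm, mul_one]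
      exact he

/-- BG 15.9. -/
theorem frobenius (hM : IsCoatom M) {x : G} (hx : x ∈ Cfsg.sigmaCore M) (hx1 : x ≠ 1)
    (hxM : ¬ Subgroup.centralizer ({x} : Set G) ≤ M) (hN : IsCoatom N)
    (hxN : Subgroup.centralizer ({x} : Set G) ≤ N) (hne : (Cfsg.kappa N).Nonempty) :
    ∃ E : Subgroup G, Cfsg.IsComplIn E (Cfsg.sigmaCore M) M ∧ IsCyclic E ∧
      Cfsg.IsFrobeniusComplement (E.subgroupOf M) := by
  have hκ := kappa_empty hG hM hx hx1 hxM hN hxN hne
  have hτ := tau2_empty hG hM hx hx1 hxM hN hxN hne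
  obtain ⟨Z, K, U, Ns, D, H, q, a, c, ha⟩ := exists_cfg hG hM hx hx1 hxM hN hxN hne
  obtain ⟨E, hE⟩ := exists_complement hG hM
  refine ⟨E, hE, ?_, frobenius_of_regular hG hM hE fun e he he1 s hs hes => ?_⟩
  · set E' := E.map (MulAut.conj a).toMonoidHom with hE'
    have hE'H : E' ≤ H := ha ▸ Subgroup.map_mono hE.1
    obtain ⟨h, hh, hle⟩ := ComplBasics.exists_conj_le hG c.coatom c.compl hE'H
      (ComplBasics.coprime_sigmaCore_of_not_sigma fun t ht hd hσ => by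
        rw [hE', Subgroup.card_map_of_injective (MulAut.conj a).injective] at hd
        exact not_dvd_complement hG hM hE ht hd ((sigma_conj_iff a).1 (ha ▸ hσ)))
    haveI := c.cyclic
    haveI : IsCyclic (E'.map (MulAut.conj h).toMonoidHom) :=
      isCyclic_of_injective (Subgroup.inclusion hle) (Subgroup.inclusion_injective _)
    haveI : IsCyclic E' :=
      (E'.equivMapOfInjective (MulAut.conj h).toMonoidHom (MulAut.conj h).injective).isCyclic.2 inferInstance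
    exact (E.equivMapOfInjective (MulAut.conj a).toMonoidHom (MulAut.conj a).injective).isCyclic.2 inferInstance
  · obtain ⟨r, Y, hr, hY, hYe⟩ := exists_line_zpowers he1
    haveI := Fact.mk hr
    have hYE : Y ≤ E := hYe.trans (Subgroup.zpowers_le.2 he)
    have hσ := not_dvd_complement hG hM hE hr (hY ▸ Subgroup.card_dvd_of_le hYE)
    by_contra hs1
    refine Set.eq_empty_iff_forall_notMem.1 hκ r (kappa_of_line hG hσ
      ((rank_one_or_tau2 hG hM hr hσ).resolve_right (Set.eq_empty_iff_forall_notMem.1 hτ r)) hY (hYE.trans hE.1)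
      fun e' => hs1 (Subgroup.mem_bot.1 (e'.le ⟨hs, centralizer_singleton_le hYe ?_⟩)))
    exact Subgroup.mem_centralizer_singleton_iff.2 hes.symm

/-- `M_F` is not a TI-subset. -/
theorem not_ti (hM : IsCoatom M) (hκ : Cfsg.kappa M = ∅) {x : G} (hx : x ∈ Cfsg.sigmaCore M) (hx1 : x ≠ 1)
    (hxM : ¬ Subgroup.centralizer ({x} : Set G) ≤ M) :
    ¬ Cfsg.IsTISubset (Cfsg.fittingHallOf M : Set G) := fun hTI => by
  rw [Support.fittingHall_eq hG hM (nilpotent_of_kappa_empty hG hM hκ)] at hTI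
  refine hxM fun c hc => ?_
  by_contra hcM
  refine hx1 (hTI c (fun h => hcM ?_) x hx ?_)
  · rwa [FTI.normalizer_of_normal hG hM (sigmaCore_le M) (fun e => hx1 (Subgroup.mem_bot.1 (e.le hx)))
      (le_normalizer_sigmaCore M)] at h
  · rw [Subgroup.mem_centralizer_singleton_iff.1 hc, mul_inv_cancel_right]
    exact hx

omit hG in
/-- An element moving a normal `p`-subgroup, `p ∉ β(L)`, has small prime. -/
theorem le_of_moving {L S : Subgroup G} {p t : ℕ} [hp : Fact p.Prime] [ht : Fact t.Prime]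
    (hG : Cfsg.IsMinSimpleOddOrder G) (hL : IsCoatom L) (hβ : p ∉ Cfsg.beta L) (hpL : p ∣ Nat.card L)
    (hS : IsPGroup p S) (hSL : S ≤ L) (hn : L ≤ Subgroup.normalizer (S : Set G)) {a : G} (ha : a ∈ L)
    (hat : IsPGroup t (Subgroup.zpowers a)) (hmove : a ∉ Subgroup.centralizer (S : Set G)) : t ≤ p := by
  obtain ⟨-, -, -, -, hlast⟩ := S1414.result hG L hL
  refine (hlast p hp.out hpL hβ).2.2 t ht.out ?_
  by_contra hnd
  haveI := FittingCores.pPrimeCore_normal (G := L) p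
  haveI : (S.subgroupOf L).Normal := Subgroup.normal_subgroupOf_of_le_normalizer hn
  have haP : (⟨a, ha⟩ : L) ∈ Cfsg.pPrimeCore p L := by
    refine Exceptional.le_of_coprime_index (X := Subgroup.zpowers (⟨a, ha⟩ : L)) ?_ (Subgroup.mem_zpowers _)
    obtain ⟨n, hn'⟩ := IsPGroup.iff_card.1 hat
    rw [Nat.card_zpowers, Subgroup.orderOf_mk, ← Nat.card_zpowers, hn']
    exact (ht.out.coprime_iff_not_dvd.2 hnd).pow_left n
  refine hmove (Subgroup.mem_centralizer_iff.2 fun s hs => ?_)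
  have hdis : Disjoint (Cfsg.pPrimeCore p L) (S.subgroupOf L) := Subgroup.disjoint_of_coprime_natCard (by
    obtain ⟨n, hn'⟩ := IsPGroup.iff_card.1 (hS.of_equiv (Subgroup.subgroupOfEquivOfLe hSL).symm)
    rw [hn']
    exact (FittingCores.pPrimeCore_coprime p).pow_right n)
  exact (congrArg (fun y : L => (y : G))
    (Subgroup.commute_of_normal_of_disjoint _ _ inferInstance inferInstance hdis ⟨a, ha⟩ ⟨s, hSL hs⟩ haP hs).eq).symm

/-- BG 14.13(a). -/
theorem disjoint_primes (hM : IsCoatom M) {x : G} (hx : x ∈ Cfsg.sigmaCore M) (hx1 : x ≠ 1)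
    (hxM : ¬ Subgroup.centralizer ({x} : Set G) ≤ M) (hN : IsCoatom N)
    (hxN : Subgroup.centralizer ({x} : Set G) ≤ N) {r : ℕ} (hr : r ∈ Cfsg.sigma N) (hrM : r ∣ Nat.card M) :
    Cfsg.kappa M = ∅ ∧ Cfsg.tau2 M = ∅ := by
  obtain ⟨-, -, hbot, hcompl, p, X, hp, hpM, hpN, hX, hXσ, hXN, hCXN, hCXM⟩ := support hG hM hx hx1 hxM hN hxN
  haveI := Fact.mk hp
  haveI := Fact.mk hr.1
  have hnσ : ∀ t, t ∈ Cfsg.sigma N → t ∉ Cfsg.sigma M := fun t h h' => by
    obtain ⟨a, ha⟩ := SigmaDisj.conj_of_sigma hG hM hN h' h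
    exact hpN.2.1 (ha ▸ (sigma_conj_iff a).2 hpM)
  have hrσ := hnσ r hr
  -- `κ(M) = ∅`
  have hκ : Cfsg.kappa M = ∅ := by
    by_contra hne
    obtain ⟨K, U, hKU⟩ := FStruct.exists_decomp hG hM
    have hK1 : K ≠ ⊥ := fun e => by
      obtain ⟨t, ht⟩ := Set.nonempty_iff_ne_empty.2 hne
      exact hKU.hall.2.2 t ht.1 ht (by rw [e, Subgroup.relIndex_bot_left]; exact ht.2.1)
    by_cases hU : U = ⊥
    · have hc := decomp_compl hKU
      rw [hU, bot_sup_eq] at hc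
      have hrK : r ∣ Nat.card K := (hr.1.dvd_mul.1 (Compl.card_eq hc ▸ hrM)).resolve_right
        fun h => hrσ (mem_sigma_of_dvd hr.1 h)
      obtain ⟨Ns, D, P⟩ := (Member.of_hall hM hKU.hall hK1).exists_pair hG
      have hrNs : r ∈ Cfsg.sigma Ns :=
        mem_sigma_of_dvd hr.1 (hrK.trans (Subgroup.card_dvd_of_le (P.right_inf ▸ inf_le_left)))
      obtain ⟨a, ha⟩ := SigmaDisj.conj_of_sigma hG P.right.coatom hN hrNs hr
      obtain ⟨t, ht, htd⟩ := Nat.exists_prime_and_dvd fun e => P.right.ne (Subgroup.card_eq_one.1 e)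
      exact hne (kappa_empty hG hM hx hx1 hxM hN hxN
        ⟨t, ha ▸ kappa_conj hG P.right.coatom a (P.right.hall.2.1 t ht htd)⟩)
    · obtain ⟨-, hTI, hσF⟩ := S1372.result hG M hM K U hKU hK1 hU
      refine hxM fun c hc => ?_
      have hNF : Subgroup.normalizer (Cfsg.fittingOf M : Set G) = M := FTI.normalizer_of_normal hG hM
        (FitOf.fittingOf_le M) (fun e => hx1 (Subgroup.mem_bot.1 (e.le (hσF hx)))) (FitOf.le_normalizer_fittingOf M)
      rw [← hNF]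
      by_contra hn
      exact hx1 (hTI c hn x (hσF hx) (by
        rw [Subgroup.mem_centralizer_singleton_iff.1 hc, mul_inv_cancel_right]; exact hσF hx))
  refine ⟨hκ, Set.eq_empty_iff_forall_notMem.2 fun q hq => ?_⟩
  by_cases hκN : (Cfsg.kappa N).Nonempty
  · exact Set.eq_empty_iff_forall_notMem.1 (tau2_empty hG hM hx hx1 hxM hN hxN hκN) q hq
  haveI := Fact.mk hq.1
  obtain ⟨E, hE⟩ := exists_complement hG hM
  -- `p ∉ β(M)`
  have hpβ : p ∉ Cfsg.beta M := by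
    obtain ⟨c, hc, hcM⟩ := SetLike.not_le_iff_exists.1 hCXM
    refine ((S1426.result hG M hM E hE).2.2 c hcM).2.1 p hp (hX ▸ Subgroup.card_dvd_of_le (le_inf hXσ ?_))
    exact fun y hy => ⟨y, sigmaCore_le M (hXσ hy), by
      show c * y * c⁻¹ = y
      rw [← Subgroup.mem_centralizer_iff.1 hc y hy, mul_inv_cancel_right]⟩
  have hnilM : Group.IsNilpotent (Cfsg.sigmaCore M) := nilpotent_of_kappa_empty hG hM hκ
  obtain ⟨S⟩ : Nonempty (Sylow p (Cfsg.sigmaCore M)) := inferInstance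
  set Sm := (S : Subgroup (Cfsg.sigmaCore M)).map (Cfsg.sigmaCore M).subtype with hSm
  have hSσ : Sm ≤ Cfsg.sigmaCore M := Subgroup.map_subtype_le _
  have hSp : IsPGroup p Sm := S.isPGroup'.map _
  have hSn : M ≤ Subgroup.normalizer (Sm : Set G) := (le_normalizer_sigmaCore M).trans
    (normalizer_le_of_nilpotent hnilM hSσ hSp (by
      rw [Subgroup.relIndex, Subgroup.subgroupOf, hSm,
        Subgroup.comap_map_eq_self_of_injective (Cfsg.sigmaCore M).subtype_injective]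
      exact S.not_dvd_index))
  have hpσd : p ∣ Nat.card (Cfsg.sigmaCore M) := hX ▸ Subgroup.card_dvd_of_le hXσ
  have hS1 : Sm ≠ ⊥ := fun e =>
    S.ne_bot_of_dvd_card hpσd ((Subgroup.map_eq_bot_iff_of_injective _ (Cfsg.sigmaCore M).subtype_injective).1 e)
  have hlt : ∀ (t : ℕ) [Fact t.Prime] (Y : Subgroup G), t ∉ Cfsg.sigma M → IsPGroup t Y → Y ≤ M →
      Cfsg.sigmaCore M ⊓ Subgroup.centralizer (Y : Set G) = ⊥ → t < p := by
    intro t ht Y htσ hY hYM hfix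
    obtain ⟨a, ha, hac⟩ := SetLike.not_le_iff_exists.1 (show ¬ Y ≤ Subgroup.centralizer (Sm : Set G) from
      fun h => hS1 (le_bot_iff.1 ((le_inf hSσ (Subgroup.le_centralizer_iff.1 h)).trans hfix.le)))
    refine lt_of_le_of_ne (le_of_moving hG hM hpβ (hpσd.trans (Subgroup.card_dvd_of_le (sigmaCore_le M))) hSp
      (hSσ.trans (sigmaCore_le M)) hSn (hYM ha) (hY.to_le (Subgroup.zpowers_le.2 ha)) hac) fun e => htσ (e ▸ hpM)
  -- in `N`
  obtain ⟨B, hB₀, hBe, hB⟩ := TauTwo.exists_plane (p := p) hG hN hcompl hpN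
  obtain ⟨hnilN, -, -, hBbot, -⟩ := S1417.result hG N hN p hpN B ⟨hB₀.trans inf_le_right, hBe, hB⟩
  have hgt : ∀ (t : ℕ) [Fact t.Prime], t ∈ Cfsg.sigma N → t ∉ Cfsg.beta N → p < t := by
    intro t ht htσ htβ
    obtain ⟨T⟩ : Nonempty (Sylow t (Cfsg.sigmaCore N)) := inferInstance
    set Tm := (T : Subgroup (Cfsg.sigmaCore N)).map (Cfsg.sigmaCore N).subtype with hTm
    have hTσ : Tm ≤ Cfsg.sigmaCore N := Subgroup.map_subtype_le _
    have hTn : N ≤ Subgroup.normalizer (Tm : Set G) := (le_normalizer_sigmaCore N).trans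
      (normalizer_le_of_nilpotent hnilN hTσ (T.isPGroup'.map _) (by
        rw [Subgroup.relIndex, Subgroup.subgroupOf, hTm,
          Subgroup.comap_map_eq_self_of_injective (Cfsg.sigmaCore N).subtype_injective]
        exact T.not_dvd_index))
    have htd : t ∣ Nat.card (Cfsg.sigmaCore N) := by
      obtain ⟨Y, hY, hYc⟩ := exists_line_of_dvd ht.out htσ.2.1
      exact hYc ▸ Subgroup.card_dvd_of_le (le_sigmaCore hG hN htσ (line_pgroup hYc) hY)
    have hT1 : Tm ≠ ⊥ := fun e =>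
      T.ne_bot_of_dvd_card htd ((Subgroup.map_eq_bot_iff_of_injective _ (Cfsg.sigmaCore N).subtype_injective).1 e)
    obtain ⟨b, hb, hbc⟩ := SetLike.not_le_iff_exists.1 (show ¬ B ≤ Subgroup.centralizer (Tm : Set G) from
      fun h => hT1 (le_bot_iff.1 ((le_inf hTσ (Subgroup.le_centralizer_iff.1 h)).trans hBbot.le)))
    exact lt_of_le_of_ne (le_of_moving hG hN htβ htσ.2.1 (T.isPGroup'.map _) (hTσ.trans (sigmaCore_le N)) hTn
      (hB₀.trans inf_le_right hb) ((Plane.isPGroup hB).to_le (Subgroup.zpowers_le.2 hb)) hbc)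
      fun e => hpN.2.1 (e ▸ htσ)
  -- primes of `τ₂(M)` lie outside `σ(N)`
  have hτσ : ∀ t, t ∈ Cfsg.tau2 M → t ∉ Cfsg.sigma N := fun t ht htσ => by
    haveI := Fact.mk ht.1
    obtain ⟨A, hAE, hAe, hA⟩ := TauTwo.exists_plane (p := t) hG hM hE ht
    obtain ⟨-, -, -, hfix, -⟩ := S1417.result hG M hM t ht A ⟨hAE.trans hE.1, hAe, hA⟩
    have h1 := hlt t A ht.2.1 (Plane.isPGroup hA) (hAE.trans hE.1) hfix
    have h2 := hgt t htσ fun hβ => (S1408.result hG M hM t ht.2.1 ht.2.2.1 ht.2.2.2).1 hβ.2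
    omega
  obtain ⟨R₁, hR₁M, hR₁⟩ := exists_line_of_dvd hr.1 hrM
  obtain ⟨E, hE, hRE⟩ := ComplBasics.exists_complement_containing hG hM hR₁M
    (ComplBasics.coprime_sigmaCore_of_not_sigma fun t ht hd => (Nat.prime_dvd_prime_iff_eq ht hr.1).1 (hR₁ ▸ hd) ▸ hrσ)
  have hr1 : Cfsg.PRankLE r 1 M := (rank_one_or_tau2 hG hM hr.1 hrσ).resolve_right fun h => hτσ r h hr
  have hRfix : Cfsg.sigmaCore M ⊓ Subgroup.centralizer (R₁ : Set G) = ⊥ := by
    by_contra h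
    exact Set.eq_empty_iff_forall_notMem.1 hκ r (kappa_of_line hG hrσ hr1 hR₁ hR₁M h)
  have hrβ : r ∈ Cfsg.beta N := by
    by_contra hβ
    have h1 := hlt r R₁ hrσ (line_pgroup hR₁) hR₁M hRfix
    have h2 := hgt r hr hβ
    omega
  -- the conjugate of `N` over the line
  obtain ⟨g, hg⟩ := Sigma.exists_conj_le hr (line_pgroup hR₁)
  set N' := N.map (MulAut.conj g⁻¹).toMonoidHom with hN'def
  have hN' : IsCoatom N' := coatom_conj hN _
  have hRN' : R₁ ≤ N' := fun y hy => ⟨g * y * g⁻¹, hg ⟨y, hy, rfl⟩, by simp [mul_assoc]⟩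
  have hrN' : r ∈ Cfsg.sigma N' := (sigma_conj_iff _).2 hr
  have hRσ : R₁ ≤ Cfsg.sigmaCore N' := le_sigmaCore hG hN' hrN' (line_pgroup hR₁) hRN'
  obtain ⟨⟨hCR, -⟩, -, -⟩ := S1423.result hG N' hN' r hrN' R₁ hRN' hR₁ default (Or.inl (beta_conj _ hrβ))
  have hκN' : ∀ t, t ∉ Cfsg.kappa N' := fun t h => hκN ⟨t, by
    have := kappa_conj hG hN' g h
    rwa [hN'def, Sigma.map_conj_map, mul_inv_cancel, Sigma.map_conj_one] at this⟩
  have hqN' : q ∉ Cfsg.sigma N' := fun h => hτσ q hq ((sigma_conj_iff _).1 h)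
  have hqr : r ≠ q := fun e => hτσ q hq (e ▸ hr)
  obtain ⟨A, hAE, hAe, hA⟩ := TauTwo.exists_plane (p := q) hG hM hE hq
  obtain ⟨⟨hEA, -⟩, -, -⟩ := S1418.result hG M hM E hE q hq A ⟨hAE, hAe, hA⟩
  obtain ⟨-, -, -, hAfix, -⟩ := S1417.result hG M hM q hq A ⟨hAE.trans hE.1, hAe, hA⟩
  have hRA : R₁ ≤ Subgroup.normalizer (A : Set G) := hRE.trans hEA
  have hS : Cfsg.sigmaCore M ≠ ⊥ := fun e => line_ne_bot hX (le_bot_iff.1 (hXσ.trans e.le))
  obtain ⟨a, ⟨haA, haC⟩, ha1⟩ := (Subgroup.bot_or_exists_ne_one (A ⊓ Subgroup.centralizer (R₁ : Set G))).resolve_left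
    fun e => hS (le_bot_iff.1 ((le_inf le_rfl (Subgroup.le_centralizer_iff.1 (Sig.frobenius_centralizes hR₁ hRA e
      ((sup_le hAE hRE).trans (hE.1.trans (le_normalizer_sigmaCore M)))
      (MinSimple.isSolvable hG (ne_top_of_le_ne_top hM.1 (sigmaCore_le M)))
      ((ComplBasics.coprime_card hG hM hE).symm.coprime_dvd_right (Subgroup.card_dvd_of_le (sup_le hAE hRE)))
      (Plane.not_dvd_card hr.1 hqr hA) hRfix))).trans hAfix.le))
  set A₀ := Subgroup.zpowers a with hA₀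
  have hA₀c : Nat.card A₀ = q := Plane.zpowers_card hAe haA ha1
  have hA₀N : A₀ ≤ N' := Subgroup.zpowers_le.2 (hCR haC)
  have hA₀fix : Cfsg.sigmaCore N' ⊓ Subgroup.centralizer (A₀ : Set G) ≠ ⊥ := fun e =>
    line_ne_bot hR₁ (le_bot_iff.1 ((le_inf hRσ (Subgroup.le_centralizer_iff.1 (Subgroup.zpowers_le.2 haC))).trans e.le))
  have hτ' : q ∈ Cfsg.tau2 N' := (rank_one_or_tau2 hG hN' hq.1 hqN').resolve_left fun h1 =>
    hκN' q (kappa_of_line hG hqN' h1 hA₀c hA₀N hA₀fix)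
  obtain ⟨F, hF, hA₀F⟩ := ComplBasics.exists_complement_containing hG hN' hA₀N
    (ComplBasics.coprime_sigmaCore_of_not_sigma fun t ht hd => (Nat.prime_dvd_prime_iff_eq ht hq.1).1 (hA₀c ▸ hd) ▸ hqN')
  obtain ⟨A', hA'F, hA'e, hA'⟩ := TauTwo.exists_plane (p := q) hG hN' hF hτ'
  obtain ⟨⟨-, hlines⟩, -, huniq⟩ := S1418.result hG N' hN' F hF q hτ' A' ⟨hA'F, hA'e, hA'⟩
  obtain ⟨hCA₀, -⟩ := huniq A₀ (hlines A₀ hA₀F hA₀c) hA₀c hA₀fix
  haveI := hAe.1
  have hAN' : A ≤ N' :=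
    ((Subgroup.le_centralizer A).trans (Subgroup.centralizer_le (Subgroup.zpowers_le.2 haA))).trans hCA₀
  obtain ⟨-, -, -, hbot', -⟩ := S1417.result hG N' hN' q hτ' A ⟨hAN', hAe, hA⟩
  have hAS : A ⊓ Cfsg.sigmaCore N' = ⊥ := Subgroup.inf_eq_bot_of_coprime (Exceptional.coprime_sigmaCore hA hqN')
  refine line_ne_bot hR₁ (le_bot_iff.1 ((le_inf hRσ fun y hy => Subgroup.mem_centralizer_iff.2 fun b hb =>
    commutatorElement_eq_one_iff_mul_comm.1 (Subgroup.mem_bot.1 (hAS.le ⟨?_, ?_⟩))).trans hbot'.le))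
  · rw [commutatorElement_def, mul_assoc b y, mul_assoc b]
    exact A.mul_mem hb ((Subgroup.mem_normalizer_iff.1 (hRA hy) _).1 (A.inv_mem hb))
  · rw [commutatorElement_def]
    exact Subgroup.mul_mem _ ((Subgroup.mem_normalizer_iff.1 (le_normalizer_sigmaCore N' (hAN' hb)) y).1 (hRσ hy))
      (Subgroup.inv_mem _ (hRσ hy))

/-- BG 14.13(b). -/
theorem conj_in_M (hM : IsCoatom M) {x : G} (hx : x ∈ Cfsg.sigmaCore M) (hx1 : x ≠ 1)
    (hxM : ¬ Subgroup.centralizer ({x} : Set G) ≤ M) (hN : IsCoatom N)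
    (hxN : Subgroup.centralizer ({x} : Set G) ≤ N) {y g : G} {N' : Subgroup G} (hy : y ∈ Cfsg.sigmaCore M)
    (hy1 : y ≠ 1) (hyM : ¬ Subgroup.centralizer ({y} : Set G) ≤ M) (hN' : IsCoatom N')
    (hyN : Subgroup.centralizer ({y} : Set G) ≤ N') (hg : N'.map (MulAut.conj g).toMonoidHom = N) :
    ∃ m ∈ M, N'.map (MulAut.conj m).toMonoidHom = N := by
  obtain ⟨-, -, -, hcompl, -⟩ := support hG hM hx hx1 hxM hN hxN
  obtain ⟨-, -, -, hcompl', p, Y, hp, hpM, hpN', hY, hYσ, hYN', hCY, -⟩ := support hG hM hy hy1 hyM hN' hyN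
  haveI := Fact.mk hp
  set T := (M ⊓ N').map (MulAut.conj g).toMonoidHom with hT
  have hTN : T ≤ N := hg ▸ Subgroup.map_mono inf_le_right
  obtain ⟨s, hs, hle⟩ := ComplBasics.exists_conj_le hG hN hcompl hTN
    (ComplBasics.coprime_sigmaCore_of_not_sigma fun t ht hd hσ => by
      rw [hT, Subgroup.card_map_of_injective (MulAut.conj g).injective] at hd
      exact not_dvd_complement hG hN' hcompl' ht hd ((sigma_conj_iff g).1 (hg.symm ▸ hσ)))
  rw [hT, Sigma.map_conj_map] at hle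
  have hYM : Y ≤ M := hYσ.trans (sigmaCore_le M)
  obtain ⟨m, hm, c, hc, he⟩ := (S1404.result hG M hM p hpM Y (line_pgroup hY) (line_ne_bot hY) hYM).1 (s * g)
    (((Subgroup.map_mono (le_inf hYM hYN')).trans hle).trans inf_le_left)
  refine ⟨m, hm, ?_⟩
  have h1 : N'.map (MulAut.conj (s * g)).toMonoidHom = N := by
    rw [← Sigma.map_conj_map, hg, map_conj_of_mem hs]
  rwa [he, ← Sigma.map_conj_map, map_conj_of_mem (hCY hc)] at h1

end Cfsg.Agent.OddOrder.PSupp
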