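/-
The Dade hypothesis on the elements of `L̂_σ` whose `σ(L)'`-part is a `τ₂(L)`-element (BG Theorem II, BG 16.2).
-/
import Cfsg.Agent.Lib.OddOrder.SigmaTildeCount
import Cfsg.Agent.Lib.OddOrder.SigmaCover
import Cfsg.Agent.Lib.OddOrder.PartnerSupport
import Cfsg.Prelude.Def_OddOrderChar
import Cfsg.Agent.S1432
import Cfsg.Agent.S1436
import Cfsg.Agent.S1438

set_option autoImplicit false
set_option linter.style.haveILetI false
set_option linter.unusedSectionVars false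

namespace Cfsg.Agent.OddOrder.DadeT

open scoped commutatorElement IsMulCommutative Pointwise
open Exceptional TauOne Kappa Support
open Pairing (exists_pi_parts mem_sigmaCore_of_primes)
open Tau3 (line_pgroup line_ne_bot)

universe u

variable {G : Type u} [Group G] [Finite G] {L : Subgroup G}

/-- Elements of `L̂_σ` all of whose primes lie in `σ(L) ∪ τ₂(L)`. -/
def supp (L : Subgroup G) : Set G :=
  {z | z ∈ L ∧ z ≠ 1 ∧ (∃ x ∈ Cfsg.sigmaCore L, x ≠ 1 ∧ z * x = x * z) ∧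
    ∀ r : ℕ, r.Prime → r ∣ orderOf z → r ∈ Cfsg.sigma L ∪ Cfsg.tau2 L}

open scoped Classical in
/-- The subgroups attached to the elements of `supp L`. -/
noncomputable def kern (L : Subgroup G) (z : G) : Subgroup G :=
  if z ∈ Cfsg.sigmaCore L then Cfsg.supportR L z else ⊥

theorem kern_of_mem {z : G} (h : z ∈ Cfsg.sigmaCore L) : kern L z = Cfsg.supportR L z := by
  classical exact if_pos h

theorem kern_of_not_mem {z : G} (h : z ∉ Cfsg.sigmaCore L) : kern L z = ⊥ := by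
  classical exact if_neg h

theorem supp_conj {z y : G} (hy : y ∈ L) (hz : z ∈ supp L) : y * z * y⁻¹ ∈ supp L := by
  obtain ⟨hzL, hz1, ⟨x, hx, hx1, hzx⟩, hp⟩ := hz
  refine ⟨L.mul_mem (L.mul_mem hy hzL) (L.inv_mem hy), fun e => hz1 (conj_eq_one_iff.1 e),
    ⟨y * x * y⁻¹, (Subgroup.mem_normalizer_iff.1 (le_normalizer_sigmaCore L hy) x).1 hx,
      fun e => hx1 (conj_eq_one_iff.1 e), ?_⟩, fun r hr hd => hp r hr ?_⟩
  · calc y * z * y⁻¹ * (y * x * y⁻¹) = y * (z * x) * y⁻¹ := by group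
      _ = y * (x * z) * y⁻¹ := by rw [hzx]
      _ = y * x * y⁻¹ * (y * z * y⁻¹) := by group
  · rwa [← MulAut.conj_apply, MulEquiv.orderOf_eq] at hd

variable (hG : Cfsg.IsMinSimpleOddOrder G) (hL : IsCoatom L)
include hG hL

theorem sigma_mem_supp {z : G} (hz : z ∈ Cfsg.sigmaCore L) (hz1 : z ≠ 1) : z ∈ supp L :=
  ⟨sigmaCore_le L hz, hz1, ⟨z, hz, hz1, rfl⟩, fun _ hr hd => Or.inl (primes_of_mem_sigmaCore hz hr hd)⟩

/-- A member outside `L_σ` has a part with centralizer in `L` only. -/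
theorem exists_part {z : G} (hz : z ∈ supp L) (hzσ : z ∉ Cfsg.sigmaCore L) :
    ∃ r : G, r ∈ Subgroup.zpowers z ∧ r ≠ 1 ∧ (∀ t : ℕ, t.Prime → t ∣ orderOf r → t ∉ Cfsg.sigma L) ∧
      Subgroup.centralizer ({r} : Set G) ≤ L ∧
      (∀ L' : Subgroup G, IsCoatom L' → Subgroup.centralizer ({r} : Set G) ≤ L' → L' = L) ∧
      (Cfsg.tau2 L).Nonempty := by
  obtain ⟨hzL, -, ⟨x, hx, hx1, hzx⟩, hp⟩ := hz
  obtain ⟨s, r, he, -, -, hr, hs, hr'⟩ := exists_pi_parts (Cfsg.sigma L) z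
  have hr1 : r ≠ 1 := by
    rintro rfl
    rw [mul_one] at he
    exact hzσ (mem_sigmaCore_of_primes hG hL hzL (he ▸ hs))
  have hrL : r ∈ L := (Subgroup.zpowers_le.2 hzL) hr
  have hrx : r * x = x * r := by
    obtain ⟨i, rfl⟩ := Subgroup.mem_zpowers_iff.1 hr
    exact ((show Commute z x from hzx).zpow_left i).eq
  have hτ : ∀ t : ℕ, t.Prime → t ∣ orderOf r → t ∈ Cfsg.tau2 L := fun t ht hd =>
    (hp t ht (hd.trans (orderOf_dvd_of_mem_zpowers hr))).resolve_left (hr' t ht hd)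
  obtain ⟨t, ht, htd⟩ := Nat.exists_prime_and_dvd fun e => hr1 (orderOf_eq_one_iff.1 e)
  rcases S1432.result hG L hL x hx hx1 r ⟨hrL, Subgroup.mem_centralizer_singleton_iff.2 hrx⟩ hr1 hr' with
    ⟨hκ, -⟩ | ⟨-, -, hC, hu⟩
  · haveI := Fact.mk ht
    exact absurd (rank_one_of_kappa (hκ t ht htd)) (hτ t ht htd).2.2.2
  · exact ⟨r, hr, hr1, hr', hC, hu, t, hτ t ht htd⟩

theorem centralizer_le {z : G} (hz : z ∈ supp L) (hzσ : z ∉ Cfsg.sigmaCore L) :
    Subgroup.centralizer ({z} : Set G) ≤ L := by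
  obtain ⟨r, hr, -, -, hC, -, -⟩ := exists_part hG hL hz hzσ
  intro c hc
  refine hC ?_
  rw [← Plane.centralizer_zpowers]
  exact centralizer_singleton_le (Subgroup.zpowers_le.2 hr) hc

/-- Conjugate members of `supp L` are conjugate in `L`. -/
theorem fusion {z : G} (hz : z ∈ supp L) {g : G} (hgz : g * z * g⁻¹ ∈ supp L) :
    ∃ y ∈ L, y * z * y⁻¹ = g * z * g⁻¹ := by
  by_cases hzσ : z ∈ Cfsg.sigmaCore L
  · have hgσ : g * z * g⁻¹ ∈ Cfsg.sigmaCore L := mem_sigmaCore_of_primes hG hL hgz.1 fun r hr hd =>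
      primes_of_mem_sigmaCore hzσ hr (by rwa [← MulAut.conj_apply, MulEquiv.orderOf_eq] at hd)
    obtain ⟨n, hn, he⟩ := (S1438.result hG L hL _ le_rfl (Kappa.sigmaCore_ne_bot hG hL)
      (by rw [Subgroup.relIndex_self]; exact Nat.coprime_one_right _)).2 z hzσ g hgσ
    exact ⟨n, hn.1, he⟩
  refine ⟨g, ?_, rfl⟩
  have hgσ : g * z * g⁻¹ ∉ Cfsg.sigmaCore L := fun h => hzσ (mem_sigmaCore_of_primes hG hL hz.1 fun r hr hd =>
    primes_of_mem_sigmaCore h hr (by rwa [← MulAut.conj_apply, MulEquiv.orderOf_eq]))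
  obtain ⟨q, hq, hq1, hqσ, -, hu, -⟩ := exists_part hG hL hgz hgσ
  obtain ⟨i, rfl⟩ := Subgroup.mem_zpowers_iff.1 hq
  have hsame : (g * z * g⁻¹) ^ i = g * z ^ i * g⁻¹ := conj_zpow ..
  have hord : orderOf ((g * z * g⁻¹) ^ i) = orderOf (z ^ i) := by
    rw [hsame, ← MulAut.conj_apply, MulEquiv.orderOf_eq]
  have hzi1 : z ^ i ≠ 1 := fun e => hq1 (by rw [hsame, e]; group)
  have hzi : z ^ i ∈ supp L := by
    obtain ⟨x, hx, hx1, hzx⟩ := hz.2.2.1
    exact ⟨L.zpow_mem hz.1 i, hzi1, ⟨x, hx, hx1, ((show Commute z x from hzx).zpow_left i).eq⟩,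
      fun t ht hd => hz.2.2.2 t ht
        (hd.trans (orderOf_dvd_of_mem_zpowers (Subgroup.zpow_mem _ (Subgroup.mem_zpowers z) i)))⟩
  have hziσ : z ^ i ∉ Cfsg.sigmaCore L := fun h => by
    obtain ⟨t, ht, htd⟩ := Nat.exists_prime_and_dvd fun e => hzi1 (orderOf_eq_one_iff.1 e)
    exact hqσ t ht (hord ▸ htd) (primes_of_mem_sigmaCore h ht htd)
  refine mem_of_map_conj hG hL (hu _ (coatom_conj hL g) fun d hd => mem_map_conj.2 ?_)
  rw [hsame] at hd
  exact centralizer_le hG hL hzi hziσ (centralizer_conj.1 hd)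

/-- The two shapes of `kern L z`. -/
theorem kern_cases {z : G} (hz : z ∈ supp L) :
    (kern L z = ⊥ ∧ Subgroup.centralizer ({z} : Set G) ≤ L) ∨
      ∃ N : Subgroup G, IsCoatom N ∧ z ∈ Cfsg.sigmaCore L ∧ ¬ Subgroup.centralizer ({z} : Set G) ≤ L ∧
        Subgroup.centralizer ({z} : Set G) ≤ N ∧ (∀ t : ℕ, t ∈ Cfsg.sigma L → t ∉ Cfsg.sigma N) ∧
        Cfsg.sigmaCore N ⊓ L = ⊥ ∧ Cfsg.IsComplIn (L ⊓ N) (Cfsg.sigmaCore N) N ∧
        kern L z = Cfsg.sigmaCore N ⊓ Subgroup.centralizer ({z} : Set G) := by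
  by_cases hzσ : z ∈ Cfsg.sigmaCore L
  · rw [kern_of_mem hzσ]
    rcases supportR_cases hG hL hzσ hz.2.1 with ⟨hle, he⟩ | ⟨N, hN, hno, hC, hu, hdis, hbot, he⟩
    · exact Or.inl ⟨he, hle⟩
    · exact Or.inr ⟨N, hN, hzσ, hno, hC, hdis, hbot, (PSupp.support hG hL hzσ hz.2.1 hno hN hC).2.2.2.1, he⟩
  · exact Or.inl ⟨kern_of_not_mem hzσ, centralizer_le hG hL hz hzσ⟩

theorem hypothesis (A : Set G) (hA : A ⊆ supp L) (hconj : ∀ y ∈ L, ∀ a ∈ A, y * a * y⁻¹ ∈ A) :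
    Cfsg.DadeHypothesis A L (kern L) where
  one_not_mem h := (hA h).2.1 rfl
  subset a ha := (hA ha).1
  conj_mem := hconj
  fusion a ha g hg := fusion hG hL (hA ha) (hA hg)
  le_centralizer a ha := by
    rcases kern_cases hG hL (hA ha) with ⟨he, -⟩ | ⟨N, -, -, -, -, -, -, -, he⟩ <;> rw [he]
    · exact bot_le
    · exact inf_le_right
  conj_mem_H a ha c hc u hu := by
    rcases kern_cases hG hL (hA ha) with ⟨he, -⟩ | ⟨N, -, -, -, hC, -, -, -, he⟩ <;> rw [he] at hu ⊢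
    · rw [Subgroup.mem_bot.1 hu, mul_one, mul_inv_cancel]
      exact one_mem _
    · exact (Subgroup.mem_normalizer_iff.1 (centralizer_le_normalizer_core hC hc) u).1 hu
  inf_eq_bot a ha := by
    rcases kern_cases hG hL (hA ha) with ⟨he, -⟩ | ⟨N, -, -, -, -, -, hbot, -, he⟩ <;> rw [he]
    · exact bot_inf_eq _
    · exact le_bot_iff.1 (hbot ▸ inf_le_inf inf_le_left inf_le_left)
  sup_eq a ha := by
    rcases kern_cases hG hL (hA ha) with ⟨he, hle⟩ | ⟨N, -, hσ, -, hC, -, -, hcompl, he⟩ <;> rw [he]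
    · rw [bot_sup_eq, inf_eq_right.2 hle]
    · rw [sup_comm]
      exact Compl.sup_eq (centralizer_compl hcompl (sigmaCore_le L hσ)
        (hC (Subgroup.mem_centralizer_singleton_iff.2 rfl)) hC)
  coprime a ha b hb := by
    rcases kern_cases hG hL (hA ha) with ⟨he, -⟩ | ⟨N, hN, hσ, hno, hC, hdis, -, -, he⟩ <;> rw [he]
    · rw [Subgroup.card_bot]
      exact Nat.coprime_one_left _
    refine Nat.coprime_of_dvd fun r hr h1 h2 => ?_
    have hrN : r ∈ Cfsg.sigma N := mem_sigma_of_dvd hr (h1.trans (Subgroup.card_dvd_of_le inf_le_left))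
    obtain ⟨hκ, hτ⟩ := (S1436.result hG L hL a hσ (hA ha).2.1 hno N hN hC).1
      ⟨r, hrN, h2.trans (Subgroup.card_dvd_of_le inf_le_left)⟩
    have hbσ : b ∈ Cfsg.sigmaCore L := by
      by_contra hbσ
      obtain ⟨-, -, -, -, -, -, hne⟩ := exists_part hG hL (hA hb) hbσ
      exact hne.ne_empty hτ
    haveI := Fact.mk hr
    obtain ⟨⟨e, he'⟩, hor⟩ := exists_prime_orderOf_dvd_card' r h2
    rw [Subgroup.orderOf_mk] at hor
    rcases S1432.result hG L hL b hbσ (hA hb).2.1 e he' (fun e1 => hr.ne_one (by rw [← hor, e1, orderOf_one]))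
      (fun t ht hd hσt => hdis t hσt (by rwa [(Nat.prime_dvd_prime_iff_eq ht hr).1 (hor ▸ hd)])) with
      ⟨hk, -⟩ | ⟨hk, -⟩
    · exact (hκ.le (hk r hr hor.symm.dvd)).elim
    · exact (hτ.le (hk r hr hor.symm.dvd)).elim

end Cfsg.Agent.OddOrder.DadeT
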