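/-
A lower bound for the values of a character on the cosets `⟨y⟩ h`, `y` central of prime order.
-/
import Cfsg.Agent.Lib.Char.ProjectionTrace
import Cfsg.Agent.Lib.Char.Induction
import Mathlib.Data.ZMod.Units

set_option autoImplicit false
set_option linter.style.haveILetI false
set_option linter.unusedSectionVars false

namespace Cfsg.Agent.OddOrder.CBound

open Cfsg.Agent.Char
open scoped ComplexConjugate

universe u

variable {G : Type u} [Group G] [Fintype G]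

/-- Averages of a generalized character are algebraic integers. -/
theorem isIntegral_proj {χ : G → ℂ} (hχ : Cfsg.IsGeneralizedCharacter G χ) {y h : G} {t : ℕ} (ht : t ≠ 0)
    (hy : y ^ t = 1) (R : Subgroup G) [Fintype R] (hyR : y ∈ Subgroup.normalizer (R : Set G))
    (hhR : ∀ r ∈ R, Commute h r) (hhy : Commute h y) {ζ : ℂ} (hζ : ζ ^ t = 1) :
    IsIntegral ℤ ((t : ℂ)⁻¹ * ∑ k ∈ Finset.range t, ζ ^ k *
      ((Nat.card R : ℂ)⁻¹ * ∑ r : R, χ (y ^ k * (r : G) * h))) := by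
  obtain ⟨a, b, ha, hb, rfl⟩ := hχ
  simp only [Pi.sub_apply, Finset.sum_sub_distrib, mul_sub]
  exact (CharProj.isIntegral_proj ha ht hy R hyR hhR hhy hζ).sub
    (CharProj.isIntegral_proj hb ht hy R hyR hhR hhy hζ)

theorem map_gen {X : Type u} [Group X] [Finite X] {χ : X → ℂ} (h : Cfsg.IsGeneralizedCharacter X χ)
    (σ : ℂ →+* ℂ) {k : ℕ} (hk : ∀ z : ℂ, z ^ Nat.card X = 1 → σ z = z ^ k) (g : X) : σ (χ g) = χ (g ^ k) := by
  obtain ⟨a, b, ha, hb, rfl⟩ := h
  simp only [Pi.sub_apply, map_sub, CharGalois.map_char ha σ hk g, CharGalois.map_char hb σ hk g]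

theorem pow_congr {X : Type u} [Group X] [Finite X] (g : X) {m a b : ℕ} (hd : Nat.card X ∣ m)
    (h : a % m = b % m) : g ^ a = g ^ b := by
  have hg : g ^ m = 1 := orderOf_dvd_iff_pow_eq_one.1 ((orderOf_dvd_natCard g).trans hd)
  rw [← Nat.mod_add_div a m, ← Nat.mod_add_div b m, h, pow_add, pow_add, pow_mul, pow_mul, hg, one_pow, one_pow]

open scoped Classical in
theorem bound {χ : G → ℂ} (hχ : Cfsg.IsGeneralizedCharacter G χ) {L : Subgroup G} {φ : L → ℂ}
    (hφ : Cfsg.IsGeneralizedCharacter L φ) {y : L} {t : ℕ} [ht : Fact t.Prime] (hy : orderOf y = t)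
    {d : ℕ} (hd : φ 1 = d) (H : Subgroup G) (R : G → Subgroup G)
    (hcy : ∀ h ∈ H, Commute h (y : G)) (hRh : ∀ h ∈ H, h ≠ 1 → ∀ r ∈ R h, Commute h r)
    (hRy : ∀ h ∈ H, h ≠ 1 → (y : G) ∈ Subgroup.normalizer (R h : Set G))
    (hfree : ∀ h ∈ H, h ≠ 1 → ∀ k : ℕ, 0 < k → k < t → ∀ r ∈ R h,
      χ ((y : G) ^ k * r * h) = χ ((y : G) ^ k * h))
    (hRpow : ∀ h ∈ H, h ≠ 1 → ∀ j : ℕ, j.Coprime (Nat.card G) → R (h ^ j) = R h)
    {c δ : ℝ} (h0 : 0 ≤ δ) (hhalf : δ ≤ 1 / 2)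
    (hdist : ∀ m : ℤ, δ ≤ |(m : ℝ) + ((d : ℝ) - c) / t|)
    (hdist' : ∀ m : ℤ, δ ≤ |(m : ℝ) + ((d : ℝ) - c + t * c) / t|) :
    (((Finset.univ : Finset G).filter fun h => h ∈ H ∧ h ≠ 1).card : ℝ) * ((t : ℝ) ^ 2 * δ ^ 2) ≤
      ∑ h ∈ (Finset.univ : Finset G).filter (fun h => h ∈ H ∧ h ≠ 1),
        (‖(Nat.card (R h) : ℂ)⁻¹ * ∑ r : R h, χ (h * r)‖ ^ 2 +
          ∑ k ∈ Finset.Ico 1 t, ‖χ ((y : G) ^ k * h) - φ (y ^ k) + (c : ℂ)‖ ^ 2) := by
  classical
  set S := (Finset.univ : Finset G).filter fun h => h ∈ H ∧ h ≠ 1 with hSdef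
  have hmem : ∀ h ∈ S, h ∈ H ∧ h ≠ 1 := fun h hh => (Finset.mem_filter.1 hh).2
  have ht0 : t ≠ 0 := ht.out.ne_zero
  have hyG : orderOf (y : G) = t := by rw [Subgroup.orderOf_coe, hy]
  have hyt : (y : G) ^ t = 1 := hyG ▸ pow_orderOf_eq_one _
  have hyt' : y ^ t = 1 := hy ▸ pow_orderOf_eq_one _
  obtain ⟨ω, hω⟩ : ∃ ω : ℂ, IsPrimitiveRoot ω t := ⟨_, Complex.isPrimitiveRoot_exp t ht0⟩
  set N := Nat.card G with hN
  haveI : NeZero N := ⟨Nat.card_pos.ne'⟩
  have hLN : Nat.card L ∣ N := L.card_subgroup_dvd_card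
  have htN : t ∣ N := hyG ▸ orderOf_dvd_natCard (y : G)
  let Φ : G → ℂ := fun h => (Nat.card (R h) : ℂ)⁻¹ * ∑ r : R h, χ (h * r)
  let e : G → ℕ → ℂ := fun h k => if k = 0 then Φ h - d else χ ((y : G) ^ k * h) - φ (y ^ k)
  let x : ℕ → G → ℂ := fun a h => (t : ℂ)⁻¹ * ∑ k ∈ Finset.range t, ω ^ (a * k) * e h k
  -- the averages are algebraic integers
  have hxint : ∀ a, ∀ h ∈ S, IsIntegral ℤ (x a h) := by
    intro a h hh
    obtain ⟨hH, h1⟩ := hmem h hh
    have hζ : (ω ^ a) ^ t = 1 := by rw [← pow_mul, mul_comm, pow_mul, hω.pow_eq_one, one_pow]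
    have i1 := isIntegral_proj hχ ht0 hyt (R h) (hRy h hH h1) (hRh h hH h1) (hcy h hH) hζ
    have i2 := isIntegral_proj (G := L) hφ ht0 hyt' (⊥ : Subgroup L)
      (by rw [Subgroup.normalizer_eq_top]; exact Subgroup.mem_top _)
      (fun r _ => Commute.one_left _) (Commute.one_left _) hζ
    refine (congrArg (IsIntegral ℤ) ?_).mp (i1.sub i2)
    simp only [x]
    rw [← mul_sub, ← Finset.sum_sub_distrib]
    congr 1
    refine Finset.sum_congr rfl fun k hk => ?_
    rw [← pow_mul, ← mul_sub]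
    congr 1
    simp only [Subgroup.card_bot, Nat.cast_one, inv_one, one_mul, mul_one, Fintype.sum_unique]
    rw [show ((default : (⊥ : Subgroup L)) : L) = 1 from Subgroup.mem_bot.1 (default : (⊥ : Subgroup L)).2,
      mul_one]
    by_cases hk0 : k = 0
    · subst hk0
      simp only [e, if_pos, pow_zero, one_mul, hd, Φ]
      congr 2
      refine Finset.sum_congr rfl fun r _ => ?_
      exact congrArg χ (hRh h hH h1 _ r.2).eq.symm
    · simp only [e, if_neg hk0]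
      rw [Finset.sum_congr rfl fun (r : R h) _ => hfree h hH h1 k (Nat.pos_of_ne_zero hk0) (Finset.mem_range.1 hk) r r.2,
        Finset.sum_const, Finset.card_univ, nsmul_eq_mul, ← Nat.card_eq_fintype_card, ← mul_assoc,
        inv_mul_cancel₀ (Nat.cast_ne_zero.2 Nat.card_pos.ne'), one_mul]
  -- the action of the Galois group
  have hgal : ∀ (σ : ℂ ≃+* ℂ) (j : ℕ), j.Coprime N → (∀ z : ℂ, z ^ N = 1 → σ z = z ^ j) →
      ∀ a, ∀ h ∈ S, σ (x a h) = x a (h ^ j) := by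
    intro σ j hj hσ a h hh
    obtain ⟨hH, h1⟩ := hmem h hh
    have hL : ∀ z : ℂ, z ^ Nat.card L = 1 → σ.toRingHom z = z ^ j := fun z hz => by
      obtain ⟨m, hm⟩ := hLN
      exact hσ z (by rw [hm, pow_mul, hz, one_pow])
    have hωj : ∀ m : ℕ, σ (ω ^ m) = ω ^ (m * j) := fun m => by
      rw [pow_mul]
      refine hσ _ ?_
      obtain ⟨q, hq⟩ := htN
      rw [← pow_mul, mul_comm, hq, mul_assoc, pow_mul, hω.pow_eq_one, one_pow]
    have hjt : j.Coprime t := hj.coprime_dvd_right htN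
    have he : ∀ k, k < t → σ (e h k) = e (h ^ j) ((k * j) % t) := by
      intro k hk
      by_cases hk0 : k = 0
      · subst hk0
        have key : ∀ (A B : Subgroup G) (f g : G → ℂ), A = B →
            (∀ r ∈ A, σ (f r) = g (r ^ j)) →
            σ ((Nat.card A : ℂ)⁻¹ * ∑ r : A, f r) = (Nat.card B : ℂ)⁻¹ * ∑ r : B, g r := by
          rintro A _ f g rfl hfg
          rw [map_mul, map_inv₀, map_natCast, map_sum]
          congr 1
          exact Fintype.sum_equiv (powCoprime ((Nat.Coprime.coprime_dvd_right A.card_subgroup_dvd_card hj).symm))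
            _ _ fun r => hfg r r.2
        simp only [e, Φ, zero_mul, Nat.zero_mod, if_pos, map_sub, map_natCast]
        congr 1
        refine key (R h) (R (h ^ j)) (fun r => χ (h * r)) (fun r => χ (h ^ j * r)) (hRpow h hH h1 j hj).symm
          fun r hr => ?_
        refine (map_gen hχ σ.toRingHom hσ _).trans ?_
        rw [(hRh h hH h1 r hr).mul_pow]
      · have hne : (k * j) % t ≠ 0 := fun h' => by
          rcases ht.out.dvd_mul.1 (Nat.dvd_of_mod_eq_zero h') with h'' | h''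
          · exact hk0 (Nat.eq_zero_of_dvd_of_lt h'' hk)
          · exact ht.out.ne_one (Nat.eq_one_of_dvd_coprimes hjt h'' dvd_rfl)
        simp only [e, if_neg hk0, if_neg hne, map_sub]
        rw [show σ (χ ((y : G) ^ k * h)) = χ (((y : G) ^ k * h) ^ j) from map_gen hχ σ.toRingHom hσ _,
          show σ (φ (y ^ k)) = φ ((y ^ k) ^ j) from map_gen hφ σ.toRingHom hL _,
          ((hcy h hH).symm.pow_left k).mul_pow, ← pow_mul, ← pow_mul]
        rw [show (y : G) ^ ((k * j) % t) = (y : G) ^ (k * j) from by rw [← hyG, pow_mod_orderOf],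
          show y ^ ((k * j) % t) = y ^ (k * j) from by rw [← hy, pow_mod_orderOf]]
    simp only [x, map_mul, map_inv₀, map_natCast, map_sum]
    congr 1
    refine Finset.sum_nbij (fun k => (k * j) % t) (fun k _ => Finset.mem_range.2 (Nat.mod_lt _ (Nat.pos_of_ne_zero ht0)))
      ?_ ?_ fun k hk => ?_
    · intro k hk l hl hkl
      exact Nat.ModEq.eq_of_lt_of_lt (Nat.ModEq.cancel_right_of_coprime hjt.symm hkl)
        (Finset.mem_range.1 hk) (Finset.mem_range.1 hl)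
    · refine Finset.surjOn_of_injOn_of_card_le _ (fun k _ => Finset.mem_coe.2 (Finset.mem_range.2
        (Nat.mod_lt _ (Nat.pos_of_ne_zero ht0)))) ?_ le_rfl
      intro k hk l hl hkl
      exact Nat.ModEq.eq_of_lt_of_lt (Nat.ModEq.cancel_right_of_coprime hjt.symm hkl)
        (Finset.mem_range.1 hk) (Finset.mem_range.1 hl)
    · rw [hωj, he k (Finset.mem_range.1 hk)]
      congr 1
      rw [mul_assoc]
      conv_lhs => rw [pow_mul]
      conv_rhs => rw [pow_mul]
      rw [← Nat.mod_add_div (k * j) t, pow_add, pow_mul (ω ^ a) t, ← pow_mul ω a t, mul_comm a t, pow_mul ω t,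
        hω.pow_eq_one, one_pow, one_pow, mul_one, Nat.mod_add_div]
  let pj : (ZMod N)ˣ → G → G := fun j h => h ^ ((j : ZMod N).val)
  have hpj : ∀ j : (ZMod N)ˣ, Function.Injective (pj j) := fun j =>
    (powCoprime (ZMod.val_coe_unit_coprime j).symm).injective
  have hpjS : ∀ j, ∀ h ∈ S, pj j h ∈ S := fun j h hh => by
    obtain ⟨hH, h1⟩ := hmem h hh
    exact Finset.mem_filter.2 ⟨Finset.mem_univ _, H.pow_mem hH _, fun e1 => h1 (hpj j (e1.trans (one_pow _).symm))⟩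
  have hreindex : ∀ (j : (ZMod N)ˣ) (F : G → ℝ), ∑ h ∈ S, F (pj j h) = ∑ h ∈ S, F h := fun j F =>
    Finset.sum_nbij (pj j) (hpjS j) (hpj j).injOn
      (Finset.surjOn_of_injOn_of_card_le _ (fun h hh => hpjS j h hh) (hpj j).injOn le_rfl) fun h _ => rfl
  let ε : ℕ → ℝ := fun a => if a = 0 then ((d : ℝ) - c + t * c) / t else ((d : ℝ) - c) / t
  have havg : ∀ a, (Fintype.card (ZMod N)ˣ : ℝ) * ((S.card : ℝ) * δ ^ 2) ≤
      ∑ j : (ZMod N)ˣ, ∑ h ∈ S, ‖x a (pj j h) + (ε a : ℂ)‖ ^ 2 := by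
    intro a
    rw [Finset.sum_comm, ← mul_assoc, mul_comm (Fintype.card (ZMod N)ˣ : ℝ), mul_assoc, ← nsmul_eq_mul,
      ← Finset.sum_const]
    refine Finset.sum_le_sum fun h hh => CharProj.average_lower (fun j => x a (pj j h))
      (fun j => hxint a _ (hpjS j h hh)) (fun σ => ?_) (fun i => ?_) h0 hhalf fun m => ?_
    · obtain ⟨k, hk, hσ⟩ := CharGalois.exists_exponent σ.toRingHom (Nat.card_pos (α := G)).ne'
      refine ⟨ZMod.unitOfCoprime k hk, fun j => ?_⟩
      rw [hgal σ k hk hσ a _ (hpjS j h hh)]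
      refine congrArg (x a) ?_
      show (h ^ _) ^ k = h ^ _
      rw [← pow_mul]
      refine pow_congr h dvd_rfl ?_
      rw [Units.val_mul, ZMod.coe_unitOfCoprime, ZMod.val_mul, ZMod.val_natCast, Nat.mod_mod, mul_comm _ k,
        Nat.mod_mul_mod]
    · obtain ⟨σ, hσ⟩ := CharGalois.exists_galoisAut (Nat.card_pos (α := G)).ne' (ZMod.val_coe_unit_coprime i)
      refine ⟨σ, fun j => ?_⟩
      rw [hgal σ _ (ZMod.val_coe_unit_coprime i) hσ a _ (hpjS j h hh)]
      refine congrArg (x a) ?_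
      show (h ^ _) ^ _ = h ^ _
      rw [← pow_mul]
      refine pow_congr h dvd_rfl ?_
      rw [Units.val_mul, ZMod.val_mul, Nat.mod_mod, mul_comm]
    · by_cases ha : a = 0
      · simpa only [ε, if_pos ha] using hdist' m
      · simpa only [ε, if_neg ha] using hdist m
  have hQ : ∀ h : G, ‖Φ h‖ ^ 2 + ∑ k ∈ Finset.Ico 1 t, ‖χ ((y : G) ^ k * h) - φ (y ^ k) + (c : ℂ)‖ ^ 2 =
      (t : ℝ) * ∑ a ∈ Finset.range t, ‖x a h + (ε a : ℂ)‖ ^ 2 := by
    intro h
    let u : ℕ → ℂ := fun k => if k = 0 then Φ h else χ ((y : G) ^ k * h) - φ (y ^ k) + (c : ℂ)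
    have hu : ∑ k ∈ Finset.range t, ‖u k‖ ^ 2 =
        ‖Φ h‖ ^ 2 + ∑ k ∈ Finset.Ico 1 t, ‖χ ((y : G) ^ k * h) - φ (y ^ k) + (c : ℂ)‖ ^ 2 := by
      rw [Finset.range_eq_Ico, Finset.sum_eq_sum_Ico_succ_bot (Nat.pos_of_ne_zero ht0)]
      congr 1
      exact Finset.sum_congr rfl fun k hk => by
        simp only [u, if_neg (show k ≠ 0 by have := (Finset.mem_Ico.1 hk).1; omega)]
    have hsum : ∀ a, a < t → (∑ k ∈ Finset.range t, ω ^ (a * k)) = if a = 0 then (t : ℂ) else 0 := by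
      intro a ha
      split_ifs with h'
      · simp [h']
      · have hne : ω ^ a ≠ 1 := fun e1 => h' (hω.pow_inj ha (Nat.pos_of_ne_zero ht0) (by rw [e1, pow_zero]))
        simp only [pow_mul]
        rw [geom_sum_eq hne, ← pow_mul, mul_comm, pow_mul, hω.pow_eq_one, one_pow, sub_self, zero_div]
    have hu2 : ∀ a, a < t → ∑ k ∈ Finset.range t, ω ^ (a * k) * u k = (t : ℂ) * (x a h + (ε a : ℂ)) := by
      intro a ha
      have hsplit : ∀ k, u k = e h k + (c : ℂ) + if k = 0 then (d : ℂ) - c else 0 := fun k => by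
        by_cases hk : k = 0
        · simp only [u, e, if_pos hk]; ring
        · simp only [u, e, if_neg hk]; ring
      simp only [hsplit, mul_add, Finset.sum_add_distrib, ← Finset.sum_mul, hsum a ha, mul_ite, mul_zero,
        Finset.sum_ite_eq', Finset.mem_range, Nat.pos_of_ne_zero ht0, if_true, pow_zero, one_mul]
      simp only [x]
      rw [← mul_assoc, mul_inv_cancel₀ (Nat.cast_ne_zero.2 ht0), one_mul, add_assoc]
      congr 1
      have ht0' : (t : ℂ) ≠ 0 := Nat.cast_ne_zero.2 ht0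
      by_cases ha0 : a = 0
      · simp only [ε, if_pos ha0]; push_cast; field_simp; ring
      · simp only [ε, if_neg ha0]; push_cast; field_simp; ring
    have hp := CharProj.parseval ht0 hω u
    rw [hu, Finset.sum_congr rfl fun a ha => show ‖∑ k ∈ Finset.range t, ω ^ (a * k) * u k‖ ^ 2 =
        (t : ℝ) * ((t : ℝ) * ‖x a h + (ε a : ℂ)‖ ^ 2) by
      rw [hu2 a (Finset.mem_range.1 ha), norm_mul, Complex.norm_natCast, mul_pow, sq (t : ℝ), mul_assoc],
      ← Finset.mul_sum] at hp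
    rw [← Finset.mul_sum] at hp
    exact (mul_left_cancel₀ (Nat.cast_ne_zero.2 ht0) hp).symm
  have hcard : (0 : ℝ) < Fintype.card (ZMod N)ˣ := Nat.cast_pos.2 Fintype.card_pos
  refine le_of_mul_le_mul_left ?_ hcard
  calc (Fintype.card (ZMod N)ˣ : ℝ) * ((S.card : ℝ) * ((t : ℝ) ^ 2 * δ ^ 2))
      = (t : ℝ) * ∑ a ∈ Finset.range t, (Fintype.card (ZMod N)ˣ : ℝ) * ((S.card : ℝ) * δ ^ 2) := by
        rw [Finset.sum_const, Finset.card_range, nsmul_eq_mul]; ring
    _ ≤ (t : ℝ) * ∑ a ∈ Finset.range t, ∑ j : (ZMod N)ˣ, ∑ h ∈ S, ‖x a (pj j h) + (ε a : ℂ)‖ ^ 2 :=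
        mul_le_mul_of_nonneg_left (Finset.sum_le_sum fun a _ => havg a) (Nat.cast_nonneg t)
    _ = (Fintype.card (ZMod N)ˣ : ℝ) * ∑ h ∈ S, ((t : ℝ) * ∑ a ∈ Finset.range t, ‖x a h + (ε a : ℂ)‖ ^ 2) := by
        rw [Finset.sum_congr rfl fun a _ => Finset.sum_congr rfl fun j _ =>
          hreindex j fun h => ‖x a h + (ε a : ℂ)‖ ^ 2]
        simp only [Finset.sum_const, Finset.card_univ, nsmul_eq_mul, Finset.mul_sum]
        rw [Finset.sum_comm]
        exact Finset.sum_congr rfl fun h _ => Finset.sum_congr rfl fun a _ => by ring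
    _ = _ := by
        congr 1
        exact Finset.sum_congr rfl fun h _ => (hQ h).symm

end Cfsg.Agent.OddOrder.CBound
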