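/-
An element of order `t` of a supporting subgroup which centralizes `M_σ`: the character count.
-/
import Cfsg.Agent.Lib.OddOrder.DadeTau
import Cfsg.Agent.Lib.OddOrder.CentralBound
import Cfsg.Agent.Lib.Char.TwistFamily
import Cfsg.Agent.Lib.Char.DadeVirtual
import Cfsg.Agent.Lib.Char.Isometry
import Cfsg.Agent.Lib.Char.Integral
import Cfsg.Agent.S1500

set_option autoImplicit false
set_option linter.style.haveILetI false
set_option linter.unusedSectionVars false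
set_option linter.unusedSimpArgs false

namespace Cfsg.Agent.OddOrder.CFam

open scoped ComplexConjugate Pointwise
open Exceptional TauOne Kappa Support
open Pairing (mem_sigmaCore_of_primes)
open Cfsg.Agent.Char (classInner_sub_left classInner_sub_right)

universe u

variable {G : Type u} [Group G] [Fintype G] (hG : Cfsg.IsMinSimpleOddOrder G) {M : Subgroup G} (hM : IsCoatom M)
include hG hM

theorem card_supportR_conj {h n : G} (hh : h ∈ Cfsg.sigmaCore M) (h1 : h ≠ 1) (hn : n ∈ M) :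
    Nat.card (Cfsg.supportR M (n * h * n⁻¹)) = Nat.card (Cfsg.supportR M h) := by
  have key : ∀ {h n : G}, h ∈ Cfsg.sigmaCore M → h ≠ 1 → n ∈ M →
      Nat.card (Cfsg.supportR M h) ≤ Nat.card (Cfsg.supportR M (n * h * n⁻¹)) := by
    intro h n hh h1 hn
    rw [← Subgroup.card_map_of_injective (K := Cfsg.supportR M h) (f := (MulAut.conj n).toMonoidHom) (MulAut.conj n).injective]
    refine Nat.card_le_card_of_injective _ (Subgroup.inclusion_injective ?_)
    rintro _ ⟨r, hr, rfl⟩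
    have := supportR_conj_le hG hM hh h1 hr n
    rwa [map_conj_of_mem hn] at this
  refine le_antisymm ?_ (key hh h1 hn)
  have := key (h := n * h * n⁻¹) (n := n⁻¹)
    ((Subgroup.mem_normalizer_iff.1 (le_normalizer_sigmaCore M hn) h).1 hh)
    (fun e => h1 (conj_eq_one_iff.1 e)) (M.inv_mem hn)
  rwa [show n⁻¹ * (n * h * n⁻¹) * n⁻¹⁻¹ = h by group] at this

/-- The primes of `R(h)` avoid `σ(M)`. -/
theorem primes_supportR {h : G} (hh : h ∈ Cfsg.sigmaCore M) (h1 : h ≠ 1) {r : G} (hr : r ∈ Cfsg.supportR M h)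
    {s : ℕ} (hs : s.Prime) (hd : s ∣ orderOf r) : s ∉ Cfsg.sigma M := by
  rcases supportR_cases hG hM hh h1 with ⟨-, he⟩ | ⟨N, -, -, -, -, hdis, -, he⟩ <;> rw [he] at hr
  · rw [Subgroup.mem_bot.1 hr, orderOf_one] at hd
    exact absurd (Nat.dvd_one.1 hd) hs.ne_one
  · exact fun hsM => hdis s hsM (primes_of_mem_sigmaCore hr.1 hs hd)

/-- `C(h) = R(h) C_M(h)`. -/
theorem exists_factor {h c : G} (hh : h ∈ Cfsg.sigmaCore M) (h1 : h ≠ 1)
    (hc : c ∈ Subgroup.centralizer ({h} : Set G)) :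
    ∃ r ∈ Cfsg.supportR M h, ∃ m ∈ M, c = r * m := by
  rcases supportR_cases hG hM hh h1 with ⟨hle, -⟩ | ⟨N, hN, hno, hC, -, -, -, he⟩
  · exact ⟨1, one_mem _, c, hle hc, (one_mul c).symm⟩
  · obtain ⟨a, ha, s, hs, has⟩ := (centralizer_compl (PSupp.support hG hM hh h1 hno hN hC).2.2.2.1 (sigmaCore_le M hh)
      (hC (Subgroup.mem_centralizer_singleton_iff.2 rfl)) hC).2.2.2 c hc
    refine ⟨a * s * a⁻¹, ?_, a, ha.1, by rw [has]; group⟩
    exact (Subgroup.mem_normalizer_iff.1 (centralizer_le_normalizer_supportR hG hM hh h1 ha.2) s).1 (he ▸ hs)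

/-- Each element is counted at most `|M|` times. -/
theorem fibre_bound {y : G} {t : ℕ} (ht : t.Prime) (hy : orderOf y = t) (htσ : t ∉ Cfsg.sigma M)
    (hCy : Subgroup.centralizer ({y} : Set G) = M)
    (hdisj : ∀ h ∈ Cfsg.sigmaCore M, h ≠ 1 → ∀ r ∈ Cfsg.supportR M h, ∀ h' ∈ Cfsg.sigmaCore M, h' ≠ 1 →
      ∀ k : ℕ, 0 < k → k < t → ∀ w : G, w * (h * r) * w⁻¹ ≠ y ^ k * h')
    {f : G → ℝ} (hf0 : ∀ g, 0 ≤ f g) (hf : ∀ g w : G, f (w * g * w⁻¹) = f g)
    [DecidablePred fun h => h ∈ Cfsg.sigmaCore M ∧ h ≠ 1] [∀ h, Fintype (Cfsg.supportR M h)] :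
    (Nat.card G : ℝ) * ∑ h ∈ (Finset.univ : Finset G).filter (fun h => h ∈ Cfsg.sigmaCore M ∧ h ≠ 1),
        ((Nat.card (Cfsg.supportR M h) : ℝ)⁻¹ * ∑ r : Cfsg.supportR M h, f (h * r) +
          ∑ k ∈ Finset.Ico 1 t, f (y ^ k * h)) ≤ (Nat.card M : ℝ) * ∑ g : G, f g := by
  classical
  set S := (Finset.univ : Finset G).filter fun h => h ∈ Cfsg.sigmaCore M ∧ h ≠ 1 with hSdef
  have hS : ∀ {h}, h ∈ S → h ∈ Cfsg.sigmaCore M ∧ h ≠ 1 := fun hh => (Finset.mem_filter.1 hh).2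
  let Dr : G → Finset G := fun h => (Finset.univ : Finset G).filter fun r => r ∈ Cfsg.supportR M h
  let PA := (Finset.univ : Finset G) ×ˢ ((S ×ˢ (Finset.univ : Finset G)).filter fun q => q.2 ∈ Dr q.1)
  let PB := (Finset.univ : Finset G) ×ˢ (S ×ˢ Finset.Ico 1 t)
  let cA : G × G × G → G := fun p => p.1 * (p.2.1 * p.2.2) * p.1⁻¹
  let cB : G × G × ℕ → G := fun p => p.1 * (y ^ p.2.2 * p.2.1) * p.1⁻¹
  let w : G × G × G → ℝ := fun p => (Nat.card (Cfsg.supportR M p.2.1) : ℝ)⁻¹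
  have hA : (Nat.card G : ℝ) * ∑ h ∈ S, (Nat.card (Cfsg.supportR M h) : ℝ)⁻¹ * ∑ r : Cfsg.supportR M h, f (h * r) =
      ∑ g : G, (∑ p ∈ PA.filter (fun p => cA p = g), w p) * f g := by
    rw [Finset.sum_congr rfl fun g _ => Finset.sum_mul _ _ _]
    rw [Finset.sum_congr rfl fun g _ => Finset.sum_congr rfl fun p hp =>
      show w p * f g = w p * f (cA p) by rw [(Finset.mem_filter.1 hp).2],
      Finset.sum_fiberwise PA cA (fun p => w p * f (cA p)), Finset.sum_product, Finset.sum_congr rfl fun g _ => Finset.sum_congr rfl fun q _ =>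
      show w (g, q) * f (cA (g, q)) = (Nat.card (Cfsg.supportR M q.1) : ℝ)⁻¹ * f (q.1 * q.2) by simp only [cA, w, hf],
      Finset.sum_const, Finset.card_univ, nsmul_eq_mul, ← Nat.card_eq_fintype_card,
      Finset.sum_finset_product _ S Dr (fun q => by simp [Dr])]
    congr 1
    refine Finset.sum_congr rfl fun h _ => ?_
    show _ = ∑ a ∈ Dr h, (Nat.card (Cfsg.supportR M h) : ℝ)⁻¹ * f (h * a)
    rw [← Finset.mul_sum, Finset.sum_subtype (Dr h) (p := fun r => r ∈ Cfsg.supportR M h) (fun r => by simp [Dr]) fun a => f (h * a)]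
  have hB : (Nat.card G : ℝ) * ∑ h ∈ S, ∑ k ∈ Finset.Ico 1 t, f (y ^ k * h) =
      ∑ g : G, ((PB.filter (fun p => cB p = g)).card : ℝ) * f g := by
    rw [Finset.sum_congr rfl fun g _ => (nsmul_eq_mul (PB.filter (fun p => cB p = g)).card (f g)).symm,
      Finset.sum_congr rfl fun g _ => (Finset.sum_const (f g)).symm,
      Finset.sum_congr rfl fun g _ => Finset.sum_congr rfl fun p hp =>
      show f g = f (cB p) by rw [(Finset.mem_filter.1 hp).2],
      Finset.sum_fiberwise PB cB (fun p => f (cB p)), Finset.sum_product, Finset.sum_congr rfl fun g _ => Finset.sum_congr rfl fun q _ =>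
      show f (cB (g, q)) = f (y ^ q.2 * q.1) by simp only [cB, hf],
      Finset.sum_const, Finset.card_univ, nsmul_eq_mul, ← Nat.card_eq_fintype_card, Finset.sum_product]
  rw [Finset.sum_add_distrib, mul_add, hA, hB, ← Finset.sum_add_distrib, Finset.mul_sum]
  refine Finset.sum_le_sum fun g _ => ?_
  rw [← add_mul]
  refine mul_le_mul_of_nonneg_right ?_ (hf0 g)
  rcases (PA.filter fun p => cA p = g).eq_empty_or_nonempty with hAe | ⟨⟨g₁, h₁, r₁⟩, hp₁⟩
  · rw [hAe, Finset.sum_empty, zero_add]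
    rcases (PB.filter fun p => cB p = g).eq_empty_or_nonempty with hBe | ⟨⟨g₁, h₁, k₁⟩, hp₁⟩
    · rw [hBe, Finset.card_empty, Nat.cast_zero]
      exact Nat.cast_nonneg _
    -- elements `y ^ k h`
    simp only [PB, cB, Finset.mem_filter, Finset.mem_product, Finset.mem_univ, true_and, Finset.mem_Ico] at hp₁
    obtain ⟨⟨hh₁, hk₁⟩, he₁⟩ := hp₁
    obtain ⟨hh₁, h11⟩ := hS hh₁
    have hcy : ∀ h ∈ Cfsg.sigmaCore M, ∀ k : ℕ, Commute (y ^ k) h := fun h hh k =>
      (Subgroup.mem_centralizer_singleton_iff.1 (hCy.ge (sigmaCore_le M hh)) : h * y = y * h).symm |> fun e =>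
        Commute.pow_left (show Commute y h from e) k
    have key : ∀ p ∈ PB.filter (fun p => cB p = g), g₁⁻¹ * p.1 ∈ M ∧ y ^ p.2.2 = y ^ k₁ ∧
        p.2.1 = (g₁⁻¹ * p.1)⁻¹ * h₁ * (g₁⁻¹ * p.1) := by
      rintro ⟨g', h, k⟩ hp
      simp only [PB, cB, Finset.mem_filter, Finset.mem_product, Finset.mem_univ, true_and, Finset.mem_Ico] at hp
      obtain ⟨⟨hh, hk⟩, he⟩ := hp
      obtain ⟨hh, h1⟩ := hS hh
      simp only
      set v := g₁⁻¹ * g' with hv
      have e : v * y ^ k * v⁻¹ * (v * h * v⁻¹) = y ^ k₁ * h₁ := by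
        calc v * y ^ k * v⁻¹ * (v * h * v⁻¹) = g₁⁻¹ * (g' * (y ^ k * h) * g'⁻¹) * g₁ := by rw [hv]; group
          _ = g₁⁻¹ * (g₁ * (y ^ k₁ * h₁) * g₁⁻¹) * g₁ := by rw [he, he₁]
          _ = y ^ k₁ * h₁ := by group
      have c1 : Commute (v * y ^ k * v⁻¹) (v * h * v⁻¹) := by
        simpa [MulAut.conj_apply] using (hcy h hh k).map (MulAut.conj v).toMonoidHom
      have hord : ∀ k : ℕ, 0 < k → k < t → orderOf (y ^ k) = t := fun k hk0 hkt => by
        rw [Nat.Coprime.orderOf_pow, hy]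
        rw [hy]
        exact (Nat.Prime.coprime_iff_not_dvd ht).2 (Nat.not_dvd_of_pos_of_lt hk0 hkt)
      have hπ : ∀ k : ℕ, 0 < k → k < t → ∀ v : G, ∀ s : ℕ, s.Prime → s ∣ orderOf (v * y ^ k * v⁻¹) → s ∈ ({t} : Set ℕ) :=
        fun k hk0 hkt v s hs hd => by
          rw [← MulAut.conj_apply, MulEquiv.orderOf_eq, hord k hk0 hkt] at hd
          exact (Nat.prime_dvd_prime_iff_eq hs ht).1 hd
      have hπ' : ∀ h ∈ Cfsg.sigmaCore M, ∀ v : G, ∀ s : ℕ, s.Prime → s ∣ orderOf (v * h * v⁻¹) → s ∉ ({t} : Set ℕ) :=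
        fun h hh v s hs hd hst => by
          rw [← MulAut.conj_apply, MulEquiv.orderOf_eq] at hd
          exact htσ ((Set.mem_singleton_iff.1 hst) ▸ primes_of_mem_sigmaCore hh hs hd)
      have hyk : v * y ^ k * v⁻¹ = y ^ k₁ := part_unique ({t} : Set ℕ) c1 (hcy h₁ hh₁ k₁) e (hπ k hk.1 hk.2 v)
        (by simpa using hπ k₁ hk₁.1 hk₁.2 1) (hπ' h hh v) (by simpa using hπ' h₁ hh₁ 1)
      have hz : Subgroup.zpowers y ≤ (Subgroup.zpowers y).map (MulAut.conj v).toMonoidHom := by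
        have hmem : y ∈ Subgroup.zpowers (y ^ k₁) := by
          obtain ⟨j, hj⟩ := exists_pow_eq_self_of_coprime (x := y) (n := k₁)
            (by rw [hy]; exact ((Nat.Prime.coprime_iff_not_dvd ht).2 (Nat.not_dvd_of_pos_of_lt hk₁.1 hk₁.2)).symm)
          exact ⟨j, by simpa using hj⟩
        rw [Subgroup.zpowers_le, MonoidHom.map_zpowers]
        refine Subgroup.zpowers_le.2 ?_ hmem
        rw [← hyk]
        exact ⟨k, by simp⟩
      have hvN : v ∈ Subgroup.normalizer (Subgroup.zpowers y : Set G) :=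
        ComplAbelian.mem_normalizer_of_map_le fun z hz' => by
          have hcard : Nat.card ((Subgroup.zpowers y).map (MulAut.conj v).toMonoidHom) = Nat.card (Subgroup.zpowers y) :=
            Subgroup.card_map_of_injective (MulAut.conj v).injective
          exact (Subgroup.eq_of_le_of_card_ge hz hcard.le).ge ⟨z, hz', rfl⟩
      have hMN : M ≤ Subgroup.normalizer (Subgroup.zpowers y : Set G) := by
        rw [← hCy, ← Plane.centralizer_zpowers]
        exact Subgroup.centralizer_le_normalizer _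
      have hNM : Subgroup.normalizer (Subgroup.zpowers y : Set G) = M := by
        rcases hM.le_iff.1 hMN with h' | h'
        · refine absurd h' (MinSimple.normalizer_ne_top hG ?_ ?_)
          · exact fun e' => ht.ne_one (by rw [← hy, Subgroup.zpowers_eq_bot.1 e', orderOf_one])
          · haveI := Fact.mk ht
            exact MinSimple.pSubgroup_ne_top hG (Tau3.line_pgroup (by rw [Nat.card_zpowers, hy]))
        · exact h'
      have hvM : v ∈ M := hNM.le hvN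
      have hvy : v * y ^ k * v⁻¹ = y ^ k := by
        have := ((show Commute v y from Subgroup.mem_centralizer_singleton_iff.1 (hCy.ge hvM)).pow_right k).eq
        rw [this, mul_inv_cancel_right]
      rw [hvy] at hyk
      refine ⟨hvM, hyk, ?_⟩
      rw [hvy, hyk] at e
      rw [← mul_left_cancel e]
      group
    have h1 : (PB.filter fun p => cB p = g).card ≤ (Finset.univ.filter fun m : G => m ∈ M).card := by
      refine Finset.card_le_card_of_injOn (fun p => g₁⁻¹ * p.1)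
        (fun p hp => by simpa using (key p hp).1) ?_
      rintro ⟨g', h, k⟩ hp ⟨g'', h', k'⟩ hp' hpp
      obtain rfl : g' = g'' := mul_left_cancel hpp
      obtain ⟨-, hk, hh⟩ := key _ hp
      obtain ⟨-, hk', hh'⟩ := key _ hp'
      simp only at hk hh hk' hh'
      simp only [PB, Finset.coe_filter, Set.mem_setOf_eq, Finset.mem_product, Finset.mem_Ico] at hp hp'
      rw [show k = k' from pow_injOn_Iio_orderOf (by simpa [hy] using hp.1.2.2.2) (by simpa [hy] using hp'.1.2.2.2)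
        (hk.trans hk'.symm), hh, hh']
    rw [← Fintype.card_subtype, ← Nat.card_eq_fintype_card] at h1
    exact_mod_cast h1
  -- elements `h r`
  simp only [PA, cA, Dr, Finset.mem_filter, Finset.mem_product, Finset.mem_univ, true_and, and_true] at hp₁
  obtain ⟨⟨hh₁, hr₁⟩, he₁⟩ := hp₁
  obtain ⟨hh₁, h11⟩ := hS hh₁
  have hBe : PB.filter (fun p => cB p = g) = ∅ := by
    refine Finset.filter_eq_empty_iff.2 ?_
    rintro ⟨g', h', k⟩ hp he
    simp only [PB, Finset.mem_product, Finset.mem_univ, true_and, Finset.mem_Ico] at hp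
    obtain ⟨hh', h1'⟩ := hS hp.1
    refine hdisj h₁ hh₁ h11 r₁ hr₁ h' hh' h1' k hp.2.1 hp.2.2 (g'⁻¹ * g₁) ?_
    replace he : g' * (y ^ k * h') * g'⁻¹ = g := he
    calc g'⁻¹ * g₁ * (h₁ * r₁) * (g'⁻¹ * g₁)⁻¹ = g'⁻¹ * (g₁ * (h₁ * r₁) * g₁⁻¹) * g' := by group
      _ = g'⁻¹ * (g' * (y ^ k * h') * g'⁻¹) * g' := by rw [he₁, he]
      _ = y ^ k * h' := by group
  rw [hBe, Finset.card_empty, Nat.cast_zero, add_zero]
  have key : ∀ p ∈ PA.filter (fun p => cA p = g), (g₁⁻¹ * p.1) * p.2.1 * (g₁⁻¹ * p.1)⁻¹ = h₁ ∧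
      (g₁⁻¹ * p.1) * p.2.2 * (g₁⁻¹ * p.1)⁻¹ = r₁ ∧ Nat.card (Cfsg.supportR M p.2.1) = Nat.card (Cfsg.supportR M h₁) ∧
      ∃ s ∈ Cfsg.supportR M h₁, ∃ m ∈ M, g₁⁻¹ * p.1 = s * m := by
    rintro ⟨g', h, r⟩ hp
    simp only [PA, cA, Dr, Finset.mem_filter, Finset.mem_product, Finset.mem_univ, true_and, and_true] at hp
    obtain ⟨⟨hh, hr⟩, he⟩ := hp
    obtain ⟨hh, h1⟩ := hS hh
    simp only
    set v := g₁⁻¹ * g' with hv
    have e : v * h * v⁻¹ * (v * r * v⁻¹) = h₁ * r₁ := by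
      calc v * h * v⁻¹ * (v * r * v⁻¹) = g₁⁻¹ * (g' * (h * r) * g'⁻¹) * g₁ := by rw [hv]; group
        _ = g₁⁻¹ * (g₁ * (h₁ * r₁) * g₁⁻¹) * g₁ := by rw [he, he₁]
        _ = h₁ * r₁ := by group
    have c1 : Commute (v * h * v⁻¹) (v * r * v⁻¹) := by
      simpa [MulAut.conj_apply] using (commute_supportR hG hM hh h1 hr).map (MulAut.conj v).toMonoidHom
    have hhh : v * h * v⁻¹ = h₁ := by
      refine part_unique (Cfsg.sigma M) c1 (commute_supportR hG hM hh₁ h11 hr₁) e (fun s hs hd => ?_)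
        (fun s hs hd => primes_of_mem_sigmaCore hh₁ hs hd) (fun s hs hd => ?_)
        fun s hs hd => primes_supportR hG hM hh₁ h11 hr₁ hs hd
      · rw [← MulAut.conj_apply, MulEquiv.orderOf_eq] at hd
        exact primes_of_mem_sigmaCore hh hs hd
      · rw [← MulAut.conj_apply, MulEquiv.orderOf_eq] at hd
        exact primes_supportR hG hM hh h1 hr hs hd
    obtain ⟨n, hn, hne⟩ := (S1438.result hG M hM _ le_rfl (Kappa.sigmaCore_ne_bot hG hM)
      (by rw [Subgroup.relIndex_self]; exact Nat.coprime_one_right _)).2 h hh v (hhh ▸ hh₁)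
    rw [hhh] at hne
    refine ⟨hhh, by rw [hhh] at e; exact mul_left_cancel e, ?_, ?_⟩
    · rw [← hne]
      exact (card_supportR_conj hG hM hh h1 hn.1).symm
    · obtain ⟨s, hs, m, hm, hsm⟩ := exists_factor hG hM hh₁ h11 (c := v * n⁻¹)
        (Subgroup.mem_centralizer_singleton_iff.2 (by
          calc v * n⁻¹ * h₁ = v * n⁻¹ * (n * h * n⁻¹) := by rw [hne]
            _ = v * h * v⁻¹ * (v * n⁻¹) := by group
            _ = h₁ * (v * n⁻¹) := by rw [hhh]))
      exact ⟨s, hs, m * n, M.mul_mem hm hn.1, by rw [← mul_assoc, ← hsm, inv_mul_cancel_right]⟩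
  have h1 : (PA.filter fun p => cA p = g).card ≤
      ((Finset.univ.filter fun s : G => s ∈ Cfsg.supportR M h₁) ×ˢ Finset.univ.filter fun m : G => m ∈ M).card := by
    refine le_trans ?_ (Finset.card_image_le (f := fun q : G × G => g₁ * (q.1 * q.2)))
    refine Finset.card_le_card_of_injOn (fun p => p.1) (fun p hp => ?_) ?_
    · obtain ⟨-, -, -, s, hs, m, hm, he⟩ := key p hp
      exact Finset.mem_image.2 ⟨(s, m), by simpa using ⟨hs, hm⟩, by simp [← he]⟩
    · rintro ⟨g', h, r⟩ hp ⟨g'', h', r'⟩ hp' (rfl : g' = g'')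
      obtain ⟨a, b, -⟩ := key _ hp
      obtain ⟨a', b', -⟩ := key _ hp'
      simp only at a b a' b'
      rw [mul_left_cancel (mul_right_cancel (a.trans a'.symm)), mul_left_cancel (mul_right_cancel (b.trans b'.symm))]
  rw [Finset.card_product, ← Fintype.card_subtype, ← Fintype.card_subtype, ← Nat.card_eq_fintype_card,
    ← Nat.card_eq_fintype_card] at h1
  rw [Finset.sum_congr rfl fun p hp => show w p = (Nat.card (Cfsg.supportR M h₁) : ℝ)⁻¹ by
    simp only [w, (key p hp).2.2.1], Finset.sum_const, nsmul_eq_mul, ← div_eq_mul_inv,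
    div_le_iff₀ (Nat.cast_pos.2 Nat.card_pos)]
  rw [mul_comm (Nat.card M : ℝ)]
  exact_mod_cast h1

omit hG hM in
/-- The numerical end of the count. -/
theorem numeric_false {d t H T Sm : ℝ} (hd : 3 ≤ d) (hT : 25 ≤ T) (hH : 11 ≤ H)
    (h1 : (H - 1) * (d - 9 / 8) ^ 2 ≤ Sm) (h2 : Sm * (T - 1) ≤ H * d * T) : False := by
  have hT1 : (0 : ℝ) < T - 1 := by linarith
  have h3 : Sm ≤ H * d * (25 / 24) := by
    refine le_of_mul_le_mul_right ?_ hT1
    refine h2.trans ?_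
    have : (0 : ℝ) ≤ H * d := by nlinarith
    nlinarith
  have h4 : (55 / 48 : ℝ) * d < (d - 9 / 8) ^ 2 := by nlinarith
  have h5 : H * (10 / 11) * (d - 9 / 8) ^ 2 ≤ (H - 1) * (d - 9 / 8) ^ 2 :=
    mul_le_mul_of_nonneg_right (by linarith) (sq_nonneg _)
  nlinarith

theorem false_of_family {L R V T : Subgroup G} (hL : IsCoatom L) {y : G} {t : ℕ} (ht : t.Prime)
    (hy : orderOf y = t) (htM : t ∈ Cfsg.tau2 M) (htL : t ∈ Cfsg.sigma L) (hyσ : y ∈ Cfsg.sigmaCore L)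
    (hCy : Subgroup.centralizer ({y} : Set G) = M)
    (hVT : V ≤ T) (hTR : T ≤ R) (hRL : R ≤ L) (hnR : L ≤ Subgroup.normalizer (R : Set G))
    (hnV : L ≤ Subgroup.normalizer (V : Set G)) (hnT : L ≤ Subgroup.normalizer (T : Set G))
    (hyT : y ∈ T) (hyV : y ∉ V) (hab : ∀ a ∈ R, ∀ b ∈ R, a * b * a⁻¹ * b⁻¹ ∈ V)
    (hfree : ∀ u ∈ L, u ∉ R → ∀ b ∈ T, b ∉ V → u * b * u⁻¹ * b⁻¹ ∉ V)
    (hsupp : ∀ z ∈ R, z ∉ V → z ∈ DadeT.supp L)
    (hd : 3 ≤ R.relIndex L) (hdt : 2 * R.relIndex L ≤ t + 1) (hTV : t ^ 2 ≤ V.relIndex T)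
    (hMcard : Nat.card M ≤ Nat.card (Cfsg.sigmaCore M) * V.relIndex R)
    (hH : 11 ≤ Nat.card (Cfsg.sigmaCore M)) : False := by
  classical
  haveI := Fact.mk ht
  haveI : Fintype L := Fintype.ofFinite L
  haveI hnR' : (R.subgroupOf L).Normal := Subgroup.normal_subgroupOf_of_le_normalizer hnR
  haveI hnV' : (V.subgroupOf L).Normal := Subgroup.normal_subgroupOf_of_le_normalizer hnV
  haveI hnT' : (T.subgroupOf L).Normal := Subgroup.normal_subgroupOf_of_le_normalizer hnT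
  set R' := R.subgroupOf L
  set V' := V.subgroupOf L
  set T' := T.subgroupOf L
  have hVT' : V' ≤ T' := Subgroup.comap_mono hVT
  have hTR' : T' ≤ R' := Subgroup.comap_mono hTR
  have hab' : ∀ a ∈ R', ∀ b ∈ R', a * b * a⁻¹ * b⁻¹ ∈ V' := fun a ha b hb => by
    simpa [V', Subgroup.mem_subgroupOf] using hab a ha b hb
  have hfree' : ∀ x : L, x ∉ R' → ∀ b ∈ T', b ∉ V' → x * b * x⁻¹ * b⁻¹ ∉ V' := fun x hx b hb hb' => by
    simpa [V', Subgroup.mem_subgroupOf] using hfree x x.2 hx b hb hb'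
  haveI := TwistFam.finite_ann R' V' hab'
  letI : Fintype (TwistFam.Fam R' V' T') := Fintype.ofFinite _
  set d := R.relIndex L with hddef
  have hidx : R'.index = d := rfl
  set Tb := V.relIndex T
  set W := T.relIndex R
  have hrVR : V'.relIndex R' = Tb * W := by
    rw [Subgroup.relIndex_subgroupOf hRL, Subgroup.relIndex_mul_relIndex V T R hVT hTR]
  have hrTR : T'.relIndex R' = W := Subgroup.relIndex_subgroupOf hRL
  set N := Fintype.card (TwistFam.Fam R' V' T')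
  have hN : (N : ℝ) = (W : ℝ) * ((Tb : ℝ) - 1) := by
    have := TwistFam.card_fam (R := R') (T := T') hab' hVT'
    rw [hrVR, hrTR] at this
    have : ((N : ℝ) : ℂ) = (((W : ℝ) * ((Tb : ℝ) - 1) : ℝ) : ℂ) := by
      push_cast
      rw [this]; push_cast; ring
    exact_mod_cast this
  have hW : 0 < W := Nat.pos_of_ne_zero (by
    intro e
    exact Subgroup.index_ne_zero_of_finite (H := T.subgroupOf R) e)
  have ht2 : 2 ≤ t := ht.two_le
  have ht5 : 5 ≤ t := by omega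
  have hTb : 25 ≤ Tb := le_trans (by nlinarith) hTV
  have hN0 : (0 : ℝ) < N := by
    rw [hN]
    have : (25 : ℝ) ≤ Tb := by exact_mod_cast hTb
    have : (0 : ℝ) < W := by exact_mod_cast hW
    nlinarith
  haveI : Nonempty (TwistFam.Fam R' V' T') := Fintype.card_pos_iff.1 (by exact_mod_cast hN0)
  obtain ⟨f₀⟩ := ‹Nonempty (TwistFam.Fam R' V' T')›
  -- the Dade map
  set A : Set G := {z | z ∈ R ∧ z ∉ V} with hAdef
  have hconj : ∀ x ∈ L, ∀ a ∈ A, x * a * x⁻¹ ∈ A := fun x hx a ha =>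
    ⟨(Subgroup.mem_normalizer_iff.1 (hnR hx) a).1 ha.1, fun h => ha.2 ((Subgroup.mem_normalizer_iff.1 (hnV hx) a).2 h)⟩
  have hD := DadeT.hypothesis hG hL A (fun z hz => hsupp z hz.1 hz.2) hconj
  let Φ : TwistFam.Fam R' V' T' → L → ℂ := fun f => TwistFam.phi f
  set ι := Set.range Φ
  let i₀ : ι := ⟨Φ f₀, f₀, rfl⟩
  let α : ι → L → ℂ := fun i => i.1 - i₀.1
  let τ : ι → G → ℂ := fun i => Cfsg.dadeIsometry A L (DadeT.kern L) (α i)
  have hchar : ∀ i : ι, Cfsg.IsCharacter L i.1 := by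
    rintro ⟨_, f, rfl⟩
    exact TwistFam.isCharacter_phi f
  have hαgen : ∀ i, Cfsg.IsGeneralizedCharacter L (α i) := fun i =>
    Char.IsGeneralizedCharacter.sub (Char.IsGeneralizedCharacter.of_isCharacter (hchar _))
      (Char.IsGeneralizedCharacter.of_isCharacter (hchar _))
  have hαcf : ∀ i, Cfsg.IsClassFunction L (α i) := fun i => Char.IsGeneralizedCharacter.isClassFunction (hαgen i)
  have hαA : ∀ i, ∀ x : L, (x : G) ∉ A → α i x = 0 := by
    rintro ⟨_, f, rfl⟩ x hx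
    show TwistFam.phi f x - TwistFam.phi f₀ x = 0
    by_cases hxR : (x : G) ∈ R
    · have hxV : x ∈ V' := by
        by_contra h
        exact hx ⟨hxR, h⟩
      rw [TwistFam.phi_on_V (hVT'.trans hTR') f hxV, TwistFam.phi_on_V (hVT'.trans hTR') f₀ hxV, sub_self]
    · rw [TwistFam.phi_not_mem _ (show x ∉ R' from hxR), TwistFam.phi_not_mem _ (show x ∉ R' from hxR), sub_self]
  have hgram : ∀ i j : ι, Cfsg.classInner i.1 j.1 = if i = j then 1 else 0 := by
    rintro ⟨_, f, rfl⟩ ⟨_, g, rfl⟩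
    simp only [Φ]
    rw [TwistFam.gram hab' hVT' hTR' hfree' f g]
    exact if_congr (Iff.symm Subtype.mk_eq_mk) rfl rfl
  have hτ0 : τ i₀ = 0 := by
    funext g
    by_cases h : ∃ a ∈ A, g ∈ Char.Dade.coset (DadeT.kern L) a
    · obtain ⟨a, ha, hg⟩ := h
      show Cfsg.dadeIsometry A L (DadeT.kern L) (α i₀) g = 0
      rw [Char.Dade.dadeIsometry_eq hD (hαcf i₀) ha hg]
      exact sub_self _
    · exact Char.Dade.dadeIsometry_zero hD fun a ha hg => h ⟨a, ha, hg⟩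
  have hτ1 : ∀ i, τ i 1 = 0 := fun i => Char.Dade.dadeIsometry_zero hD fun a ha hg => by
    obtain ⟨u, hu, x, hx⟩ := Char.Dade.mem_coset.1 hg
    rw [mul_one, mul_inv_cancel] at hx
    have hau : a = u⁻¹ := eq_inv_of_mul_eq_one_left hx.symm
    have : a ∈ DadeT.kern L a ⊓ (L ⊓ Subgroup.centralizer ({a} : Set G)) :=
      ⟨by have h' := inv_mem hu; rwa [← hau] at h', Char.Dade.mem_CL hD ha⟩
    rw [hD.inf_eq_bot a ha, Subgroup.mem_bot] at this
    exact hD.one_not_mem (this ▸ ha)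
  have hτgram : ∀ i j, i ≠ i₀ → j ≠ i₀ → Cfsg.classInner (τ i) (τ j) = if i = j then 2 else 1 := by
    intro i j hi hj
    rw [(S1500.result A L (DadeT.kern L) hD (α i) (hαcf i) (hαA i)).1 (α j) (hαcf j) (hαA j)]
    simp only [α, classInner_sub_left, classInner_sub_right, hgram, if_neg hi, if_neg (Ne.symm hj), if_true]
    split_ifs <;> ring
  obtain ⟨ε, hε, μ, hμ, hμinj, hτμ⟩ := Char.isometry_lemma i₀ τ hτ0
    (fun i => Char.Dade.isGeneralizedCharacter_dade hD (hαgen i) (hαA i)) hτ1 hτgram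
  let χ : ι → G → ℂ := fun i => ε • μ i
  have hτχ : ∀ i g, τ i g = χ i g - χ i₀ g := fun i g => by
    rw [hτμ i]
    simp [χ, mul_sub]
  have hχgen : ∀ i, Cfsg.IsGeneralizedCharacter G (χ i) := fun i => by
    have h := Char.IsGeneralizedCharacter.of_isCharacter (Char.IsIrrCharacter.isCharacter (hμ i))
    rcases hε with rfl | rfl
    · simpa [χ] using h
    · simpa [χ] using Char.IsGeneralizedCharacter.neg h
  have hχcf : ∀ i g w, χ i (w * g * w⁻¹) = χ i g := fun i g w =>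
    Char.IsGeneralizedCharacter.isClassFunction (hχgen i) g w
  have hχgram : ∀ i j, Cfsg.classInner (χ i) (χ j) = if i = j then 1 else 0 := fun i j => by
    have h : Cfsg.classInner (μ i) (μ j) = if i = j then 1 else 0 := by
      rw [Char.classInner_irr (hμ i) (hμ j)]
      simp only [hμinj.eq_iff]
    simp only [χ, Char.classInner_smul_left, Char.classInner_smul_right, h]
    rcases hε with rfl | rfl <;> simp
  -- the average
  let idx : TwistFam.Fam R' V' T' → ι := fun f => ⟨Φ f, f, rfl⟩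
  let vb : G → ℂ := fun g => (N : ℂ)⁻¹ * ∑ f, χ (idx f) g
  have hvb : ∑ g : G, ‖vb g‖ ^ 2 = (Nat.card G : ℝ) * ((d : ℝ) / N) := by
    have h1 : Cfsg.classInner vb vb = (d : ℂ) / N := by
      have hvb' : vb = (N : ℂ)⁻¹ • ∑ f, χ (idx f) := by
        funext g
        simp [vb, Finset.sum_apply]
      rw [hvb', Char.classInner_smul_left, Char.classInner_smul_right, map_inv₀, map_natCast,
        Char.classInner_sum_left]
      simp only [Char.classInner_sum_right, hχgram]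
      rw [Finset.sum_congr rfl fun f _ => show (∑ g, if idx f = idx g then (1 : ℂ) else 0) = (d : ℂ) by
        rw [Finset.sum_boole, ← hidx, ← TwistFam.card_fibre hab' hVT' hTR' hfree' f]
        exact congrArg (fun z : Finset _ => (z.card : ℂ)) (Finset.filter_congr fun g _ => Subtype.ext_iff), Finset.sum_const, Finset.card_univ, nsmul_eq_mul]
      have : (N : ℂ) ≠ 0 := Nat.cast_ne_zero.2 Fintype.card_ne_zero
      field_simp [this]
      ring_nf
      exact (mul_comm _ _).trans rfl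
    have hG0 : (Nat.card G : ℝ) ≠ 0 := Nat.cast_ne_zero.2 Nat.card_pos.ne'
    have h3 : (Nat.card G : ℝ)⁻¹ * ∑ g : G, ‖vb g‖ ^ 2 = (d : ℝ) / N := by
      refine Complex.ofReal_injective ?_
      rw [← Char.classInner_self_eq, h1]
      push_cast
      rfl
    rw [← h3, ← mul_assoc, mul_inv_cancel₀ hG0, one_mul]
  -- the values on `y ^ k h`
  have htne : t ≠ 0 := ht.ne_zero
  have hyk : ∀ k : ℕ, 0 < k → k < t → y ^ k ∈ T ∧ y ^ k ∉ V ∧ Subgroup.centralizer ({y ^ k} : Set G) = M := by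
    intro k hk hkt
    obtain ⟨j, hj⟩ := exists_pow_eq_self_of_coprime (x := y) (n := k)
      (by rw [hy]; exact ((Nat.Prime.coprime_iff_not_dvd ht).2 (Nat.not_dvd_of_pos_of_lt hk hkt)).symm)
    refine ⟨T.pow_mem hyT k, fun h => hyV (hj ▸ V.pow_mem h j), ?_⟩
    rw [← Plane.centralizer_zpowers, show Subgroup.zpowers (y ^ k) = Subgroup.zpowers y from
      le_antisymm (Subgroup.zpowers_le.2 (pow_mem (Subgroup.mem_zpowers y) k))
        (Subgroup.zpowers_le.2 (Subgroup.mem_zpowers_iff.2 ⟨j, by rw [zpow_natCast, hj]⟩)),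
      Plane.centralizer_zpowers, hCy]
  have hyne : M ≠ L := fun e => htM.2.1 (e ▸ htL)
  have hyh : ∀ h ∈ Cfsg.sigmaCore M, Commute h y := fun h hh =>
    Subgroup.mem_centralizer_singleton_iff.1 (hCy.ge (sigmaCore_le M hh))
  have hval : ∀ k, 0 < k → k < t → ∀ h ∈ Cfsg.sigmaCore M, ∀ (hk : y ^ k ∈ L) (i : ι),
      χ i (y ^ k * h) = χ i₀ (y ^ k * h) + (i.1 ⟨y ^ k, hk⟩ - i₀.1 ⟨y ^ k, hk⟩) := by
    intro k hk0 hkt h hh hk i
    obtain ⟨h1, h2, h3⟩ := hyk k hk0 hkt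
    have hA : y ^ k ∈ A := ⟨hTR h1, h2⟩
    have hσ : y ^ k ∈ Cfsg.sigmaCore L := pow_mem hyσ k
    have hne : y ^ k ≠ 1 := fun e => h2 (e ▸ V.one_mem)
    have hker : h ∈ DadeT.kern L (y ^ k) := by
      rw [DadeT.kern_of_mem hσ]
      rcases supportR_cases hG hL hσ hne with ⟨hle, -⟩ | ⟨N', hN', -, hC, -, -, -, he⟩
      · exact absurd ((hM.le_iff.1 (h3 ▸ hle)).resolve_left hL.1).symm hyne
      · rw [h3] at hC he
        rw [he, (hM.le_iff.1 hC).resolve_left hN'.1]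
        exact ⟨hh, sigmaCore_le M hh⟩
    have h4 : τ i (y ^ k * h) = α i ⟨y ^ k, hk⟩ := Char.Dade.dadeIsometry_coset hD (hαcf i) hA hker
    rw [hτχ] at h4
    have h5 : α i ⟨y ^ k, hk⟩ = i.1 ⟨y ^ k, hk⟩ - i₀.1 ⟨y ^ k, hk⟩ := rfl
    linear_combination h4 + h5
  set c : ℝ := -((d : ℝ) / ((Tb : ℝ) - 1)) with hcdef
  have hsum : ∀ k, 0 < k → k < t → ∀ hk : y ^ k ∈ L,
      (N : ℂ)⁻¹ * ∑ f, TwistFam.phi (X := L) (f : TwistFam.Fam R' V' T') ⟨y ^ k, hk⟩ = (c : ℂ) := by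
    intro k hk0 hkt hk
    obtain ⟨h1, h2, -⟩ := hyk k hk0 hkt
    have := TwistFam.sum_phi (R := R') (V := V') (T := T') hab' hVT' (y := ⟨⟨y ^ k, hk⟩, hTR h1⟩) h1 h2
    rw [this, hrTR, hidx, hcdef]
    have hN' : (N : ℂ) = (W : ℂ) * ((Tb : ℂ) - 1) := by
      have := congrArg (fun x : ℝ => (x : ℂ)) hN
      push_cast at this
      exact this
    have hT1 : (Tb : ℂ) - 1 ≠ 0 := by
      rw [sub_ne_zero, Nat.cast_ne_one]
      omega
    have hW' : (W : ℂ) ≠ 0 := Nat.cast_ne_zero.2 hW.ne'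
    rw [hN']
    push_cast
    field_simp
  set S := (Finset.univ : Finset G).filter fun h => h ∈ Cfsg.sigmaCore M ∧ h ≠ 1 with hSdef
  have hS : ∀ {h}, h ∈ S → h ∈ Cfsg.sigmaCore M ∧ h ≠ 1 := fun hh => (Finset.mem_filter.1 hh).2
  have hN' : (N : ℂ) ≠ 0 := Nat.cast_ne_zero.2 Fintype.card_ne_zero
  have hvbB : ∀ k, 0 < k → k < t → ∀ h ∈ Cfsg.sigmaCore M, ∀ hk : y ^ k ∈ L,
      vb (y ^ k * h) = χ i₀ (y ^ k * h) - i₀.1 ⟨y ^ k, hk⟩ + (c : ℂ) := by
    intro k hk0 hkt h hh hk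
    have hs : ∀ f, χ (idx f) (y ^ k * h) =
        (χ i₀ (y ^ k * h) - i₀.1 ⟨y ^ k, hk⟩) + TwistFam.phi f ⟨y ^ k, hk⟩ := fun f => by
      rw [hval k hk0 hkt h hh hk (idx f)]
      simp only [idx, Φ]
      ring
    show (N : ℂ)⁻¹ * ∑ f, χ (idx f) (y ^ k * h) = _
    rw [Finset.sum_congr rfl fun f _ => hs f, Finset.sum_add_distrib, mul_add, hsum k hk0 hkt hk,
      Finset.sum_const, Finset.card_univ, nsmul_eq_mul, ← mul_assoc, inv_mul_cancel₀ hN', one_mul]
  -- the Dade images vanish on the cosets `h R(h)`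
  have hzero : ∀ h ∈ Cfsg.sigmaCore M, h ≠ 1 → ∀ r ∈ Cfsg.supportR M h, ∀ i, τ i (h * r) = 0 := by
    intro h hh h1 r hr i
    refine Char.Dade.dadeIsometry_zero hD fun a ha hg => ?_
    obtain ⟨u, hu, x, hx⟩ := Char.Dade.mem_coset.1 hg
    have hasupp := hsupp a ha.1 ha.2
    set M' := M.map (MulAut.conj x).toMonoidHom
    have hM' := coatom_conj hM x
    have hh' : x * h * x⁻¹ ∈ Cfsg.sigmaCore M' := (sigmaCore_conj x).ge ⟨h, hh, rfl⟩
    have h1' : x * h * x⁻¹ ≠ 1 := fun e => h1 (conj_eq_one_iff.1 e)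
    have hr' := supportR_conj_le hG hM hh h1 hr x
    have he : x * h * x⁻¹ * (x * r * x⁻¹) = a * u := by rw [← hx]; group
    by_cases haσ : a ∈ Cfsg.sigmaCore L
    · rw [DadeT.kern_of_mem haσ] at hu
      refine coset_disjoint hG hM' hL hh' haσ h1' hasupp.2.1 (fun e => ?_) hr' hu he
      obtain ⟨p, hp, hpd⟩ := Nat.exists_prime_and_dvd fun e' => hasupp.2.1 (orderOf_eq_one_iff.1 e')
      have h6 : p ∈ Cfsg.sigma L := primes_of_mem_sigmaCore haσ hp hpd
      have h7 : p ∈ Cfsg.sigma M := (sigma_conj_iff x).1 (primes_of_mem_sigmaCore hh' hp (e ▸ hpd))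
      obtain ⟨g, hg'⟩ := SigmaDisj.conj_of_sigma hG hM hL h7 h6
      exact htM.2.1 ((sigma_conj_iff g).1 (hg' ▸ htL))
    · rw [DadeT.kern_of_not_mem haσ, Subgroup.mem_bot] at hu
      rw [hu, mul_one] at he
      obtain ⟨-, -, -, -, -, -, hne⟩ := DadeT.exists_part hG hL hasupp haσ
      obtain ⟨p, hp, hpd⟩ := Nat.exists_prime_and_dvd fun e' => h1 (orderOf_eq_one_iff.1 e')
      have hpM := primes_of_mem_sigmaCore hh hp hpd
      have hdvd : p ∣ Nat.card L := by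
        refine hpd.trans (dvd_trans ?_ (Subgroup.orderOf_dvd_natCard _ hasupp.1))
        rw [← he, ← show x * (h * r) * x⁻¹ = x * h * x⁻¹ * (x * r * x⁻¹) by group, ← MulAut.conj_apply,
          MulEquiv.orderOf_eq]
        have hcop : (orderOf h).Coprime (orderOf r) := Nat.coprime_of_dvd fun s hs hs1 hs2 =>
          primes_supportR hG hM hh h1 hr hs hs2 (primes_of_mem_sigmaCore hh hs hs1)
        rw [(commute_supportR hG hM hh h1 hr).orderOf_mul_eq_mul_orderOf_of_coprime hcop]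
        exact dvd_mul_right _ _
      have hnle : ¬ Subgroup.centralizer ({y} : Set G) ≤ L := fun hle =>
        hyne ((hM.le_iff.1 (hCy ▸ hle)).resolve_left hL.1).symm
      have := (S1436.result hG L hL y hyσ (fun e => hyV (e ▸ V.one_mem)) hnle M hM hCy.le).1 ⟨p, hpM, hdvd⟩
      exact hne.ne_empty this.2
  have hvbA : ∀ h ∈ Cfsg.sigmaCore M, h ≠ 1 → ∀ r ∈ Cfsg.supportR M h, vb (h * r) = χ i₀ (h * r) := by
    intro h hh h1 r hr
    have hs : ∀ f, χ (idx f) (h * r) = χ i₀ (h * r) := fun f => by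
      have := hzero h hh h1 r hr (idx f)
      rwa [hτχ, sub_eq_zero] at this
    show (N : ℂ)⁻¹ * ∑ f, χ (idx f) (h * r) = _
    rw [Finset.sum_congr rfl fun f _ => hs f, Finset.sum_const, Finset.card_univ, nsmul_eq_mul, ← mul_assoc,
      inv_mul_cancel₀ hN', one_mul]
  have hcpos : (0 : ℝ) < (d : ℝ) / ((Tb : ℝ) - 1) ∧ (d : ℝ) / ((Tb : ℝ) - 1) ≤ 1 / 8 ∧
      ((t : ℝ) - 1) * ((d : ℝ) / ((Tb : ℝ) - 1)) ≤ 1 / 2 := by
    have e1 : (3 : ℝ) ≤ d := by exact_mod_cast hd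
    have e2 : 2 * (d : ℝ) ≤ t + 1 := by exact_mod_cast hdt
    have e3 : (t : ℝ) ^ 2 ≤ Tb := by exact_mod_cast hTV
    have e4 : (5 : ℝ) ≤ t := by exact_mod_cast ht5
    have e5 : (0 : ℝ) < (Tb : ℝ) - 1 := by nlinarith
    refine ⟨div_pos (by linarith) e5, ?_, ?_⟩
    · rw [div_le_iff₀ e5]; nlinarith
    · rw [← mul_div_assoc, div_le_iff₀ e5]; nlinarith
  have hdisj : ∀ h ∈ Cfsg.sigmaCore M, h ≠ 1 → ∀ r ∈ Cfsg.supportR M h, ∀ h' ∈ Cfsg.sigmaCore M, h' ≠ 1 →
      ∀ k : ℕ, 0 < k → k < t → ∀ w : G, w * (h * r) * w⁻¹ ≠ y ^ k * h' := by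
    intro h hh h1 r hr h' hh' h1' k hk0 hkt w he
    have hk : y ^ k ∈ L := hRL (hTR (T.pow_mem hyT k))
    have heq : ∀ f, TwistFam.phi (X := L) (f : TwistFam.Fam R' V' T') ⟨y ^ k, hk⟩ = i₀.1 ⟨y ^ k, hk⟩ := fun f => by
      have h8 := hval k hk0 hkt h' hh' hk (idx f)
      rw [← he, hχcf, hχcf] at h8
      have h9 := hzero h hh h1 r hr (idx f)
      rw [hτχ] at h9
      simp only [idx, Φ] at h8 h9 ⊢
      linear_combination h9 - h8
    have h10 := hsum k hk0 hkt hk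
    rw [Finset.sum_congr rfl fun f _ => heq f, Finset.sum_const, Finset.card_univ, nsmul_eq_mul, ← mul_assoc,
      inv_mul_cancel₀ hN', one_mul] at h10
    have hint : IsIntegral ℤ (((-(d : ℚ) / ((Tb : ℚ) - 1)) : ℚ) : ℂ) := by
      have := Char.IsCharacter.isIntegral (hchar i₀) ⟨y ^ k, hk⟩
      rw [h10] at this
      convert this using 1
      rw [hcdef]; push_cast; ring
    obtain ⟨n, hn⟩ := Char.exists_int_of_isIntegral hint
    have hn' : c = n := by
      have := congrArg (fun q : ℚ => (q : ℝ)) hn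
      push_cast at this
      rw [hcdef, ← this]; ring
    have e1 : (n : ℝ) < 0 := by rw [← hn', hcdef]; linarith [hcpos.1]
    have e2 : (-1 : ℝ) < n := by rw [← hn', hcdef]; linarith [hcpos.2.1]
    have e1' : n < 0 := by exact_mod_cast e1
    have e2' : (-1 : ℤ) < n := by exact_mod_cast e2
    omega
  have htσ : t ∉ Cfsg.sigma M := htM.2.1
  have hFB := fibre_bound hG hM ht hy htσ hCy hdisj (f := fun g => ‖vb g‖ ^ 2) (fun g => by positivity) fun g w => by
    simp only [vb, hχcf]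
  rw [hvb] at hFB
  -- the lower bound
  have hyL : y ∈ L := hRL (hTR hyT)
  have hRpow : ∀ h ∈ Cfsg.sigmaCore M, h ≠ 1 → ∀ j : ℕ, j.Coprime (Nat.card G) →
      Cfsg.supportR M (h ^ j) = Cfsg.supportR M h := by
    intro h hh h1 j hj
    obtain ⟨i, hi⟩ := exists_pow_eq_self_of_coprime (x := h) (n := j)
      (hj.coprime_dvd_right (orderOf_dvd_natCard h))
    have hC : Subgroup.centralizer ({h ^ j} : Set G) = Subgroup.centralizer ({h} : Set G) := by
      rw [← Plane.centralizer_zpowers, ← Plane.centralizer_zpowers (a := h)]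
      congr 2
      exact le_antisymm (Subgroup.zpowers_le.2 (pow_mem (Subgroup.mem_zpowers h) j))
        (Subgroup.zpowers_le.2 (Subgroup.mem_zpowers_iff.2 ⟨i, by rw [zpow_natCast, hi]⟩))
    have h1j : h ^ j ≠ 1 := fun e => h1 (by rw [← hi, e, one_pow])
    rcases supportR_cases hG hM hh h1 with ⟨hle, he⟩ | ⟨N₁, hN₁, hno, hC₁, hu₁, -, -, he⟩ <;>
      rcases supportR_cases hG hM (pow_mem hh j) h1j with ⟨hle', he'⟩ | ⟨N₂, hN₂, hno', hC₂, -, -, -, he'⟩
    · rw [he, he']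
    · exact absurd (hC ▸ hle) hno'
    · exact absurd (hC ▸ hle') hno
    · rw [he, he', hC, hu₁ N₂ hN₂ (hC ▸ hC₂)]
  have hyN : ∀ h ∈ Cfsg.sigmaCore M, h ≠ 1 → y ∈ Subgroup.normalizer (Cfsg.supportR M h : Set G) := fun h hh h1 =>
    centralizer_le_normalizer_supportR hG hM hh h1 (Subgroup.mem_centralizer_singleton_iff.2 (hyh h hh).symm)
  have hfreeχ : ∀ h ∈ Cfsg.sigmaCore M, h ≠ 1 → ∀ k : ℕ, 0 < k → k < t → ∀ r ∈ Cfsg.supportR M h,
      χ i₀ (y ^ k * r * h) = χ i₀ (y ^ k * h) := by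
    intro h hh h1 k hk0 hkt r hr
    have hn := inv_mem (pow_mem (hyN h hh h1) k)
    let F : Cfsg.supportR M h → Cfsg.supportR M h := fun s =>
      ⟨(y ^ k)⁻¹ * s * (y ^ k)⁻¹⁻¹ * (s : G)⁻¹, mul_mem ((Subgroup.mem_normalizer_iff.1 hn _).1 s.2) (inv_mem s.2)⟩
    have hinj : Function.Injective F := by
      intro s s' hss
      have hq : (y ^ k)⁻¹ * s * (y ^ k)⁻¹⁻¹ * (s : G)⁻¹ = (y ^ k)⁻¹ * s' * (y ^ k)⁻¹⁻¹ * (s' : G)⁻¹ :=
        congrArg Subtype.val hss
      have hcomm : ((s' : G)⁻¹ * s) * y ^ k = y ^ k * ((s' : G)⁻¹ * s) := by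
        have := congrArg (fun z => y ^ k * ((y ^ k)⁻¹ * s' * (y ^ k)⁻¹⁻¹)⁻¹ * z * (s : G)) hq
        simp only [inv_inv, mul_inv_rev, mul_assoc, mul_inv_cancel_left, inv_mul_cancel_left, inv_mul_cancel,
          mul_one] at this ⊢
        exact this
      have hmem : (s' : G)⁻¹ * s ∈ M := (hyk k hk0 hkt).2.2.le (Subgroup.mem_centralizer_singleton_iff.2 hcomm)
      have hmem' : (s' : G)⁻¹ * s ∈ Cfsg.supportR M h := mul_mem (inv_mem s'.2) s.2
      rcases supportR_cases hG hM hh h1 with ⟨-, he⟩ | ⟨N₁, -, -, -, -, -, hbot, he⟩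
      · exact Subtype.ext (inv_mul_eq_one.1 (Subgroup.mem_bot.1 (he.le hmem'))).symm
      · replace hmem' := he.le hmem'
        exact Subtype.ext (inv_mul_eq_one.1 (Subgroup.mem_bot.1 (hbot.le ⟨hmem'.1, hmem⟩))).symm
    obtain ⟨s, hs⟩ := Finite.injective_iff_surjective.1 hinj ⟨r, hr⟩
    have hs' : (y ^ k)⁻¹ * s * (y ^ k)⁻¹⁻¹ * (s : G)⁻¹ = r := congrArg Subtype.val hs
    have hsh := commute_supportR hG hM hh h1 s.2
    rw [← hχcf i₀ (y ^ k * h) (s : G)]
    congr 1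
    rw [← hs']
    calc y ^ k * ((y ^ k)⁻¹ * s * (y ^ k)⁻¹⁻¹ * (s : G)⁻¹) * h = s * y ^ k * ((s : G)⁻¹ * h) := by group
      _ = s * y ^ k * (h * (s : G)⁻¹) := by rw [hsh.symm.inv_left.eq]
      _ = s * (y ^ k * h) * (s : G)⁻¹ := by group
  set ρ : ℝ := (d : ℝ) - 9 / 8 with hρ
  have hd' : (3 : ℝ) ≤ d := by exact_mod_cast hd
  have hdt' : 2 * (d : ℝ) ≤ t + 1 := by exact_mod_cast hdt
  have htR : (0 : ℝ) < t := by exact_mod_cast ht.pos
  have hnum : ∀ m : ℤ, (d : ℝ) ≤ (m : ℝ) * t + d ∨ (m : ℝ) * t + d ≤ (d : ℝ) - t := fun m => by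
    rcases le_or_gt 0 m with h | h
    · left; have : (0 : ℝ) ≤ m := by exact_mod_cast h
      nlinarith
    · right; have : (m : ℝ) ≤ -1 := by exact_mod_cast (by omega : m ≤ -1)
      nlinarith
  have hdist : ∀ m : ℤ, ρ / t ≤ |(m : ℝ) + ((d : ℝ) - c) / t| := fun m => by
    rw [show (m : ℝ) + ((d : ℝ) - c) / t = ((m : ℝ) * t + d - c) / t by field_simp; ring, abs_div,
      abs_of_pos htR]
    refine div_le_div_of_nonneg_right ?_ htR.le
    rw [le_abs]
    rcases hnum m with h | h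
    · left; rw [hcdef, hρ]; linarith [hcpos.1]
    · right; rw [hcdef, hρ]; linarith [hcpos.2.1]
  have hdist' : ∀ m : ℤ, ρ / t ≤ |(m : ℝ) + ((d : ℝ) - c + t * c) / t| := fun m => by
    rw [show (m : ℝ) + ((d : ℝ) - c + t * c) / t = ((m : ℝ) * t + d + (t - 1) * c) / t by field_simp; ring,
      abs_div, abs_of_pos htR]
    refine div_le_div_of_nonneg_right ?_ htR.le
    rw [le_abs]
    rcases hnum m with h | h
    · left; rw [hcdef, hρ]; nlinarith [hcpos.2.2]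
    · right; rw [hcdef, hρ]; nlinarith [hcpos.1]
  have hB := CBound.bound (hχgen i₀) (φ := i₀.1) (Char.IsGeneralizedCharacter.of_isCharacter (hchar i₀))
    (y := (⟨y, hyL⟩ : L)) (t := t) (by rw [Subgroup.orderOf_mk, hy]) (d := d)
    (by rw [← hidx]; exact TwistFam.phi_one (hVT'.trans hTR') f₀)
    (Cfsg.sigmaCore M) (Cfsg.supportR M) hyh (fun h hh h1 r hr => commute_supportR hG hM hh h1 hr) hyN hfreeχ hRpow
    (c := c) (δ := ρ / t) (div_nonneg (by rw [hρ]; linarith) htR.le)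
    (by rw [div_le_iff₀ htR, hρ]; linarith) hdist hdist'
  -- compare
  have hle : ∀ h ∈ S, ‖(Nat.card (Cfsg.supportR M h) : ℂ)⁻¹ * ∑ r : Cfsg.supportR M h, χ i₀ (h * r)‖ ^ 2 +
      ∑ k ∈ Finset.Ico 1 t, ‖χ i₀ ((y : G) ^ k * h) - i₀.1 ((⟨y, hyL⟩ : L) ^ k) + (c : ℂ)‖ ^ 2 ≤
      (Nat.card (Cfsg.supportR M h) : ℝ)⁻¹ * ∑ r : Cfsg.supportR M h, ‖vb (h * r)‖ ^ 2 +
        ∑ k ∈ Finset.Ico 1 t, ‖vb (y ^ k * h)‖ ^ 2 := by
    intro h hh
    obtain ⟨hh, h1⟩ := hS hh
    refine add_le_add ?_ (le_of_eq (Finset.sum_congr rfl fun k hk => ?_))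
    · have hn0 : (0 : ℝ) < Nat.card (Cfsg.supportR M h) := Nat.cast_pos.2 Nat.card_pos
      rw [norm_mul, norm_inv, Complex.norm_natCast, mul_pow, inv_pow, sq (Nat.card (Cfsg.supportR M h) : ℝ),
        mul_inv, mul_assoc]
      refine mul_le_mul_of_nonneg_left ?_ (inv_nonneg.2 hn0.le)
      rw [inv_mul_le_iff₀ hn0]
      refine le_trans (pow_le_pow_left₀ (norm_nonneg _) (norm_sum_le _ _) 2) ?_
      refine le_trans sq_sum_le_card_mul_sum_sq (le_of_eq ?_)
      rw [Finset.card_univ, ← Nat.card_eq_fintype_card]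
      exact congrArg _ (Finset.sum_congr rfl fun r _ => by rw [hvbA h hh h1 r r.2])
    · obtain ⟨hk0, hkt⟩ := Finset.mem_Ico.1 hk
      rw [hvbB k hk0 hkt h hh (hRL (hTR (T.pow_mem hyT k)))]
      rfl
  have hscard : (S.card : ℝ) = (Nat.card (Cfsg.sigmaCore M) : ℝ) - 1 := by
    have h11 : S = ((Finset.univ : Finset G).filter fun h => h ∈ Cfsg.sigmaCore M).erase 1 := by
      ext h; simp [hSdef, and_comm]
    rw [h11, Finset.card_erase_of_mem (by simp), Nat.cast_sub (Finset.card_pos.2 ⟨1, by simp⟩),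
      ← Fintype.card_subtype, ← Nat.card_eq_fintype_card, Nat.cast_one]
  have hG0 : (0 : ℝ) < Nat.card G := Nat.cast_pos.2 Nat.card_pos
  have hup : (S.card : ℝ) * ρ ^ 2 ≤ (Nat.card M : ℝ) * ((d : ℝ) / N) := by
    refine le_of_mul_le_mul_left ?_ hG0
    rw [mul_left_comm (Nat.card G : ℝ) (Nat.card M : ℝ)]
    refine le_trans (mul_le_mul_of_nonneg_left ?_ hG0.le) hFB
    refine le_trans (le_of_eq ?_) (hB.trans (Finset.sum_le_sum hle))
    rw [div_pow]
    field_simp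
    rw [hSdef]; ring
  refine numeric_false (d := (d : ℝ)) (t := (t : ℝ)) (H := (Nat.card (Cfsg.sigmaCore M) : ℝ)) (T := (Tb : ℝ))
    (Sm := (S.card : ℝ) * ρ ^ 2) hd' (by exact_mod_cast hTb) (by exact_mod_cast hH) (by rw [hscard]) ?_
  have hM' : (Nat.card M : ℝ) ≤ (Nat.card (Cfsg.sigmaCore M) : ℝ) * ((Tb : ℝ) * W) := by
    have := Subgroup.relIndex_mul_relIndex V T R hVT hTR
    rw [← this] at hMcard
    exact_mod_cast hMcard
  have hT1 : (0 : ℝ) < (Tb : ℝ) - 1 := by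
    have : (25 : ℝ) ≤ Tb := by exact_mod_cast hTb
    linarith
  have hW0 : (0 : ℝ) < W := by exact_mod_cast hW
  have h12 := mul_le_mul_of_nonneg_right hup hT1.le
  refine h12.trans ?_
  rw [hN]
  calc (Nat.card M : ℝ) * ((d : ℝ) / ((W : ℝ) * ((Tb : ℝ) - 1))) * ((Tb : ℝ) - 1)
      = (Nat.card M : ℝ) * (d : ℝ) / W := by field_simp
    _ ≤ _ := by
      rw [div_le_iff₀ hW0]
      nlinarith

end Cfsg.Agent.OddOrder.CFam
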