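/-
A central element of order `t ∈ τ₂(M)` over an abelian complement: the lines of its plane.
-/
import Cfsg.Agent.Lib.OddOrder.TauTwoLines
import Cfsg.Agent.Lib.OddOrder.PartnerSupport
import Cfsg.Agent.Lib.OddOrder.DadeTau
import Cfsg.Agent.Lib.LocalEven.OmegaOne
import Mathlib.GroupTheory.Transfer
import Cfsg.Agent.S1419

set_option autoImplicit false
set_option linter.style.haveILetI false
set_option linter.unusedSectionVars false

namespace Cfsg.Agent.OddOrder.Central

open scoped commutatorElement IsMulCommutative Pointwise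
open Exceptional TauOne Kappa Support
open Pairing (exists_pi_parts mem_sigmaCore_of_primes)
open Tau3 (line_pgroup line_ne_bot)

universe u

variable {G : Type u} [Group G] [Finite G]

/-- An element of a plane which moves some element but not all commutators fill the plane. -/
theorem exists_commutator_line {r : ℕ} [hr : Fact r.Prime] {A : Subgroup G} (hAe : Cfsg.IsElementaryAbelian r A)
    (hA : Nat.card A = r ^ 2) {e : G} (he : e ∈ Subgroup.normalizer (A : Set G)) {a₀ : G} (ha₀ : a₀ ∈ A)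
    (hmove : e * a₀ ≠ a₀ * e) {W : Subgroup G} (hW : ∀ a ∈ A, ⁅e, a⁆ ∈ W) (hWA : ¬ A ≤ W) :
    ∃ ℓ : Subgroup G, ℓ ≤ A ∧ ℓ ≤ W ∧ Nat.card ℓ = r ∧ e ∈ Subgroup.normalizer (ℓ : Set G) ∧
      ∃ L₀ : Subgroup G, L₀ ≤ A ∧ e ∉ Subgroup.normalizer (L₀ : Set G) := by
  haveI := hAe.1
  have hcm : ∀ a ∈ A, ∀ b ∈ A, Commute a b := fun a ha b hb =>
    congrArg Subtype.val (mul_comm' (⟨a, ha⟩ : A) ⟨b, hb⟩)
  have hconj : ∀ a ∈ A, e * a * e⁻¹ ∈ A := fun a ha => (Subgroup.mem_normalizer_iff.1 he a).1 ha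
  have hcA : ∀ a ∈ A, ⁅e, a⁆ ∈ A := fun a ha => by
    rw [commutatorElement_def]
    exact A.mul_mem (hconj a ha) (A.inv_mem ha)
  let f : A →* G :=
    { toFun := fun a => ⁅e, (a : G)⁆
      map_one' := by simp
      map_mul' := fun a b => by
        have h := (hcm _ (hcA b b.2) (a : G)⁻¹ (A.inv_mem a.2)).eq
        simp only [commutatorElement_def, Subgroup.coe_mul, mul_inv_rev] at h ⊢
        calc e * ((a : G) * b) * e⁻¹ * ((b : G)⁻¹ * (a : G)⁻¹)
            = e * a * e⁻¹ * (e * b * e⁻¹ * (b : G)⁻¹ * (a : G)⁻¹) := by group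
          _ = e * a * e⁻¹ * ((a : G)⁻¹ * (e * b * e⁻¹ * (b : G)⁻¹)) := by rw [h]
          _ = e * a * e⁻¹ * (a : G)⁻¹ * (e * b * e⁻¹ * (b : G)⁻¹) := by group }
  set ℓ := f.range
  have hℓA : ℓ ≤ A := by rintro _ ⟨a, rfl⟩; exact hcA a a.2
  have hℓW : ℓ ≤ W := by rintro _ ⟨a, rfl⟩; exact hW a a.2
  have hmem : ∀ a ∈ A, ⁅e, a⁆ ∈ ℓ := fun a ha => ⟨⟨a, ha⟩, rfl⟩
  have hne : ⁅e, a₀⁆ ≠ 1 := fun h => hmove (commutatorElement_eq_one_iff_mul_comm.1 h)
  have hℓ1 : ℓ ≠ ⊥ := fun h => hne (Subgroup.mem_bot.1 (h ▸ hmem a₀ ha₀))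
  obtain ⟨j, hj, hjc⟩ := (Nat.dvd_prime_pow hr.out).1 (hA ▸ Subgroup.card_dvd_of_le hℓA)
  have hj0 : j ≠ 0 := fun h => hℓ1 (Subgroup.card_eq_one.1 (by rw [hjc, h, pow_zero]))
  have hj2 : j ≠ 2 := fun h => hWA ((Subgroup.eq_of_le_of_card_ge hℓA (by rw [hjc, h, hA])) ▸ hℓW)
  have hℓc : Nat.card ℓ = r := by rw [hjc, show j = 1 by omega, pow_one]
  refine ⟨ℓ, hℓA, hℓW, hℓc, ComplAbelian.mem_normalizer_of_map_le ?_, ?_⟩
  · rintro _ ⟨⟨a, ha⟩, rfl⟩
    refine ⟨⟨e * a * e⁻¹, hconj a ha⟩, ?_⟩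
    show ⁅e, e * a * e⁻¹⁆ = e * ⁅e, a⁆ * e⁻¹
    simp only [commutatorElement_def]; group
  · by_contra hall
    push Not at hall
    let K : Subgroup G := A ⊓ Subgroup.centralizer ({e} : Set G)
    have hsub : ∀ a ∈ A, a ∈ K ∨ a ∈ ℓ := by
      intro a ha
      by_cases hc : ⁅e, a⁆ = 1
      · exact Or.inl ⟨ha, Subgroup.mem_centralizer_singleton_iff.2 (commutatorElement_eq_one_iff_mul_comm.1 hc).symm⟩
      · refine Or.inr ?_
        have hza : Nat.card (Subgroup.zpowers a) = r := Plane.zpowers_card hAe ha (fun h => hc (by rw [h]; simp))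
        have h1 : ⁅e, a⁆ ∈ Subgroup.zpowers a := by
          rw [commutatorElement_def]
          exact mul_mem ((Subgroup.mem_normalizer_iff.1 (hall _ (Subgroup.zpowers_le.2 ha)) a).1
            (Subgroup.mem_zpowers a)) (inv_mem (Subgroup.mem_zpowers a))
        rw [← TauTwoAb.eq_of_mem_mem hza hℓc h1 (hmem a ha) hc]
        exact Subgroup.mem_zpowers a
    have hK : ∃ k ∈ A, k ∉ ℓ := by
      by_contra h
      push Not at h
      exact hWA (le_trans h hℓW)
    obtain ⟨k, hk, hkℓ⟩ := hK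
    have hkK := (hsub k hk).resolve_right hkℓ
    have ha₀K : a₀ ∉ K := fun h => hmove (Subgroup.mem_centralizer_singleton_iff.1 h.2).symm
    rcases hsub (a₀ * k) (A.mul_mem ha₀ hk) with h | h
    · exact ha₀K (by simpa using K.mul_mem h (K.inv_mem hkK))
    · exact hkℓ (by simpa using ℓ.mul_mem (ℓ.inv_mem ((hsub a₀ ha₀).resolve_left ha₀K)) h)

variable (hG : Cfsg.IsMinSimpleOddOrder G) {M : Subgroup G} (hM : IsCoatom M)
include hG hM

/-- A complement whose commutators centralize some element of `M_σ` is abelian (`κ(M) = ∅`). -/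
theorem compl_abelian {E : Subgroup G} (hE : Cfsg.IsComplIn E (Cfsg.sigmaCore M) M) (hκ : Cfsg.kappa M = ∅)
    {z : G} (hz : z ∈ Cfsg.sigmaCore M) (hz1 : z ≠ 1)
    (hzE : ⁅E, E⁆ ≤ Subgroup.centralizer ({z} : Set G)) {t : ℕ} [ht : Fact t.Prime] (htτ : t ∈ Cfsg.tau2 M)
    (hS : ¬ ∀ S : Sylow t G, ¬ IsMulCommutative (S : Subgroup G)) : IsMulCommutative E := by
  rw [← Subgroup.commutator_self_eq_bot_iff]
  by_contra hne
  have hEE : ⁅E, E⁆ ≠ ⊥ := hne
  obtain ⟨r, hr, hrd⟩ := Nat.exists_prime_and_dvd fun e => hEE (Subgroup.card_eq_one.1 e)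
  haveI := Fact.mk hr
  obtain ⟨⟨x, hx⟩, hxo⟩ := exists_prime_orderOf_dvd_card' r hrd
  rw [Subgroup.orderOf_mk] at hxo
  have hEE' : ⁅E, E⁆ ≤ E := Subgroup.commutator_le.2 fun a ha b hb =>
    E.mul_mem (E.mul_mem (E.mul_mem ha hb) (E.inv_mem ha)) (E.inv_mem hb)
  have hxE : x ∈ E := hEE' hx
  have hx1 : x ≠ 1 := fun e => hr.ne_one (by rw [← hxo, e, orderOf_one])
  have hrτ : r ∈ Cfsg.tau2 M := by
    rcases S1432.result hG M hM z hz hz1 x ⟨hE.1 hxE, hzE hx⟩ hx1 (fun s hs hd =>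
      not_dvd_complement hG hM hE hs (hd.trans (Subgroup.orderOf_dvd_natCard _ hxE))) with ⟨h, -⟩ | ⟨h, -⟩
    · exact absurd (h r hr hxo.symm.dvd) (hκ ▸ Set.notMem_empty r)
    · exact h r hr hxo.symm.dvd
  obtain ⟨A, hAE, hAe, hA⟩ := TauTwo.exists_plane (p := r) hG hM hE hrτ
  have hSr : ¬ ∀ S : Sylow r G, ¬ IsMulCommutative (S : Subgroup G) := by
    intro h
    have hrt : t ∈ ({r} : Set ℕ) := (S1419.result hG M hM E hE r hrτ h A ⟨hAE, hAe, hA⟩).1 ▸ htτ
    obtain rfl : t = r := hrt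
    exact hS h
  obtain ⟨S, hAS, hSc⟩ := TauTwoAb.exists_abelian_sylow hSr (Plane.isPGroup (p := r) hA)
  have d : TauTwoAb.Data r M E A S := ⟨hG, hM, hE, hrτ, hAE, hAe, hA, hAS, hSc⟩
  -- `E` centralizes `A`
  have hA0 := (S1417.result hG M hM r hrτ A ⟨hAE.trans hE.1, hAe, hA⟩).2.2.2.1
  have hEA : ∀ e ∈ E, ∀ a ∈ A, e * a = a * e := by
    by_contra hcon
    push Not at hcon
    obtain ⟨e, he, a₀, ha₀, hmove⟩ := hcon
    obtain ⟨ℓ, hℓA, hℓW, hℓ, heℓ, L₀, hL₀, heL₀⟩ :=
      exists_commutator_line hAe hA (d.compl_le_normalizer he) ha₀ hmove (W := ⁅E, E⁆)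
        (fun a ha => Subgroup.commutator_mem_commutator he (hAE ha)) fun hle => hz1 (Subgroup.mem_bot.1 (hA0.le
          ⟨hz, Subgroup.mem_centralizer_iff.2 fun a ha =>
            Subgroup.mem_centralizer_singleton_iff.1 (hzE (hle ha))⟩))
    have h0 := d.line_regular hℓA hℓ (d.line_invariant (d.compl_le_normalizer he) hℓA hℓ heℓ hL₀ heL₀)
    exact hz1 (Subgroup.mem_bot.1 (h0.le ⟨hz, Subgroup.mem_centralizer_iff.2 fun a ha =>
      Subgroup.mem_centralizer_singleton_iff.1 (hzE (hℓW ha))⟩))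
  -- `S` is central in `E`
  have hES : ∀ e ∈ E, ∀ s ∈ (S : Subgroup G), e * s = s * e := by
    intro e he s hs
    obtain ⟨a, b, hab, -, haz, hbz, ha, hb⟩ := exists_pi_parts ({r} : Set ℕ) e
    have haE : a ∈ E := (Subgroup.zpowers_le.2 he) haz
    have hbE : b ∈ E := (Subgroup.zpowers_le.2 he) hbz
    have haS : a ∈ (S : Subgroup G) := by
      refine d.le_sylow_of_le ?_ (Subgroup.zpowers_le.2 haE) (Subgroup.mem_zpowers a)
      obtain ⟨n, hn⟩ := (Nat.eq_prime_pow_of_unique_prime_dvd (n := orderOf a) (p := r)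
        (orderOf_pos a).ne' fun {s} hs hd => ha s hs hd : _ = r ^ _) |> fun h => (⟨_, h⟩ : ∃ n, orderOf a = r ^ n)
      exact IsPGroup.of_card (n := n) (by rw [Nat.card_zpowers, hn])
    haveI := hSc
    have h1 : Commute a s := congrArg Subtype.val (mul_comm' (⟨a, haS⟩ : (S : Subgroup G)) ⟨s, hs⟩)
    have h2 : Commute b s := LEOmega.commute_of_omega (p := r) (Uniq.ne_two_of_dvd hG
        (hxo ▸ orderOf_dvd_natCard x)) (Nat.coprime_of_dvd fun l hl h3 h4 =>
        hb l hl h3 ((Nat.prime_dvd_prime_iff_eq hl hr).1 h4)) _ (S : Subgroup G) le_rfl S.isPGroup'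
      (d.compl_le_normalizer_sylow hbE) (fun a' ha' har => hEA b hbE a' (d.mem_of_pow (d.sylow_le ha') har)) s hs
    rw [hab]
    exact (h1.mul_left h2).eq
  -- transfer
  have hSZ : (S : Subgroup G).subgroupOf E ≤ Subgroup.center E := fun s hs =>
    Subgroup.mem_center_iff.2 fun e => Subtype.ext (hES e e.2 s hs)
  have hidx : ¬ r ∣ (Subgroup.center E).index := fun h => S.not_dvd_index
    ((h.trans (Subgroup.index_dvd_of_le hSZ)).trans ((S : Subgroup G).relIndex_dvd_index_of_le d.sylow_le))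
  have hxA : x ∈ A := d.mem_of_pow hxE (hxo ▸ pow_orderOf_eq_one x)
  have hker : commutator E ≤ (MonoidHom.transferCenterPow E).ker := Abelianization.commutator_subset_ker _
  have hxc : (⟨x, hxE⟩ : E) ∈ commutator E := by
    have h : x ∈ (commutator E).map E.subtype := by
      rw [commutator_def, Subgroup.map_commutator, ← MonoidHom.range_eq_map, Subgroup.range_subtype]
      exact hx
    obtain ⟨x', hx', rfl⟩ := h
    exact hx'
  have hpow : x ^ (Subgroup.center E).index = 1 := by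
    have h := congrArg (fun v : Subgroup.center E => ((v : E) : G)) (MonoidHom.mem_ker.1 (hker hxc))
    simpa [MonoidHom.transferCenterPow_apply] using h
  exact hidx (hxo ▸ orderOf_dvd_of_pow_eq_one hpow)

/-- The standing data. -/
structure Setup (M E A L : Subgroup G) (y : G) (t : ℕ) : Prop where
  compl : Cfsg.IsComplIn E (Cfsg.sigmaCore M) M
  prime : t.Prime
  tau2 : t ∈ Cfsg.tau2 M
  comm : IsMulCommutative E
  elem : Cfsg.IsElementaryAbelian t A
  card : Nat.card A = t ^ 2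
  mem : y ∈ A
  order : orderOf y = t
  cent_y : Subgroup.centralizer ({y} : Set G) = M
  cent_A : Subgroup.centralizer (A : Set G) = E
  coatomL : IsCoatom L
  normal_le : Subgroup.normalizer (A : Set G) ≤ L
  sigmaL : t ∈ Cfsg.sigma L
  y_mem : y ∈ Cfsg.sigmaCore L
  not_le : ¬ Subgroup.centralizer ({y} : Set G) ≤ L
  inter : L ⊓ M = E
  trivial : Cfsg.sigmaCore M ⊓ L = ⊥
  line_y : ∀ u ∈ Subgroup.normalizer (A : Set G), u ∈ Subgroup.normalizer (Subgroup.zpowers y : Set G) → u ∈ E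
  three_le : 3 ≤ E.relIndex (Subgroup.normalizer (A : Set G))
  two_mul_le : 2 * E.relIndex (Subgroup.normalizer (A : Set G)) ≤ t + 1
  not_dvd : ¬ t ∣ E.relIndex (Subgroup.normalizer (A : Set G))
  eleven_le : 11 ≤ Nat.card (Cfsg.sigmaCore M)
  abelian : ∀ S : Sylow t G, IsMulCommutative (S : Subgroup G)
  sylow_le : ∀ S : Sylow t G, A ≤ (S : Subgroup G) → (S : Subgroup G) ≤ E

theorem exists_setup {E : Subgroup G} (hE : Cfsg.IsComplIn E (Cfsg.sigmaCore M) M) (hκ : Cfsg.kappa M = ∅)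
    {z : G} (hz : z ∈ Cfsg.sigmaCore M) (hz1 : z ≠ 1)
    (hzE : ⁅E, E⁆ ≤ Subgroup.centralizer ({z} : Set G)) {t : ℕ} [ht : Fact t.Prime] (htτ : t ∈ Cfsg.tau2 M)
    (hS : ¬ ∀ S : Sylow t G, ¬ IsMulCommutative (S : Subgroup G)) {y : G} (hyE : y ∈ E) (hy : orderOf y = t)
    (hyH : ∀ h ∈ Cfsg.sigmaCore M, h * y = y * h) :
    ∃ A L : Subgroup G, Setup M E A L y t := by
  haveI hEc := compl_abelian hG hM hE hκ hz hz1 hzE htτ hS
  obtain ⟨A, hAE, hAe, hA⟩ := TauTwo.exists_plane (p := t) hG hM hE htτ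
  obtain ⟨S, hAS, hSc⟩ := TauTwoAb.exists_abelian_sylow hS (Plane.isPGroup (p := t) hA)
  have d : TauTwoAb.Data t M E A S := ⟨hG, hM, hE, htτ, hAE, hAe, hA, hAS, hSc⟩
  have hyA : y ∈ A := d.mem_of_pow hyE (hy ▸ pow_orderOf_eq_one y)
  have hy1 : y ≠ 1 := fun e => ht.out.ne_one (by rw [← hy, e, orderOf_one])
  set N := Subgroup.normalizer (A : Set G) with hN
  have hMy : Subgroup.centralizer ({y} : Set G) = M := by
    refine (hM.le_iff.1 ?_).resolve_left (MinSimple.centralizer_singleton_ne_top hG hy1)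
    intro m hm
    obtain ⟨a, ha, s, hs, rfl⟩ := hE.2.2.2 m hm
    exact Subgroup.mem_centralizer_singleton_iff.2 ((show Commute a y from
      congrArg Subtype.val (mul_comm' (⟨a, ha⟩ : E) ⟨y, hyE⟩)).mul_left (hyH s hs)).eq
  have hCA : Subgroup.centralizer (A : Set G) = E := le_antisymm d.centralizer_le fun e he =>
    Subgroup.mem_centralizer_iff.2 fun a ha => congrArg Subtype.val (mul_comm' (⟨a, hAE ha⟩ : E) ⟨e, he⟩)
  have hY : Nat.card (Subgroup.zpowers y) = t := by rw [Nat.card_zpowers, hy]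
  have hNY : Subgroup.normalizer (Subgroup.zpowers y : Set G) = M := by
    refine (hM.le_iff.1 ?_).resolve_left (MinSimple.normalizer_ne_top hG (line_ne_bot hY)
      (MinSimple.pSubgroup_ne_top hG (line_pgroup hY)))
    rw [← hMy, ← Plane.centralizer_zpowers]
    exact Subgroup.centralizer_le_normalizer _
  have hlineY : ∀ u ∈ N, u ∈ Subgroup.normalizer (Subgroup.zpowers y : Set G) → u ∈ E := fun u hu h =>
    d.compl_eq.le ⟨hNY.le h, hu⟩
  obtain ⟨L, hL, hNL⟩ := Uniq.exists_maximal_ge (MinSimple.normalizer_ne_top hG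
    (Plane.ne_bot (p := t) hA) (MinSimple.pSubgroup_ne_top hG (Plane.isPGroup (p := t) hA)))
  have hLM : L ≠ M := fun e => d.normalizer_not_le (e ▸ hNL)
  have hSL : (S : Subgroup G) ≤ L :=
    (d.sylow_le.trans d.compl_le_normalizer).trans hNL
  have htL : t ∈ Cfsg.sigma L := by
    refine ⟨ht.out, ?_, S.subtype hSL, ?_⟩
    · exact (hy ▸ Subgroup.orderOf_dvd_natCard _ (hNL (d.compl_le_normalizer hyE)) : t ∣ Nat.card L)
    · rw [Sylow.coe_subtype, Subgroup.subgroupOf_map_subtype, inf_eq_left.2 hSL]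
      exact d.normalizer_sylow_le.trans hNL
  have hyσ : y ∈ Cfsg.sigmaCore L := mem_sigmaCore_of_primes hG hL (hNL (d.compl_le_normalizer hyE))
    fun s hs hd => by rwa [(Nat.prime_dvd_prime_iff_eq hs ht.out).1 (hy ▸ hd)]
  have hnot : ¬ Subgroup.centralizer ({y} : Set G) ≤ L := fun h =>
    hLM ((hM.le_iff.1 (hMy ▸ h)).resolve_left hL.1)
  obtain ⟨-, -, hbot, hcompl, -⟩ := PSupp.support hG hL hyσ hy1 hnot hM hMy.le
  have hEL : E ≤ L ⊓ M := le_inf (d.compl_le_normalizer.trans hNL) hE.1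
  have hinter : L ⊓ M = E := by
    refine le_antisymm (fun x hx => ?_) hEL
    obtain ⟨a, ha, s, hs, rfl⟩ := hE.2.2.2 x hx.2
    have hs' : s ∈ L ⊓ M := by simpa using mul_mem (inv_mem (hEL ha)) hx
    rw [Subgroup.mem_bot.1 (hbot.le ⟨hs, hs'.1⟩), mul_one]
    exact ha
  -- the lines
  have hEN : E ≤ N := d.compl_le_normalizer
  set k := E.relIndex N with hk
  have hkodd : Odd k := hG.1.of_dvd_nat
    (((E.relIndex_dvd_card N)).trans N.card_subgroup_dvd_card)
  have hk1 : k ≠ 1 := fun e => d.normalizer_not_le ((Subgroup.relIndex_eq_one.1 e).trans hE.1)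
  have hk3 : 3 ≤ k := by
    obtain ⟨i, hi⟩ := hkodd
    omega
  have hktd : ¬ t ∣ k := fun h => S.not_dvd_index ((h.trans (Subgroup.relIndex_dvd_of_le_left N d.sylow_le)).trans
    ((S : Subgroup G).relIndex_dvd_index_of_le (d.sylow_le.trans hEN)))
  have hk2 : 2 * k ≤ t + 1 := by
    classical
    haveI := Fintype.ofFinite G
    let As := (Finset.univ : Finset G).filter fun a => a ∈ A ∧ a ≠ 1
    let LS := As.image fun a => Subgroup.zpowers a
    have hLS : ∀ X ∈ LS, X ≤ A ∧ Nat.card X = t := fun X hX => by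
      obtain ⟨a, ha, rfl⟩ := Finset.mem_image.1 hX
      simp only [As, Finset.mem_filter] at ha
      exact ⟨Subgroup.zpowers_le.2 ha.2.1, Plane.zpowers_card hAe ha.2.1 ha.2.2⟩
    have hcardLS : LS.card = t + 1 := by
      have h1 : As.card = t ^ 2 - 1 := by
        have h11 : As = ((Finset.univ : Finset G).filter fun a => a ∈ A).erase 1 := by
          ext a; simp [As, and_comm]
        rw [h11, Finset.card_erase_of_mem (by simp), ← Fintype.card_subtype, ← Nat.card_eq_fintype_card]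
        exact congrArg (· - 1) hA
      have h2 : As.card = LS.card * (t - 1) := by
        rw [Finset.card_eq_sum_card_image (fun a => Subgroup.zpowers a), Finset.sum_congr rfl fun X hX => ?_,
          Finset.sum_const, smul_eq_mul]
        obtain ⟨hXA, hXc⟩ := hLS X hX
        have h21 : As.filter (fun a => Subgroup.zpowers a = X) =
            ((Finset.univ : Finset G).filter fun a => a ∈ X).erase 1 := by
          ext a
          simp only [As, Finset.mem_filter, Finset.mem_univ, true_and, Finset.mem_erase]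
          exact ⟨fun h => ⟨h.1.2, h.2 ▸ Subgroup.mem_zpowers a⟩,
            fun h => ⟨⟨hXA h.2, h.1⟩, Plane.zpowers_eq hXc h.2 h.1⟩⟩
        rw [h21, Finset.card_erase_of_mem (by simp), ← Fintype.card_subtype, ← Nat.card_eq_fintype_card]
        exact congrArg (· - 1) hXc
      rw [h1, show t ^ 2 - 1 = (t + 1) * (t - 1) from by simpa using Nat.sq_sub_sq t 1] at h2
      exact (Nat.eq_of_mul_eq_mul_right (by have := ht.out.two_le; omega) h2).symm
    let Ns := (Finset.univ : Finset G).filter fun u => u ∈ N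
    let orb : Subgroup G → Finset (Subgroup G) := fun X => Ns.image fun u => X.map (MulAut.conj u).toMonoidHom
    have hsub : ∀ X ∈ LS, orb X ⊆ LS := fun X hX Y hYm => by
      obtain ⟨u, hu, rfl⟩ := Finset.mem_image.1 hYm
      simp only [Ns, Finset.mem_filter] at hu
      obtain ⟨a, ha, rfl⟩ := Finset.mem_image.1 hX
      refine Finset.mem_image.2 ⟨u * a * u⁻¹, ?_, ?_⟩
      · simp only [As, Finset.mem_filter, Finset.mem_univ, true_and] at ha ⊢
        exact ⟨(Subgroup.mem_normalizer_iff.1 hu.2 a).1 ha.1, fun e => ha.2 (conj_eq_one_iff.1 e)⟩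
      · rw [MonoidHom.map_zpowers]; rfl
    have horb : ∀ X : Subgroup G, X ≤ A → (∀ u ∈ N, u ∈ Subgroup.normalizer (X : Set G) → u ∈ E) →
        (orb X).card = k := by
      intro X hXA hX
      have hEX : ∀ e ∈ E, X.map (MulAut.conj e).toMonoidHom = X := fun e he =>
        Subgroup.mem_normalizer_iff_map_conj_eq.1 (Subgroup.centralizer_le_normalizer _
          (Subgroup.centralizer_le hXA (hCA.ge he)))
      have h1 : Ns.card = (orb X).card * Nat.card E := by
        rw [Finset.card_eq_sum_card_image (fun u => X.map (MulAut.conj u).toMonoidHom), Finset.sum_congr rfl fun Y hYm => ?_,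
          Finset.sum_const, smul_eq_mul]
        obtain ⟨u₀, hu₀, rfl⟩ := Finset.mem_image.1 hYm
        simp only [Ns, Finset.mem_filter, Finset.mem_univ, true_and] at hu₀
        rw [Nat.card_eq_fintype_card]
        refine (Finset.card_bij (fun (e : E) _ => u₀ * (e : G)) (fun e _ => ?_)
          (fun a _ b _ h => Subtype.ext (mul_left_cancel h)) fun u hu => ?_).symm
        · simp only [Ns, Finset.mem_filter, Finset.mem_univ, true_and]
          exact ⟨N.mul_mem hu₀ (hEN e.2), by rw [← Sigma.map_conj_map, hEX e e.2]⟩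
        · simp only [Ns, Finset.mem_filter, Finset.mem_univ, true_and] at hu
          refine ⟨⟨u₀⁻¹ * u, hX _ (N.mul_mem (N.inv_mem hu₀) hu.1) ?_⟩, Finset.mem_univ _, by simp⟩
          refine Subgroup.mem_normalizer_iff_map_conj_eq.2 (show X.map (MulAut.conj (u₀⁻¹ * u)).toMonoidHom = X from ?_)
          rw [← Sigma.map_conj_map, hu.2, Sigma.map_conj_map, inv_mul_cancel, Sigma.map_conj_one]
      have h2 : Ns.card = k * Nat.card E := by
        rw [show Ns.card = Nat.card N by rw [Nat.card_eq_fintype_card, Fintype.card_subtype],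
          ← Subgroup.index_mul_card (E.subgroupOf N), Nat.card_congr (Subgroup.subgroupOfEquivOfLe hEN).toEquiv]
        rfl
      exact Nat.eq_of_mul_eq_mul_right Nat.card_pos (h1.symm.trans h2)
    set Y := Subgroup.zpowers y
    have hYA : Y ≤ A := Subgroup.zpowers_le.2 hyA
    have hYLS : Y ∈ LS := Finset.mem_image.2 ⟨y, by simp [As, hyA, hy1], rfl⟩
    have hOY := horb Y hYA hlineY
    by_cases hex : ∃ X ∈ LS, X ∉ orb Y ∧ ∀ u ∈ N, u ∈ Subgroup.normalizer (X : Set G) → u ∈ E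
    · obtain ⟨X, hX, hXn, hXr⟩ := hex
      have hdis : Disjoint (orb Y) (orb X) := by
        refine Finset.disjoint_left.2 fun Z h1 h2 => hXn ?_
        obtain ⟨u, hu, hu'⟩ := Finset.mem_image.1 h1
        obtain ⟨v, hv, hv'⟩ := Finset.mem_image.1 h2
        simp only [Ns, Finset.mem_filter, Finset.mem_univ, true_and] at hu hv
        refine Finset.mem_image.2 ⟨v⁻¹ * u, by simp [Ns, N.mul_mem (N.inv_mem hv) hu], ?_⟩
        rw [← Sigma.map_conj_map, hu', ← hv', Sigma.map_conj_map, inv_mul_cancel, Sigma.map_conj_one]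
      have hle := Finset.card_le_card (Finset.union_subset (hsub Y hYLS) (hsub X hX))
      rw [Finset.card_union_of_disjoint hdis, hOY, horb X (hLS X hX).1 hXr, hcardLS] at hle
      omega
    · exfalso
      push Not at hex
      have hF : (LS \ orb Y).card ≤ 2 := by
        by_contra hF
        push Not at hF
        obtain ⟨X₁, h1, X₂, h2, X₃, h3, h12, h13, h23⟩ := Finset.two_lt_card.1 hF
        simp only [Finset.mem_sdiff] at h1 h2 h3
        have hinv : ∀ X ∈ LS, X ∉ orb Y → N ≤ Subgroup.normalizer (X : Set G) := by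
          intro X hX hXn
          obtain ⟨u, hu, huX, huE⟩ := hex X hX hXn
          exact d.line_invariant hu (hLS X hX).1 (hLS X hX).2 huX hYA fun h => huE (hlineY u hu h)
        obtain ⟨u, hu, -, huE⟩ := hex X₁ h1.1 h1.2
        exact huE (hlineY u hu (TauTwoAb.fix_all_of_three hAe hA (hLS _ h1.1).2 (hLS _ h2.1).2 (hLS _ h3.1).2
          (hLS _ h1.1).1 (hLS _ h2.1).1 (hLS _ h3.1).1 h12 h13 h23 (hinv _ h1.1 h1.2 hu) (hinv _ h2.1 h2.2 hu)
          (hinv _ h3.1 h3.2 hu) hYA))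
      rw [Finset.card_sdiff_of_subset (hsub Y hYLS), hcardLS, hOY] at hF
      have hle := Finset.card_le_card (hsub Y hYLS)
      rw [hcardLS, hOY] at hle
      obtain ⟨i, hi⟩ := hkodd
      obtain ⟨j, hj⟩ := (hG.1.of_dvd_nat (hy ▸ orderOf_dvd_natCard y) : Odd t)
      exact hktd (by rw [show k = t by omega])
  -- the order of `M_σ`
  obtain ⟨A₁, hA₁, hA₁c, hA₁r⟩ := (S1417.result hG M hM t htτ A ⟨hAE.trans hE.1, hAe, hA⟩).2.2.2.2.2
  have h11 : 11 ≤ Nat.card (Cfsg.sigmaCore M) := by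
    have hn : A₁ ≤ Subgroup.normalizer (Cfsg.sigmaCore M : Set G) :=
      (hA₁.trans (hAE.trans hE.1)).trans (le_normalizer_sigmaCore M)
    let φ : A₁ →* MulAut (Cfsg.sigmaCore M) :=
      (Subgroup.normalizerMonoidHom (Cfsg.sigmaCore M)).comp (Subgroup.inclusion hn)
    letI : MulAction A₁ (Cfsg.sigmaCore M) := MulAction.compHom _ φ
    have hmod := (IsPGroup.of_card (n := 1) (p := t) (G := A₁) (by rw [hA₁c, pow_one])).card_modEq_card_fixedPoints
      (Cfsg.sigmaCore M)
    have hfix : MulAction.fixedPoints A₁ (Cfsg.sigmaCore M) = {1} := by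
      ext h
      simp only [MulAction.mem_fixedPoints, Set.mem_singleton_iff]
      constructor
      · intro hh
        refine Subtype.ext (Subgroup.mem_bot.1 (hA₁r.le ⟨h.2, Subgroup.mem_centralizer_iff.2 fun a ha => ?_⟩))
        have he : a * (h : G) * a⁻¹ = h := congrArg Subtype.val (hh ⟨a, ha⟩)
        calc a * (h : G) = a * h * a⁻¹ * a := by group
          _ = h * a := by rw [he]
      · rintro rfl a
        exact map_one (φ a)
    rw [hfix, show Nat.card ({1} : Set (Cfsg.sigmaCore M)) = 1 from by simp] at hmod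
    obtain ⟨i, hi⟩ : t ∣ Nat.card (Cfsg.sigmaCore M) - 1 := (Nat.modEq_iff_dvd' Nat.card_pos).1 hmod.symm
    obtain ⟨j, hj⟩ := (hG.1.of_dvd_nat (Cfsg.sigmaCore M).card_subgroup_dvd_card : Odd (Nat.card (Cfsg.sigmaCore M)))
    have hne : Nat.card (Cfsg.sigmaCore M) ≠ 1 := fun e => Kappa.sigmaCore_ne_bot hG hM (Subgroup.card_eq_one.1 e)
    have hi2 : 2 ≤ i := by
      rcases i with _ | _ | i
      · omega
      · exfalso
        obtain ⟨l, hl⟩ := (hG.1.of_dvd_nat (hy ▸ orderOf_dvd_natCard y) : Odd t)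
        omega
      · omega
    nlinarith [Nat.sub_add_cancel (Nat.card_pos (α := Cfsg.sigmaCore M))]
  refine ⟨A, L, hE, ht.out, htτ, hEc, hAe, hA, hyA, hy, hMy, hCA, hL, hNL, htL, hyσ, hnot, hinter, hbot, hlineY, hk3,
    hk2, hktd, h11, fun S' => ?_, fun S' hS' => ?_⟩
  · refine .of_setLike_mul_comm fun a ha b hb => ?_
    have h' := mul_comm' ((S'.equiv S) ⟨a, ha⟩) ((S'.equiv S) ⟨b, hb⟩)
    rw [← map_mul, ← map_mul] at h'
    exact congrArg Subtype.val ((S'.equiv S).injective h')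
  · have hS'c : IsMulCommutative (S' : Subgroup G) := .of_setLike_mul_comm fun a ha b hb => by
      have h' := mul_comm' ((S'.equiv S) ⟨a, ha⟩) ((S'.equiv S) ⟨b, hb⟩)
      rw [← map_mul, ← map_mul] at h'
      exact congrArg Subtype.val ((S'.equiv S).injective h')
    rw [← hCA]
    exact (Subgroup.le_centralizer _).trans (Subgroup.centralizer_le hS')

end Cfsg.Agent.OddOrder.Central
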