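/-
Cyclic groups acting semiregularly on a plane without scalars.
-/
import Cfsg.Agent.Lib.OddOrder.RankTwoAut
import Mathlib.LinearAlgebra.Eigenspace.Minpoly
import Mathlib.FieldTheory.Finite.GaloisField

set_option autoImplicit false

namespace Cfsg.Agent.OddOrder.PlaneCyclic

open Polynomial

universe u

variable {p : ℕ} [hp : Fact p.Prime]

/-- An automorphism with `(p - 1)`-st power trivial has an eigenvector. -/
theorem exists_eigen {V : Type u} [CommGroup V] [Finite V] [Nontrivial V] (hexp : ∀ v : V, v ^ p = 1) (a : MulAut V)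
    (ha : a ^ (p - 1) = 1) : ∃ (v : V) (m : ℕ), v ≠ 1 ∧ a v = v ^ m := by
  have hmod : ∀ x : Additive V, p • x = 0 := fun x => Additive.toMul.injective (hexp (Additive.toMul x))
  letI := AddCommGroup.zmodModule (n := p) (G := Additive V) hmod
  haveI : Module.Finite (ZMod p) (Additive V) := Module.Finite.of_finite
  let F : MulAut V →* Module.End (ZMod p) (Additive V) :=
    { toFun := fun g => (MonoidHom.toAdditive g.toMonoidHom).toZModLinearMap p
      map_one' := LinearMap.ext fun _ => rfl
      map_mul' := fun _ _ => LinearMap.ext fun _ => rfl }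
  set f := F a with hf
  have hfp : f ^ p = f := by
    have h1 : f ^ (p - 1 + 1) = f := by rw [hf, pow_succ, ← map_pow, ha, map_one, one_mul]
    rwa [Nat.sub_add_cancel hp.out.one_le] at h1
  have hdvd : minpoly (ZMod p) f ∣ (X ^ p - X : (ZMod p)[X]) := minpoly.dvd _ _ (by simp [hfp])
  have hne : (X ^ p - X : (ZMod p)[X]) ≠ 0 := FiniteField.X_pow_card_sub_X_ne_zero _ hp.out.one_lt
  have hsp : Splits (X ^ p - X : (ZMod p)[X]) := by
    have h := FiniteField.splits_X_pow_card_sub_X (p := p) (K := ZMod p)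
    simpa [ZMod.card] using h
  have hint : IsIntegral (ZMod p) f := Algebra.IsIntegral.isIntegral f
  have hs : Splits (minpoly (ZMod p) f) := hsp.of_dvd hne hdvd
  obtain ⟨c, hc⟩ := hs.exists_eval_eq_zero (minpoly.degree_pos hint).ne'
  obtain ⟨v, hv⟩ := (Module.End.hasEigenvalue_of_isRoot hc).exists_hasEigenvector
  refine ⟨Additive.toMul v, c.val, fun h => hv.2 (Additive.toMul.injective h), ?_⟩
  have h1 : f v = c • v := hv.apply_eq_smul
  rw [← ZMod.natCast_zmod_val c, Nat.cast_smul_eq_nsmul] at h1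
  exact congrArg Additive.toMul h1

/-- A fixed-point-free group permutes the nontrivial elements in regular orbits. -/
theorem card_dvd {A V : Type u} [Group A] [Finite A] [Group V] [Finite V] (φ : A →* MulAut V)
    (hfree : ∀ (a : A) (v : V), φ a v = v → v ≠ 1 → a = 1) : Nat.card A ∣ Nat.card V - 1 := by
  letI : MulAction A {v : V // v ≠ 1} :=
    { smul := fun a v => ⟨φ a v.1, fun h => v.2 ((φ a).injective (h.trans (map_one _).symm))⟩
      one_smul := fun v => Subtype.ext (show φ 1 v.1 = v.1 by rw [map_one]; rfl)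
      mul_smul := fun a b v => Subtype.ext (show φ (a * b) v.1 = φ a (φ b v.1) by rw [map_mul]; rfl) }
  have h : ∀ v : {v : V // v ≠ 1}, MulAction.stabilizer A v = ⊥ := fun v =>
    (Subgroup.eq_bot_iff_forall _).2 fun a ha => hfree a v.1 (congrArg Subtype.val ha) v.2
  have e : Nat.card {v : V // v ≠ 1} = Nat.card V - 1 := by
    classical
    letI := Fintype.ofFinite V
    rw [Nat.card_eq_fintype_card, Nat.card_eq_fintype_card, Fintype.card_subtype_compl, Fintype.card_subtype_eq]
  rw [← e, Nat.card_congr (MulAction.selfEquivOrbitsQuotientProd h), Nat.card_prod]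
  exact dvd_mul_left _ _

/-- A cyclic group of odd order acting semiregularly on a plane, without scalars other than the identity, has order
dividing `p - 1` or `p + 1`. -/
theorem card_dvd_or {A V : Type u} [Group A] [Finite A] [IsCyclic A] [CommGroup V] [Finite V]
    (hodd : Odd (Nat.card A)) (hexp : ∀ v : V, v ^ p = 1) (hV : Nat.card V = p ^ 2) (φ : A →* MulAut V)
    (hfree : ∀ (a : A) (v : V), φ a v = v → v ≠ 1 → a = 1)
    (hscal : ∀ (a : A) (m : ℕ), (∀ v, φ a v = v ^ m) → a = 1) :
    Nat.card A ∣ p - 1 ∨ Nat.card A ∣ p + 1 := by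
  obtain ⟨g, hg⟩ := IsCyclic.exists_generator (α := A)
  have hn : orderOf g = Nat.card A := orderOf_eq_card_of_forall_mem_zpowers hg
  have hdiv : Nat.card A ∣ (p + 1) * (p - 1) := by
    have h := card_dvd φ hfree
    rw [hV, show p ^ 2 - 1 = (p + 1) * (p - 1) by simpa using Nat.sq_sub_sq p 1] at h
    exact h
  by_cases hc : (Nat.card A).Coprime (p - 1)
  · exact Or.inr (hc.dvd_of_dvd_mul_right hdiv)
  obtain ⟨r, hr, hrA, hrp⟩ := Nat.Prime.not_coprime_iff_dvd.1 hc
  haveI : Nontrivial V := Finite.one_lt_card_iff_nontrivial.1 (hV ▸ Nat.one_lt_pow two_ne_zero hp.out.one_lt)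
  set a := g ^ (orderOf g / r) with ha
  have hao : orderOf a = r := orderOf_pow_orderOf_div (orderOf_pos g).ne' (hn ▸ hrA)
  have ha1 : a ≠ 1 := fun e => hr.ne_one (by rw [← hao, e, orderOf_one])
  obtain ⟨v, m, hv1, hvm⟩ := exists_eigen hexp (φ a) (by
    rw [← map_pow, show a ^ (p - 1) = 1 from orderOf_dvd_iff_pow_eq_one.1 (hao ▸ hrp), map_one])
  let W : Subgroup V :=
    { carrier := {w | φ a w = w ^ m}
      one_mem' := by simp
      mul_mem' := fun {x y} hx hy => by
        show φ a (x * y) = (x * y) ^ m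
        rw [map_mul, hx, hy, mul_pow]
      inv_mem' := fun {x} hx => by
        show φ a x⁻¹ = x⁻¹ ^ m
        rw [map_inv, hx, inv_pow] }
  have hWtop : W ≠ ⊤ := fun e => ha1 (hscal a m fun w => e.ge (Subgroup.mem_top w))
  have hvW : v ∈ W := hvm
  have hvo : orderOf v = p := orderOf_eq_prime (hexp v) hv1
  have hWeq : W = Subgroup.zpowers v := by
    refine (Subgroup.eq_of_le_of_card_ge (Subgroup.zpowers_le.2 hvW) ?_).symm
    rw [Nat.card_zpowers, hvo]
    obtain ⟨j, hj, hjc⟩ := (Nat.dvd_prime_pow hp.out).1 (hV ▸ Subgroup.card_subgroup_dvd_card W)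
    have : j ≠ 2 := by rintro rfl; exact hWtop (Subgroup.eq_top_of_card_eq W (by rw [hjc, hV]))
    rw [hjc]
    exact (Nat.pow_le_pow_right hp.out.pos (by omega : j ≤ 1)).trans (pow_one p).le
  have hgv : φ g v ∈ W := by
    show φ a (φ g v) = (φ g v) ^ m
    rw [show φ a (φ g v) = (φ a * φ g) v from rfl, ← map_mul,
      show a * g = g * a from ((Commute.refl g).pow_left _).eq, map_mul,
      show (φ g * φ a) v = φ g (φ a v) from rfl, hvm, map_pow]
  rw [hWeq, ← mem_powers_iff_mem_zpowers] at hgv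
  obtain ⟨j, hj : v ^ j = φ g v⟩ := hgv
  have hpow : ∀ i : ℕ, φ (g ^ i) v = v ^ j ^ i := by
    intro i
    induction i with
    | zero => simp
    | succ i ih =>
      rw [pow_succ, map_mul, show (φ (g ^ i) * φ g) v = φ (g ^ i) (φ g v) from rfl, ← hj, map_pow, ih, ← pow_mul,
        pow_succ]
  have hjp : j.Coprime p := by
    refine (hp.out.coprime_iff_not_dvd.2 fun h => hv1 ((φ g).injective ?_)).symm
    rw [map_one, ← hj]
    exact orderOf_dvd_iff_pow_eq_one.1 (hvo ▸ h)
  left
  rw [← hn]
  refine orderOf_dvd_of_pow_eq_one (hfree _ v ?_ hv1)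
  rw [hpow]
  conv_rhs => rw [← pow_one v]
  refine pow_eq_pow_iff_modEq.2 ?_
  rw [hvo, ← Nat.totient_prime hp.out]
  exact Nat.ModEq.pow_totient hjp

end Cfsg.Agent.OddOrder.PlaneCyclic
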