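/-
The shape of `M_σ` when it is not a TI-subset (BG 15.7).
-/
import Cfsg.Agent.Lib.OddOrder.TypesP
import Cfsg.Agent.Lib.OddOrder.PartnerSupport
import Cfsg.Agent.Lib.OddOrder.PlaneCyclicAct
import Cfsg.Agent.Lib.OddOrder.FittingTI
import Cfsg.Agent.S1373
import Cfsg.Agent.S1412
import Cfsg.Agent.S1419
import Cfsg.Agent.S1420
import Cfsg.Agent.S1438

set_option autoImplicit false
set_option linter.style.haveILetI false
set_option linter.unusedSectionVars false

namespace Cfsg.Agent.OddOrder.NTI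

open scoped commutatorElement IsMulCommutative Pointwise
open Exceptional TauOne Kappa Support Pairing
open Tau3 (line_pgroup line_ne_bot)

universe u

variable {G : Type u} [Group G] [Finite G] {M K U : Subgroup G}

/-- The nonabelian shape. -/
structure Nonab (p : ℕ) (M : Subgroup G) : Prop where
  prime : p.Prime
  sigma : p ∈ Cfsg.sigma M
  not_beta : p ∉ Cfsg.beta M
  dvd : p ∣ Nat.card (Cfsg.sigmaCore M)
  noncomm : ¬ IsMulCommutative (Cfsg.pCore p ↥(Cfsg.sigmaCore M))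
  cyclic : IsCyclic (Cfsg.pPrimeCore p ↥(Cfsg.sigmaCore M))
  central : ∃ O : Subgroup G, Nat.card O = p ∧ M ≤ Subgroup.normalizer (O : Set G) ∧
    O ≤ (Cfsg.pCore p ↥(Cfsg.sigmaCore M)).map (Cfsg.sigmaCore M).subtype ∧
    ∀ a ∈ (Cfsg.pCore p ↥(Cfsg.sigmaCore M)).map (Cfsg.sigmaCore M).subtype, a ^ p = 1 →
      (∀ b ∈ (Cfsg.pCore p ↥(Cfsg.sigmaCore M)).map (Cfsg.sigmaCore M).subtype, b * a = a * b) → a ∈ O
  lines : ∀ q : ℕ, q.Prime → q ∣ Nat.card (Cfsg.sigmaCore M) →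
    ∃ L : Subgroup G, L ≤ Cfsg.sigmaCore M ∧ Nat.card L = q ∧ M ≤ Subgroup.normalizer (L : Set G)

/-- A nilpotent group is generated by its `p`-core and `p'`-core. -/
theorem pCore_sup_pPrimeCore {X : Type u} [Group X] [Finite X] (hX : Group.IsNilpotent X) (p : ℕ) [hp : Fact p.Prime] :
    Cfsg.pCore p X ⊔ Cfsg.pPrimeCore p X = ⊤ := by
  refine FittingCores.eq_top_of_forall_sylow_le fun r hr => ?_
  haveI := Fact.mk hr
  obtain ⟨R⟩ : Nonempty (Sylow r X) := inferInstance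
  haveI : (R : Subgroup X).Normal :=
    (Group.isNilpotent_of_finite_tfae (G := X)).out 0 3 rfl rfl |>.1 hX r ⟨hr⟩ R
  refine ⟨R, ?_⟩
  rcases eq_or_ne r p with rfl | hne
  · exact (FittingCores.le_pCore inferInstance R.isPGroup').trans le_sup_left
  · refine (FittingCores.le_pPrimeCore inferInstance ?_).trans le_sup_right
    obtain ⟨n, hn⟩ := IsPGroup.iff_card.1 R.isPGroup'
    rw [hn]
    exact Nat.Coprime.pow_left n ((Nat.coprime_primes hr hp.out).2 hne)

theorem sylow_eq_pCore {X : Type u} [Group X] [Finite X] (hX : Group.IsNilpotent X) (p : ℕ) [hp : Fact p.Prime]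
    (T : Sylow p X) : (T : Subgroup X) = Cfsg.pCore p X := by
  haveI : (T : Subgroup X).Normal :=
    (Group.isNilpotent_of_finite_tfae (G := X)).out 0 3 rfl rfl |>.1 hX p ⟨hp.out⟩ T
  exact le_antisymm (FittingCores.le_pCore inferInstance T.isPGroup') (FittingCores.pCore_le_sylow T)

/-- Characteristic subgroups are invariant under the normalizer. -/
theorem normalizer_le_normalizer_char {X : Subgroup G} {C : Subgroup X} (hC : C.Characteristic) :
    Subgroup.normalizer (X : Set G) ≤ Subgroup.normalizer ((C.map X.subtype : Subgroup G) : Set G) := by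
  intro g hg
  refine ComplAbelian.mem_normalizer_of_map_le ?_
  rintro _ ⟨y, hy, rfl⟩
  have he := Subgroup.characteristic_iff_comap_eq.1 hC (X.normalizerMonoidHom ⟨g, hg⟩)
  rw [← he] at hy
  exact ⟨_, hy, rfl⟩

/-- An element normalizing a line of prime order `q` has `(q - 1)`-st power centralizing it. -/
theorem pow_centralizes {q : ℕ} [hq : Fact q.Prime] {L : Subgroup G} (hL : Nat.card L = q) {a : G}
    (ha : a ∈ Subgroup.normalizer (L : Set G)) : a ^ (q - 1) ∈ Subgroup.centralizer (L : Set G) := by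
  haveI := isCyclic_of_prime_card hL
  have h : L.normalizerMonoidHom ⟨a ^ (q - 1), Subgroup.pow_mem _ ha _⟩ = 1 := by
    rw [show (⟨a ^ (q - 1), Subgroup.pow_mem _ ha _⟩ : Subgroup.normalizer (L : Set G)) = ⟨a, ha⟩ ^ (q - 1) from
      rfl, map_pow]
    refine orderOf_dvd_iff_pow_eq_one.1 ((orderOf_dvd_natCard _).trans ?_)
    rw [IsCyclic.card_mulAut, hL, Nat.totient_prime hq.out]
  exact (Subgroup.normalizerMonoidHom_ker L).le (MonoidHom.mem_ker.2 h)

/-- Commutators in a group of class two are bilinear. -/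
theorem commutator_pow_pow {X : Type u} [Group X] {a b : X} (hz : ∀ x : X, Commute ⁅a, b⁆ x) (i j : ℕ) :
    ⁅a ^ i, b ^ j⁆ = ⁅a, b⁆ ^ (i * j) := by
  set z := ⁅a, b⁆ with hzdef
  have h1 : a * b * a⁻¹ = z * b := by rw [hzdef, commutatorElement_def]; group
  have h2 : a * b ^ j * a⁻¹ = z ^ j * b ^ j := by rw [← conj_pow, h1, (hz b).mul_pow]
  have h3 : a ^ i * b ^ j * (a ^ i)⁻¹ = z ^ (i * j) * b ^ j := by
    induction i with
    | zero => simp
    | succ i ih =>
      calc a ^ (i + 1) * b ^ j * (a ^ (i + 1))⁻¹ = a ^ i * (a * b ^ j * a⁻¹) * (a ^ i)⁻¹ := by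
            rw [pow_succ]; group
        _ = a ^ i * (z ^ j * b ^ j) * (a ^ i)⁻¹ := by rw [h2]
        _ = z ^ j * (a ^ i * b ^ j * (a ^ i)⁻¹) := by
            rw [← mul_assoc (a ^ i), ← ((hz (a ^ i)).pow_left j).eq, mul_assoc, mul_assoc, mul_assoc]
        _ = z ^ ((i + 1) * j) * b ^ j := by rw [ih, ← mul_assoc, ← pow_add]; ring_nf
  rw [commutatorElement_def, h3, mul_inv_cancel_right]

variable (hG : Cfsg.IsMinSimpleOddOrder G) (hM : IsCoatom M)
include hG hM

/-- A witness for the failure of TI. -/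
theorem of_not_ti (hnil : Group.IsNilpotent (Cfsg.sigmaCore M))
    (h : ¬ Cfsg.IsTISubset (Cfsg.fittingHallOf M : Set G)) :
    ∃ x ∈ Cfsg.sigmaCore M, x ≠ 1 ∧ ¬ Subgroup.centralizer ({x} : Set G) ≤ M := by
  rw [Support.fittingHall_eq hG hM hnil, Cfsg.IsTISubset] at h
  push Not at h
  obtain ⟨g, hg, x, hx, hgx, hx1⟩ := h
  have hS1 : Cfsg.sigmaCore M ≠ ⊥ := Kappa.sigmaCore_ne_bot hG hM
  obtain ⟨-, hfus⟩ := S1438.result hG M hM _ le_rfl hS1 (by rw [Subgroup.relIndex_self]; exact Nat.coprime_one_right _)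
  obtain ⟨n, hn, hne⟩ := hfus x hx g hgx
  refine ⟨x, hx, hx1, fun hC => hg ?_⟩
  have hc : n⁻¹ * g ∈ Subgroup.centralizer ({x} : Set G) := by
    rw [Subgroup.mem_centralizer_singleton_iff]
    calc n⁻¹ * g * x = n⁻¹ * (g * x * g⁻¹) * g := by group
      _ = n⁻¹ * (n * x * n⁻¹) * g := by rw [hne]
      _ = x * (n⁻¹ * g) := by group
  rw [FTI.normalizer_of_normal hG hM (sigmaCore_le M) hS1 (le_normalizer_sigmaCore M)]
  simpa using M.mul_mem hn.1 (hC hc)

variable {x : G} (hnil : Group.IsNilpotent (Cfsg.sigmaCore M)) (hx : x ∈ Cfsg.sigmaCore M) (hx1 : x ≠ 1)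
  (hxM : ¬ Subgroup.centralizer ({x} : Set G) ≤ M)
include hnil hx hx1 hxM

theorem U_eq_bot (hKU : Cfsg.IsSigmaDecomposition M K U) (hK1 : K ≠ ⊥) : U = ⊥ := by
  by_contra hU
  obtain ⟨c, hc, hcM⟩ := SetLike.not_le_iff_exists.1 hxM
  have hxF : x ∈ Cfsg.fittingOf M := (haveI := hnil; FitOf.le_fittingOf (sigmaCore_le M) (le_normalizer_sigmaCore M)) hx
  refine hx1 ((FTI.ti_of_P2 hG hM hKU hK1 hU) c (fun h => hcM ?_) x hxF ?_)
  · rwa [FTI.normalizer_of_normal hG hM (FitOf.fittingOf_le M)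
      (fun e => hx1 (Subgroup.mem_bot.1 (e.le hxF))) (FitOf.le_normalizer_fittingOf M)] at h
  · rwa [Subgroup.mem_centralizer_singleton_iff.1 hc, mul_inv_cancel_right]

/-- BG 15.7(d). -/
theorem cases :
    (IsMulCommutative (Cfsg.sigmaCore M) ∧ Cfsg.RankLE 2 (Cfsg.sigmaCore M) ∧
      ¬ Cfsg.RankLE 1 (Cfsg.sigmaCore M) ∧ Cfsg.kappa M = ∅) ∨ ∃ p, Nonab p M := by
  obtain ⟨L₀, hL₀, hL₀C⟩ := Uniq.exists_maximal_ge (show Subgroup.centralizer ({x} : Set G) ≠ ⊤ from fun e => by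
    have hz : Subgroup.zpowers x ≤ M := Subgroup.zpowers_le.2 (sigmaCore_le M hx)
    refine MinSimple.normalizer_ne_top hG (fun e' => hx1 (Subgroup.zpowers_eq_bot.1 e'))
      (ne_top_of_le_ne_top hM.1 hz) (top_le_iff.1 ?_)
    rw [← e, ← Plane.centralizer_zpowers]
    exact Subgroup.centralizer_le_normalizer _)
  obtain ⟨-, hNnil, -, hcompl, p, X, hp, hpM, hpN, hX, hXS, hXN, hCXN, hCXM⟩ :=
    PSupp.support hG hM hx hx1 hxM hL₀ hL₀C
  set N := L₀
  set S := Cfsg.sigmaCore M with hSdef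
  haveI := Fact.mk hp
  set C := Subgroup.centralizer (X : Set G) with hC
  have hXM : X ≤ M := hXS.trans (sigmaCore_le M)
  obtain ⟨y₀, hy₀, hy₀1⟩ := Plane.exists_ne_one hX
  -- what lies in `C(X)` is abelian
  have hab : ∀ Y : Subgroup G, Y ≤ S → Y ≤ C → IsMulCommutative Y := fun Y hYS hYC =>
    (S1420.result hG N hL₀ (M ⊓ N) hcompl).1 Y (hYC.trans hCXN) (PlaneUnique.isNilpotent_of_le hnil hYS)
      fun t ht hd => not_dvd_complement hG hL₀ hcompl ht
        (hd.trans (Subgroup.card_dvd_of_le (le_inf (hYS.trans (sigmaCore_le M)) (hYC.trans hCXN))))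
  -- elementary abelian groups in `C(X)` are small
  have hsmall : ∀ (t : ℕ), t.Prime → ∀ Y : Subgroup G, Y ≤ S → Y ≤ C → IsMulCommutative Y → (∀ a ∈ Y, a ^ t = 1) →
      Nat.card Y ≤ t ^ 2 := by
    intro t ht Y hYS hYC hYc hYt
    haveI := hYc
    by_cases hY1 : Y = ⊥
    · rw [hY1, Subgroup.card_bot]; exact Nat.one_le_pow _ _ ht.pos
    obtain ⟨y, hy, hy1⟩ := (Subgroup.bot_or_exists_ne_one Y).resolve_left hY1
    haveI := Fact.mk ht
    have htd : t ∣ Nat.card (M ⊓ N : Subgroup G) := by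
      rw [← orderOf_eq_prime (hYt y hy) hy1]
      exact Subgroup.orderOf_dvd_natCard _ ⟨sigmaCore_le M (hYS hy), hCXN (hYC hy)⟩
    haveI := Fact.mk ht
    have htσ := not_dvd_complement hG hL₀ hcompl ht htd
    have hr2 : Cfsg.PRankLE t 2 N := by
      by_contra h
      exact htσ (Sigma.alpha_subset_sigma hG hL₀ ⟨ht, h⟩)
    have := hr2 ((⊤ : Subgroup Y).map (Subgroup.inclusion (hYC.trans hCXN))) inferInstance (by
      rintro _ ⟨a, ha, rfl⟩
      rw [← map_pow, show a ^ t = 1 from Subtype.ext (hYt a a.2), map_one])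
    rwa [Subgroup.card_map_of_injective (Subgroup.inclusion_injective _),
      Nat.card_congr (Subgroup.topEquiv.toEquiv)] at this
  have hSn : M ≤ Subgroup.normalizer (S : Set G) := le_normalizer_sigmaCore M
  set Pm := (Cfsg.pCore p ↥S).map S.subtype with hPm
  set Wm := (Cfsg.pPrimeCore p ↥S).map S.subtype with hWm
  have hPS : Pm ≤ S := Subgroup.map_subtype_le _
  have hWS : Wm ≤ S := Subgroup.map_subtype_le _
  have hPW : Pm ⊔ Wm = S := by
    rw [hPm, hWm, ← Subgroup.map_sup, pCore_sup_pPrimeCore hnil p, ← MonoidHom.range_eq_map, Subgroup.range_subtype]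
  have hXP : X ≤ Pm := fun z hz => by
    refine ⟨⟨z, hXS hz⟩, NonNil.mem_pCore_of_nilpotent (F := (⊤ : Subgroup ↥S)) inferInstance
      (Group.nilpotent_of_mulEquiv Subgroup.topEquiv.symm) (Subgroup.mem_top _) (IsPGroup.of_equiv
        ((line_pgroup hX).to_le (Subgroup.zpowers_le.2 hz)) ?_), rfl⟩
    refine (MulEquiv.subgroupCongr ?_).trans
      ((Subgroup.zpowers (⟨z, hXS hz⟩ : S)).equivMapOfInjective S.subtype S.subtype_injective).symm
    rw [MonoidHom.map_zpowers]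
    rfl
  have hWC : Wm ≤ C := by
    rintro _ ⟨w, hw, rfl⟩
    refine Subgroup.mem_centralizer_iff.2 fun z hz => (CN.commute_of_coprime hnil (hXS hz) w.2 ?_).eq
    rw [Subgroup.orderOf_coe]
    exact (Nat.Coprime.coprime_dvd_left (hX ▸ Subgroup.orderOf_dvd_natCard X hz)
      ((FittingCores.pPrimeCore_coprime (G := S) p).coprime_dvd_left (Subgroup.orderOf_dvd_natCard _ hw)).symm)
  by_cases hSc : IsMulCommutative S
  · left
    have hSC : S ≤ C := (Subgroup.le_centralizer S).trans (Subgroup.centralizer_le hXS)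
    refine ⟨hSc, fun t ht A hA hAt => ?_, fun h1 => ?_, ?_⟩
    · haveI := hA
      rw [← Subgroup.card_map_of_injective S.subtype_injective (K := A)]
      refine hsmall t ht _ (Subgroup.map_subtype_le _) ((Subgroup.map_subtype_le _).trans hSC) inferInstance ?_
      rintro _ ⟨a, ha, rfl⟩
      rw [← map_pow, hAt a ha, map_one]
    · haveI : IsZGroup S := ⟨fun t ht R => by
        haveI := Fact.mk ht
        refine CyclicSylow.isCyclic_of_isPGroup ((hG.1.of_dvd_nat S.card_subgroup_dvd_card).of_dvd_nat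
          (Subgroup.card_subgroup_dvd_card _)) R.isPGroup' fun B hB hBt => ?_
        haveI := hB
        have := h1 t ht (B.map (R : Subgroup S).subtype) inferInstance (by
          rintro _ ⟨b, hb, rfl⟩
          rw [← map_pow, hBt b hb, map_one])
        rwa [Subgroup.card_map_of_injective (R : Subgroup S).subtype_injective] at this⟩
      haveI := hnil
      have hScyc : IsCyclic S := inferInstance
      refine hCXM ?_
      show Subgroup.centralizer (X : Set G) ≤ M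
      rw [← Plane.zpowers_eq hX hy₀ hy₀1] at hXM ⊢
      refine (Subgroup.centralizer_le_normalizer _).trans
        (FTI.normalizer_of_normal hG hM hXM (fun e => hy₀1 (Subgroup.zpowers_eq_bot.1 e)) fun m hm => ?_).le
      rw [Subgroup.mem_normalizer_iff_map_conj_eq, MonoidHom.map_zpowers]
      exact FTI.line_conj_eq hScyc ((Subgroup.mem_normalizer_iff.1 (hSn hm) _).1 (hXS hy₀)) (hXS hy₀)
        (MulEquiv.orderOf_eq (MulAut.conj m) y₀)
    · by_contra hne
      obtain ⟨K, U, hKU⟩ := FStruct.exists_decomp hG hM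
      have hK1 := Types.K_ne hKU (Set.nonempty_iff_ne_empty.2 hne)
      obtain ⟨hMd, hD2⟩ := S1365.result hG M hM K U hKU hK1
      rw [U_eq_bot hG hM hnil hx hx1 hxM hKU hK1, bot_sup_eq] at hMd
      refine (S1364.result hG M hM K U hKU hK1).2.1 (le_bot_iff.1 (hD2.trans ?_))
      rw [hMd, Subgroup.commutator_eq_bot_iff_le_centralizer.2 (Subgroup.le_centralizer S)]
  right
  have hPnc : ¬ IsMulCommutative (Cfsg.pCore p ↥S) := fun hc => by
    haveI := hc
    refine hSc (hab S le_rfl (hPW.ge.trans (sup_le ?_ hWC)))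
    haveI : IsMulCommutative Pm := inferInstanceAs (IsMulCommutative ((Cfsg.pCore p ↥S).map S.subtype))
    exact (Subgroup.le_centralizer Pm).trans (Subgroup.centralizer_le hXP)
  have hPp : IsPGroup p Pm := (FittingCores.pCore_isPGroup p).map _
  have hPnC : ¬ Pm ≤ C := fun h => hPnc (by
    haveI := hab Pm hPS h
    refine .of_setLike_mul_comm fun a ha b hb => Subtype.ext ?_
    simpa using congrArg (fun y : Pm => (y : G)) (mul_comm' (⟨a, a, ha, rfl⟩ : Pm) ⟨b, b, hb, rfl⟩))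
  -- the Sylow subgroups of `G` are nonabelian
  have hGS : ∀ T : Sylow p G, ¬ IsMulCommutative (T : Subgroup G) := by
    by_contra hh
    obtain ⟨T, hPT, hTc⟩ := TauTwoAb.exists_abelian_sylow hh hPp
    haveI := hTc
    exact hPnC ((hPT.trans (Subgroup.le_centralizer _)).trans (Subgroup.centralizer_le (hXP.trans hPT)))
  obtain ⟨B, hBE, hBe, hB⟩ := TauTwo.exists_plane (p := p) hG hL₀ hcompl hpN
  obtain ⟨hτ, -, -⟩ := S1419.result hG N hL₀ _ hcompl p hpN hGS B ⟨hBE, hBe, hB⟩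
  have hWc : IsMulCommutative Wm := hab Wm hWS hWC
  have hWcyc : IsCyclic Wm := by
    haveI : IsZGroup Wm := ⟨fun t ht R => by
      haveI := Fact.mk ht
      by_cases hR : (R : Subgroup Wm) = ⊥
      · rw [hR]; infer_instance
      have hd : t ∣ Nat.card Wm := (R.isPGroup'.card_eq_or_dvd.resolve_left fun e =>
        hR (Subgroup.card_eq_one.1 e)).trans (Subgroup.card_subgroup_dvd_card _)
      have htp : t ≠ p := fun e => by
        rw [hWm, Subgroup.card_map_of_injective S.subtype_injective] at hd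
        exact ht.ne_one (Nat.eq_one_of_dvd_coprimes (FittingCores.pPrimeCore_coprime (G := S) p) hd (e ▸ dvd_rfl))
      have htσ := not_dvd_complement hG hL₀ hcompl ht
        (hd.trans (Subgroup.card_dvd_of_le (le_inf (hWS.trans (sigmaCore_le M)) (hWC.trans hCXN))))
      have hr1 : Cfsg.PRankLE t 1 N := (rank_one_or_tau2 hG hL₀ ht htσ).resolve_right fun h => htp (by
        rw [hτ] at h
        exact Set.mem_singleton_iff.1 h)
      haveI := isCyclic_of_rank_one hG hr1 (R.isPGroup'.map Wm.subtype)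
        ((Subgroup.map_subtype_le _).trans (hWC.trans hCXN))
      exact ((R : Subgroup Wm).equivMapOfInjective Wm.subtype Wm.subtype_injective).isCyclic.2 inferInstance⟩
    haveI := hWc
    infer_instance
  -- the central line
  have hXnO : ∀ z ∈ X, (∀ b ∈ Pm, b * z = z * b) → z = 1 := fun z hz hc => by
    by_contra hz1
    refine hPnC fun b hb => ?_
    rw [hC, ← Plane.zpowers_eq hX hz hz1, Plane.centralizer_zpowers, Subgroup.mem_centralizer_singleton_iff]
    exact hc b hb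
  let O : Subgroup G :=
    { carrier := {a | a ∈ Pm ∧ a ^ p = 1 ∧ ∀ b ∈ Pm, b * a = a * b}
      one_mem' := ⟨one_mem _, one_pow _, fun b _ => by rw [mul_one, one_mul]⟩
      mul_mem' := fun {a c} ha hc => ⟨Pm.mul_mem ha.1 hc.1, by
          rw [(show Commute a c from hc.2.2 a ha.1).mul_pow, ha.2.1, hc.2.1, one_mul],
        fun b hb => ((show Commute b a from ha.2.2 b hb).mul_right (hc.2.2 b hb)).eq⟩
      inv_mem' := fun {a} ha => ⟨Pm.inv_mem ha.1, by rw [inv_pow, ha.2.1, inv_one],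
        fun b hb => (show Commute b a from ha.2.2 b hb).inv_right.eq⟩ }
  have hOP : O ≤ Pm := fun a ha => ha.1
  have hPc : ∀ a ∈ O, ∀ b ∈ Pm, Commute b a := fun a ha b hb => ha.2.2 b hb
  have hPn : M ≤ Subgroup.normalizer (Pm : Set G) :=
    hSn.trans (normalizer_le_normalizer_char (FittingCores.pCore_characteristic p))
  have hPne : Pm ≠ ⊥ := fun e => line_ne_bot hX (le_bot_iff.1 (hXP.trans e.le))
  have hO1 : O ≠ ⊥ := by
    haveI : Nontrivial Pm := (Subgroup.nontrivial_iff_ne_bot Pm).2 hPne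
    haveI := hPp.center_nontrivial
    obtain ⟨n, hn, hn'⟩ := (hPp.to_subgroup (Subgroup.center Pm)).nontrivial_iff_card.1 inferInstance
    obtain ⟨z, hz⟩ := exists_prime_orderOf_dvd_card' (G := Subgroup.center Pm) p (hn' ▸ dvd_pow_self p hn.ne')
    intro e
    have hmem : ((z : Pm) : G) ∈ O := ⟨(z : Pm).2, by
        rw [← hz, ← Subgroup.orderOf_coe z, ← Subgroup.orderOf_coe (z : Pm)]
        exact pow_orderOf_eq_one _,
      fun b hb => congrArg Subtype.val (Subgroup.mem_center_iff.1 z.2 ⟨b, hb⟩)⟩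
    rw [e, Subgroup.mem_bot] at hmem
    have h1 : z = 1 := Subtype.ext (Subtype.ext hmem)
    exact hp.ne_one (by rw [← hz, h1, orderOf_one])
  have hOc : Nat.card O = p := by
    have hXO : X ≤ Subgroup.centralizer (O : Set G) := fun z hz =>
      Subgroup.mem_centralizer_iff.2 fun o ho => ((hPc o ho z (hXP hz)).symm).eq
    have hdis : O ⊓ X = ⊥ := (Subgroup.eq_bot_iff_forall _).2 fun z hz => hXnO z hz.2 hz.1.2.2
    have hcard := SolvBasic.card_sup_mul_card_inf (hXO.trans (Subgroup.centralizer_le_normalizer _))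
    rw [hdis, Subgroup.card_bot, mul_one, hX] at hcard
    have hle : Nat.card (O ⊔ X : Subgroup G) ≤ p ^ 2 := by
      have hdec : ∀ a ∈ O ⊔ X, ∃ o ∈ O, ∃ z ∈ X, a = o * z := fun a ha =>
        (SolvBasic.mem_sup_iff_of_le_normalizer (hXO.trans (Subgroup.centralizer_le_normalizer _))).1 ha
      haveI : IsMulCommutative X := (isCyclic_of_prime_card hX).isMulCommutative
      refine hsmall p hp _ (sup_le (hOP.trans hPS) hXS) (sup_le ?_ (Subgroup.le_centralizer X))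
        (.of_setLike_mul_comm fun a ha b hb => ?_) fun a ha => ?_
      · exact fun o ho => Subgroup.mem_centralizer_iff.2 fun z hz => (hPc o ho z (hXP hz)).eq
      · obtain ⟨o, ho, z, hz, rfl⟩ := hdec a ha
        obtain ⟨o', ho', z', hz', rfl⟩ := hdec b hb
        have hzz : Commute z z' := congrArg Subtype.val (mul_comm' (⟨z, hz⟩ : X) ⟨z', hz'⟩)
        exact ((((hPc o' ho' o (hOP ho)).mul_right (hPc o ho z' (hXP hz')).symm).mul_left
          ((hPc o' ho' z (hXP hz)).mul_right hzz))).eq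
      · obtain ⟨o, ho, z, hz, rfl⟩ := hdec a ha
        rw [(hPc o ho z (hXP hz)).symm.mul_pow, ho.2.1, one_mul]
        exact orderOf_dvd_iff_pow_eq_one.1 (hX ▸ Subgroup.orderOf_dvd_natCard X hz)
    obtain ⟨k, hk⟩ := IsPGroup.iff_card.1 (hPp.to_le hOP)
    rw [hcard, hk, ← pow_succ] at hle
    have hk0 : k ≠ 0 := fun e => hO1 (Subgroup.card_eq_one.1 (by rw [hk, e, pow_zero]))
    have := (Nat.pow_le_pow_iff_right hp.one_lt).1 hle
    rw [hk, show k = 1 by omega, pow_one]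
  have hOn : M ≤ Subgroup.normalizer (O : Set G) := fun m hm => by
    refine ComplAbelian.mem_normalizer_of_map_le fun a ha => ⟨(Subgroup.mem_normalizer_iff.1 (hPn hm) a).1 ha.1,
      by rw [conj_pow, ha.2.1, mul_one, mul_inv_cancel], fun b hb => ?_⟩
    have hb' : m⁻¹ * b * m ∈ Pm := by
      have := (Subgroup.mem_normalizer_iff.1 (hPn (M.inv_mem hm)) b).1 hb
      rwa [inv_inv] at this
    calc b * (m * a * m⁻¹) = m * (m⁻¹ * b * m * a) * m⁻¹ := by group
      _ = m * (a * (m⁻¹ * b * m)) * m⁻¹ := by rw [ha.2.2 _ hb']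
      _ = m * a * m⁻¹ * b := by group
  have hWn : M ≤ Subgroup.normalizer (Wm : Set G) :=
    hSn.trans (normalizer_le_normalizer_char (FittingCores.pPrimeCore_characteristic p))
  have hpd : p ∣ Nat.card S := hX ▸ Subgroup.card_dvd_of_le hXS
  obtain ⟨E, hE⟩ := exists_complement hG hM
  refine ⟨p, hp, hpM, ?_, hpd, hPnc, ?_, ⟨O, hOc, hOn, hOP, fun a ha hap hac => ⟨ha, hap, hac⟩⟩, fun q hq hqd => ?_⟩
  · obtain ⟨c, hc, hcM⟩ := SetLike.not_le_iff_exists.1 hCXM
    refine ((S1426.result hG M hM E hE).2.2 c hcM).2.1 p hp (hX ▸ Subgroup.card_dvd_of_le (le_inf hXS ?_))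
    exact fun y hy => ⟨y, hXM hy, by
      show c * y * c⁻¹ = y
      rw [← Subgroup.mem_centralizer_iff.1 hc y hy, mul_inv_cancel_right]⟩
  · exact ((Cfsg.pPrimeCore p ↥S).equivMapOfInjective S.subtype S.subtype_injective).isCyclic.2 hWcyc
  · rcases eq_or_ne q p with rfl | hqp
    · exact ⟨O, hOP.trans hPS, hOc, hOn⟩
    haveI := Fact.mk hq
    have hn : Wm ≤ Subgroup.normalizer (Pm : Set G) := (hWS.trans (sigmaCore_le M)).trans hPn
    have hqW : q ∣ Nat.card Wm := by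
      rcases hq.dvd_mul.1 ((show q ∣ Nat.card (Pm ⊔ Wm : Subgroup G) by rw [hPW]; exact hqd).trans
        (Dvd.intro _ (SolvBasic.card_sup_mul_card_inf hn))) with h | h
      · obtain ⟨k, hk⟩ := IsPGroup.iff_card.1 hPp
        rw [hk] at h
        exact absurd ((Nat.prime_dvd_prime_iff_eq hq hp).1 (hq.dvd_of_dvd_pow h)) hqp
      · exact h
    obtain ⟨L, hLW, hL⟩ := exists_line_of_dvd hq hqW
    refine ⟨L, hLW.trans hWS, hL, fun m hm => ?_⟩
    obtain ⟨a, ha, ha1⟩ := Plane.exists_ne_one hL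
    rw [← Plane.zpowers_eq hL ha ha1, Subgroup.mem_normalizer_iff_map_conj_eq, MonoidHom.map_zpowers]
    exact FTI.line_conj_eq hWcyc ((Subgroup.mem_normalizer_iff.1 (hWn hm) a).1 (hLW ha)) (hLW ha)
      (MulEquiv.orderOf_eq (MulAut.conj m) a)

omit hnil hx hx1 hxM

/-- For `κ(M) = ∅`, the exponent of `M / M_F` divides every `q - 1`. -/
theorem exponent_dvd (hnil : Group.IsNilpotent (Cfsg.sigmaCore M)) (hKU : Cfsg.IsSigmaDecomposition M K U)
    (hK1 : K = ⊥) {p : ℕ} (n : Nonab p M) {q : ℕ} (hq : q.Prime) (hqd : q ∣ Nat.card (Cfsg.fittingHallOf M)) :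
    Monoid.exponent (↥M ⧸ Cfsg.fittingHall ↥M) ∣ q - 1 := by
  haveI := Fact.mk hq
  rw [Support.fittingHall_eq hG hM hnil] at hqd
  obtain ⟨L, hLS, hL, hLn⟩ := n.lines q hq hqd
  obtain ⟨U₀, hU₀U, hexp, hreg⟩ := S1360.result hG M hM K U hKU
  have hU₀ : Monoid.exponent U₀ ∣ q - 1 := Monoid.exponent_dvd_of_forall_pow_eq_one fun u => by
    have hu : (u : G) ∈ M := hKU.compl.1 (hU₀U u.2)
    obtain ⟨y, hy, hy1⟩ := Plane.exists_ne_one hL
    refine Subtype.ext (hreg _ (U₀.pow_mem u.2 _) ⟨M.pow_mem hu _, y, hLS hy, hy1, ?_⟩)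
    exact (Subgroup.mem_centralizer_iff.1 (pow_centralizes hL (hLn hu)) y hy).symm
  refine Monoid.exponent_dvd_of_forall_pow_eq_one fun t => ?_
  obtain ⟨⟨m, hm⟩, rfl⟩ := QuotientGroup.mk'_surjective _ t
  obtain ⟨a, ha, s, hs, rfl⟩ := hKU.compl.2.2.2 m hm
  rw [hK1, bot_sup_eq] at hs
  have he : (⟨a * s, hm⟩ : M) = ⟨a, hKU.compl.1 ha⟩ * ⟨s, sigmaCore_le M hs⟩ := rfl
  have hs' : (⟨s, sigmaCore_le M hs⟩ : M) ∈ Cfsg.fittingHall M := FStruct.fittingHall_mem.2 (by
    rw [Support.fittingHall_eq hG hM hnil]; exact hs)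
  rw [QuotientGroup.mk'_apply, he, QuotientGroup.mk_mul, (QuotientGroup.eq_one_iff _).2 hs', mul_one,
    ← QuotientGroup.mk_pow]
  refine (QuotientGroup.eq_one_iff _).2 ?_
  have h1 : (⟨a, ha⟩ : U) ^ (q - 1) = 1 :=
    orderOf_dvd_iff_pow_eq_one.1 ((hexp ▸ Monoid.order_dvd_exponent (⟨a, ha⟩ : U)).trans hU₀)
  have : (⟨a, hKU.compl.1 ha⟩ : M) ^ (q - 1) = 1 :=
    Subtype.ext (show a ^ (q - 1) = 1 from congrArg (fun y : U => (y : G)) h1)
  rw [this]
  exact one_mem _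

/-- For `κ(M) ≠ ∅`, the order of `K` divides `p - 1`, or `p + 1` with `|O_p(M_σ)| = p ^ 3`. -/
theorem kappa_dvd (hKU : Cfsg.IsSigmaDecomposition M K U) (hK1 : K ≠ ⊥) (hU : U = ⊥)
    (hnil : Group.IsNilpotent (Cfsg.sigmaCore M)) {p : ℕ} (n : Nonab p M) :
    Nat.card K ∣ p - 1 ∨ (Nat.card (Cfsg.pCore p ↥(Cfsg.sigmaCore M)) = p ^ 3 ∧ Nat.card K ∣ p + 1) := by
  haveI := Fact.mk n.prime
  have hp2 : p ≠ 2 := Uniq.ne_two_of_dvd hG (n.dvd.trans (Cfsg.sigmaCore M).card_subgroup_dvd_card)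
  set S := Cfsg.sigmaCore M with hSdef
  set Pm := (Cfsg.pCore p ↥S).map S.subtype with hPm
  obtain ⟨O, hOc, hOn, hOP, hOmax⟩ := n.central
  have hPS : Pm ≤ S := Subgroup.map_subtype_le _
  have hSn : M ≤ Subgroup.normalizer (S : Set G) := le_normalizer_sigmaCore M
  have hPn : M ≤ Subgroup.normalizer (Pm : Set G) :=
    hSn.trans (normalizer_le_normalizer_char (FittingCores.pCore_characteristic p))
  have hKM := hKU.hall.1
  have hKn := hKM.trans hPn
  have hPp : IsPGroup p Pm := (FittingCores.pCore_isPGroup p).map _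
  have hPcard : Nat.card (Cfsg.pCore p ↥S) = Nat.card Pm :=
    (Subgroup.card_map_of_injective S.subtype_injective).symm
  have hPnc : ¬ IsMulCommutative Pm := fun h => n.noncomm (.of_setLike_mul_comm fun a ha b hb => Subtype.ext (by
    haveI := h
    simpa using congrArg (fun y : Pm => (y : G)) (mul_comm' (⟨a, a, ha, rfl⟩ : Pm) ⟨b, b, hb, rfl⟩)))
  set D := S ⊓ Subgroup.centralizer (K : Set G) with hD
  haveI := hKU.cyclic
  haveI := (decomp_factor hG hM hKU hK1).comm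
  have hfix : ∀ k ∈ K, k ≠ 1 → ∀ s ∈ S, k * s = s * k → s ∈ D := fun k hk hk1 s hs h => by
    rw [hD, ← (decomp_factor hG hM hKU hK1).prime k hk hk1]
    exact ⟨hs, Subgroup.mem_centralizer_singleton_iff.2 h.symm⟩
  have hDp : (Nat.card D).Prime := S1373.result hG M hM K U hKU hK1 hU
  -- `D` lies in `P'`
  have hDP : D ≤ ⁅Pm, Pm⁆ := by
    obtain ⟨hMd, hD2⟩ := S1365.result hG M hM K U hKU hK1
    rw [hU, bot_sup_eq] at hMd
    rw [hMd] at hD2
    set Wm := (Cfsg.pPrimeCore p ↥S).map S.subtype with hWm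
    have hPW : Pm ⊔ Wm = S := by
      rw [hPm, hWm, ← Subgroup.map_sup, pCore_sup_pPrimeCore hnil p, ← MonoidHom.range_eq_map, Subgroup.range_subtype]
    haveI := n.cyclic
    haveI : IsMulCommutative Wm := inferInstanceAs (IsMulCommutative ((Cfsg.pPrimeCore p ↥S).map S.subtype))
    have hWS : Wm ≤ S := Subgroup.map_subtype_le _
    have hWP : Wm ≤ Subgroup.centralizer (Pm : Set G) := by
      rintro _ ⟨w, hw, rfl⟩
      refine Subgroup.mem_centralizer_iff.2 fun z hz => (CN.commute_of_coprime hnil (hPS hz) w.2 ?_).eq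
      obtain ⟨j, hj⟩ := IsPGroup.iff_card.1 hPp
      rw [Subgroup.orderOf_coe]
      exact Nat.Coprime.coprime_dvd_left (hj ▸ Subgroup.orderOf_dvd_natCard Pm hz) (Nat.Coprime.pow_left j
        ((FittingCores.pPrimeCore_coprime (G := S) p).coprime_dvd_left (Subgroup.orderOf_dvd_natCard _ hw)).symm)
    refine hD2.trans (Subgroup.commutator_le.2 fun a ha b hb => ?_)
    have hdec : ∀ s ∈ S, ∃ y ∈ Pm, ∃ w ∈ Wm, s = y * w := fun s hs =>
      (SolvBasic.mem_sup_iff_of_le_normalizer (hWP.trans (Subgroup.centralizer_le_normalizer _))).1 (hPW.ge hs)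
    obtain ⟨y, hy, w, hw, rfl⟩ := hdec a ha
    obtain ⟨y', hy', w', hw', rfl⟩ := hdec b hb
    have c1 : Commute y' w := Subgroup.mem_centralizer_iff.1 (hWP hw) y' hy'
    have c2 : Commute y w' := Subgroup.mem_centralizer_iff.1 (hWP hw') y hy
    have c4 : Commute y' w' := Subgroup.mem_centralizer_iff.1 (hWP hw') y' hy'
    have c3 : Commute w w' := congrArg Subtype.val (mul_comm' (⟨w, hw⟩ : Wm) ⟨w', hw'⟩)
    have e : ⁅y * w, y' * w'⁆ = ⁅y, y'⁆ := by
      have h1 : w * (y' * w') * w⁻¹ = y' * w' := by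
        rw [(c1.symm.mul_right c3).eq, mul_inv_cancel_right]
      calc ⁅y * w, y' * w'⁆ = y * (w * (y' * w') * w⁻¹) * y⁻¹ * (y' * w')⁻¹ := by
            rw [commutatorElement_def]; group
        _ = y * y' * (w' * y⁻¹) * (w'⁻¹ * y'⁻¹) := by rw [h1]; group
        _ = y * y' * (y⁻¹ * w') * (w'⁻¹ * y'⁻¹) := by rw [c2.inv_left.eq]
        _ = ⁅y, y'⁆ := by rw [commutatorElement_def]; group
    rw [e]
    exact Subgroup.commutator_mem_commutator hy hy'
  have hPP : ⁅Pm, Pm⁆ ≤ Pm := Subgroup.le_normalizer_iff_commutator_le_left.1 Subgroup.le_normalizer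
  have hDc : Nat.card D = p := by
    obtain ⟨j, hj⟩ := IsPGroup.iff_card.1 hPp
    exact (Nat.prime_dvd_prime_iff_eq hDp n.prime).1
      (hDp.dvd_of_dvd_pow (hj ▸ Subgroup.card_dvd_of_le (hDP.trans hPP)))
  have hfaith : K ⊓ Subgroup.centralizer (Pm : Set G) = ⊥ := (Subgroup.eq_bot_iff_forall _).2 fun k hk => by
    by_contra hk1
    have hle : Pm ≤ D := fun a ha => hfix k hk.1 hk1 a (hPS ha) (Subgroup.mem_centralizer_iff.1 hk.2 a ha).symm
    haveI : IsCyclic D := isCyclic_of_prime_card (hp := ⟨hDp⟩) rfl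
    haveI : IsCyclic Pm := isCyclic_of_injective (Subgroup.inclusion hle) (Subgroup.inclusion_injective hle)
    exact hPnc IsCyclic.isMulCommutative
  have hcop : (Nat.card K).Coprime p := Nat.Coprime.symm (n.prime.coprime_iff_not_dvd.2 fun h =>
    (hKU.hall.2.1 p n.prime h).2.2.1 n.sigma)
  obtain ⟨T⟩ : Nonempty (Sylow p M) := inferInstance
  obtain ⟨TG, hTG⟩ := Sigma.sigma_sylow n.sigma T
  have hTP : (T : Subgroup M).map M.subtype = Pm := by
    have hPM : Pm ≤ M := hPS.trans (sigmaCore_le M)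
    haveI : (Pm.subgroupOf M).Normal := Subgroup.normal_subgroupOf_of_le_normalizer hPn
    have hle : Pm.subgroupOf M ≤ (T : Subgroup M) :=
      (hPp.of_equiv (Subgroup.subgroupOfEquivOfLe hPM).symm).le_sylow_of_normal T
    have heq : Pm.subgroupOf M = (T : Subgroup M) := by
      refine le_antisymm hle (Exceptional.le_of_coprime_index ?_)
      obtain ⟨j, hj⟩ := IsPGroup.iff_card.1 T.isPGroup'
      rw [hj]
      refine Nat.Coprime.pow_left j (n.prime.coprime_iff_not_dvd.2 fun h => ?_)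
      have h' : p ∣ Pm.relIndex M := h
      rw [← Subgroup.relIndex_mul_relIndex Pm S M hPS (sigmaCore_le M)] at h'
      rcases n.prime.dvd_mul.1 h' with h1 | h1
      · obtain ⟨TS⟩ : Nonempty (Sylow p S) := inferInstance
        rw [Subgroup.relIndex, Subgroup.subgroupOf, hPm,
          Subgroup.comap_map_eq_self_of_injective S.subtype_injective, ← sylow_eq_pCore hnil p TS] at h1
        exact TS.not_dvd_index h1
      · exact (S1350.result hG M hM).1.2.2 p n.prime n.sigma h1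
    rw [← heq, Subgroup.map_subgroupOf_eq_of_le hPM]
  by_cases hr : Cfsg.PRankLE p 2 Pm
  swap
  · left
    have hnar : Cfsg.IsNarrow p Pm := NarrowSolvable.isNarrow_of_equiv
      (((T : Subgroup M).equivMapOfInjective M.subtype M.subtype_injective).trans (MulEquiv.subgroupCongr hTP))
      (BetaCore.isNarrow_sylow hG hM hp2 n.not_beta T)
    obtain ⟨g, hg⟩ := IsCyclic.exists_generator (α := K)
    rw [← orderOf_eq_card_of_forall_mem_zpowers hg] at hcop ⊢
    exact NarrowGroup.orderOf_dvd hp2 hPp hnar hr (Blackburn.conjAct Pm K hKn)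
      (NarrowGroup.conjAct_injective Pm K hKn hfaith) hcop
  have hTe : (TG : Subgroup G) = Pm := hTG.trans hTP
  obtain ⟨P₁, P₂, hsup, hcomm, hP1nc, hP1c, hP1e, hP2c, -⟩ := (S1412.result hG p TG (hTe.symm ▸ hr)).resolve_left
    (hTe.symm ▸ hPnc)
  rw [hTe] at hsup
  haveI := hP2c
  have hP1P : P₁ ≤ Pm := le_sup_left.trans hsup.le
  have hP2P : P₂ ≤ Pm := le_sup_right.trans hsup.le
  have hP12 : P₂ ≤ Subgroup.centralizer (P₁ : Set G) := fun b hb =>
    Subgroup.mem_centralizer_iff.2 fun a ha => hcomm a ha b hb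
  have hdecP : ∀ a ∈ Pm, ∃ y ∈ P₁, ∃ w ∈ P₂, a = y * w := fun a ha =>
    (SolvBasic.mem_sup_iff_of_le_normalizer (hP12.trans (Subgroup.centralizer_le_normalizer _))).1 (hsup.ge ha)
  have hP2cent : ∀ w ∈ P₂, ∀ b ∈ Pm, b * w = w * b := fun w hw b hb => by
    obtain ⟨y, hy, w', hw', rfl⟩ := hdecP b hb
    have h1 : Commute w w' := congrArg Subtype.val (mul_comm' (⟨w, hw⟩ : P₂) ⟨w', hw'⟩)
    exact ((show Commute y w from hcomm y hy w hw).mul_left h1.symm).eq
  have hP1exp : ∀ a ∈ P₁, a ^ p = 1 := fun a ha => by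
    have := Monoid.pow_exponent_eq_one (⟨a, ha⟩ : P₁)
    rw [hP1e] at this
    exact congrArg Subtype.val this
  -- `[P, P] ≤ O`
  have hP1O' : ∀ a ∈ P₁, ∀ b ∈ P₁, ⁅a, b⁆ ∈ O ∧ ∀ y ∈ P₁, Commute y ⁅a, b⁆ := by
    intro a ha b hb
    have hP1p : IsPGroup p P₁ := IsPGroup.of_card hP1c
    haveI : Nontrivial P₁ :=
      Finite.one_lt_card_iff_nontrivial.1 (hP1c ▸ Nat.one_lt_pow (by norm_num) n.prime.one_lt)
    haveI := hP1p.center_nontrivial
    obtain ⟨j, hj0, hj⟩ := (hP1p.to_subgroup (Subgroup.center P₁)).nontrivial_iff_card.1 inferInstance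
    have hq : Nat.card (P₁ ⧸ Subgroup.center P₁) ∣ p ^ 2 := by
      have h1 := Subgroup.card_eq_card_quotient_mul_card_subgroup (Subgroup.center P₁)
      rw [hP1c, hj, show j = j - 1 + 1 by omega, pow_succ p (j - 1), pow_succ p 2, ← mul_assoc] at h1
      exact Dvd.intro _ (Nat.eq_of_mul_eq_mul_right n.prime.pos h1).symm
    have hcq : IsMulCommutative (P₁ ⧸ Subgroup.center P₁) := by
      obtain ⟨i, hi, hic⟩ := (Nat.dvd_prime_pow n.prime).1 hq
      interval_cases i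
      · haveI := (Nat.card_eq_one_iff_unique.1 (by rw [hic, pow_zero])).1
        exact ⟨⟨fun _ _ => Subsingleton.elim _ _⟩⟩
      · haveI := isCyclic_of_prime_card (p := p) (by rw [hic, pow_one] : Nat.card (P₁ ⧸ Subgroup.center P₁) = p)
        exact IsCyclic.isMulCommutative
      · exact IsPGroup.isMulCommutative_of_card_eq_prime_sq hic
    have hz : ⁅(⟨a, ha⟩ : P₁), ⟨b, hb⟩⁆ ∈ Subgroup.center P₁ := by
      rw [← QuotientGroup.eq_one_iff, ← QuotientGroup.mk'_apply, map_commutatorElement,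
        commutatorElement_eq_one_iff_mul_comm]
      haveI := hcq
      exact mul_comm' _ _
    have hmem : ⁅a, b⁆ ∈ P₁ :=
      P₁.mul_mem (P₁.mul_mem (P₁.mul_mem ha hb) (P₁.inv_mem ha)) (P₁.inv_mem hb)
    refine ⟨hOmax _ (hP1P hmem) (hP1exp _ hmem) fun c hc => ?_, fun y hy => congrArg Subtype.val
      (Subgroup.mem_center_iff.1 hz ⟨y, hy⟩)⟩
    obtain ⟨y, hy, w, hw, rfl⟩ := hdecP c hc
    have h1 : Commute y ⁅a, b⁆ := congrArg Subtype.val (Subgroup.mem_center_iff.1 hz ⟨y, hy⟩)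
    exact (h1.mul_left (show Commute ⁅a, b⁆ w from hcomm _ hmem w hw).symm).eq
  have hP1O : ∀ a ∈ P₁, ∀ b ∈ P₁, ⁅a, b⁆ ∈ O := fun a ha b hb => (hP1O' a ha b hb).1
  have hP1cent : ∀ a ∈ P₁, ∀ b ∈ P₁, ∀ y ∈ P₁, Commute y ⁅a, b⁆ := fun a ha b hb => (hP1O' a ha b hb).2
  have hPO : ⁅Pm, Pm⁆ ≤ O := Subgroup.commutator_le.2 fun a ha b hb => by
    obtain ⟨y, hy, w, hw, rfl⟩ := hdecP a ha
    obtain ⟨y', hy', w', hw', rfl⟩ := hdecP b hb
    have c1 : Commute w (y' * w') :=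
      (hP2cent w hw (y' * w') (Pm.mul_mem (hP1P hy') (hP2P hw'))).symm
    have c2 : Commute w' y⁻¹ := (show Commute y w' from hcomm y hy w' hw').symm.inv_right
    have e : ⁅y * w, y' * w'⁆ = ⁅y, y'⁆ := by
      calc ⁅y * w, y' * w'⁆ = y * (w * (y' * w') * w⁻¹) * y⁻¹ * (y' * w')⁻¹ := by
            rw [commutatorElement_def]; group
        _ = y * y' * (w' * y⁻¹) * (w'⁻¹ * y'⁻¹) := by rw [c1.eq, mul_inv_cancel_right]; group
        _ = y * y' * (y⁻¹ * w') * (w'⁻¹ * y'⁻¹) := by rw [c2.eq]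
        _ = ⁅y, y'⁆ := by rw [commutatorElement_def]; group
    rw [e]
    exact hP1O y hy y' hy'
  have hDO : D = O := Subgroup.eq_of_le_of_card_ge (hDP.trans hPO) (by rw [hOc, hDc])
  have hkO : ∀ k ∈ K, ∀ a ∈ O, k * a = a * k := fun k hk a ha =>
    Subgroup.mem_centralizer_iff.1 (hDO.ge ha).2 k hk
  have hKcop : ∀ k ∈ K, (orderOf k).Coprime p := fun k hk =>
    hcop.coprime_dvd_left (Subgroup.orderOf_dvd_natCard K hk)
  -- the centre is `O`
  have hZO : ∀ a ∈ Pm, (∀ b ∈ Pm, b * a = a * b) → a ∈ O := by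
    intro a ha hac
    let Z : Subgroup G :=
      { carrier := {c | c ∈ Pm ∧ ∀ b ∈ Pm, b * c = c * b}
        one_mem' := ⟨one_mem _, fun b _ => by rw [mul_one, one_mul]⟩
        mul_mem' := fun {c d} hc hd => ⟨Pm.mul_mem hc.1 hd.1,
          fun b hb => ((show Commute b c from hc.2 b hb).mul_right (hd.2 b hb)).eq⟩
        inv_mem' := fun {c} hc => ⟨Pm.inv_mem hc.1, fun b hb => (show Commute b c from hc.2 b hb).inv_right.eq⟩ }
    obtain ⟨k, hk, hk1⟩ := (Subgroup.bot_or_exists_ne_one K).resolve_left hK1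
    have hkZ : k ∈ Subgroup.normalizer (Z : Set G) := ComplAbelian.mem_normalizer_of_map_le fun c hc =>
      ⟨(Subgroup.mem_normalizer_iff.1 (hKn hk) c).1 hc.1, fun b hb => by
        have hb' : k⁻¹ * b * k ∈ Pm := by
          have := (Subgroup.mem_normalizer_iff.1 (hKn (K.inv_mem hk)) b).1 hb
          rwa [inv_inv] at this
        calc b * (k * c * k⁻¹) = k * (k⁻¹ * b * k * c) * k⁻¹ := by group
          _ = k * (c * (k⁻¹ * b * k)) * k⁻¹ := by rw [hc.2 _ hb']
          _ = k * c * k⁻¹ * b := by group⟩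
    have h := LEOmega.commute_of_omega hp2 (hKcop k hk) _ Z le_rfl (hPp.to_le fun c hc => hc.1) hkZ
      (fun c hc hcp => hkO k hk c (hOmax c hc.1 hcp hc.2)) a ⟨ha, hac⟩
    exact hDO.le (hfix k hk hk1 a (hPS ha) h)
  obtain ⟨a₀, ha₀, b₀, hb₀, hab₀⟩ : ∃ a ∈ P₁, ∃ b ∈ P₁, ⁅a, b⁆ ≠ 1 := by
    by_contra hh
    push Not at hh
    exact hP1nc (.of_setLike_mul_comm fun a ha b hb => commutatorElement_eq_one_iff_mul_comm.1 (hh a ha b hb))
  have hOP1 : O ≤ P₁ := by
    rw [← Plane.zpowers_eq hOc (hP1O a₀ ha₀ b₀ hb₀) hab₀, Subgroup.zpowers_le]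
    exact P₁.mul_mem (P₁.mul_mem (P₁.mul_mem ha₀ hb₀) (P₁.inv_mem ha₀)) (P₁.inv_mem hb₀)
  -- `O = ⟨[a₀, b₀]⟩` is central
  have hOcent : ∀ c ∈ O, ∀ b ∈ Pm, b * c = c * b := fun c hc b hb => by
    rw [← Plane.zpowers_eq hOc (hP1O a₀ ha₀ b₀ hb₀) hab₀] at hc
    obtain ⟨i, rfl⟩ := Subgroup.mem_zpowers_iff.1 hc
    refine ((show Commute b ⁅a₀, b₀⁆ from ?_).zpow_right i).eq
    obtain ⟨y, hy, w, hw, rfl⟩ := hdecP b hb
    refine Commute.mul_left ?_ (hcomm _ (hOP1 (hP1O a₀ ha₀ b₀ hb₀)) w hw).symm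
    exact hP1cent a₀ ha₀ b₀ hb₀ y hy
  have hPeq : Pm = P₁ :=
    le_antisymm (hsup.ge.trans (sup_le le_rfl fun w hw => hOP1 (hZO w (hP2P hw) (hP2cent w hw)))) hP1P
  have hP3 : Nat.card Pm = p ^ 3 := hPeq ▸ hP1c
  refine (?_ : Nat.card K ∣ p - 1 ∨ Nat.card K ∣ p + 1).imp id fun h => ⟨hPcard.trans hP3, h⟩
  -- the action on `P / Z(P)`
  set Z := Subgroup.center Pm with hZdef
  have hZmem : ∀ c : Pm, c ∈ Z → (c : G) ∈ O := fun c hc =>
    hZO c c.2 fun b hb => congrArg Subtype.val (Subgroup.mem_center_iff.1 hc ⟨b, hb⟩)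
  have hmemZ : ∀ c : Pm, (c : G) ∈ O → c ∈ Z := fun c hc => Subgroup.mem_center_iff.2 fun b => Subtype.ext (by
    exact hOcent c hc b b.2)
  have hVcomm : ∀ u v : Pm ⧸ Z, u * v = v * u := fun u v => by
    obtain ⟨u, rfl⟩ := QuotientGroup.mk'_surjective Z u
    obtain ⟨v, rfl⟩ := QuotientGroup.mk'_surjective Z v
    rw [← commutatorElement_eq_one_iff_mul_comm, ← map_commutatorElement, QuotientGroup.mk'_apply,
      QuotientGroup.eq_one_iff]
    exact hmemZ _ (hPO (Subgroup.commutator_mem_commutator u.2 v.2))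
  letI : CommGroup (Pm ⧸ Z) := { (inferInstance : Group (Pm ⧸ Z)) with mul_comm := hVcomm }
  let φ : K →* MulAut (Pm ⧸ Z) :=
    (RankTwoAut.quotientAut Z fun ψ => Subgroup.characteristic_iff_map_eq.1 inferInstance ψ).comp
      (Blackburn.conjAct Pm K hKn)
  have hφ : ∀ (k : K) (a : Pm), φ k (QuotientGroup.mk' Z a) =
      QuotientGroup.mk' Z ⟨(k : G) * a * (k : G)⁻¹, (Subgroup.mem_normalizer_iff.1 (hKn k.2) a).1 a.2⟩ :=
    fun k a => rfl
  have hfree : ∀ (k : K) (v : Pm ⧸ Z), φ k v = v → v ≠ 1 → k = 1 := by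
    intro k v hv hv1
    obtain ⟨a, rfl⟩ := QuotientGroup.mk'_surjective Z v
    rw [hφ] at hv
    by_contra hk1
    have hz := hZmem _ (QuotientGroup.eq.1 hv.symm)
    simp only [Subgroup.coe_mul, InvMemClass.coe_inv] at hz
    set z := (a : G)⁻¹ * ((k : G) * a * (k : G)⁻¹) with hzdef
    have hiter : ∀ i : ℕ, (k : G) ^ i * a * ((k : G) ^ i)⁻¹ = a * z ^ i := by
      intro i
      induction i with
      | zero => simp
      | succ i ih =>
        have hkz : Commute ((k : G) ^ i) z := (show Commute (k : G) z from hkO k k.2 z hz).pow_left i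
        calc (k : G) ^ (i + 1) * a * ((k : G) ^ (i + 1))⁻¹ = (k : G) ^ i * (a * z) * ((k : G) ^ i)⁻¹ := by
              rw [hzdef, pow_succ]; group
          _ = (k : G) ^ i * a * ((k : G) ^ i)⁻¹ * ((k : G) ^ i * z * ((k : G) ^ i)⁻¹) := by group
          _ = a * z ^ (i + 1) := by rw [ih, hkz.eq, mul_inv_cancel_right, mul_assoc, ← pow_succ]
    have h1 := hiter (orderOf (k : G))
    rw [pow_orderOf_eq_one, one_mul, inv_one, mul_one, left_eq_mul] at h1
    have hzp : z ^ p = 1 := orderOf_dvd_iff_pow_eq_one.1 (hOc ▸ Subgroup.orderOf_dvd_natCard O hz)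
    have hz1 : z = 1 := orderOf_eq_one_iff.1 (Nat.eq_one_of_dvd_coprimes (hKcop k k.2)
      (orderOf_dvd_of_pow_eq_one h1) (orderOf_dvd_of_pow_eq_one hzp))
    have hka : (k : G) * a = a * k := by
      rw [hzdef, inv_mul_eq_one] at hz1
      exact (eq_mul_inv_iff_mul_eq.1 hz1).symm
    refine hv1 ((QuotientGroup.eq_one_iff a).2 (hmemZ a ?_))
    exact hDO.le (hfix k k.2 (fun e => hk1 (Subtype.ext e)) a (hPS a.2) hka)
  have hodd : Odd (Nat.card K) := hG.1.of_dvd_nat K.card_subgroup_dvd_card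
  have hexp : ∀ v : Pm ⧸ Z, v ^ p = 1 := fun v => by
    obtain ⟨a, rfl⟩ := QuotientGroup.mk'_surjective Z v
    rw [← map_pow, show a ^ p = 1 from Subtype.ext (hP1exp a (hPeq.le a.2)), map_one]
  have hV : Nat.card (Pm ⧸ Z) = p ^ 2 := by
    have hZc : Nat.card Z = p := by
      rw [← hOc, ← Subgroup.card_map_of_injective Pm.subtype_injective (K := Z)]
      congr 2
      refine le_antisymm ?_ fun o ho => ⟨⟨o, hOP ho⟩, hmemZ _ ho, rfl⟩
      rintro _ ⟨c, hc, rfl⟩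
      exact hZmem c hc
    have h1 := Subgroup.card_eq_card_quotient_mul_card_subgroup Z
    rw [hP3, hZc, pow_succ p 2] at h1
    exact (Nat.eq_of_mul_eq_mul_right n.prime.pos h1).symm
  refine PlaneCyclic.card_dvd_or hodd hexp hV φ hfree fun k m hm => ?_
  by_contra hk1
  set a : Pm := ⟨a₀, hP1P ha₀⟩
  set b : Pm := ⟨b₀, hP1P hb₀⟩
  have hzc : ∀ y : Pm, Commute ⁅a, b⁆ y := fun y =>
    (Subgroup.mem_center_iff.1 (hmemZ ⁅a, b⁆ (hP1O a₀ ha₀ b₀ hb₀)) y).symm
  -- `k` acts on `[a, b]` by `m ^ 2`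
  have hlift : ∀ c : Pm, ∃ o ∈ Z,
      (⟨(k : G) * c * (k : G)⁻¹, (Subgroup.mem_normalizer_iff.1 (hKn k.2) c).1 c.2⟩ : Pm) = c ^ m * o := by
    intro c
    have h1 := hm (QuotientGroup.mk' Z c)
    rw [hφ, ← map_pow, eq_comm] at h1
    exact ⟨_, QuotientGroup.eq.1 h1, (mul_inv_cancel_left _ _).symm⟩
  obtain ⟨o₁, ho₁, he₁⟩ := hlift a
  obtain ⟨o₂, ho₂, he₂⟩ := hlift b
  have hcz : ∀ o ∈ Z, ∀ y : Pm, o * y = y * o := fun o ho y => (Subgroup.mem_center_iff.1 ho y).symm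
  have hkey : ⁅a ^ m * o₁, b ^ m * o₂⁆ = ⁅a ^ m, b ^ m⁆ := by
    calc ⁅a ^ m * o₁, b ^ m * o₂⁆ = a ^ m * (o₁ * (b ^ m * o₂) * o₁⁻¹) * (a ^ m)⁻¹ * (b ^ m * o₂)⁻¹ := by
          rw [commutatorElement_def]; group
      _ = a ^ m * b ^ m * (o₂ * (a ^ m)⁻¹) * (o₂⁻¹ * (b ^ m)⁻¹) := by
          rw [hcz o₁ ho₁, mul_inv_cancel_right]; group
      _ = a ^ m * b ^ m * ((a ^ m)⁻¹ * o₂) * (o₂⁻¹ * (b ^ m)⁻¹) := by rw [hcz o₂ ho₂]
      _ = ⁅a ^ m, b ^ m⁆ := by rw [commutatorElement_def]; group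
  have hfixab : ⁅a, b⁆ ^ (m * m) = ⁅a, b⁆ := by
    rw [← commutator_pow_pow hzc m m, ← hkey, ← he₁, ← he₂]
    refine Subtype.ext ?_
    show ⁅(k : G) * a₀ * (k : G)⁻¹, (k : G) * b₀ * (k : G)⁻¹⁆ = ⁅a₀, b₀⁆
    rw [show ⁅(k : G) * a₀ * (k : G)⁻¹, (k : G) * b₀ * (k : G)⁻¹⁆ = (k : G) * ⁅a₀, b₀⁆ * (k : G)⁻¹ by
      simp only [commutatorElement_def]; group, hkO k k.2 _ (hP1O a₀ ha₀ b₀ hb₀), mul_inv_cancel_right]
  have hab1 : orderOf ⁅a, b⁆ = p := orderOf_eq_prime
    (Subtype.ext (orderOf_dvd_iff_pow_eq_one.1 (hOc ▸ Subgroup.orderOf_dvd_natCard O (hP1O a₀ ha₀ b₀ hb₀))))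
    fun h => hab₀ (congrArg Subtype.val h)
  have hmm : m * m ≡ 1 [MOD p] := hab1 ▸ pow_eq_pow_iff_modEq.1 (hfixab.trans (pow_one _).symm)
  have hk2 : φ (k ^ 2) = 1 := MulEquiv.ext fun v => by
    rw [pow_two, map_mul]
    show φ k (φ k v) = v
    rw [hm v, map_pow, hm v, ← pow_mul]
    conv_rhs => rw [← pow_one v]
    exact pow_eq_pow_iff_modEq.2 (hmm.of_dvd (orderOf_dvd_of_pow_eq_one (hexp v)))
  haveI : Nontrivial (Pm ⧸ Z) :=
    Finite.one_lt_card_iff_nontrivial.1 (hV ▸ Nat.one_lt_pow two_ne_zero n.prime.one_lt)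
  obtain ⟨v, hv⟩ := exists_ne (1 : Pm ⧸ Z)
  have h2 := hfree (k ^ 2) v (by rw [hk2]; rfl) hv
  exact hk1 (orderOf_eq_one_iff.1 (Nat.eq_one_of_dvd_coprimes
    (Nat.coprime_two_left.2 (hodd.of_dvd_nat (orderOf_dvd_natCard k))) (orderOf_dvd_of_pow_eq_one h2) dvd_rfl))

end Cfsg.Agent.OddOrder.NTI
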