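/-
The supporting subgroup of a central element, nilpotent core.
-/
import Cfsg.Agent.Lib.OddOrder.CentralLines
import Cfsg.Agent.Lib.OddOrder.CentralFamily
import Cfsg.Agent.Lib.OddOrder.NonTI
import Mathlib.GroupTheory.Perm.Cycle.Type

set_option autoImplicit false
set_option linter.style.haveILetI false
set_option linter.unusedSectionVars false

namespace Cfsg.Agent.OddOrder.Central

open scoped commutatorElement IsMulCommutative Pointwise
open Exceptional TauOne Kappa Support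
open Pairing (exists_pi_parts mem_sigmaCore_of_primes)
open Tau3 (line_pgroup line_ne_bot)

universe u

variable {G : Type u} [Group G] [Finite G] {M E A L : Subgroup G} {y : G} {t : ℕ}

/-- The multiplier of a normalized line. -/
theorem exists_multiplier {a : G} (ha : orderOf a = t) {N : Subgroup G} [NeZero t]
    (hN : N ≤ Subgroup.normalizer (Subgroup.zpowers a : Set G)) :
    ∃ χ : N →* (ZMod t)ˣ, ∀ n : N, (n : G) * a * (n : G)⁻¹ = a ^ ((χ n : ZMod t).val) := by
  have hex : ∀ n : N, ∃ m : ZMod t, (n : G) * a * (n : G)⁻¹ = a ^ m.val := fun n => by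
    obtain ⟨i, hi⟩ := mem_powers_iff_mem_zpowers.2
      ((Subgroup.mem_normalizer_iff.1 (hN n.2) a).1 (Subgroup.mem_zpowers a))
    exact ⟨(i : ZMod t), by rw [ZMod.val_natCast, ← ha, pow_mod_orderOf]; exact hi.symm⟩
  choose f hf using hex
  have hinj : ∀ x z : ZMod t, a ^ x.val = a ^ z.val → x = z := fun x z h =>
    ZMod.val_injective t (pow_injOn_Iio_orderOf (ha.symm ▸ ZMod.val_lt x) (ha.symm ▸ ZMod.val_lt z) h)
  have hmod : ∀ k : ℕ, a ^ ((k : ZMod t)).val = a ^ k := fun k => by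
    rw [ZMod.val_natCast, ← ha, pow_mod_orderOf]
  let φ : N →* ZMod t :=
    { toFun := f
      map_one' := hinj _ _ (by
        rw [← hf 1]
        simpa using (hmod 1).symm.trans (by rw [Nat.cast_one]))
      map_mul' := fun n m => hinj _ _ (by
        have e1 : (n : G) * ((m : G) * a * (m : G)⁻¹) * (n : G)⁻¹ = a ^ ((f n).val * (f m).val) := by
          rw [hf m, ← conj_pow, hf n, ← pow_mul]
        rw [← hf (n * m), show ((n * m : N) : G) * a * ((n * m : N) : G)⁻¹ =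
            (n : G) * ((m : G) * a * (m : G)⁻¹) * (n : G)⁻¹ by simp [mul_assoc], e1,
          ← hmod ((f n).val * (f m).val), Nat.cast_mul, ZMod.natCast_rightInverse, ZMod.natCast_rightInverse]) }
  exact ⟨φ.toHomUnits, fun n => by rw [MonoidHom.coe_toHomUnits]; exact hf n⟩

/-- A plane has `t + 1` lines. -/
theorem card_lines [ht : Fact t.Prime] (hAe : Cfsg.IsElementaryAbelian t A) (hA : Nat.card A = t ^ 2) :
    ∃ LS : Finset (Subgroup G), (∀ X, X ∈ LS ↔ X ≤ A ∧ Nat.card X = t) ∧ LS.card = t + 1 := by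
  classical
  haveI := Fintype.ofFinite G
  let As := (Finset.univ : Finset G).filter fun a => a ∈ A ∧ a ≠ 1
  have hmem : ∀ X : Subgroup G, X ∈ As.image (fun a => Subgroup.zpowers a) ↔ X ≤ A ∧ Nat.card X = t := fun X => by
    constructor
    · intro h
      obtain ⟨a, ha, rfl⟩ := Finset.mem_image.1 h
      simp only [As, Finset.mem_filter] at ha
      exact ⟨Subgroup.zpowers_le.2 ha.2.1, Plane.zpowers_card hAe ha.2.1 ha.2.2⟩
    · rintro ⟨hXA, hX⟩
      obtain ⟨a, ha, ha1⟩ := Plane.exists_ne_one hX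
      exact Finset.mem_image.2 ⟨a, by simp [As, hXA ha, ha1], Plane.zpowers_eq hX ha ha1⟩
  refine ⟨As.image fun a => Subgroup.zpowers a, hmem, ?_⟩
  have h1 : As.card = t ^ 2 - 1 := by
    have h11 : As = ((Finset.univ : Finset G).filter fun a => a ∈ A).erase 1 := by
      ext a; simp [As, and_comm]
    rw [h11, Finset.card_erase_of_mem (by simp), ← Fintype.card_subtype, ← Nat.card_eq_fintype_card]
    exact congrArg (· - 1) hA
  have h2 : As.card = (As.image fun a => Subgroup.zpowers a).card * (t - 1) := by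
    rw [Finset.card_eq_sum_card_image (fun a => Subgroup.zpowers a), Finset.sum_congr rfl fun X hX => ?_,
      Finset.sum_const, smul_eq_mul]
    obtain ⟨hXA, hXc⟩ := (hmem X).1 hX
    have h21 : As.filter (fun a => Subgroup.zpowers a = X) =
        ((Finset.univ : Finset G).filter fun a => a ∈ X).erase 1 := by
      ext a
      simp only [As, Finset.mem_filter, Finset.mem_univ, true_and, Finset.mem_erase]
      exact ⟨fun h => ⟨h.1.2, h.2 ▸ Subgroup.mem_zpowers a⟩,
        fun h => ⟨⟨hXA h.2, h.1⟩, Plane.zpowers_eq hXc h.2 h.1⟩⟩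
    rw [h21, Finset.card_erase_of_mem (by simp), ← Fintype.card_subtype, ← Nat.card_eq_fintype_card]
    exact congrArg (· - 1) hXc
  rw [h1, show t ^ 2 - 1 = (t + 1) * (t - 1) from by simpa using Nat.sq_sub_sq t 1] at h2
  exact (Nat.eq_of_mul_eq_mul_right (by have := ht.out.two_le; omega) h2).symm

variable (hG : Cfsg.IsMinSimpleOddOrder G) (hM : IsCoatom M) (s : Setup M E A L y t)
include hG hM s

theorem A_le : A ≤ E := by
  haveI := s.elem.1
  rw [← s.cent_A]
  exact Subgroup.le_centralizer A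

theorem y_ne : y ≠ 1 := fun e => s.prime.ne_one (by rw [← s.order, e, orderOf_one])

theorem E_le : E ≤ L := fun _ he => (s.inter.ge he).1

theorem E_le_normalizer : E ≤ Subgroup.normalizer (A : Set G) :=
  s.cent_A ▸ Subgroup.centralizer_le_normalizer _

theorem exists_data : ∃ S : Sylow t G, haveI := Fact.mk s.prime; TauTwoAb.Data t M E A S := by
  haveI := Fact.mk s.prime
  obtain ⟨S, hAS, hS⟩ := TauTwoAb.exists_abelian_sylow (p := t)
    (fun h => h default (s.abelian default)) (Plane.isPGroup (p := t) s.card)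
  exact ⟨S, hG, hM, s.compl, s.tau2, A_le hG hM s, s.elem, s.card, hAS, hS⟩

/-- The `r`-torsion of `N_G(A) / E` is cyclic. -/
theorem torsion {r : ℕ} (hr : r.Prime) (hrt : r ≠ t) {w v : G} (hw : w ∈ Subgroup.normalizer (A : Set G))
    (hv : v ∈ Subgroup.normalizer (A : Set G)) (hwE : w ∉ E) (hwr : w ^ r ∈ E) (hvr : v ^ r ∈ E) :
    ∃ i : ℕ, v * (w ^ i)⁻¹ ∈ E := by
  classical
  haveI := Fact.mk s.prime
  haveI := Fact.mk hr
  obtain ⟨S, d⟩ := exists_data hG hM s
  set N := Subgroup.normalizer (A : Set G) with hN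
  have hEN := E_le_normalizer hG hM s
  by_cases hfix : ∃ ℓ : Subgroup G, ℓ ≤ A ∧ Nat.card ℓ = t ∧ w ∈ Subgroup.normalizer (ℓ : Set G)
  · obtain ⟨ℓ₁, h1A, h1, hw1⟩ := hfix
    set Y := Subgroup.zpowers y
    have hYA : Y ≤ A := Subgroup.zpowers_le.2 s.mem
    have hY : Nat.card Y = t := by rw [Nat.card_zpowers, s.order]
    have hwY : w ∉ Subgroup.normalizer (Y : Set G) := fun h => hwE (s.line_y w hw h)
    have hN1 := d.line_invariant hw h1A h1 hw1 hYA hwY
    -- a second invariant line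
    obtain ⟨LS, hLS, hLSc⟩ := card_lines (t := t) s.elem s.card
    let c : G → Subgroup G → Subgroup G := fun g X => X.map (MulAut.conj g).toMonoidHom
    have hc : ∀ g ∈ N, ∀ X ∈ LS.erase ℓ₁, c g X ∈ LS.erase ℓ₁ := by
      intro g hg X hX
      obtain ⟨hne, hX⟩ := Finset.mem_erase.1 hX
      obtain ⟨hXA, hXc⟩ := (hLS X).1 hX
      refine Finset.mem_erase.2 ⟨fun e => hne ?_, (hLS _).2 ⟨?_, ?_⟩⟩
      · exact Subgroup.map_injective (MulAut.conj g).injective
          (e.trans (Subgroup.mem_normalizer_iff_map_conj_eq.1 (hN1 hg)).symm)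
      · exact (Subgroup.map_mono hXA).trans (Subgroup.mem_normalizer_iff_map_conj_eq.1 hg).le
      · rw [Subgroup.card_map_of_injective (MulAut.conj g).injective, hXc]
    let σ : Equiv.Perm {X // X ∈ LS.erase ℓ₁} :=
      { toFun := fun X => ⟨c w X, hc w hw X X.2⟩
        invFun := fun X => ⟨c w⁻¹ X, hc _ (N.inv_mem hw) X X.2⟩
        left_inv := fun X => Subtype.ext (by simp only [c]; rw [Sigma.map_conj_map, inv_mul_cancel, Sigma.map_conj_one])
        right_inv := fun X => Subtype.ext (by simp only [c]; rw [Sigma.map_conj_map, mul_inv_cancel, Sigma.map_conj_one]) }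
    have hσk : ∀ (k : ℕ) (X : {X // X ∈ LS.erase ℓ₁}), ((σ ^ k) X : Subgroup G) = c (w ^ k) X := by
      intro k
      induction k with
      | zero => intro X; simp only [c, pow_zero, Equiv.Perm.one_apply, Sigma.map_conj_one]
      | succ k ih =>
        intro X
        rw [pow_succ', Equiv.Perm.mul_apply, pow_succ']
        show c w ((σ ^ k) X) = _
        rw [ih]
        exact Sigma.map_conj_map _ _ _
    have hσr : σ ^ r ^ 1 = 1 := by
      refine Equiv.ext fun X => Subtype.ext ?_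
      rw [hσk, pow_one]
      show c (w ^ r) X = _
      exact Subgroup.mem_normalizer_iff_map_conj_eq.1 (Subgroup.centralizer_le_normalizer _
        (Subgroup.centralizer_le ((hLS _).1 (Finset.mem_of_mem_erase X.2)).1 (s.cent_A.ge hwr)))
    have hTc : ¬ r ∣ Fintype.card {X // X ∈ LS.erase ℓ₁} := by
      rw [Fintype.card_coe, Finset.card_erase_of_mem ((hLS _).2 ⟨h1A, h1⟩), hLSc, Nat.add_sub_cancel]
      exact fun h => hrt ((Nat.prime_dvd_prime_iff_eq hr s.prime).1 h)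
    obtain ⟨⟨ℓ₂, hℓ₂⟩, hfx⟩ := Equiv.Perm.exists_fixed_point_of_prime (p := r) (n := 1) hTc hσr
    obtain ⟨hne, hℓ₂⟩ := Finset.mem_erase.1 hℓ₂
    obtain ⟨h2A, h2⟩ := (hLS _).1 hℓ₂
    have hw2 : w ∈ Subgroup.normalizer (ℓ₂ : Set G) :=
      Subgroup.mem_normalizer_iff_map_conj_eq.2 (congrArg Subtype.val hfx)
    have hN2 := d.line_invariant hw h2A h2 hw2 hYA hwY
    obtain ⟨a₁, ha₁, ha₁1⟩ := Plane.exists_ne_one h1
    obtain ⟨a₂, ha₂, ha₂1⟩ := Plane.exists_ne_one h2
    have z1 := Plane.zpowers_eq h1 ha₁ ha₁1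
    have z2 := Plane.zpowers_eq h2 ha₂ ha₂1
    haveI : NeZero t := ⟨s.prime.ne_zero⟩
    obtain ⟨χ₁, hχ₁⟩ := exists_multiplier (t := t) (a := a₁) (by rw [← Nat.card_zpowers, z1, h1])
      (N := N) (by rw [z1]; exact hN1)
    obtain ⟨χ₂, hχ₂⟩ := exists_multiplier (t := t) (a := a₂) (by rw [← Nat.card_zpowers, z2, h2])
      (N := N) (by rw [z2]; exact hN2)
    let ψ : N →* (ZMod t)ˣ := χ₁ / χ₂
    have hker : ∀ n : N, ψ n = 1 → (n : G) ∈ E := by
      intro n hn
      have he : χ₁ n = χ₂ n := div_eq_one.1 hn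
      haveI := s.elem.1
      have hcm : Commute a₁ a₂ := congrArg Subtype.val (mul_comm' (⟨a₁, h1A ha₁⟩ : A) ⟨a₂, h2A ha₂⟩)
      have hb : (n : G) * (a₁ * a₂) * (n : G)⁻¹ = (a₁ * a₂) ^ ((χ₁ n : ZMod t).val) := by
        rw [hcm.mul_pow]
        conv_rhs => rw [← hχ₁ n, show ((χ₁ n : ZMod t).val) = (χ₂ n : ZMod t).val by rw [he], ← hχ₂ n]
        group
      have hb1 : a₁ * a₂ ≠ 1 := fun e => hne ((TauTwoAb.eq_of_mem_mem h1 h2 ha₁
        (by rw [eq_inv_of_mul_eq_one_left e]; exact ℓ₂.inv_mem ha₂) ha₁1)).symm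
      have h3A : Subgroup.zpowers (a₁ * a₂) ≤ A := Subgroup.zpowers_le.2 (A.mul_mem (h1A ha₁) (h2A ha₂))
      have h3 : Nat.card (Subgroup.zpowers (a₁ * a₂)) = t :=
        Plane.zpowers_card s.elem (A.mul_mem (h1A ha₁) (h2A ha₂)) hb1
      have hn3 : (n : G) ∈ Subgroup.normalizer (Subgroup.zpowers (a₁ * a₂) : Set G) := by
        refine ComplAbelian.mem_normalizer_of_map_le fun z hz => ?_
        obtain ⟨i, rfl⟩ := Subgroup.mem_zpowers_iff.1 hz
        rw [← conj_zpow, hb]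
        exact zpow_mem (pow_mem (Subgroup.mem_zpowers _) _) _
      have h13 : ℓ₁ ≠ Subgroup.zpowers (a₁ * a₂) := fun e => hne ((TauTwoAb.eq_of_mem_mem h1 h2
        (show a₂ ∈ ℓ₁ by
          simpa using ℓ₁.mul_mem (ℓ₁.inv_mem ha₁) (e.ge (Subgroup.mem_zpowers (a₁ * a₂)))) ha₂ ha₂1)).symm
      have h23 : ℓ₂ ≠ Subgroup.zpowers (a₁ * a₂) := fun e => hne ((TauTwoAb.eq_of_mem_mem h1 h2 ha₁
        (show a₁ ∈ ℓ₂ by
          simpa using ℓ₂.mul_mem (e.ge (Subgroup.mem_zpowers (a₁ * a₂))) (ℓ₂.inv_mem ha₂)) ha₁1)).symm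
      exact s.line_y n n.2 (TauTwoAb.fix_all_of_three s.elem s.card h1 h2 h3 h1A h2A h3A hne.symm h13 h23
        (hN1 n.2) (hN2 n.2) hn3 hYA)
    have hconv : ∀ n : N, (n : G) ∈ E → ψ n = 1 := by
      intro n hn
      have hone : ∀ {a : G}, a ∈ A → orderOf a = t → ∀ m : ZMod t, (n : G) * a * (n : G)⁻¹ = a ^ m.val → m = 1 := by
        intro a ha hao m hm
        rw [← Subgroup.mem_centralizer_iff.1 (s.cent_A.ge hn) a ha, mul_inv_cancel_right] at hm
        refine ZMod.val_injective t (pow_injOn_Iio_orderOf (x := a) (hao.symm ▸ ZMod.val_lt m)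
          (hao.symm ▸ ZMod.val_lt (1 : ZMod t)) ?_)
        show a ^ m.val = a ^ (1 : ZMod t).val
        rw [← hm, ZMod.val_one, pow_one]
      refine div_eq_one.2 (Units.ext ?_)
      haveI : Fact (1 < t) := ⟨s.prime.one_lt⟩
      rw [hone (h1A ha₁) (by rw [← Nat.card_zpowers, z1, h1]) _ (hχ₁ n),
        hone (h2A ha₂) (by rw [← Nat.card_zpowers, z2, h2]) _ (hχ₂ n)]
    have hpw : ∀ {x : G} (hx : x ∈ N), x ^ r ∈ E → ψ ⟨x, hx⟩ ^ r = 1 := fun hx h => by
      rw [← map_pow]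
      exact hconv _ h
    have hwo : orderOf (ψ ⟨w, hw⟩) = r := orderOf_eq_prime (hpw hw hwr) fun e => hwE (hker _ e)
    have hprim : IsPrimitiveRoot ((ψ ⟨w, hw⟩ : (ZMod t)ˣ) : ZMod t) r := by
      rw [IsPrimitiveRoot.coe_units_iff, ← hwo]
      exact IsPrimitiveRoot.orderOf _
    haveI : NeZero r := ⟨hr.ne_zero⟩
    obtain ⟨i, -, hi⟩ := hprim.eq_pow_of_pow_eq_one (ξ := ((ψ ⟨v, hv⟩ : (ZMod t)ˣ) : ZMod t))
      (by rw [← Units.val_pow_eq_pow_val, hpw hv hvr, Units.val_one])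
    refine ⟨i, hker (⟨v, hv⟩ * (⟨w, hw⟩ ^ i)⁻¹) ?_⟩
    rw [map_mul, map_inv, map_pow, Units.ext (by rw [← hi, Units.val_pow_eq_pow_val] :
      ((ψ ⟨v, hv⟩ : (ZMod t)ˣ) : ZMod t) = ((ψ ⟨w, hw⟩ ^ i : (ZMod t)ˣ) : ZMod t)), mul_inv_cancel]
  · haveI := s.elem.1
    set Γ := (A.normalizerMonoidHom).range with hΓ
    haveI : IsMulCommutative Γ := .of_setLike_mul_comm fun a ha b hb => by
      obtain ⟨n, rfl⟩ := ha
      obtain ⟨m, rfl⟩ := hb
      have h : A.normalizerMonoidHom ⁅n, m⁆ = 1 := MonoidHom.mem_ker.1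
        ((Subgroup.normalizerMonoidHom_ker A).ge (d.commutator_mem n.2 m.2))
      rw [map_commutatorElement] at h
      exact commutatorElement_eq_one_iff_mul_comm.1 h
    have hker : ∀ n : N, A.normalizerMonoidHom n = 1 ↔ (n : G) ∈ E := fun n => by
      rw [← MonoidHom.mem_ker, Subgroup.normalizerMonoidHom_ker, Subgroup.mem_subgroupOf, s.cent_A]
    let wΓ : Γ := ⟨A.normalizerMonoidHom ⟨w, hw⟩, _, rfl⟩
    let vΓ : Γ := ⟨A.normalizerMonoidHom ⟨v, hv⟩, _, rfl⟩
    open scoped IsMulCommutative in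
    obtain ⟨i, hi⟩ := TauTwoAb.pow_mem_of_no_line (p := t) (r := r) s.card Γ.subtype (g := wΓ) (w := wΓ) (b := vΓ)
      (fun L₁ hL₁ => by
        by_contra hcon
        push Not at hcon
        refine hfix ⟨L₁.map A.subtype, Subgroup.map_subtype_le _,
          by rw [Subgroup.card_map_of_injective A.subtype_injective, hL₁],
          ComplAbelian.mem_normalizer_of_map_le ?_⟩
        rintro _ ⟨x, hx, rfl⟩
        exact ⟨_, hcon x hx, rfl⟩)
      (fun e => hwE ((hker ⟨w, hw⟩).1 e))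
      (show A.normalizerMonoidHom ⟨w, hw⟩ ^ r = 1 by rw [← map_pow]; exact (hker _).2 hwr)
      (show A.normalizerMonoidHom ⟨v, hv⟩ ^ r = 1 by rw [← map_pow]; exact (hker _).2 hvr)
    refine ⟨i, (hker (⟨v, hv⟩ * (⟨w, hw⟩ ^ i)⁻¹)).1 ?_⟩
    rw [map_mul, map_inv, map_pow]
    exact mul_inv_eq_one.2 hi

/-- The nilpotent host. -/
theorem nil_false (hnil : Group.IsNilpotent (Cfsg.sigmaCore L)) : False := by
  haveI := Fintype.ofFinite G
  haveI := Fact.mk s.prime
  haveI := s.comm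
  obtain ⟨S, d⟩ := exists_data hG hM s
  have hy1 := y_ne hG hM s
  have hAE := A_le hG hM s
  have hEL := E_le hG hM s
  have hAσ : A ≤ Cfsg.sigmaCore L := fun a ha => mem_sigmaCore_of_primes hG s.coatomL (hEL (hAE ha))
    fun q hq hd => by
      rw [(Nat.prime_dvd_prime_iff_eq hq s.prime).1 (hd.trans (orderOf_dvd_of_pow_eq_one (s.elem.2 a ha)))]
      exact s.sigmaL
  have hLc : IsMulCommutative (Cfsg.sigmaCore L) ∧ Cfsg.kappa L = ∅ := by
    rcases NTI.cases hG s.coatomL hnil s.y_mem hy1 s.not_le with ⟨h, -, -, hκ⟩ | ⟨p, hp⟩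
    · exact ⟨h, hκ⟩
    exfalso
    haveI := Fact.mk hp.prime
    set X := Cfsg.sigmaCore L with hX
    by_cases hpt : p = t
    · subst hpt
      obtain ⟨S', hS'⟩ := (((default : Sylow p X).isPGroup'.to_le (FittingCores.pCore_le_sylow _)).map X.subtype).exists_le_sylow
      haveI := s.abelian S'
      refine hp.noncomm (.of_setLike_mul_comm fun a ha b hb => Subtype.ext ?_)
      exact congrArg (fun u : (S' : Subgroup G) => (u : G))
        (mul_comm' (⟨_, hS' ⟨a, ha, rfl⟩⟩ : (S' : Subgroup G)) ⟨_, hS' ⟨b, hb, rfl⟩⟩)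
    · haveI := hp.cyclic
      set Pp := Cfsg.pPrimeCore p X with hPp
      have hle : A.subgroupOf X ≤ Pp := by
        obtain ⟨T, hT⟩ := (((Plane.isPGroup (p := t) s.card).of_equiv
          (Subgroup.subgroupOfEquivOfLe hAσ).symm)).exists_le_sylow
        haveI : (T : Subgroup X).Normal :=
          (Group.isNilpotent_of_finite_tfae (G := X)).out 0 3 rfl rfl |>.1 hnil t ⟨s.prime⟩ T
        refine hT.trans (FittingCores.le_pPrimeCore inferInstance ?_)
        obtain ⟨n, hn⟩ := IsPGroup.iff_card.1 T.isPGroup'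
        rw [hn]
        exact Nat.Coprime.pow_left n ((Nat.coprime_primes s.prime hp.prime).2 (Ne.symm hpt))
      exact Plane.not_isCyclic s.elem s.card
        ((Subgroup.subgroupOfEquivOfLe hAσ).isCyclic.1 (Subgroup.isCyclic_of_le hle))
  haveI := hLc.1
  have hσE : Cfsg.sigmaCore L ≤ E := by
    rw [← s.cent_A]
    exact (Subgroup.le_centralizer _).trans (Subgroup.centralizer_le hAσ)
  have hLN : L = Subgroup.normalizer (A : Set G) := by
    refine le_antisymm (fun x hx => ComplAbelian.mem_normalizer_of_map_le fun a ha => ?_) s.normal_le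
    exact d.mem_of_pow (hσE ((Subgroup.mem_normalizer_iff.1 (le_normalizer_sigmaCore L hx) a).1 (hAσ ha)))
      (by rw [conj_pow, s.elem.2 a ha, mul_one, mul_inv_cancel])
  have hnE : L ≤ Subgroup.normalizer (E : Set G) := by
    rw [hLN, ← s.cent_A]
    exact d.centralizer_normal
  have hsupp : ∀ z ∈ E, z ∉ (⊥ : Subgroup G) → z ∈ DadeT.supp L := by
    intro z hz hz1
    have hzy : z * y = y * z := congrArg Subtype.val (mul_comm' (⟨z, hz⟩ : E) ⟨y, hAE s.mem⟩)
    refine ⟨hEL hz, fun e => hz1 (Subgroup.mem_bot.2 e), ⟨y, s.y_mem, hy1, hzy⟩, fun q hq hd => ?_⟩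
    by_contra hcon
    simp only [Set.mem_union, not_or] at hcon
    obtain ⟨a, b, hab, -, haz, hbz, ha, hb⟩ := exists_pi_parts ({q} : Set ℕ) z
    have ha1 : a ≠ 1 := by
      rintro rfl
      rw [one_mul] at hab
      exact hb q hq (hab ▸ hd) rfl
    have haE : a ∈ E := (Subgroup.zpowers_le.2 hz) haz
    rcases S1432.result hG L s.coatomL y s.y_mem hy1 a ⟨hEL haE, Subgroup.mem_centralizer_singleton_iff.2
        (congrArg Subtype.val (mul_comm' (⟨a, haE⟩ : E) ⟨y, hAE s.mem⟩))⟩ ha1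
        (fun l hl hld => by rw [show l = q from ha l hl hld]; exact hcon.1) with ⟨h, -⟩ | ⟨h, -⟩
    · obtain ⟨l, hl, hld⟩ := Nat.exists_prime_and_dvd fun e => ha1 (orderOf_eq_one_iff.1 e)
      exact (hLc.2 ▸ Set.notMem_empty l : l ∉ Cfsg.kappa L) (h l hl hld)
    · obtain ⟨l, hl, hld⟩ := Nat.exists_prime_and_dvd fun e => ha1 (orderOf_eq_one_iff.1 e)
      exact hcon.2 ((show l = q from ha l hl hld) ▸ h l hl hld)
  have hfree : ∀ u ∈ L, u ∉ E → ∀ b ∈ Cfsg.sigmaCore L, b ∉ (⊥ : Subgroup G) →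
      u * b * u⁻¹ * b⁻¹ ∉ (⊥ : Subgroup G) := by
    intro u hu huE b hb hb1 hcon
    rw [Subgroup.mem_bot, mul_inv_eq_one] at hcon
    set C := L ⊓ Subgroup.centralizer ({b} : Set G) with hC
    have huC : u ∈ C := ⟨hu, Subgroup.mem_centralizer_singleton_iff.2 (mul_inv_eq_iff_eq_mul.1 hcon)⟩
    have hn0 : 0 < orderOf u := orderOf_pos u
    -- a power of prime order modulo `E`
    have hex : ∃ n, 0 < n ∧ u ^ n ∈ E := ⟨orderOf u, hn0, by rw [pow_orderOf_eq_one]; exact E.one_mem⟩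
    classical
    obtain ⟨hn, hnE'⟩ := Nat.find_spec hex
    have hn1 : Nat.find hex ≠ 1 := fun e => huE (by simpa [e] using hnE')
    obtain ⟨r, hr, k, hk⟩ := Nat.exists_prime_and_dvd hn1
    have hk0 : 0 < k := Nat.pos_of_ne_zero fun e => by rw [e, mul_zero] at hk; omega
    have hu1E : u ^ k ∉ E := fun h => Nat.find_min hex
      (by rw [hk]; exact lt_mul_of_one_lt_left hk0 hr.one_lt) ⟨hk0, h⟩
    have hu1r : (u ^ k) ^ r ∈ E := by rwa [← pow_mul, mul_comm, ← hk]
    obtain ⟨w, v, hwv, -, hwz, hvz, hwπ, hvπ⟩ := exists_pi_parts ({r} : Set ℕ) (u ^ k)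
    have hvr : v ∈ E := by
      have hv1 : v ^ r ∈ E := by
        obtain ⟨i, hi⟩ := Subgroup.mem_zpowers_iff.1 hvz
        rw [← hi, ← zpow_natCast ((u ^ k) ^ i), ← zpow_mul, mul_comm, zpow_mul, zpow_natCast]
        exact E.zpow_mem hu1r i
      obtain ⟨i, hi⟩ := exists_pow_eq_self_of_coprime (x := v) (n := r)
        ((hr.coprime_iff_not_dvd).2 fun h => hvπ r hr h rfl)
      exact hi ▸ E.pow_mem hv1 i
    have hwE : w ∉ E := fun h => hu1E (hwv ▸ E.mul_mem h hvr)
    have hwr : w ^ r ∈ E := by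
      obtain ⟨i, hi⟩ := Subgroup.mem_zpowers_iff.1 hwz
      rw [← hi, ← zpow_natCast ((u ^ k) ^ i), ← zpow_mul, mul_comm, zpow_mul, zpow_natCast]
      exact E.zpow_mem hu1r i
    have hwC : w ∈ C := (Subgroup.zpowers_le.2 (C.pow_mem huC k)) hwz
    have hw1 : w ≠ 1 := fun e => hwE (e ▸ E.one_mem)
    have hb1' : b ≠ 1 := fun e => hb1 (Subgroup.mem_bot.2 e)
    have hrσ : r ∉ Cfsg.sigma L := fun h => hwE (hσE (mem_sigmaCore_of_primes hG s.coatomL hwC.1
      fun q hq hd => by rwa [show q = r from hwπ q hq hd]))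
    obtain ⟨q, hq, hqd⟩ := Nat.exists_prime_and_dvd fun e => hw1 (orderOf_eq_one_iff.1 e)
    obtain rfl : q = r := hwπ q hq hqd
    have hrτ : q ∈ Cfsg.tau2 L := by
      rcases S1432.result hG L s.coatomL b hb hb1' w hwC hw1
        (fun l hl hld => by rw [show l = q from hwπ l hl hld]; exact hrσ) with ⟨h, -⟩ | ⟨h, -⟩
      · exact absurd (h q hq hqd) (hLc.2 ▸ Set.notMem_empty q)
      · exact h q hq hqd
    haveI := Fact.mk hq
    obtain ⟨F, hF, hwF⟩ := ComplBasics.exists_complement_containing hG s.coatomL (X := Subgroup.zpowers w)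
      (Subgroup.zpowers_le.2 hwC.1) (Nat.coprime_of_dvd fun l hl h1 h2 =>
        hrσ ((show l = q from hwπ l hl (Nat.card_zpowers w ▸ h1)) ▸ mem_sigma_of_dvd hl h2))
    obtain ⟨B, hBF, hBe, hB⟩ := TauTwo.exists_plane (p := q) hG s.coatomL hF hrτ
    have hBL : B ≤ L := hBF.trans hF.1
    have hqt : q ≠ t := fun e => hrσ (e ▸ s.sigmaL)
    refine hb1' (Subgroup.mem_bot.1 ((S1417.result hG L s.coatomL q hrτ B ⟨hBL, hBe, hB⟩).2.2.2.1.le
      ⟨hb, Subgroup.mem_centralizer_iff.2 fun a ha => ?_⟩))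
    obtain ⟨i, hi⟩ := torsion hG hM s hq hqt (w := w) (v := a) (hLN ▸ hwC.1) (hLN ▸ hBL ha) hwE hwr
      (by rw [hBe.2 a ha]; exact E.one_mem)
    have h1 : Commute (a * (w ^ i)⁻¹) b := congrArg Subtype.val (mul_comm' (⟨_, hi⟩ : E) ⟨b, hσE hb⟩)
    have h2 : Commute (w ^ i) b :=
      (show Commute w b from Subgroup.mem_centralizer_singleton_iff.1 hwC.2).pow_left i
    simpa using (h1.mul_left h2).eq
  have hT : t ^ 2 ≤ (⊥ : Subgroup G).relIndex (Cfsg.sigmaCore L) := by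
    rw [Subgroup.relIndex_bot_left, ← s.card]
    exact Nat.card_le_card_of_injective _ (Subgroup.inclusion_injective hAσ)
  refine CFam.false_of_family hG hM (R := E) (V := ⊥) (T := Cfsg.sigmaCore L) s.coatomL s.prime s.order s.tau2
    s.sigmaL s.y_mem s.cent_y bot_le hσE hEL hnE ?_ (le_normalizer_sigmaCore L) s.y_mem
    (fun h => hy1 (Subgroup.mem_bot.1 h)) ?_ hfree hsupp (hLN ▸ s.three_le) (hLN ▸ s.two_mul_le) hT ?_ s.eleven_le
  · intro x _
    refine ComplAbelian.mem_normalizer_of_map_le fun z hz => ?_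
    rw [Subgroup.mem_bot.1 hz, mul_one, mul_inv_cancel]
    exact one_mem _
  · intro a ha b hb
    rw [show a * b = b * a from congrArg Subtype.val (mul_comm' (⟨a, ha⟩ : E) ⟨b, hb⟩)]
    simp
  · rw [Subgroup.relIndex_bot_left, Compl.card_eq s.compl, mul_comm]

end Cfsg.Agent.OddOrder.Central
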