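/-
The supporting subgroup of a central element, nonnilpotent core.
-/
import Cfsg.Agent.Lib.OddOrder.CentralHost
import Cfsg.Agent.Lib.OddOrder.NonNil
import Cfsg.Agent.Lib.Solvable.Coprime

set_option autoImplicit false
set_option linter.style.haveILetI false
set_option linter.unusedSectionVars false

namespace Cfsg.Agent.OddOrder.Central

open scoped commutatorElement IsMulCommutative Pointwise
open Exceptional TauOne Kappa Support
open Pairing (exists_pi_parts mem_sigmaCore_of_primes)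
open Tau3 (line_pgroup line_ne_bot)

universe u

/-- With commutators in a central group of prime order the centre has square index. -/
theorem index_center_sq {q : ℕ} (hq : q.Prime) : ∀ (m : ℕ) (X : Type u) [Group X] [Finite X] (C : Subgroup X),
    Nat.card X ≤ m → C ≤ Subgroup.center X → Nat.card C = q → (∀ a b : X, a * b * a⁻¹ * b⁻¹ ∈ C) →
    ∃ k : ℕ, (Subgroup.center X).index = q ^ (2 * k) := by
  intro m
  induction m with
  | zero =>
    intro X _ _ C hm
    exact absurd hm (Nat.not_le.2 Nat.card_pos)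
  | succ m ih =>
    intro X _ _ C hm hCZ hC hcomm
    by_cases htop : Subgroup.center X = ⊤
    · exact ⟨0, by rw [htop, Subgroup.index_top, mul_zero, pow_zero]⟩
    obtain ⟨x, hx⟩ : ∃ x : X, x ∉ Subgroup.center X := by
      by_contra h
      push Not at h
      exact htop (eq_top_iff.2 fun x _ => h x)
    obtain ⟨w, hw⟩ : ∃ w : X, x * w ≠ w * x := by
      by_contra h
      push Not at h
      exact hx (Subgroup.mem_center_iff.2 fun g => (h g).symm)
    have hc : ∀ a b g : X, g * (a * b * a⁻¹ * b⁻¹) = (a * b * a⁻¹ * b⁻¹) * g := fun a b g =>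
      Subgroup.mem_center_iff.1 (hCZ (hcomm a b)) g
    let f : X → X →* X := fun v =>
      { toFun := fun g => g * v * g⁻¹ * v⁻¹
        map_one' := by group
        map_mul' := fun a b => by
          calc a * b * v * (a * b)⁻¹ * v⁻¹ = a * (b * v * b⁻¹ * v⁻¹) * v * a⁻¹ * v⁻¹ := by group
            _ = (b * v * b⁻¹ * v⁻¹) * (a * v * a⁻¹ * v⁻¹) := by rw [hc b v a]; group
            _ = a * v * a⁻¹ * v⁻¹ * (b * v * b⁻¹ * v⁻¹) := hc a v _ |>.symm.symm }
    let φ : X →* C × C :=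
      { toFun := fun g => (⟨f x g, hcomm g x⟩, ⟨f w g, hcomm g w⟩)
        map_one' := Prod.ext (Subtype.ext (map_one (f x))) (Subtype.ext (map_one (f w)))
        map_mul' := fun a b => Prod.ext (Subtype.ext (map_mul (f x) a b)) (Subtype.ext (map_mul (f w) a b)) }
    have hker : ∀ g : X, g ∈ φ.ker ↔ g * x = x * g ∧ g * w = w * g := fun g => by
      have e : ∀ v : X, g * v * g⁻¹ * v⁻¹ = 1 ↔ g * v = v * g := fun v => by
        rw [mul_inv_eq_one, mul_inv_eq_iff_eq_mul]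
      rw [MonoidHom.mem_ker, Prod.ext_iff, ← e x, ← e w]
      simp [φ, f, Subtype.ext_iff]
    set c : C := ⟨x * w * x⁻¹ * w⁻¹, hcomm x w⟩ with hcdef
    haveI := Fact.mk hq
    have hc1 : c ≠ 1 := fun e => hw (by
      have := congrArg Subtype.val e
      rw [hcdef] at this
      simpa [mul_inv_eq_one, mul_inv_eq_iff_eq_mul] using this)
    have hgen : ∀ a : C, a ∈ Subgroup.zpowers c := fun a => mem_zpowers_of_prime_card hC hc1
    have hsurj : Function.Surjective φ := by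
      rintro ⟨a, b⟩
      obtain ⟨i, hi⟩ := Subgroup.mem_zpowers_iff.1 (hgen a⁻¹)
      obtain ⟨j, hj⟩ := Subgroup.mem_zpowers_iff.1 (hgen b)
      have h1 : φ x = (1, c) := Prod.ext (Subtype.ext (by simp [φ, f])) (Subtype.ext rfl)
      have h2 : φ w = (c⁻¹, 1) := Prod.ext (Subtype.ext (by simp [φ, f, hcdef, mul_assoc]))
        (Subtype.ext (by simp [φ, f]))
      refine ⟨w ^ i * x ^ j, ?_⟩
      rw [map_mul, map_zpow, map_zpow, h1, h2]
      refine Prod.ext ?_ ?_
      · simp [inv_zpow, hi]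
      · simp [hj]
    set Y := φ.ker
    have hYi : Y.index = q ^ 2 := by
      rw [Subgroup.index_ker, MonoidHom.range_eq_top.2 hsurj, Subgroup.card_top, Nat.card_prod, hC, sq]
    have hZY : Subgroup.center X ≤ Y := fun g hg =>
      (hker g).2 ⟨(Subgroup.mem_center_iff.1 hg x).symm, (Subgroup.mem_center_iff.1 hg w).symm⟩
    have hlt : Nat.card Y < Nat.card X := by
      rw [← Y.index_mul_card, hYi]
      exact lt_mul_of_one_lt_left Nat.card_pos (Nat.one_lt_pow two_ne_zero hq.one_lt)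
    have hcz : Subgroup.center Y = (Subgroup.center X).subgroupOf Y := by
      refine le_antisymm (fun g hg => ?_) fun g hg => Subgroup.mem_center_iff.2 fun v =>
        Subtype.ext (Subgroup.mem_center_iff.1 hg v)
      refine Subgroup.mem_center_iff.2 fun u => ?_
      obtain ⟨⟨a, b⟩, hab⟩ : ∃ p : C × C, φ u = p := ⟨_, rfl⟩
      obtain ⟨i, hi⟩ := Subgroup.mem_zpowers_iff.1 (hgen a⁻¹)
      obtain ⟨j, hj⟩ := Subgroup.mem_zpowers_iff.1 (hgen b)
      have hu : u * (w ^ i * x ^ j)⁻¹ ∈ Y := by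
        rw [MonoidHom.mem_ker, map_mul, map_inv, map_mul, map_zpow, map_zpow, hab,
          show φ x = (1, c) from Prod.ext (Subtype.ext (by simp [φ, f])) (Subtype.ext rfl),
          show φ w = (c⁻¹, 1) from Prod.ext (Subtype.ext (by simp [φ, f, hcdef, mul_assoc]))
            (Subtype.ext (by simp [φ, f]))]
        refine Prod.ext ?_ ?_
        · simp [inv_zpow, hi]
        · simp [hj]
      have h1 : Commute (g : X) (u * (w ^ i * x ^ j)⁻¹) :=
        (congrArg Subtype.val (Subgroup.mem_center_iff.1 hg ⟨_, hu⟩)).symm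
      obtain ⟨e1, e2⟩ := (hker g).1 g.2
      have h2 := h1.mul_right (((show Commute (g : X) w from e2).zpow_right i).mul_right
        ((show Commute (g : X) x from e1).zpow_right j))
      rw [inv_mul_cancel_right] at h2
      exact h2.symm.eq
    obtain ⟨k, hk⟩ := ih Y (C.subgroupOf Y) (by omega) (by
        rw [hcz]; exact Subgroup.comap_mono hCZ)
      (by rw [Nat.card_congr (Subgroup.subgroupOfEquivOfLe (hCZ.trans hZY)).toEquiv, hC])
      fun a b => Subgroup.mem_subgroupOf.2 (hcomm a b)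
    refine ⟨k + 1, ?_⟩
    rw [← Subgroup.relIndex_mul_index hZY, hYi, show (Subgroup.center X).relIndex Y = (Subgroup.center Y).index by
      rw [hcz]; rfl, hk, ← pow_add]
    ring_nf

variable {G : Type u} [Group G] [Finite G] {M E A L : Subgroup G} {y : G} {t : ℕ}
variable (hG : Cfsg.IsMinSimpleOddOrder G) (hM : IsCoatom M)
include hG hM

/-- The primes of planes outside `σ(M)` are in no `β`. -/
theorem not_beta_of_plane {q : ℕ} [Fact q.Prime] (hqσ : q ∉ Cfsg.sigma M) {B : Subgroup G} (hBM : B ≤ M)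
    (hBe : Cfsg.IsElementaryAbelian q B) (hB : Nat.card B = q ^ 2) (L : Subgroup G) : q ∉ Cfsg.beta L := by
  obtain ⟨A₀, h, -⟩ := PlaneUnique.exists_exc hG hM hBM hBe hB hqσ
  exact h.maximal.not_beta L

variable (s : Setup M E A L y t)
include s

theorem nonnil_false (hnn : ¬ Group.IsNilpotent (Cfsg.sigmaCore L)) : False := by
  haveI := Fintype.ofFinite G
  haveI ht := Fact.mk s.prime
  haveI := s.comm
  obtain ⟨S, d⟩ := exists_data hG hM s
  have hy1 := y_ne hG hM s
  have hAE := A_le hG hM s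
  have hEL := E_le hG hM s
  obtain ⟨K, U, hKU⟩ := FStruct.exists_decomp hG s.coatomL
  obtain ⟨q, Q, D₀, dd⟩ := NonNil.exists_data hG s.coatomL hKU hnn
  haveI hq := Fact.mk dd.prime
  have hKc := NonNil.compl_K hG s.coatomL hKU hnn
  have hKp := NonNil.K_prime hG s.coatomL hKU hnn dd
  have hβ := NonNil.mem_beta hG s.coatomL hKU hnn dd
  have htq : t ≠ q := fun e =>
    not_beta_of_plane hG hM s.tau2.2.1 (d.le_M) s.elem s.card L (e ▸ hβ)
  set X := Cfsg.sigmaCore L with hX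
  have hXL : X ≤ L := sigmaCore_le L
  have hQL : Q ≤ L := dd.Q_le.trans hXL
  -- the complement containing `S`
  have hSX : (S : Subgroup G) ≤ X := fun a ha => mem_sigmaCore_of_primes hG s.coatomL (hEL (d.sylow_le ha))
    fun r hr hd => by
      obtain ⟨n, hn⟩ := IsPGroup.iff_card.1 S.isPGroup'
      rw [(Nat.prime_dvd_prime_iff_eq hr s.prime).1
        (hr.dvd_of_dvd_pow ((hd.trans (Subgroup.orderOf_dvd_natCard _ ha)).trans hn.dvd))]
      exact s.sigmaL
  obtain ⟨D, hD, hSD⟩ : ∃ D, Cfsg.IsComplIn Q D X ∧ (S : Subgroup G) ≤ D := by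
    haveI := MinSimple.isSolvable hG (ne_top_of_le_ne_top s.coatomL.1 hXL)
    obtain ⟨⟨c, hc⟩, hle⟩ := HallSolv.hall_conj_le (G := X) (m := Nat.card D₀) (n := Nat.card Q)
      (by rw [← dd.card_mul, mul_comm]) (Twist.coprime_of_not_dvd dd.prime dd.pgroup dd.not_dvd)
      (H := D₀.subgroupOf X) (K := (S : Subgroup G).subgroupOf X)
      (Nat.card_congr (Subgroup.subgroupOfEquivOfLe dd.compl.2.1).toEquiv)
      (by
        rw [Nat.card_congr (Subgroup.subgroupOfEquivOfLe hSX).toEquiv]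
        refine Nat.coprime_of_dvd fun r hr h1 h2 => ?_
        obtain ⟨n, hn⟩ := IsPGroup.iff_card.1 S.isPGroup'
        obtain ⟨n', hn'⟩ := IsPGroup.iff_card.1 dd.pgroup
        exact htq (((Nat.prime_dvd_prime_iff_eq hr s.prime).1 (hr.dvd_of_dvd_pow (hn ▸ h1))).symm.trans
          ((Nat.prime_dvd_prime_iff_eq hr dd.prime).1 (hr.dvd_of_dvd_pow (hn' ▸ h2)))))
    refine ⟨D₀.map (MulAut.conj c⁻¹).toMonoidHom, ⟨dd.Q_le, ?_, ?_, fun x hx => ?_⟩, fun a ha => ?_⟩
    · rintro _ ⟨a, ha, rfl⟩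
      exact X.mul_mem (X.mul_mem (X.inv_mem hc) (dd.compl.2.1 ha)) (X.inv_mem (X.inv_mem hc))
    · rw [Subgroup.eq_bot_iff_forall]
      rintro _ ⟨hQ, a, ha, rfl⟩
      have haQ : a ∈ Q := (Subgroup.mem_normalizer_iff.1 (dd.normal (hXL (X.inv_mem hc))) a).2 hQ
      rw [Subgroup.mem_bot.1 (dd.compl.2.2.1.le ⟨haQ, ha⟩), map_one]
    · obtain ⟨a, ha, b, hb, he⟩ := dd.compl.2.2.2 (c * x * c⁻¹) (X.mul_mem (X.mul_mem hc hx) (X.inv_mem hc))
      refine ⟨c⁻¹ * a * c, ?_, c⁻¹ * b * c, ⟨b, hb, by simp⟩, ?_⟩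
      · simpa using (Subgroup.mem_normalizer_iff.1 (dd.normal (hXL (X.inv_mem hc))) a).1 ha
      · calc x = c⁻¹ * (c * x * c⁻¹) * c := by group
          _ = c⁻¹ * a * c * (c⁻¹ * b * c) := by rw [he]; group
    · exact ⟨c * a * c⁻¹, hle (Subgroup.smul_mem_pointwise_smul (⟨a, hSX ha⟩ : X) (MulAut.conj (⟨c, hc⟩ : X))
        ((S : Subgroup G).subgroupOf X) ha), by simp [mul_assoc]⟩
  obtain ⟨-, -, -, hDnil, hfixeq⟩ := NonNil.compl_conj hG s.coatomL hKU hnn dd hD
  haveI := hDnil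
  have hAD : A ≤ D := d.le_sylow.trans hSD
  have hDE : D ≤ E := by
    rw [← s.cent_A]
    intro x hx
    refine Subgroup.mem_centralizer_iff.2 fun a ha => ?_
    obtain ⟨u, v, huv, -, huz, hvz, hu, hv⟩ := exists_pi_parts ({t} : Set ℕ) x
    have huD : u ∈ D := (Subgroup.zpowers_le.2 hx) huz
    have hvD : v ∈ D := (Subgroup.zpowers_le.2 hx) hvz
    have h1 : Commute a u := by
      obtain ⟨T, hT⟩ := ((Plane.isPGroup (p := t) s.card).comap_subtype (K := D)).exists_le_sylow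
      haveI : (T : Subgroup D).Normal :=
        (Group.isNilpotent_of_finite_tfae (G := D)).out 0 3 rfl rfl |>.1 hDnil t ⟨s.prime⟩ T
      have hup : IsPGroup t (Subgroup.zpowers (⟨u, huD⟩ : D)) := by
        obtain ⟨n, hn⟩ : ∃ n, orderOf u = t ^ n := ⟨_, Nat.eq_prime_pow_of_unique_prime_dvd (orderOf_pos u).ne'
          fun {r} hr hd => hu r hr hd⟩
        exact IsPGroup.of_card (n := n) (by rw [Nat.card_zpowers, Subgroup.orderOf_mk, hn])
      obtain ⟨T', hT'⟩ := hup.exists_le_sylow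
      have huT : (⟨u, huD⟩ : D) ∈ (T : Subgroup D) := by
        obtain ⟨g, hg⟩ := MulAction.exists_smul_eq D T T'
        have e : T = T' := by rw [← hg, Sylow.smul_eq_of_normal]
        exact e ▸ hT' (Subgroup.mem_zpowers _)
      obtain ⟨S', hS'⟩ := (T.isPGroup'.map D.subtype).exists_le_sylow
      haveI := s.abelian S'
      exact congrArg Subtype.val (mul_comm' (⟨a, hS' ⟨⟨a, hAD ha⟩, hT ha, rfl⟩⟩ : (S' : Subgroup G))
        ⟨u, hS' ⟨⟨u, huD⟩, huT, rfl⟩⟩)
    have h2 : Commute a v := by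
      by_cases ha1 : a = 1
      · rw [ha1]; exact Commute.one_left v
      refine Eq.symm ?_
      exact congrArg Subtype.val (FixedPointFreeThompson.commute_of_nilpotent (G := D) (p := t)
        (x := ⟨a, hAD ha⟩) (g := ⟨v, hvD⟩) (k := 1)
        (by rw [Subgroup.orderOf_mk, pow_one]; exact orderOf_eq_prime (s.elem.2 a ha) ha1)
        (by
          rw [Subgroup.orderOf_mk]
          exact Nat.coprime_of_dvd fun r hr h3 h4 => hv r hr h3 ((Nat.prime_dvd_prime_iff_eq hr s.prime).1 h4)))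
    rw [huv]
    exact (h1.mul_right h2).eq
  have hEc : ∀ a ∈ E, ∀ b ∈ E, a * b = b * a := fun a ha b hb =>
    congrArg Subtype.val (mul_comm' (⟨a, ha⟩ : E) ⟨b, hb⟩)
  have hEX : E ≤ X := by
    intro e he
    obtain ⟨a, b, hab, -, haz, hbz, ha, hb⟩ := exists_pi_parts (Cfsg.sigma L) e
    have hbE : b ∈ E := (Subgroup.zpowers_le.2 he) hbz
    by_cases hb1 : b = 1
    · rw [hab, hb1, mul_one]
      exact mem_sigmaCore_of_primes hG s.coatomL (hEL ((Subgroup.zpowers_le.2 he) haz)) ha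
    exfalso
    rcases S1432.result hG L s.coatomL y s.y_mem hy1 b ⟨hEL hbE, Subgroup.mem_centralizer_singleton_iff.2
        (hEc b hbE y (hAE s.mem))⟩ hb1 hb with ⟨-, hle⟩ | ⟨hτ, -⟩
    · exact s.not_le hle
    obtain ⟨r, hr, hrd⟩ := Nat.exists_prime_and_dvd fun e => hb1 (orderOf_eq_one_iff.1 e)
    haveI := Fact.mk hr
    have hrL : r ∣ Nat.card L := hrd.trans (Subgroup.orderOf_dvd_natCard _ (hEL hbE))
    rw [Compl.card_eq hKc] at hrL
    rcases hr.dvd_mul.1 hrL with h | h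
    · exact (hτ r hr hrd).2.2.2 (rank_one_of_kappa (hKU.hall.2.1 r hr h))
    · exact (hτ r hr hrd).2.1 (mem_sigma_of_dvd hr h)
  set Q₀ := Q ⊓ Subgroup.centralizer (D : Set G) with hQ₀
  have hQ₀E : Q₀ ≤ E := by
    rw [← s.cent_A]
    exact inf_le_right.trans (Subgroup.centralizer_le hAD)
  have hQE : ∀ x ∈ Q, x ∈ E → x ∈ Q₀ := fun x hx hxE =>
    ⟨hx, Subgroup.mem_centralizer_iff.2 fun e he => hEc e (hDE he) x hxE⟩
  -- `Q₀` is cyclic and central in `X`
  have hQ₀p : IsPGroup q Q₀ := dd.pgroup.to_le inf_le_left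
  haveI hQ₀c : IsCyclic Q₀ := by
    refine CyclicSylow.isCyclic_of_isPGroup (hG.1.of_dvd_nat Q₀.card_subgroup_dvd_card) hQ₀p fun B hB hBp => ?_
    haveI := hB
    by_contra hlt
    set B' := B.map Q₀.subtype with hB'
    have hB'e : Cfsg.IsElementaryAbelian q B' := ⟨inferInstance, by
      rintro _ ⟨b, hb, rfl⟩; rw [← map_pow, hBp b hb, map_one]⟩
    have hB'E : B' ≤ E := (Subgroup.map_subtype_le _).trans hQ₀E
    have hB'c : Nat.card B' = Nat.card B := Subgroup.card_map_of_injective Q₀.subtype_injective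
    have hqE : q ∣ Nat.card E := by
      refine (dvd_trans ?_ (Subgroup.card_dvd_of_le hB'E))
      refine ((UniqProp.isPGroup_of_elementary hB'e).card_eq_or_dvd).resolve_left fun e => ?_
      rw [hB'c] at e
      exact hlt (by rw [e, pow_one]; exact hq.out.one_le)
    have hqσ := not_dvd_complement hG hM s.compl hq.out hqE
    have hr2 : Cfsg.PRankLE q 2 M := by
      by_contra h
      exact hqσ (Sigma.alpha_subset_sigma hG hM ⟨hq.out, h⟩)
    have hr1 : ¬ Cfsg.PRankLE q 1 M := UniqProp.not_rankLE (hB'E.trans s.compl.1) hB'e (k := 1)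
      (hB'c ▸ not_le.1 hlt)
    obtain ⟨B₂, hB₂E, hB₂e, hB₂⟩ := TauTwo.exists_plane (p := q) hG hM s.compl ⟨hq.out, hqσ, hr2, hr1⟩
    exact not_beta_of_plane hG hM hqσ (hB₂E.trans s.compl.1) hB₂e hB₂ L hβ
  have hnQ₀ : L ≤ Subgroup.normalizer (Q₀ : Set G) := by
    rw [hfixeq]
    exact NonNil.fixed_normal hG s.coatomL hKU hnn dd
  have hQ₀Z : ∀ a ∈ Q₀, ∀ x ∈ X, a * x = x * a := by
    obtain ⟨⟨c, hc⟩, hgen⟩ := hQ₀c.exists_generator
    have hconj : ∀ n ∈ L, ∃ i : ℤ, n * c * n⁻¹ = c ^ i := fun n hn => by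
      obtain ⟨i, hi⟩ := Subgroup.mem_zpowers_iff.1 (hgen ⟨_, (Subgroup.mem_normalizer_iff.1 (hnQ₀ hn) c).1 hc⟩)
      exact ⟨i, by simpa using (congrArg Subtype.val hi).symm⟩
    have hle : X ≤ Subgroup.centralizer ({c} : Set G) := by
      refine (Pairing.sigmaCore_le_derived hG s.coatomL hKU).trans (Subgroup.commutator_le.2 fun g hg h hh => ?_)
      obtain ⟨a, ha⟩ := hconj g hg
      obtain ⟨b, hb⟩ := hconj h hh
      have e1 : g * h * c * (g * h)⁻¹ = h * g * c * (h * g)⁻¹ := by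
        rw [show g * h * c * (g * h)⁻¹ = g * (h * c * h⁻¹) * g⁻¹ by group,
          show h * g * c * (h * g)⁻¹ = h * (g * c * g⁻¹) * h⁻¹ by group, hb, ← conj_zpow, ha,
          ← zpow_mul, ← conj_zpow, hb, ← zpow_mul, mul_comm]
      obtain ⟨m, hm⟩ := hconj _ (L.inv_mem (L.mul_mem hh hg))
      have e4 : (g * h) * c ^ m * (g * h)⁻¹ = (h * g) * c ^ m * (h * g)⁻¹ := by
        rw [← conj_zpow, ← conj_zpow, e1]
      rw [← hm] at e4
      refine Subgroup.mem_centralizer_singleton_iff.2 (mul_inv_eq_iff_eq_mul.1 ?_)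
      calc ⁅g, h⁆ * c * ⁅g, h⁆⁻¹ = (g * h) * ((h * g)⁻¹ * c * ((h * g)⁻¹)⁻¹) * (g * h)⁻¹ := by
            simp only [commutatorElement_def]; group
        _ = (h * g) * ((h * g)⁻¹ * c * ((h * g)⁻¹)⁻¹) * (h * g)⁻¹ := e4
        _ = c := by group
    intro a ha x hx
    obtain ⟨i, hi⟩ := Subgroup.mem_zpowers_iff.1 (hgen ⟨a, ha⟩)
    have ha' : c ^ i = a := by simpa using congrArg Subtype.val hi
    rw [← ha']
    exact ((show Commute x c from Subgroup.mem_centralizer_singleton_iff.1 (hle hx)).zpow_right i).symm.eq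
  -- `Q` is abelian
  have hQab : ∀ a ∈ Q, ∀ b ∈ Q, a * b = b * a := by
    by_contra hcon
    push Not at hcon
    obtain ⟨a₁, ha₁, b₁, hb₁, hne⟩ := hcon
    have hpc : ∀ {a b : G}, a ∈ Q → b ∈ Q → a ^ q ∈ Q₀ ∧ a * b * a⁻¹ * b⁻¹ ∈ Q₀ := fun ha hb => by
      rw [hfixeq]; exact NonNil.pow_comm hG s.coatomL hKU hnn dd ha hb
    have hQ₀le : Q₀ ≤ Q := inf_le_left
    have hcq : ∀ {a b : G}, a ∈ Q → b ∈ Q → (a * b * a⁻¹ * b⁻¹) ^ q = 1 := by
      intro a b ha hb
      set e := a * b * a⁻¹ * b⁻¹ with he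
      have hce : ∀ x ∈ Q, Commute e x := fun x hx => hQ₀Z e (hpc ha hb).2 x (dd.Q_le hx)
      have hpw : ∀ i : ℕ, a ^ i * b * (a ^ i)⁻¹ = e ^ i * b := by
        intro i
        induction i with
        | zero => simp
        | succ i ih =>
          calc a ^ (i + 1) * b * (a ^ (i + 1))⁻¹ = a * (a ^ i * b * (a ^ i)⁻¹) * a⁻¹ := by
                rw [pow_succ']; group
            _ = a * e ^ i * b * a⁻¹ := by rw [ih]; group
            _ = e ^ i * (e * b) := by rw [((hce a ha).pow_left i).symm.eq, he]; group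
            _ = e ^ (i + 1) * b := by rw [← mul_assoc, ← pow_succ]
      have h := hpw q
      rw [hQ₀Z _ (hpc ha hb).1 b (dd.Q_le hb), mul_inv_cancel_right] at h
      exact mul_eq_right.1 h.symm
    let C : Subgroup Q :=
      { carrier := {x | (x : G) ∈ Q₀ ∧ (x : G) ^ q = 1}
        one_mem' := ⟨one_mem _, one_pow _⟩
        mul_mem' := fun {u v} hu hv => ⟨mul_mem hu.1 hv.1, by
          rw [Subgroup.coe_mul, (show Commute (u : G) v from hQ₀Z _ hu.1 _ (dd.Q_le v.2)).mul_pow, hu.2, hv.2, one_mul]⟩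
        inv_mem' := fun {u} hu => ⟨inv_mem hu.1, by rw [Subgroup.coe_inv, inv_pow, hu.2, inv_one]⟩ }
    have hCc : Nat.card C = q := by
      have hle : Nat.card C ≤ q := by
        classical
        let f : C → {x : Q₀ // x ^ q = 1} := fun x => ⟨⟨((x : Q) : G), x.2.1⟩, Subtype.ext (by simpa using x.2.2)⟩
        have hinj : Function.Injective f := fun x z h =>
          Subtype.ext (Subtype.ext (congrArg (fun w : {x : Q₀ // x ^ q = 1} => ((w : Q₀) : G)) h))
        haveI := Fintype.ofFinite Q₀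
        refine (Nat.card_le_card_of_injective f hinj).trans ?_
        rw [Nat.card_eq_fintype_card, Fintype.card_subtype]
        exact IsCyclic.card_pow_eq_one_le hq.out.pos
      have hne1 : Nat.card C ≠ 1 := fun e => by
        have hm : (⟨a₁ * b₁ * a₁⁻¹ * b₁⁻¹, hQ₀le (hpc ha₁ hb₁).2⟩ : Q) ∈ C := ⟨(hpc ha₁ hb₁).2, hcq ha₁ hb₁⟩
        rw [Subgroup.card_eq_one.1 e, Subgroup.mem_bot, Subtype.ext_iff] at hm
        exact hne (by simpa [mul_inv_eq_one, mul_inv_eq_iff_eq_mul] using hm)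
      obtain ⟨n, hn⟩ := IsPGroup.iff_card.1 (dd.pgroup.to_subgroup C)
      have hn1 : n = 1 := by
        rcases n with _ | _ | n
        · exact absurd (by simpa using hn) hne1
        · rfl
        · exfalso
          rw [hn] at hle
          have := Nat.le_self_pow (show n + 1 ≠ 0 by omega) q
          have h2 := hq.out.two_le
          rw [pow_succ] at hle
          nlinarith
      rw [hn, hn1, pow_one]
    obtain ⟨k, hk⟩ := index_center_sq hq.out _ Q C le_rfl (fun x hx => Subgroup.mem_center_iff.2 fun g =>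
      Subtype.ext (hQ₀Z _ hx.1 _ (dd.Q_le g.2)).symm) hCc
      fun a b => ⟨by simpa using (hpc a.2 b.2).2, by simpa using hcq a.2 b.2⟩
    set Z := (Subgroup.center Q).map Q.subtype with hZ
    have hZQ : Z ≤ Q := Subgroup.map_subtype_le _
    have hZ₀ : Q₀ ≤ Z := fun x hx => ⟨⟨x, hQ₀le hx⟩, Subgroup.mem_center_iff.2 fun g =>
      Subtype.ext (hQ₀Z x hx _ (dd.Q_le g.2)).symm, rfl⟩
    have hnZ : L ≤ Subgroup.normalizer (Z : Set G) :=
      dd.normal.trans (NTI.normalizer_le_normalizer_char Subgroup.centerCharacteristic)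
    have hZeq : Z = Q₀ := by
      by_contra h
      have hlt : Q₀ < Z := lt_of_le_of_ne hZ₀ (Ne.symm h)
      have hlt' : Z < Q := lt_of_le_of_ne hZQ fun e => hne (by
        obtain ⟨⟨a', ha'⟩, hac, rfl⟩ := (e.ge ha₁ : a₁ ∈ Z)
        exact congrArg Subtype.val (Subgroup.mem_center_iff.1 hac ⟨b₁, hb₁⟩).symm)
      exact NonNil.chief hG s.coatomL hKU hnn dd (hfixeq ▸ hlt) hlt' hnZ
    have hcard := NonNil.fixed_card hG s.coatomL hKU hnn dd
    rw [← hfixeq, ← hZeq, hZ, Subgroup.card_map_of_injective Q.subtype_injective,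
      ← Subgroup.card_mul_index (Subgroup.center Q), hk] at hcard
    have h2 := Nat.pow_right_injective hq.out.two_le (Nat.eq_of_mul_eq_mul_left Nat.card_pos hcard)
    obtain ⟨j, hj⟩ := (hG.1.of_dvd_nat K.card_subgroup_dvd_card : Odd (Nat.card K))
    omega
  haveI hQc : IsMulCommutative Q := .of_setLike_mul_comm hQab
  have hnX : L ≤ Subgroup.normalizer (X : Set G) := le_normalizer_sigmaCore L
  have hDQ : D ≤ Subgroup.normalizer (Q : Set G) := (hD.2.1.trans hXL).trans dd.normal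
  set V := ⁅Q, X⁆ with hV
  have hVQ : V ≤ Q := Subgroup.le_normalizer_iff_commutator_le_left.1 (hXL.trans dd.normal)
  have hVD : V = ⁅Q, D⁆ := by
    refine le_antisymm (Subgroup.commutator_le.2 fun a ha x hx => ?_) (Subgroup.commutator_mono le_rfl hD.2.1)
    obtain ⟨b, hb, e, he, rfl⟩ := hD.2.2.2 x hx
    have hm : ⁅a, e⁆ ∈ ⁅Q, D⁆ := Subgroup.commutator_mem_commutator ha he
    have hmQ : ⁅a, e⁆ ∈ Q := Subgroup.le_normalizer_iff_commutator_le_left.1 hDQ hm
    have : ⁅a, b * e⁆ = ⁅a, e⁆ := by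
      have h1 : ⁅a, b * e⁆ = (a * b * a⁻¹ * b⁻¹) * (b * ⁅a, e⁆ * b⁻¹) := by
        simp only [commutatorElement_def]; group
      rw [h1, hQab b hb _ hmQ, mul_inv_cancel_right, hQab a ha b hb]; group
    rw [this]
    exact hm
  have hVE : E ⊓ V = ⊥ := by
    rw [eq_bot_iff]
    rintro x ⟨hxE, hxV⟩
    have hcop : (Nat.card D).Coprime (Nat.card Q) := by
      refine Twist.coprime_of_not_dvd dd.prime dd.pgroup ?_
      intro h
      have h1 := Compl.card_eq hD
      rw [← dd.card_mul] at h1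
      exact dd.not_dvd (Nat.eq_of_mul_eq_mul_left Nat.card_pos h1 ▸ h)
    exact (CoprimeAct.centralizer_inf_commutator_eq_bot hDQ hcop).le
      ⟨hQE x (hVQ hxV) hxE, hVD ▸ hxV⟩
  have hnV : L ≤ Subgroup.normalizer (V : Set G) := fun g hg => ComplAbelian.mem_normalizer_of_map_le (by
    intro x hx
    have h : g * x * g⁻¹ ∈ V.map (MulAut.conj g).toMonoidHom := ⟨x, hx, rfl⟩
    have e1 : Q.map (MulAut.conj g).toMonoidHom = Q := Subgroup.mem_normalizer_iff_map_conj_eq.1 (dd.normal hg)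
    have e2 : X.map (MulAut.conj g).toMonoidHom = X := Subgroup.mem_normalizer_iff_map_conj_eq.1 (hnX hg)
    rwa [hV, Subgroup.map_commutator, e1, e2] at h)
  have hVX : V ≤ X := hVQ.trans dd.Q_le
  haveI hVn : (V.subgroupOf X).Normal := Subgroup.normal_subgroupOf_of_le_normalizer (hXL.trans hnV)
  let π := QuotientGroup.mk' (V.subgroupOf X)
  have hπ : ∀ x : X, π x = 1 ↔ (x : G) ∈ V := fun x => (QuotientGroup.eq_one_iff x).trans Subgroup.mem_subgroupOf
  have hπc : ∀ a b : X, Commute (π a) (π b) := by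
    have hgen : ∀ a b : X, (a : G) * b * (a : G)⁻¹ * (b : G)⁻¹ ∈ V → Commute (π a) (π b) := fun a b h => by
      refine commutatorElement_eq_one_iff_mul_comm.1 ?_
      rw [← map_commutatorElement, hπ]
      simpa [commutatorElement_def] using h
    have hQX : ∀ (a : X) (_ : (a : G) ∈ Q) (b : X), Commute (π a) (π b) := fun a ha b =>
      hgen a b (Subgroup.commutator_mem_commutator ha b.2)
    intro a b
    obtain ⟨a₁, ha₁, a₂, ha₂, ea⟩ := hD.2.2.2 a a.2
    obtain ⟨b₁, hb₁, b₂, hb₂, eb⟩ := hD.2.2.2 b b.2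
    have eA : a = ⟨a₁, dd.Q_le ha₁⟩ * ⟨a₂, hD.2.1 ha₂⟩ := Subtype.ext ea
    have eB : b = ⟨b₁, dd.Q_le hb₁⟩ * ⟨b₂, hD.2.1 hb₂⟩ := Subtype.ext eb
    rw [eA, eB, map_mul π, map_mul π]
    refine Commute.mul_left ((hQX _ ha₁ _).mul_right (hQX _ ha₁ _)) (Commute.mul_right (hQX _ hb₁ _).symm ?_)
    refine hgen _ _ ?_
    show a₂ * b₂ * a₂⁻¹ * b₂⁻¹ ∈ V
    rw [hEc a₂ (hDE ha₂) b₂ (hDE hb₂)]
    simp
  have habX : ∀ a ∈ X, ∀ b ∈ X, a * b * a⁻¹ * b⁻¹ ∈ V := fun a ha b hb => by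
    have := (hπ ⁅(⟨a, ha⟩ : X), ⟨b, hb⟩⁆).1 (by
      rw [map_commutatorElement]; exact commutatorElement_eq_one_iff_mul_comm.2 (hπc _ _))
    simpa [commutatorElement_def] using this
  set T := V ⊔ D with hT
  have hTX : T ≤ X := sup_le hVX hD.2.1
  have hTQ : ∀ x ∈ T, x ∈ Q → x ∈ V := by
    intro x hx hxQ
    obtain ⟨v, hv, e, he, rfl⟩ :=
      (SolvBasic.mem_sup_iff_of_le_normalizer ((hD.2.1.trans hXL).trans hnV)).1 hx
    have heQ : e ∈ Q := by simpa using Q.mul_mem (Q.inv_mem (hVQ hv)) hxQ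
    rw [Subgroup.mem_bot.1 (hD.2.2.1.le ⟨heQ, he⟩), mul_one]
    exact hv
  have hnT : L ≤ Subgroup.normalizer (T : Set G) := by
    intro g hg
    refine ComplAbelian.mem_normalizer_of_map_le fun x hx => ?_
    obtain ⟨v, hv, e, he, rfl⟩ :=
      (SolvBasic.mem_sup_iff_of_le_normalizer ((hD.2.1.trans hXL).trans hnV)).1 hx
    rw [show g * (v * e) * g⁻¹ = g * v * g⁻¹ * (g * e * g⁻¹) by group]
    refine mul_mem (Subgroup.mem_sup_left ((Subgroup.mem_normalizer_iff.1 (hnV hg) v).1 hv)) ?_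
    obtain ⟨a, ha, b, hb, hab⟩ :=
      hD.2.2.2 (g * e * g⁻¹) ((Subgroup.mem_normalizer_iff.1 (hnX hg) e).1 (hD.2.1 he))
    rw [hab]
    refine mul_mem ?_ (Subgroup.mem_sup_right hb)
    set m := orderOf e
    have hm : (g * e * g⁻¹) ^ m = 1 := by rw [conj_pow, pow_orderOf_eq_one, mul_one, mul_inv_cancel]
    have ham : a ^ m ∈ V := by
      have h := (hπ ((⟨a, dd.Q_le ha⟩ : X) ^ m * (⟨b, hD.2.1 hb⟩ : X) ^ m)).1 (by
        rw [map_mul, map_pow, map_pow, ← (hπc _ _).mul_pow, ← map_mul, ← map_pow,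
          show ((⟨a, dd.Q_le ha⟩ : X) * ⟨b, hD.2.1 hb⟩) ^ m = 1 from Subtype.ext (by simpa [← hab] using hm),
          map_one])
      have h' : a ^ m * b ^ m ∈ T := Subgroup.mem_sup_left (by simpa using h)
      exact hTQ _ (by simpa using T.mul_mem h' (T.inv_mem (Subgroup.mem_sup_right (D.pow_mem hb m)))) (Q.pow_mem ha m)
    obtain ⟨i, hi⟩ := exists_pow_eq_self_of_coprime (x := a) (n := m) (by
      refine Nat.coprime_of_dvd fun r hr h1 h2 => ?_
      obtain ⟨n, hn⟩ := IsPGroup.iff_card.1 dd.pgroup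
      obtain rfl : r = q := (Nat.prime_dvd_prime_iff_eq hr dd.prime).1
        (hr.dvd_of_dvd_pow ((h2.trans (Subgroup.orderOf_dvd_natCard _ ha)).trans hn.dvd))
      have h3 := Compl.card_eq hD
      rw [← dd.card_mul] at h3
      exact dd.not_dvd (Nat.eq_of_mul_eq_mul_left Nat.card_pos h3 ▸ h1.trans (Subgroup.orderOf_dvd_natCard _ he)))
    exact Subgroup.mem_sup_left (hi ▸ V.pow_mem ham i)
  have hcopK : (Nat.card K).Coprime (Nat.card X) := Nat.coprime_of_dvd fun r hr h1 h2 =>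
    not_dvd_complement hG s.coatomL hKc hr h1 (mem_sigma_of_dvd hr h2)
  have hfree : ∀ u ∈ L, u ∉ X → ∀ b ∈ T, b ∉ V → u * b * u⁻¹ * b⁻¹ ∉ V := by
    intro u hu huX b hb hbV hcon
    obtain ⟨k, hk, x, hx, rfl⟩ := hKc.2.2.2 u hu
    have hkL : k ∈ L := hKc.1 hk
    have hk1 : k ≠ 1 := by
      rintro rfl
      exact huX (by simpa using hx)
    have hkb : k * b * k⁻¹ * b⁻¹ ∈ V := by
      have h1 := (Subgroup.mem_normalizer_iff.1 (hnV hkL) _).1 (habX x hx b (hTX hb))
      have h2 : k * b * k⁻¹ * b⁻¹ = (k * (x * b * x⁻¹ * b⁻¹) * k⁻¹)⁻¹ * (k * x * b * (k * x)⁻¹ * b⁻¹) := by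
        group
      rw [h2]
      exact mul_mem (inv_mem h1) hcon
    haveI : Group.IsSolvable X := MinSimple.isSolvable hG (ne_top_of_le_ne_top s.coatomL.1 hXL)
    let W : Subgroup G :=
      { carrier := {a | a ∈ L ∧ a * b * a⁻¹ * b⁻¹ ∈ V}
        one_mem' := ⟨L.one_mem, by simp⟩
        mul_mem' := fun {a c} ha hc => ⟨L.mul_mem ha.1 hc.1, by
          rw [show a * c * b * (a * c)⁻¹ * b⁻¹ = a * (c * b * c⁻¹ * b⁻¹) * a⁻¹ * (a * b * a⁻¹ * b⁻¹) by group]
          exact mul_mem ((Subgroup.mem_normalizer_iff.1 (hnV ha.1) _).1 hc.2) ha.2⟩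
        inv_mem' := fun {a} ha => ⟨L.inv_mem ha.1, by
          have h := (Subgroup.mem_normalizer_iff.1 (hnV (L.inv_mem ha.1)) _).1 (V.inv_mem ha.2)
          simpa [mul_assoc] using h⟩ }
    have hKk : K ≤ W := by
      haveI := Fact.mk hKp
      have hz : Subgroup.zpowers k = K := Plane.zpowers_eq (p := Nat.card K) rfl hk hk1
      rw [← hz]
      exact Subgroup.zpowers_le.2 (show k ∈ W from ⟨hkL, hkb⟩)
    obtain ⟨c, hc, hcb⟩ := CoprimeAct.exists_mem_centralizer (hKc.1.trans hnX) hcopK (Or.inr inferInstance)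
      hVX (hXL.trans hnV) (hKc.1.trans hnV) (hTX hb) fun a ha => (hKk ha).2
    refine hbV ?_
    have hcT : c ∈ T := by simpa using T.mul_mem hb (Subgroup.mem_sup_left (T := D) hcb)
    have hcV := hTQ c hcT (dd.D_le hc)
    have := V.mul_mem hcV (V.inv_mem hcb)
    simpa using this
  haveI hnX' : (X.subgroupOf L).Normal := Subgroup.normal_subgroupOf_of_le_normalizer hnX
  have hdK : X.relIndex L = Nat.card K := Compl.relIndex_right hKc
  have hNE : Subgroup.normalizer (A : Set G) ⊓ X = E := by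
    refine le_antisymm ?_ (le_inf (E_le_normalizer hG hM s) hEX)
    rintro x ⟨hxN, hxX⟩
    obtain ⟨a, ha, e, he, rfl⟩ := hD.2.2.2 x hxX
    refine E.mul_mem ?_ (hDE he)
    have haN : a ∈ Subgroup.normalizer (A : Set G) := by
      simpa using mul_mem hxN ((inv_mem (E_le_normalizer hG hM s (hDE he)) : e⁻¹ ∈ Subgroup.normalizer (A : Set G)))
    rw [← s.cent_A]
    refine Subgroup.mem_centralizer_iff.2 fun v hv => ?_
    have h1 : a * v * a⁻¹ * v⁻¹ ∈ A := mul_mem ((Subgroup.mem_normalizer_iff.1 haN v).1 hv) (inv_mem hv)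
    have h2 : a * v * a⁻¹ * v⁻¹ ∈ Q := by
      rw [mul_assoc a v, mul_assoc a]
      exact mul_mem ha ((Subgroup.mem_normalizer_iff.1 (hDQ (hAD hv)) a⁻¹).1 (inv_mem ha))
    have h3 := Subgroup.mem_bot.1 (hD.2.2.1.le ⟨h2, hAD h1⟩)
    exact (mul_inv_eq_iff_eq_mul.1 (mul_inv_eq_one.1 h3)).symm
  have hd : E.relIndex (Subgroup.normalizer (A : Set G)) = X.relIndex L := by
    rw [hdK]
    refine ((Nat.dvd_prime hKp).1 ?_).resolve_left (by have := s.three_le; omega)
    rw [← hdK, ← hNE, Subgroup.inf_relIndex_left, ← Subgroup.relIndex_subgroupOf s.normal_le]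
    exact Subgroup.relIndex_dvd_index_of_normal _ _
  have hle : ∀ B : Subgroup G, B ≤ E → ∀ R, B ≤ R → Nat.card B ≤ V.relIndex R := by
    intro B hB R hBR
    have h1 : Nat.card B = V.relIndex B := by
      rw [← Subgroup.inf_relIndex_right, show V ⊓ B = ⊥ from le_bot_iff.1 (hVE ▸ le_inf (inf_le_right.trans hB)
        inf_le_left), Subgroup.relIndex_bot_left]
    rw [h1]
    exact Subgroup.relIndex_le_of_le_right hBR fun e => Subgroup.index_ne_zero_of_finite (H := V.subgroupOf R) e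
  refine CFam.false_of_family hG hM (R := X) (V := V) (T := T) s.coatomL s.prime s.order s.tau2
    s.sigmaL s.y_mem s.cent_y le_sup_left hTX hXL hnX hnV hnT (Subgroup.mem_sup_right (hAD s.mem))
    (fun h => hy1 (Subgroup.mem_bot.1 (hVE.le ⟨hAE s.mem, h⟩))) habX hfree
    (fun z hz hzV => DadeT.sigma_mem_supp hG s.coatomL hz fun e => hzV (e ▸ V.one_mem))
    (hd ▸ s.three_le) (hd ▸ s.two_mul_le) (s.card ▸ hle A hAE T (hAD.trans le_sup_right)) ?_ s.eleven_le
  rw [Compl.card_eq s.compl, mul_comm]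
  exact Nat.mul_le_mul_left _ (hle E le_rfl X hEX)

end Cfsg.Agent.OddOrder.Central
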