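/-
No element of prime order `t ∈ τ₂(M)` with abelian Sylow subgroups centralizes `M_σ` over a complement whose
commutators centralize an element of `M_σ` (`κ(M) = ∅`).
-/
import Cfsg.Agent.Lib.OddOrder.CentralHostNonNil

set_option autoImplicit false
set_option linter.style.haveILetI false

namespace Cfsg.Agent.OddOrder.Central

universe u

variable {G : Type u} [Group G] [Finite G]

theorem central_false (hG : Cfsg.IsMinSimpleOddOrder G) {M E : Subgroup G} (hM : IsCoatom M)
    (hE : Cfsg.IsComplIn E (Cfsg.sigmaCore M) M) (hκ : Cfsg.kappa M = ∅) {z : G} (hz : z ∈ Cfsg.sigmaCore M)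
    (hz1 : z ≠ 1) (hzE : ⁅E, E⁆ ≤ Subgroup.centralizer ({z} : Set G)) {t : ℕ} [Fact t.Prime]
    (htτ : t ∈ Cfsg.tau2 M) (hS : ¬ ∀ S : Sylow t G, ¬ IsMulCommutative (S : Subgroup G)) {y : G} (hyE : y ∈ E)
    (hy : orderOf y = t) (hyH : ∀ h ∈ Cfsg.sigmaCore M, h * y = y * h) : False := by
  obtain ⟨A, L, s⟩ := exists_setup hG hM hE hκ hz hz1 hzE htτ hS hyE hy hyH
  by_cases hnil : Group.IsNilpotent (Cfsg.sigmaCore L)
  · exact nil_false hG hM s hnil
  · exact nonnil_false hG hM s hnil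

end Cfsg.Agent.OddOrder.Central
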