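/-
The types II–V (BG 16.1).
-/
import Cfsg.Agent.Lib.OddOrder.NonTI
import Cfsg.Agent.Lib.OddOrder.TypeP

set_option autoImplicit false
set_option linter.style.haveILetI false
set_option linter.unusedSectionVars false

namespace Cfsg.Agent.OddOrder.Types

open scoped commutatorElement IsMulCommutative Pointwise
open Exceptional TauOne Kappa Support Pairing
open Tau3 (line_pgroup line_ne_bot)

universe u

variable {G : Type u} [Group G] [Finite G] {M K U : Subgroup G}
variable (hG : Cfsg.IsMinSimpleOddOrder G) (hM : IsCoatom M) (hKU : Cfsg.IsSigmaDecomposition M K U)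
include hG hM hKU

/-- `(M')_F = M_F` and `M'` is of Frobenius type, for `K ≠ 1 ≠ U`. -/
theorem derived_typeF (hK1 : K ≠ ⊥) (hU : U ≠ ⊥) :
    Cfsg.IsOfTypeF ↥⁅M, M⁆ ∧ Cfsg.fittingHallOf ⁅M, M⁆ = Cfsg.fittingHallOf M := by
  have he : Cfsg.fittingHallOf M = Cfsg.sigmaCore M := by
    by_contra h
    exact hU (S1357.result hG M hM K U hKU h).1
  have hnil : Group.IsNilpotent (Cfsg.sigmaCore M) := he ▸ FHall.fittingHallOf_nilpotent M
  set D := ⁅M, M⁆ with hDdef
  set S := Cfsg.sigmaCore M with hS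
  have hcd := compl_derived hG hM hKU hK1
  have hDM : D ≤ M := hcd.1
  have hSn := le_normalizer_sigmaCore M
  have hMD : D = U ⊔ S := (S1365.result hG M hM K U hKU hK1).1
  have hSD : S ≤ D := le_sup_right.trans hMD.ge
  have hUD : U ≤ D := le_sup_left.trans hMD.ge
  have hUS : U ⊓ S = ⊥ := le_bot_iff.1 ((inf_le_inf_left U le_sup_right).trans hKU.compl.2.2.1.le)
  have hcompl : Cfsg.IsComplIn S U D := ⟨hSD, hUD, inf_comm U S ▸ hUS, fun m hm =>
    (SolvBasic.mem_sup_iff_of_le_normalizer (hKU.compl.1.trans hSn)).1 ((sup_comm U _).le (hMD.le hm))⟩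
  have hcop : (Nat.card S).Coprime (Nat.card U) := Nat.coprime_of_dvd fun t ht h1 h2 =>
    (TypeU.not_sigma_kappa hG hM hKU ht h2).1 (mem_sigma_of_dvd ht h1)
  have hF : Cfsg.fittingHallOf D = S := by
    refine le_antisymm ?_ (FHall.le_fittingHallOf hSD (hDM.trans hSn) hnil
      (by rw [Compl.relIndex_left hcompl]; exact hcop))
    rw [← he]
    have hDn : M ≤ Subgroup.normalizer (D : Set G) := (Compl.sup_eq hcd).ge.trans (sup_le Subgroup.le_normalizer
      fun k hk => Subgroup.mem_normalizer_iff_map_conj_eq.2 (by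
        have := Subgroup.map_commutator M M (MulAut.conj k).toMonoidHom
        rw [map_conj_of_mem (hcd.2.1 hk)] at this
        exact this))
    refine FHall.le_fittingHallOf ((FHall.fittingHallOf_le D).trans hDM)
      (hDn.trans (NTI.normalizer_le_normalizer_char ?_)) (FHall.fittingHallOf_nilpotent D)
      (Nat.coprime_of_dvd fun t ht h1 h2 => ?_)
    · refine Subgroup.characteristic_iff_map_le.2 fun φ => Subgroup.map_le_iff_le_comap.2 ?_
      obtain ⟨hn, hnl, hc⟩ := FHall.isNNH_fittingHall (G := D)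
      rw [← Subgroup.map_le_iff_le_comap]
      refine FHall.le_fittingHall (hn.map φ.toMonoidHom φ.surjective) ?_ ?_
      · haveI := hnl
        exact Group.nilpotent_of_mulEquiv ((Cfsg.fittingHall D).equivMapOfInjective φ.toMonoidHom φ.injective)
      · rw [Subgroup.card_map_of_injective φ.injective,
          show ((Cfsg.fittingHall D).map φ.toMonoidHom).index = (Cfsg.fittingHall D).index from
            Subgroup.index_map_equiv _ φ]
        exact hc
    · rw [← Subgroup.relIndex_mul_relIndex _ D M (FHall.fittingHallOf_le D) hDM] at h2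
      rcases ht.dvd_mul.1 h2 with h | h
      · exact ht.ne_one (Nat.eq_one_of_dvd_coprimes (FHall.fittingHallOf_coprime D) h1 h)
      · rw [Compl.relIndex_left hcd] at h
        exact hKU.hall.2.2 t ht (hKU.hall.2.1 t ht h) ((h1.trans (Subgroup.card_dvd_of_le
          (FHall.fittingHallOf_le D))).trans (Compl.relIndex_right hcd ▸ dvd_rfl))
  refine ⟨?_, hF.trans he.symm⟩
  have hFsub : Cfsg.fittingHall D = S.subgroupOf D := by
    rw [← hF, Cfsg.fittingHallOf, Subgroup.subgroupOf, Subgroup.comap_map_eq_self_of_injective D.subtype_injective]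
  rw [Cfsg.IsOfTypeF, hFsub]
  refine ⟨MinSimple.isSolvable hG (ne_top_of_le_ne_top hM.1 hDM), hG.1.of_dvd_nat D.card_subgroup_dvd_card,
    fun e => Kappa.sigmaCore_ne_bot hG hM (le_bot_iff.1 fun s hs => ?_), fun e => hU (le_bot_iff.1 fun u hu => ?_),
    U.subgroupOf D, fun e => hU (le_bot_iff.1 fun u hu => ?_), Subgroup.isComplement'_of_coprime ?_ ?_, ?_, ?_⟩
  · exact Subgroup.mem_bot.2 (congrArg Subtype.val (Subgroup.mem_bot.1 (e.le (show (⟨s, hSD hs⟩ : D) ∈ _ from hs))))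
  · exact hUS.le ⟨hu, e.ge (Subgroup.mem_top (⟨u, hUD hu⟩ : D))⟩
  · exact Subgroup.mem_bot.2 (congrArg Subtype.val (Subgroup.mem_bot.1 (e.le (show (⟨u, hUD hu⟩ : D) ∈ _ from hu))))
  · rw [Nat.card_congr (Subgroup.subgroupOfEquivOfLe hSD).toEquiv,
      Nat.card_congr (Subgroup.subgroupOfEquivOfLe hUD).toEquiv]
    exact (Compl.card_eq hcompl).symm
  · rw [Nat.card_congr (Subgroup.subgroupOfEquivOfLe hSD).toEquiv,
      Nat.card_congr (Subgroup.subgroupOfEquivOfLe hUD).toEquiv]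
    exact hcop
  · haveI := (S1363.result hG M hM K U hKU hK1).1
    exact ⟨U.subgroupOf D, le_rfl, Subgroup.le_normalizer, inferInstance, fun x _ _ => inf_le_left⟩
  · obtain ⟨U₀, hU₀, hexp, hreg⟩ := S1360.result hG M hM K U hKU
    refine ⟨U₀.subgroupOf D, fun z hz => hU₀ hz, ?_, fun u hu hu1 x hx hux => ?_⟩
    · rw [Monoid.exponent_eq_of_mulEquiv (Subgroup.subgroupOfEquivOfLe (hU₀.trans hUD)),
        Monoid.exponent_eq_of_mulEquiv (Subgroup.subgroupOfEquivOfLe hUD), hexp]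
    · by_contra hx1
      refine hu1 (Subtype.ext (hreg u hu ⟨hDM u.2, x, hx, fun e => hx1 (Subtype.ext e), ?_⟩))
      exact congrArg Subtype.val hux

theorem typeII_iff : Cfsg.IsOfTypeII M ↔ (K ≠ ⊥ ∧ U ≠ ⊥) := by
  constructor
  · rintro ⟨W₁, W, W₂, hP, hW, -, -, -, hNW, -, -⟩
    have hK1 := K_ne hKU (kappa_of_typeP hG hM hP)
    refine ⟨hK1, fun hU => hNW ?_⟩
    have hMd := (S1365.result hG M hM K U hKU hK1).1
    rw [hU, bot_sup_eq] at hMd
    have hc := hP.U_compl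
    rw [hMd] at hc
    refine normalizer_le_of_sigma_hall hG hM hP.U_nilpotent hc.2.1 ?_ hW
    rw [Compl.relIndex_right hc]
    exact (TypeP.coprime_H_U hP).symm
  · rintro ⟨hK1, hU⟩
    obtain ⟨W, hP, hWU, -⟩ := exists_data hG hM hKU hK1
    obtain ⟨hpr, hTI, -⟩ := S1372.result hG M hM K U hKU hK1 hU
    obtain ⟨hab, hN⟩ := S1363.result hG M hM K U hKU hK1
    obtain ⟨hF, hFe⟩ := derived_typeF hG hM hKU hK1 hU
    obtain rfl : W = U := hWU (by by_contra h; exact hU (S1357.result hG M hM K U hKU h).1)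
    exact ⟨K, W, _, hP, hU, hpr, hTI, hab, hN, hF, hFe⟩

/-- In types III and IV the complement `U` is trivial and `M_F ≠ M_σ`. -/
theorem of_normalizer_le {W₁ W W₂ : Subgroup G} (hP : Cfsg.IsTypePWith M W₁ W W₂) (hW : W ≠ ⊥)
    (hNW : Subgroup.normalizer (W : Set G) ≤ M) :
    K ≠ ⊥ ∧ U = ⊥ ∧ Cfsg.fittingHallOf M ≠ Cfsg.sigmaCore M := by
  have hK1 := K_ne hKU (kappa_of_typeP hG hM hP)
  have hU : U = ⊥ := by
    by_contra hU
    have he : Cfsg.fittingHallOf M = Cfsg.sigmaCore M := by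
      by_contra h
      exact hU (S1357.result hG M hM K U hKU h).1
    obtain ⟨m, hm, hmW⟩ := compl_conj hG hM hKU hK1 he hP.U_compl
    refine (S1363.result hG M hM K U hKU hK1).2 fun g hg => ?_
    have h1 : m * g * m⁻¹ ∈ Subgroup.normalizer (W : Set G) := by
      rw [← hmW, Subgroup.mem_normalizer_iff_map_conj_eq]
      rw [Subgroup.mem_normalizer_iff_map_conj_eq] at hg
      show (U.map (MulAut.conj m).toMonoidHom).map (MulAut.conj (m * g * m⁻¹)).toMonoidHom = _
      rw [Sigma.map_conj_map, show m * g * m⁻¹ * m = m * g by group, ← Sigma.map_conj_map]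
      exact congrArg (Subgroup.map (MulAut.conj m).toMonoidHom) hg
    have := M.mul_mem (M.mul_mem (M.inv_mem hm) (hNW h1)) hm
    rwa [show m⁻¹ * (m * g * m⁻¹) * m = g by group] at this
  refine ⟨hK1, hU, fun he => hW ?_⟩
  have hMd := (S1365.result hG M hM K U hKU hK1).1
  rw [hU, bot_sup_eq] at hMd
  have hc := hP.U_compl
  rw [hMd, he] at hc
  exact le_bot_iff.1 ((le_inf hc.2.1 le_rfl).trans hc.2.2.1.le)

theorem typeIII_IV_iff :
    (Cfsg.IsOfTypeIII M ∨ Cfsg.IsOfTypeIV M) ↔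
      (K ≠ ⊥ ∧ U = ⊥ ∧ Cfsg.fittingHallOf M ≠ Cfsg.sigmaCore M) := by
  constructor
  · rintro (⟨W₁, W, W₂, hP, hW, -, -, -, hNW⟩ | ⟨W₁, W, W₂, hP, hW, -, -, -, hNW⟩)
    exacts [of_normalizer_le hG hM hKU hP hW hNW, of_normalizer_le hG hM hKU hP hW hNW]
  · rintro ⟨hK1, -, hne⟩
    obtain ⟨W, hP, -, hW⟩ := exists_data hG hM hKU hK1
    obtain ⟨-, hTI, hpr⟩ := S1357.result hG M hM K U hKU hne
    by_cases hc : IsMulCommutative W
    · exact Or.inl ⟨K, W, _, hP, (hW hne).1, hpr, hTI, hc, (hW hne).2⟩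
    · exact Or.inr ⟨K, W, _, hP, (hW hne).1, hpr, hTI, hc, (hW hne).2⟩

theorem typeV_iff : Cfsg.IsOfTypeV M ↔ (K ≠ ⊥ ∧ U = ⊥ ∧ Cfsg.fittingHallOf M = Cfsg.sigmaCore M) := by
  constructor
  · rintro ⟨W₁, W, W₂, hP, hW, -⟩
    have hK1 := K_ne hKU (kappa_of_typeP hG hM hP)
    obtain ⟨-, hHS, hSd, -, -⟩ := S1355.result hG M hM
    have hdH : ⁅M, M⁆ ≤ Cfsg.fittingHallOf M := fun y hy => by
      obtain ⟨a, ha, b, hb, rfl⟩ := hP.U_compl.2.2.2 y hy
      rw [hW, Subgroup.mem_bot] at hb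
      rwa [hb, mul_one]
    refine ⟨hK1, ?_, le_antisymm hHS (hSd.trans hdH)⟩
    have h1 : U ≤ Cfsg.sigmaCore M :=
      ((le_sup_left.trans (S1365.result hG M hM K U hKU hK1).1.ge).trans hdH).trans hHS
    exact le_bot_iff.1 ((le_inf le_rfl (h1.trans le_sup_right)).trans hKU.compl.2.2.1.le)
  · rintro ⟨hK1, hU, he⟩
    obtain ⟨W, hP, hWU, -⟩ := exists_data hG hM hKU hK1
    refine ⟨K, W, _, hP, (hWU he).trans hU, ?_⟩
    by_cases hTI : Cfsg.IsTISubset (Cfsg.fittingHallOf M : Set G)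
    · exact Or.inl hTI
    have hnil : Group.IsNilpotent (Cfsg.sigmaCore M) := he ▸ FHall.fittingHallOf_nilpotent M
    obtain ⟨x, hx, hx1, hxM⟩ := NTI.of_not_ti hG hM hnil hTI
    rcases NTI.cases hG hM hnil hx hx1 hxM with ⟨-, -, -, hκ⟩ | ⟨p, n⟩
    · exact absurd hκ (Set.nonempty_iff_ne_empty.1 (kappa_nonempty hKU hK1))
    · right
      rw [he]
      rcases NTI.kappa_dvd hG hM hKU hK1 hU hnil n with h | ⟨h, h'⟩
      · exact Or.inl ⟨p, n.prime, n.dvd, h, n.cyclic⟩
      · exact Or.inr ⟨p, n.prime, n.dvd, h, h', n.cyclic⟩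

end Cfsg.Agent.OddOrder.Types
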