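/-
`M_s = M_σ`, type I forces `κ(M) = ∅` (BG 16.1).
-/
import Cfsg.Agent.Lib.OddOrder.Types
import Cfsg.Agent.S1358
import Cfsg.Agent.S1361
import Cfsg.Agent.S1362

set_option autoImplicit false
set_option linter.style.haveILetI false
set_option linter.unusedSectionVars false

namespace Cfsg.Agent.OddOrder.Types

open scoped commutatorElement IsMulCommutative Pointwise
open Exceptional TauOne Kappa Support Pairing
open Tau3 (line_pgroup line_ne_bot)

universe u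

variable {G : Type u} [Group G] [Finite G] {M K U : Subgroup G}

/-- Conjugates of a standard factorisation. -/
theorem decomp_conj (hKU : Cfsg.IsSigmaDecomposition M K U) {m : G} (hm : m ∈ M) :
    Cfsg.IsSigmaDecomposition M (K.map (MulAut.conj m).toMonoidHom) (U.map (MulAut.conj m).toMonoidHom) := by
  set f := (MulAut.conj m).toMonoidHom with hf
  have hi : Function.Injective f := (MulAut.conj m).injective
  have hMf : M.map f = M := map_conj_of_mem hm
  have hSf : (Cfsg.sigmaCore M).map f = Cfsg.sigmaCore M :=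
    Subgroup.mem_normalizer_iff_map_conj_eq.1 (Exceptional.le_normalizer_sigmaCore M hm)
  refine ⟨?_, ⟨hMf ▸ Subgroup.map_mono hKU.hall.1, fun r hr hd => hKU.hall.2.1 r hr ?_, fun r hr hrκ hd => ?_⟩,
    ⟨hMf ▸ Subgroup.map_mono hKU.compl.1, hMf ▸ ?_, ?_, fun y hy => ?_⟩, ?_⟩
  · haveI := hKU.cyclic
    exact (K.equivMapOfInjective f hi).isCyclic.1 inferInstance
  · rwa [Subgroup.card_map_of_injective hi] at hd
  · refine hKU.hall.2.2 r hr hrκ ?_
    rwa [← Subgroup.relIndex_map_map_of_injective K M hi, hMf]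
  · exact sup_le (Subgroup.map_mono hKU.hall.1) (by rw [hMf]; exact Exceptional.sigmaCore_le M)
  · rw [← hSf, ← Subgroup.map_sup, ← Subgroup.map_inf _ _ _ hi, hKU.compl.2.2.1, Subgroup.map_bot]
  · rw [← hMf] at hy
    obtain ⟨z, hz, rfl⟩ := hy
    obtain ⟨a, ha, b, hb, rfl⟩ := hKU.compl.2.2.2 z hz
    refine ⟨f a, ⟨a, ha, rfl⟩, f b, ?_, map_mul f a b⟩
    rw [← hSf, ← Subgroup.map_sup]
    exact ⟨b, hb, rfl⟩
  · exact (Subgroup.map_mono hKU.normal).trans (Subgroup.le_normalizer_map f)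

variable (hG : Cfsg.IsMinSimpleOddOrder G) (hM : IsCoatom M)
include hG hM

theorem typeCore_eq : Cfsg.typeCore M = Cfsg.sigmaCore M := by
  obtain ⟨K, U, hKU⟩ := FStruct.exists_decomp hG hM
  by_cases h : Cfsg.IsOfTypeIII M ∨ Cfsg.IsOfTypeIV M
  · obtain ⟨hK1, hU, -⟩ := (typeIII_IV_iff hG hM hKU).1 h
    rw [Cfsg.typeCore, if_pos h, (S1365.result hG M hM K U hKU hK1).1, hU, bot_sup_eq]
  · rw [Cfsg.typeCore, if_neg h]
    by_contra hne
    have hnn : ¬ Group.IsNilpotent (Cfsg.sigmaCore M) := fun hn => hne (Support.fittingHall_eq hG hM hn)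
    exact h ((typeIII_IV_iff hG hM hKU).2
      ⟨NonNil.K_ne hG hM hKU hnn, (S1357.result hG M hM K U hKU hne).1, hne⟩)

/-- Frobenius type forces `κ(M) = ∅`. -/
theorem kappa_empty_of_typeF (hF : Cfsg.IsOfTypeF M) : Cfsg.kappa M = ∅ := by
  by_contra hne
  obtain ⟨K, U, hKU⟩ := FStruct.exists_decomp hG hM
  have hK1 := K_ne hKU (Set.nonempty_iff_ne_empty.2 hne)
  obtain ⟨-, hDne, hDH, -⟩ := S1364.result hG M hM K U hKU hK1
  obtain ⟨hsol, -, -, -, U', -, hc, -, U₀, hU₀, hexp, hreg⟩ := hF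
  obtain ⟨r, hr, hrK⟩ := Nat.exists_prime_and_dvd fun e => hK1 (Subgroup.card_eq_one.1 e)
  haveI := Fact.mk hr
  have hrκ := hKU.hall.2.1 r hr hrK
  obtain ⟨-, hHS, -, -, -⟩ := S1355.result hG M hM
  have hrU : r ∣ Nat.card U' := by
    refine (hr.dvd_mul.1 (hc.card_mul.symm ▸ hrκ.2.1)).resolve_left fun h => hrκ.2.2.1 (mem_sigma_of_dvd hr ?_)
    rw [← Subgroup.card_map_of_injective M.subtype_injective] at h
    exact h.trans (Subgroup.card_dvd_of_le hHS)
  obtain ⟨a, ha⟩ := exists_prime_orderOf_dvd_card' (G := U') r hrU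
  have hrE : r ∣ Monoid.exponent U' := ha ▸ Monoid.order_dvd_exponent a
  rw [← hexp] at hrE
  obtain ⟨⟨u, hu⟩, huo⟩ := exists_prime_orderOf_dvd_card' (G := U₀) r (hrE.trans Group.exponent_dvd_nat_card)
  rw [Subgroup.orderOf_mk] at huo
  have hu1 : u ≠ 1 := fun e => hr.ne_one (by rw [← huo, e, orderOf_one])
  haveI := hsol
  obtain ⟨c, hcM, hck⟩ := exists_conj_hall hKU.hall.1 (K_hall hKU) (b := (u : G)) u.2 (by
    rw [Subgroup.orderOf_coe, huo]
    exact hr.coprime_iff_not_dvd.2 fun h => hKU.hall.2.2 r hr hrκ h)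
  obtain ⟨d, hd, hd1⟩ := (Subgroup.bot_or_exists_ne_one _).resolve_left hDne
  have hdH : c⁻¹ * d * c ∈ Cfsg.fittingHallOf M := by
    have := (Subgroup.mem_normalizer_iff.1 (FHall.le_normalizer_fittingHallOf M (M.inv_mem hcM)) d).1 (hDH hd)
    rwa [inv_inv] at this
  obtain ⟨y, hy, hye⟩ := hdH
  have hye' : (y : G) = c⁻¹ * d * c := hye
  have hy1 : y = 1 := hreg u hu hu1 y hy (Subtype.ext (by
    show (u : G) * y = y * u
    rw [hye']
    have hk := Subgroup.mem_centralizer_iff.1 hd.2 _ hck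
    calc (u : G) * (c⁻¹ * d * c) = c⁻¹ * (c * u * c⁻¹ * d) * c := by group
      _ = c⁻¹ * (d * (c * u * c⁻¹)) * c := by rw [hk]
      _ = c⁻¹ * d * c * u := by group))
  refine hd1 ?_
  have h1 : c⁻¹ * d * c = 1 := by rw [← hye', hy1]; rfl
  calc d = c * (c⁻¹ * d * c) * c⁻¹ := by group
    _ = 1 := by rw [h1]; group

theorem typeI_kappa (h : Cfsg.IsOfTypeI M) : Cfsg.kappa M = ∅ := kappa_empty_of_typeF hG hM h.1

theorem decomp_of_kappa_empty (hκ : Cfsg.kappa M = ∅) :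
    Cfsg.fittingHallOf M = Cfsg.sigmaCore M ∧
      ∀ U : Subgroup G, Cfsg.IsComplIn (Cfsg.fittingHallOf M) U M → Cfsg.IsSigmaDecomposition M ⊥ U := by
  have he := Support.fittingHall_eq hG hM (PSupp.nilpotent_of_kappa_empty hG hM hκ)
  refine ⟨he, fun U hU => ?_⟩
  rw [he] at hU
  refine ⟨inferInstance, ⟨bot_le, fun r hr hd => ?_, fun r _ h => ?_⟩,
    ⟨hU.2.1, by rw [bot_sup_eq]; exact sigmaCore_le M, by rw [bot_sup_eq, inf_comm]; exact hU.2.2.1, fun m hm => ?_⟩,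
    bot_le⟩
  · rw [Subgroup.card_bot] at hd
    exact absurd (Nat.dvd_one.1 hd) hr.ne_one
  · rw [hκ] at h
    exact absurd h (Set.notMem_empty r)
  · rw [bot_sup_eq]
    obtain ⟨s, hs, u, hu, rfl⟩ := hU.2.2.2 m hm
    exact ⟨u, hu, u⁻¹ * s * u,
      by simpa using (Subgroup.mem_normalizer_iff.1 (le_normalizer_sigmaCore M (M.inv_mem (hU.2.1 hu))) s).1 hs,
      by group⟩

/-- BG 16.2 (a). -/
theorem typeCore_facts :
    (∀ (p : ℕ), p.Prime → ∀ (P : Sylow p ↥(Cfsg.typeCore M)), (P : Subgroup ↥(Cfsg.typeCore M)) ≠ ⊥ →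
        Subgroup.normalizer ((((P : Subgroup ↥(Cfsg.typeCore M)).map (Cfsg.typeCore M).subtype : Subgroup G)) : Set G)
          ≤ M) ∧
      (Nat.card (Cfsg.fittingHallOf M)).Coprime (Cfsg.fittingHallOf M).index ∧
      (Nat.card (Cfsg.typeCore M)).Coprime (Cfsg.typeCore M).index := by
  obtain ⟨-, ⟨-, hh⟩, -⟩ := S1350.result hG M hM
  obtain ⟨-, hHS, -, -, -⟩ := S1355.result hG M hM
  rw [typeCore_eq hG hM]
  refine ⟨fun p hp P hP => ?_, Nat.coprime_of_dvd fun t ht h1 h2 => ?_,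
    Nat.coprime_of_dvd fun t ht h1 h2 => hh t ht (mem_sigma_of_dvd ht h1) h2⟩
  · haveI := Fact.mk hp
    refine normalizer_le_of_sigma_hall hG hM (P.isPGroup'.map _).isNilpotent (Subgroup.map_subtype_le _) ?_
      fun e => hP ((Subgroup.map_eq_bot_iff_of_injective _ (Cfsg.sigmaCore M).subtype_injective).1 e)
    rw [Subgroup.card_map_of_injective (Cfsg.sigmaCore M).subtype_injective, Subgroup.relIndex, Subgroup.subgroupOf,
      Subgroup.comap_map_eq_self_of_injective (Cfsg.sigmaCore M).subtype_injective]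
    obtain ⟨n, hn⟩ := IsPGroup.iff_card.1 P.isPGroup'
    rw [hn]
    exact (hp.coprime_iff_not_dvd.2 P.not_dvd_index).pow_left n
  · have htσ := mem_sigma_of_dvd ht (h1.trans (Subgroup.card_dvd_of_le hHS))
    rw [← Subgroup.relIndex_mul_index (FHall.fittingHallOf_le M)] at h2
    rcases ht.dvd_mul.1 h2 with h | h
    · exact ht.ne_one (Nat.eq_one_of_dvd_coprimes (FHall.fittingHallOf_coprime M) h1 h)
    · exact hh t ht htσ (h.trans (Subgroup.index_dvd_of_le (sigmaCore_le M)))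

/-- BG 16.3 for types I and II. -/
theorem complement_facts {U : Subgroup G}
    (hU : (Cfsg.IsOfTypeI M ∧ Cfsg.IsComplIn (Cfsg.fittingHallOf M) U M) ∨
      (Cfsg.IsOfTypeII M ∧ Cfsg.IsComplIn (Cfsg.fittingHallOf M) U ⁅M, M⁆)) :
    (∀ (p : ℕ), p.Prime → ∀ P : Sylow p U, IsMulCommutative (P : Subgroup U) ∧ Cfsg.PRankLE p 2 (P : Subgroup U)) ∧
      (∀ X : Set G, X ⊆ (U : Set G) \ {1} → X.Nonempty → Cfsg.fittingHallOf M ⊓ Subgroup.centralizer X ≠ ⊥ →
        Subgroup.centralizer X ≤ M ∧ ∀ L : Subgroup G, IsCoatom L → Subgroup.centralizer X ≤ L → L = M) ∧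
      Cfsg.IsTISubset (Cfsg.typeA M \ Cfsg.typeA1 M) := by
  obtain ⟨K, hKU, he, hA⟩ : ∃ K : Subgroup G, Cfsg.IsSigmaDecomposition M K U ∧
      Cfsg.fittingHallOf M = Cfsg.sigmaCore M ∧
      Cfsg.typeA M \ Cfsg.typeA1 M = Cfsg.sigmaA M U \ (Cfsg.sigmaCore M : Set G) := by
    rcases hU with ⟨hI, hU⟩ | ⟨hII, hU⟩
    · obtain ⟨he, hd⟩ := decomp_of_kappa_empty hG hM (typeI_kappa hG hM hI)
      have hKU := hd U hU
      have hUM : U ⊔ Cfsg.sigmaCore M = M := by rw [sup_comm, ← he]; exact Compl.sup_eq hU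
      refine ⟨⊥, hKU, he, Set.ext fun a => ?_⟩
      rw [Cfsg.typeA, if_pos hI, Cfsg.typeA1, typeCore_eq hG hM, he, Cfsg.sigmaA, hUM]
      constructor
      · rintro ⟨⟨haM, ha1, hex⟩, haS⟩
        exact ⟨⟨⟨haM, hex⟩, haM⟩, fun h => haS ⟨h, ha1⟩⟩
      · rintro ⟨⟨⟨haM, hex⟩, -⟩, haS⟩
        exact ⟨⟨haM, fun e => haS (e.symm ▸ one_mem _), hex⟩, fun h => haS h.1⟩
    · obtain ⟨K, U₀, hKU₀⟩ := FStruct.exists_decomp hG hM
      obtain ⟨hK1, hU₀1⟩ := (typeII_iff hG hM hKU₀).1 hII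
      have he : Cfsg.fittingHallOf M = Cfsg.sigmaCore M := by
        by_contra h
        exact hU₀1 (S1357.result hG M hM K U₀ hKU₀ h).1
      obtain ⟨m, hm, rfl⟩ := compl_conj hG hM hKU₀ hK1 he hU
      have hKU := decomp_conj hKU₀ hm
      refine ⟨_, hKU, he, Set.ext fun a => ?_⟩
      have hnI : ¬ Cfsg.IsOfTypeI M := fun h =>
        Set.nonempty_iff_ne_empty.1 (kappa_nonempty hKU₀ hK1) (typeI_kappa hG hM h)
      rw [Cfsg.typeA, if_neg hnI, Cfsg.typeA1, typeCore_eq hG hM, Cfsg.sigmaA,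
        ← (S1365.result hG M hM _ _ hKU fun e => hK1
          ((Subgroup.map_eq_bot_iff_of_injective _ (MulAut.conj m).injective).1 e)).1]
      constructor
      · rintro ⟨⟨had, ha1, hex⟩, haS⟩
        exact ⟨⟨⟨(compl_derived hG hM hKU₀ hK1).1 had, hex⟩, had⟩, fun h => haS ⟨h, ha1⟩⟩
      · rintro ⟨⟨⟨-, hex⟩, had⟩, haS⟩
        exact ⟨⟨had, fun e => haS (e.symm ▸ one_mem _), hex⟩, fun h => haS h.1⟩
  refine ⟨S1358.result hG M hM K U hKU, fun X hX hne hc => ?_, hA ▸ S1362.result hG M hM K U hKU⟩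
  rw [he] at hc
  rw [← Subgroup.centralizer_closure] at hc ⊢
  refine S1361.result hG M hM K U hKU _ ((Subgroup.closure_le U).2 fun z hz => (hX hz).1) (fun e => ?_) hc
  obtain ⟨z, hz⟩ := hne
  exact (hX hz).2 (Subgroup.mem_bot.1 (e ▸ Subgroup.subset_closure hz))

end Cfsg.Agent.OddOrder.Types
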