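/-
BG 16.1: maximal subgroups with `κ(M) = ∅` are of type I.
-/
import Cfsg.Agent.Lib.OddOrder.CentralFalse
import Cfsg.Agent.Lib.OddOrder.TypesCore
import Cfsg.Agent.Lib.OddOrder.Tau3Tools

set_option autoImplicit false
set_option linter.style.haveILetI false
set_option linter.unusedSectionVars false

namespace Cfsg.Agent.OddOrder.TypeOne

open scoped commutatorElement IsMulCommutative Pointwise
open Exceptional TauOne Kappa Support
open Pairing (exists_pi_parts mem_sigmaCore_of_primes)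
open Tau3 (line_pgroup line_ne_bot)

universe u

variable {G : Type u} [Group G] [Finite G] {M U : Subgroup G}
variable (hG : Cfsg.IsMinSimpleOddOrder G) (hM : IsCoatom M) (hKU : Cfsg.IsSigmaDecomposition M ⊥ U)
include hG hM hKU

theorem kappa_eq : Cfsg.kappa M = ∅ := by
  by_contra hne
  obtain ⟨r, hr⟩ := Set.nonempty_iff_ne_empty.2 hne
  refine hKU.hall.2.2 r hr.1 hr ?_
  rw [Subgroup.relIndex_bot_left]
  exact hr.2.1

theorem compl : Cfsg.IsComplIn U (Cfsg.sigmaCore M) M := by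
  have h := hKU.compl
  rwa [bot_sup_eq] at h

theorem hat_normal : U ≤ Subgroup.normalizer (Subgroup.closure ((U : Set G) ∩ Cfsg.sigmaHat M) : Set G) := by
  have hU := (compl hG hM hKU).1
  intro u hu
  refine ComplAbelian.mem_normalizer_of_map_le fun a ha => ?_
  have h : (Subgroup.closure ((U : Set G) ∩ Cfsg.sigmaHat M)).map (MulAut.conj u).toMonoidHom ≤
      Subgroup.closure ((U : Set G) ∩ Cfsg.sigmaHat M) := by
    rw [MonoidHom.map_closure, Subgroup.closure_le]
    rintro _ ⟨b, ⟨hb, hbM, y, hy, hy1, hby⟩, rfl⟩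
    refine Subgroup.subset_closure ⟨U.mul_mem (U.mul_mem hu hb) (U.inv_mem hu),
      M.mul_mem (M.mul_mem (hU hu) hbM) (M.inv_mem (hU hu)), u * y * u⁻¹,
      (Subgroup.mem_normalizer_iff.1 (le_normalizer_sigmaCore M (hU hu)) y).1 hy,
      fun e => hy1 (conj_eq_one_iff.1 e), ?_⟩
    show u * b * u⁻¹ * (u * y * u⁻¹) = u * y * u⁻¹ * (u * b * u⁻¹)
    calc u * b * u⁻¹ * (u * y * u⁻¹) = u * (b * y) * u⁻¹ := by group
      _ = u * (y * b) * u⁻¹ := by rw [hby]
      _ = _ := by group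
  exact h ⟨a, ha, rfl⟩

theorem typeF (hU : U ≠ ⊥) : Cfsg.IsOfTypeF ↥M := by
  have hκ := kappa_eq hG hM hKU
  have he := Support.fittingHall_eq hG hM (PSupp.nilpotent_of_kappa_empty hG hM hκ)
  have hc := compl hG hM hKU
  set S := Cfsg.sigmaCore M with hS
  have hF : Cfsg.fittingHall M = S.subgroupOf M := by
    rw [← he, Cfsg.fittingHallOf, Subgroup.subgroupOf, Subgroup.comap_map_eq_self_of_injective M.subtype_injective]
  have hSM : S ≤ M := sigmaCore_le M
  have hcop : (Nat.card S).Coprime (Nat.card U) := Nat.coprime_of_dvd fun t ht h1 h2 =>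
    not_dvd_complement hG hM hc ht h2 (mem_sigma_of_dvd ht h1)
  rw [Cfsg.IsOfTypeF, hF]
  refine ⟨MinSimple.isSolvable hG hM.1, hG.1.of_dvd_nat M.card_subgroup_dvd_card,
    fun e => Kappa.sigmaCore_ne_bot hG hM (le_bot_iff.1 fun x hx => ?_), fun e => hU (le_bot_iff.1 fun u hu => ?_),
    U.subgroupOf M, fun e => hU (le_bot_iff.1 fun u hu => ?_), Subgroup.isComplement'_of_coprime ?_ ?_, ?_, ?_⟩
  · exact Subgroup.mem_bot.2 (congrArg Subtype.val (Subgroup.mem_bot.1 (e.le (show (⟨x, hSM hx⟩ : M) ∈ _ from hx))))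
  · exact hc.2.2.1.le ⟨hu, e.ge (Subgroup.mem_top (⟨u, hc.1 hu⟩ : M))⟩
  · exact Subgroup.mem_bot.2 (congrArg Subtype.val (Subgroup.mem_bot.1 (e.le (show (⟨u, hc.1 hu⟩ : M) ∈ _ from hu))))
  · rw [Nat.card_congr (Subgroup.subgroupOfEquivOfLe hSM).toEquiv,
      Nat.card_congr (Subgroup.subgroupOfEquivOfLe hc.1).toEquiv, mul_comm]
    exact (Compl.card_eq hc).symm
  · rw [Nat.card_congr (Subgroup.subgroupOfEquivOfLe hSM).toEquiv,
      Nat.card_congr (Subgroup.subgroupOfEquivOfLe hc.1).toEquiv]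
    exact hcop
  · haveI := TypeU.hat_abelian hG hM hKU
    set B := Subgroup.closure ((U : Set G) ∩ Cfsg.sigmaHat M) with hB
    have hBU : B ≤ U := (Subgroup.closure_le U).2 fun z hz => hz.1
    refine ⟨B.subgroupOf M, Subgroup.comap_mono hBU, fun u hu => ?_, inferInstance, fun x hx hx1 u hu => ?_⟩
    · refine ComplAbelian.mem_normalizer_of_map_le fun a ha => ?_
      exact (Subgroup.mem_normalizer_iff.1 (hat_normal hG hM hKU hu) (a : G)).1 ha
    · exact Subgroup.subset_closure ⟨hu.1, u.2, x, hx, fun e => hx1 (Subtype.ext e),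
        congrArg Subtype.val (Subgroup.mem_centralizer_singleton_iff.1 hu.2)⟩
  · obtain ⟨U₀, hU₀, hexp, hreg⟩ := S1360.result hG M hM ⊥ U hKU
    refine ⟨U₀.subgroupOf M, fun z hz => hU₀ hz, ?_, fun u hu hu1 x hx hux => ?_⟩
    · rw [Monoid.exponent_eq_of_mulEquiv (Subgroup.subgroupOfEquivOfLe (hU₀.trans hc.1)),
        Monoid.exponent_eq_of_mulEquiv (Subgroup.subgroupOfEquivOfLe hc.1), hexp]
    · by_contra hx1
      exact hu1 (Subtype.ext (hreg u hu ⟨u.2, x, hx, fun e => hx1 (Subtype.ext e), congrArg Subtype.val hux⟩))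

/-- `O_{p'}(M)` is cyclic in the nonabelian case. -/
theorem isCyclic_pPrimeCore {x : G} (hx : x ∈ Cfsg.sigmaCore M) (hx1 : x ≠ 1)
    (hxM : ¬ Subgroup.centralizer ({x} : Set G) ≤ M) {p : ℕ} (n : NTI.Nonab p M) :
    IsCyclic (Cfsg.pPrimeCore p M) := by
  haveI := Fact.mk n.prime
  have hκ := kappa_eq hG hM hKU
  have hnil := PSupp.nilpotent_of_kappa_empty hG hM hκ
  have hc := compl hG hM hKU
  set S := Cfsg.sigmaCore M with hS
  have hSM : S ≤ M := sigmaCore_le M
  have hSn : M ≤ Subgroup.normalizer (S : Set G) := le_normalizer_sigmaCore M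
  set P := (Cfsg.pCore p ↥S).map S.subtype with hP
  set W := (Cfsg.pPrimeCore p ↥S).map S.subtype with hW
  set O := (Cfsg.pPrimeCore p M).map M.subtype with hO
  suffices h : IsCyclic O from
    ((Cfsg.pPrimeCore p M).equivMapOfInjective M.subtype M.subtype_injective).isCyclic.2 h
  have hOM : O ≤ M := Subgroup.map_subtype_le _
  have hOn : M ≤ Subgroup.normalizer (O : Set G) :=
    Subgroup.le_normalizer.trans (NTI.normalizer_le_normalizer_char (FittingCores.pPrimeCore_characteristic p))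
  have hPS : P ≤ S := Subgroup.map_subtype_le _
  have hWS : W ≤ S := Subgroup.map_subtype_le _
  have hPn : M ≤ Subgroup.normalizer (P : Set G) :=
    hSn.trans (NTI.normalizer_le_normalizer_char (FittingCores.pCore_characteristic p))
  have hWn : M ≤ Subgroup.normalizer (W : Set G) :=
    hSn.trans (NTI.normalizer_le_normalizer_char (FittingCores.pPrimeCore_characteristic p))
  have hPW : P ⊔ W = S := by
    rw [hP, hW, ← Subgroup.map_sup, NTI.pCore_sup_pPrimeCore hnil p, ← MonoidHom.range_eq_map, Subgroup.range_subtype]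
  have hWc : (Nat.card W).Coprime p := by
    rw [hW, Subgroup.card_map_of_injective S.subtype_injective]
    exact FittingCores.pPrimeCore_coprime (G := S) p
  have hWcyc : IsCyclic W :=
    ((Cfsg.pPrimeCore p ↥S).equivMapOfInjective S.subtype S.subtype_injective).isCyclic.1 n.cyclic
  have hPp : IsPGroup p P := (FittingCores.pCore_isPGroup p).map _
  have hOc : (Nat.card O).Coprime p := by
    rw [hO, Subgroup.card_map_of_injective M.subtype_injective]
    exact FittingCores.pPrimeCore_coprime (G := M) p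
  have hOP : ∀ o ∈ O, ∀ a ∈ P, Commute o a := by
    intro o ho a ha
    have haM := hSM (hPS ha)
    have h : o * a * o⁻¹ * a⁻¹ ∈ O ⊓ P := by
      refine ⟨?_, P.mul_mem ((Subgroup.mem_normalizer_iff.1 (hPn (hOM ho)) a).1 ha) (P.inv_mem ha)⟩
      rw [mul_assoc o a, mul_assoc o]
      exact O.mul_mem ho ((Subgroup.mem_normalizer_iff.1 (hOn haM) _).1 (O.inv_mem ho))
    have hb : O ⊓ P = ⊥ := Subgroup.inf_eq_bot_of_coprime (by
      obtain ⟨k, hk⟩ := IsPGroup.iff_card.1 hPp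
      rw [hk]; exact hOc.pow_right k)
    exact mul_inv_eq_iff_eq_mul.1 (mul_inv_eq_one.1 (Subgroup.mem_bot.1 (hb.le h)))
  set C := O ⊓ U with hC
  have hOS : O ⊓ S ≤ W := by
    rintro z ⟨hzO, hzS⟩
    obtain ⟨a, ha, w, hw, rfl⟩ := (SolvBasic.mem_sup_iff_of_le_normalizer ((hWS.trans hSM).trans hPn)).1 (hPW.ge hzS)
    have hcom : Commute a w := by
      refine CN.commute_of_coprime hnil (hPS ha) (hWS hw) ?_
      obtain ⟨k, hk⟩ := IsPGroup.iff_card.1 hPp
      exact ((hWc.pow_right k).coprime_dvd_left (Subgroup.orderOf_dvd_natCard W hw)).symm.coprime_dvd_left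
        (hk ▸ Subgroup.orderOf_dvd_natCard P ha)
    have h1 : a ^ Nat.card W = (a * w) ^ Nat.card W := by
      rw [hcom.mul_pow, orderOf_dvd_iff_pow_eq_one.1 (Subgroup.orderOf_dvd_natCard W hw), mul_one]
    obtain ⟨k, hk⟩ := IsPGroup.iff_card.1 hPp
    have haO : a ∈ O := by
      obtain ⟨i, hi⟩ := exists_pow_eq_self_of_coprime (x := a) (n := Nat.card W)
        ((hWc.pow_right k).coprime_dvd_right (hk ▸ Subgroup.orderOf_dvd_natCard P ha))
      rw [← hi, h1]
      exact O.pow_mem (O.pow_mem hzO _) _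
    have hb : O ⊓ P = ⊥ := Subgroup.inf_eq_bot_of_coprime (by rw [hk]; exact hOc.pow_right k)
    rw [Subgroup.mem_bot.1 (hb.le ⟨haO, ha⟩), one_mul]
    exact hw
  have hWO : W ≤ O := by
    have hnW : (W.subgroupOf M).Normal := Subgroup.normal_subgroupOf_of_le_normalizer hWn
    intro w hw
    refine ⟨⟨w, hSM (hWS hw)⟩, FittingCores.le_pPrimeCore hnW ?_ (Subgroup.mem_subgroupOf.2 hw), rfl⟩
    rw [Nat.card_congr (Subgroup.subgroupOfEquivOfLe (hWS.trans hSM)).toEquiv]
    exact hWc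
  have hCn : C ≤ Subgroup.normalizer (W : Set G) := (inf_le_left.trans hOM).trans hWn
  have hWC : M ≤ Subgroup.normalizer ((W ⊔ C : Subgroup G) : Set G) := by
    intro m hm
    refine ComplAbelian.mem_normalizer_of_map_le fun z hz => ?_
    obtain ⟨w, hw, c, hcC, rfl⟩ := (SolvBasic.mem_sup_iff_of_le_normalizer hCn).1 hz
    obtain ⟨u, hu, s, hs, rfl⟩ := hc.2.2.2 m hm
    rw [show u * s * (w * c) * (u * s)⁻¹ = u * (s * w * s⁻¹ * (s * c * s⁻¹ * c⁻¹) * c) * u⁻¹ by group]
    have huM := hc.1 hu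
    have h1 : s * w * s⁻¹ ∈ W := (Subgroup.mem_normalizer_iff.1 (hWn (hSM hs)) w).1 hw
    have h2 : s * c * s⁻¹ * c⁻¹ ∈ W := by
      refine hOS ⟨O.mul_mem ((Subgroup.mem_normalizer_iff.1 (hOn (hSM hs)) c).1 hcC.1) (O.inv_mem hcC.1), ?_⟩
      rw [mul_assoc s c, mul_assoc s]
      exact S.mul_mem hs ((Subgroup.mem_normalizer_iff.1 (hSn (hOM hcC.1)) _).1 (S.inv_mem hs))
    rw [show u * (s * w * s⁻¹ * (s * c * s⁻¹ * c⁻¹) * c) * u⁻¹ =
      u * (s * w * s⁻¹ * (s * c * s⁻¹ * c⁻¹)) * u⁻¹ * (u * c * u⁻¹) by group]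
    exact mul_mem (Subgroup.mem_sup_left ((Subgroup.mem_normalizer_iff.1 (hWn huM) _).1 (W.mul_mem h1 h2)))
      (Subgroup.mem_sup_right ⟨(Subgroup.mem_normalizer_iff.1 (hOn huM) c).1 hcC.1,
        U.mul_mem (U.mul_mem hu hcC.2) (U.inv_mem hu)⟩)
  have hOeq : O = W ⊔ C := by
    refine le_antisymm (fun o ho => ?_) (sup_le hWO inf_le_left)
    obtain ⟨a, b, hab, -, haz, hbz, ha, hb⟩ := exists_pi_parts (Cfsg.sigma M) o
    have haO : a ∈ O := (Subgroup.zpowers_le.2 ho) haz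
    have hbO : b ∈ O := (Subgroup.zpowers_le.2 ho) hbz
    rw [hab]
    refine mul_mem (Subgroup.mem_sup_left (hOS ⟨haO, mem_sigmaCore_of_primes hG hM (hOM haO) ha⟩)) ?_
    obtain ⟨m, hm, hle⟩ := ComplBasics.exists_conj_le hG hM hc (X := Subgroup.zpowers b)
      (Subgroup.zpowers_le.2 (hOM hbO)) (Nat.coprime_of_dvd fun r hr h1 h2 =>
        hb r hr (Nat.card_zpowers b ▸ h1) (mem_sigma_of_dvd hr h2))
    have hbU : m * b * m⁻¹ ∈ U := hle ⟨b, Subgroup.mem_zpowers b, rfl⟩
    have hmem : m * b * m⁻¹ ∈ W ⊔ C :=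
      Subgroup.mem_sup_right ⟨(Subgroup.mem_normalizer_iff.1 (hOn hm) b).1 hbO, hbU⟩
    have := (Subgroup.mem_normalizer_iff.1 (hWC (M.inv_mem hm)) _).1 hmem
    simpa [mul_assoc] using this
  by_cases hC1 : C = ⊥
  · rw [hOeq, hC1, sup_bot_eq]
    exact hWcyc
  -- a fixed point of `C`
  obtain ⟨Ox, hOxc, hOxn, hOxP, -⟩ := n.central
  obtain ⟨z, hz, hz1⟩ := Plane.exists_ne_one hOxc
  have hzS : z ∈ S := hPS (hOxP hz)
  have hCz : ∀ c ∈ C, Commute c z := fun c hc' => hOP c hc'.1 z (hOxP hz)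
  have hτ : ∀ c ∈ C, ∀ q : ℕ, q.Prime → q ∣ orderOf c → q ∈ Cfsg.tau2 M := fun c hc' q hq hd =>
    TypeU.mem_tau2_of_hat hG hM hKU hc'.2 ⟨hc.1 hc'.2, z, hzS, hz1, (hCz c hc').eq⟩ hq hd
  rcases TypeU.cases hG hM hKU hc with ⟨r, _, A, hr, hAE, hAe, hA, hS'⟩ | hdata
  · -- nonabelian: `C ≤ A₀`
    set A₀ := A ⊓ Subgroup.centralizer (S : Set G) with hA₀
    have hCA : C ≤ A₀ := fun c hc' =>
      TauTwoAb.mem_line hG hM hc hr hS' hAE hAe hA hc'.2 (hτ c hc') hzS hz1 (hCz c hc')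
    obtain ⟨-, ⟨hA₀c, -⟩, -⟩ := TauTwo.structure_nonabelian hG hM hc hr hS' hAE hAe hA
    obtain ⟨w, hw⟩ := hWcyc.exists_generator
    haveI : IsCyclic A₀ := isCyclic_of_prime_card hA₀c
    have hCAc : IsCyclic (C.subgroupOf A₀) := Subgroup.isCyclic _
    obtain ⟨c, hcg⟩ := hCAc.exists_generator
    have hcC : ((c : A₀) : G) ∈ C := c.2
    have hwc : Commute (w : G) (c : A₀) :=
      Subgroup.mem_centralizer_iff.1 (hCA hcC).2 (w : G) (hWS w.2)
    have hOle : O ≤ Subgroup.zpowers ((w : G) * (c : A₀)) := by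
      have hcop : (orderOf (w : G)).Coprime (orderOf ((c : A₀) : G)) := by
        refine Nat.coprime_of_dvd fun q hq h1 h2 => ?_
        exact (hτ _ hcC q hq h2).2.1 (mem_sigma_of_dvd hq ((h1.trans (Subgroup.orderOf_dvd_natCard W w.2)).trans
          (Subgroup.card_dvd_of_le hWS)))
      have hmem : (w : G) ∈ Subgroup.zpowers ((w : G) * (c : A₀)) ∧
          ((c : A₀) : G) ∈ Subgroup.zpowers ((w : G) * (c : A₀)) := by
        obtain ⟨i, hi⟩ := exists_pow_eq_self_of_coprime (x := (w : G)) (n := orderOf ((c : A₀) : G)) hcop.symm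
        have h1 : (w : G) ∈ Subgroup.zpowers ((w : G) * (c : A₀)) := by
          have h2 : ((w : G) ^ orderOf ((c : A₀) : G)) ^ i ∈ Subgroup.zpowers ((w : G) * (c : A₀)) := by
            have h3 : (w : G) ^ orderOf ((c : A₀) : G) = ((w : G) * (c : A₀)) ^ orderOf ((c : A₀) : G) := by
              rw [hwc.mul_pow, pow_orderOf_eq_one, mul_one]
            rw [h3]
            exact pow_mem (pow_mem (Subgroup.mem_zpowers _) _) _
          rwa [hi] at h2
        exact ⟨h1, by simpa using mul_mem (inv_mem h1) (Subgroup.mem_zpowers ((w : G) * (c : A₀)))⟩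
      rw [hOeq]
      refine sup_le (fun a ha => ?_) fun a ha => ?_
      · obtain ⟨i, hi⟩ := Subgroup.mem_zpowers_iff.1 (hw ⟨a, ha⟩)
        rw [show a = (w : G) ^ i from by simpa using (congrArg Subtype.val hi).symm]
        exact zpow_mem hmem.1 i
      · obtain ⟨i, hi⟩ := Subgroup.mem_zpowers_iff.1 (hcg ⟨⟨a, hCA ha⟩, ha⟩)
        rw [show a = ((c : A₀) : G) ^ i from by
          simpa using (congrArg (fun q : C.subgroupOf A₀ => ((q : A₀) : G)) hi).symm]
        exact zpow_mem hmem.2 i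
    exact Subgroup.isCyclic_of_le hOle
  -- abelian: impossible
  exfalso
  obtain ⟨r, hr, hrd⟩ := Nat.exists_prime_and_dvd fun e => hC1 (Subgroup.card_eq_one.1 e)
  haveI := Fact.mk hr
  obtain ⟨⟨c, hcC⟩, hco⟩ := exists_prime_orderOf_dvd_card' r hrd
  rw [Subgroup.orderOf_mk] at hco
  have hrτ := hτ c hcC r hr hco.symm.dvd
  obtain ⟨A, Sr, hd⟩ := hdata r hrτ
  have d := hd inferInstance
  have hcU : c ∈ U := hcC.2
  -- `c` centralizes `W`
  have hcW : ∀ w ∈ W, c * w = w * c := by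
    haveI : IsMulCommutative W := hWcyc.isMulCommutative
    have hRn : Subgroup.zpowers c ≤ Subgroup.normalizer (W : Set G) :=
      (Subgroup.zpowers_le.2 (hc.1 hcU)).trans hWn
    suffices h : Subgroup.zpowers c ≤ Subgroup.centralizer (W : Set G) from fun w hw =>
      (Subgroup.mem_centralizer_iff.1 (h (Subgroup.mem_zpowers c)) w hw).symm
    refine CoprimeAct.le_centralizer_of_fix_prime hRn (by
      rw [Nat.card_zpowers, hco]
      exact hr.coprime_iff_not_dvd.2 fun h => hrτ.2.1 (mem_sigma_of_dvd hr (h.trans (Subgroup.card_dvd_of_le hWS))))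
      fun w hw hwo a ha => ?_
    set R := Subgroup.zpowers c with hR
    have hRc : Nat.card R = r := by rw [hR, Nat.card_zpowers, hco]
    by_contra hne
    haveI := Fact.mk hwo
    set q := orderOf w with hq
    set Y := Subgroup.zpowers w with hY
    have hYc : Nat.card Y = q := Nat.card_zpowers w
    have hYn : M ≤ Subgroup.normalizer (Y : Set G) := fun m hm => by
      rw [hY, Subgroup.mem_normalizer_iff_map_conj_eq, MonoidHom.map_zpowers]
      exact FTI.line_conj_eq hWcyc ((Subgroup.mem_normalizer_iff.1 (hWn hm) w).1 hw) hw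
        (MulEquiv.orderOf_eq (MulAut.conj m) w)
    have hRY : R ≤ Subgroup.normalizer (Y : Set G) := (Subgroup.zpowers_le.2 (hc.1 hcU)).trans hYn
    have hYR : ⁅Y, R⁆ = Y := by
      have hle : ⁅Y, R⁆ ≤ Y := Subgroup.le_normalizer_iff_commutator_le_left.1 hRY
      rcases (Nat.dvd_prime hwo).1 (hYc ▸ Subgroup.card_dvd_of_le hle) with h | h
      · exfalso
        refine hne ?_
        have := Subgroup.commutator_eq_bot_iff_le_centralizer.1 (Subgroup.card_eq_one.1 h)
        exact Subgroup.mem_centralizer_iff.1 (this (Subgroup.mem_zpowers w)) a ha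
      · exact Subgroup.eq_of_le_of_card_ge hle (by rw [h, hYc])
    -- the support of `x`
    obtain ⟨N, hN, hCN⟩ := Uniq.exists_maximal_ge (MinSimple.centralizer_singleton_ne_top hG hx1)
    obtain ⟨-, -, hbot, hcompl, p', X, hp', -, -, hXc, hXS, -, hCXN, hCXM⟩ :=
      PSupp.support hG hM hx hx1 hxM hN hCN
    haveI := Fact.mk hp'
    obtain ⟨x₀, hx₀, hx₀1⟩ := Plane.exists_ne_one hXc
    have hXP : X ≤ P := by
      obtain ⟨a', ha', w', hw', hab⟩ :=
        (SolvBasic.mem_sup_iff_of_le_normalizer ((hWS.trans hSM).trans hPn)).1 (hPW.ge (hXS hx₀))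
      by_cases hp'p : p' = p
      · subst hp'p
        rw [← Plane.zpowers_eq hXc hx₀ hx₀1, Subgroup.zpowers_le]
        have hx₀p : orderOf x₀ = p' := by rw [← Nat.card_zpowers, Plane.zpowers_eq hXc hx₀ hx₀1, hXc]
        refine ⟨⟨x₀, hXS hx₀⟩, NonNil.mem_pCore_of_nilpotent (F := (⊤ : Subgroup ↥S)) inferInstance
          (Group.nilpotent_of_mulEquiv Subgroup.topEquiv.symm) (Subgroup.mem_top _)
          (IsPGroup.of_card (n := 1) (by rw [Nat.card_zpowers, Subgroup.orderOf_mk, hx₀p, pow_one])), rfl⟩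
      · exfalso
        refine hCXM ?_
        have hXW : x₀ ∈ W := by
          have hcom : Commute a' w' := by
            refine CN.commute_of_coprime hnil (hPS ha') (hWS hw') ?_
            obtain ⟨k, hk⟩ := IsPGroup.iff_card.1 hPp
            exact ((hWc.pow_right k).coprime_dvd_left (Subgroup.orderOf_dvd_natCard W hw')).symm.coprime_dvd_left
              (hk ▸ Subgroup.orderOf_dvd_natCard P ha')
          have h1 : x₀ ^ p' = 1 := orderOf_dvd_iff_pow_eq_one.1 (by
            rw [← Nat.card_zpowers, Plane.zpowers_eq hXc hx₀ hx₀1, hXc])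
          rw [hab, hcom.mul_pow] at h1
          have h2 : a' ^ p' ∈ P ⊓ W := ⟨P.pow_mem ha' _, by
            rw [eq_inv_of_mul_eq_one_left h1]; exact W.inv_mem (W.pow_mem hw' _)⟩
          obtain ⟨k, hk⟩ := IsPGroup.iff_card.1 hPp
          rw [(Subgroup.inf_eq_bot_of_coprime (show (Nat.card P).Coprime (Nat.card W) by
            rw [hk]; exact (hWc.pow_right k).symm)), Subgroup.mem_bot] at h2
          have ha1 : a' = 1 := by
            obtain ⟨i, hi⟩ := exists_pow_eq_self_of_coprime (x := a') (n := p')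
              ((((Nat.coprime_primes hp' n.prime).2 hp'p).pow_right k).coprime_dvd_right
                (hk ▸ Subgroup.orderOf_dvd_natCard P ha'))
            rw [← hi, h2, one_pow]
          rw [hab, ha1, one_mul]
          exact hw'
        have hXn : M ≤ Subgroup.normalizer (X : Set G) := fun m hm => by
          rw [← Plane.zpowers_eq hXc hx₀ hx₀1, Subgroup.mem_normalizer_iff_map_conj_eq, MonoidHom.map_zpowers]
          exact FTI.line_conj_eq hWcyc ((Subgroup.mem_normalizer_iff.1 (hWn hm) x₀).1 hXW) hXW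
            (MulEquiv.orderOf_eq (MulAut.conj m) x₀)
        exact (Subgroup.centralizer_le_normalizer _).trans (FTI.normalizer_of_normal hG hM
          (hXS.trans hSM) (line_ne_bot hXc) hXn).le
    have hcX : c ∈ Subgroup.centralizer (X : Set G) := Subgroup.mem_centralizer_iff.2 fun v hv =>
      (hOP c hcC.1 v (hXP hv)).symm.eq
    have hwX : w ∈ Subgroup.centralizer (X : Set G) := Subgroup.mem_centralizer_iff.2 fun v hv => by
      obtain ⟨k, hk⟩ := IsPGroup.iff_card.1 hPp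
      exact (CN.commute_of_coprime hnil (hPS (hXP hv)) (hWS hw)
        (((hWc.pow_right k).coprime_dvd_left (Subgroup.orderOf_dvd_natCard W hw)).symm.coprime_dvd_left
          (hk ▸ Subgroup.orderOf_dvd_natCard P (hXP hv)))).eq
    have hwMN : w ∈ M ⊓ N := ⟨hSM (hWS hw), hCXN hwX⟩
    have hcMN : c ∈ M ⊓ N := ⟨hc.1 hcU, hCXN hcX⟩
    set Nσ := Cfsg.sigmaCore N with hNσ
    haveI : Group.IsSolvable Nσ := MinSimple.isSolvable hG (ne_top_of_le_ne_top hN.1 (sigmaCore_le N))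
    have hCc : Subgroup.centralizer ({c} : Set G) ≤ M := by
      have hXc' : Nat.card R = r := hRc
      obtain ⟨-, -, hl⟩ := S1418.result hG M hM U hc r hrτ A ⟨d.le, d.elem, d.card⟩
      have h := (hl R (d.line_mem (Subgroup.zpowers_le.2 hcU) hRc) hRc fun e => ?_).1
      · rwa [hR, Plane.centralizer_zpowers] at h
      · rw [hR, Plane.centralizer_zpowers] at e
        exact hz1 (Subgroup.mem_bot.1 (e.le ⟨hzS, Subgroup.mem_centralizer_singleton_iff.2 (hCz c hcC).symm.eq⟩))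
    have hNY : Nσ ≤ Subgroup.centralizer (Y : Set G) := by
      refine Tau3.le_centralizer_of_fixed_all (K := Nσ) hG.1 (q := q) (r := r) (fun e => hrτ.2.1 (e ▸
        mem_sigma_of_dvd hwo (Subgroup.orderOf_dvd_natCard S (hWS hw)))) hRc (line_pgroup hYc) hRY hYR
        ((Subgroup.zpowers_le.2 hcMN.2).trans (le_normalizer_sigmaCore N))
        ((Subgroup.zpowers_le.2 hwMN.2).trans (le_normalizer_sigmaCore N))
        (fun h => not_dvd_complement hG hN hcompl hwo (Subgroup.orderOf_dvd_natCard _ hwMN) (mem_sigma_of_dvd hwo h))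
        (fun h => not_dvd_complement hG hN hcompl hr (hco ▸ Subgroup.orderOf_dvd_natCard _ hcMN) (mem_sigma_of_dvd hr h))
        (orderOf_dvd_natCard w) ?_
      rintro v ⟨hv, hvc⟩
      rw [hR, Plane.centralizer_zpowers] at hvc
      rw [Subgroup.mem_bot.1 (hbot.le ⟨hv, hCc hvc⟩)]
      exact one_mem _
    have hYne : Y ≠ ⊥ := line_ne_bot hYc
    have hNM : Nσ ≤ M := hNY.trans ((Subgroup.centralizer_le_normalizer _).trans
      (FTI.normalizer_of_normal hG hM (Subgroup.zpowers_le.2 hwMN.1) hYne hYn).le)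
    exact Kappa.sigmaCore_ne_bot hG hN (le_bot_iff.1 ((le_inf le_rfl hNM).trans hbot.le))
  -- now `c` centralizes `M_σ`
  have hcS : ∀ h ∈ S, h * c = c * h := fun h hh => by
    obtain ⟨a, ha, w, hw, rfl⟩ := (SolvBasic.mem_sup_iff_of_le_normalizer ((hWS.trans hSM).trans hPn)).1 (hPW.ge hh)
    exact (((hOP c hcC.1 a ha).mul_right (hcW w hw)).symm).eq
  refine Central.central_false hG hM hc hκ hzS hz1 ?_ hrτ (fun h => h Sr d.comm) hcU hco hcS
  obtain ⟨z', hz'⟩ := (isCyclic_of_prime_card hOxc).exists_generator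
  refine Subgroup.commutator_le.2 fun g hg h hh => ?_
  have hconj : ∀ m ∈ U, ∃ i : ℤ, m * (z' : G) * m⁻¹ = (z' : G) ^ i := fun m hm => by
    obtain ⟨i, hi⟩ := Subgroup.mem_zpowers_iff.1 (hz' ⟨_, (Subgroup.mem_normalizer_iff.1 (hOxn (hc.1 hm)) _).1 z'.2⟩)
    exact ⟨i, by simpa using (congrArg Subtype.val hi).symm⟩
  obtain ⟨a, ha⟩ := hconj g hg
  obtain ⟨b, hb⟩ := hconj h hh
  have e1 : g * h * z' * (g * h)⁻¹ = h * g * z' * (h * g)⁻¹ := by
    rw [show g * h * (z' : G) * (g * h)⁻¹ = g * (h * z' * h⁻¹) * g⁻¹ by group,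
      show h * g * (z' : G) * (h * g)⁻¹ = h * (g * z' * g⁻¹) * h⁻¹ by group, hb, ← conj_zpow, ha,
      ← zpow_mul, ← conj_zpow, hb, ← zpow_mul, mul_comm]
  obtain ⟨m, hm⟩ := hconj _ (U.inv_mem (U.mul_mem hh hg))
  have e4 : (g * h) * (z' : G) ^ m * (g * h)⁻¹ = (h * g) * (z' : G) ^ m * (h * g)⁻¹ := by
    rw [← conj_zpow, ← conj_zpow, e1]
  rw [← hm] at e4
  have e5 : ⁅g, h⁆ * (z' : G) * ⁅g, h⁆⁻¹ = z' := by
    calc ⁅g, h⁆ * (z' : G) * ⁅g, h⁆⁻¹ = (g * h) * ((h * g)⁻¹ * z' * ((h * g)⁻¹)⁻¹) * (g * h)⁻¹ := by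
          simp only [commutatorElement_def]; group
      _ = (h * g) * ((h * g)⁻¹ * z' * ((h * g)⁻¹)⁻¹) * (h * g)⁻¹ := e4
      _ = z' := by group
  obtain ⟨i, hi⟩ := Subgroup.mem_zpowers_iff.1 (hz' ⟨z, hz⟩)
  refine Subgroup.mem_centralizer_singleton_iff.2 ?_
  rw [show z = (z' : G) ^ i from by simpa using (congrArg Subtype.val hi).symm]
  exact ((show Commute ⁅g, h⁆ (z' : G) from mul_inv_eq_iff_eq_mul.1 e5).zpow_right i).eq

/-- BG 16.1: `K = 1` and `U ≠ 1` give type I. -/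
theorem typeI (hU : U ≠ ⊥) : Cfsg.IsOfTypeI M := by
  have hκ := kappa_eq hG hM hKU
  have hnil := PSupp.nilpotent_of_kappa_empty hG hM hκ
  refine ⟨typeF hG hM hKU hU, ?_⟩
  by_cases hTI : Cfsg.IsTISubset (Cfsg.fittingHallOf M : Set G)
  · exact Or.inl hTI
  obtain ⟨x, hx, hx1, hxM⟩ := NTI.of_not_ti hG hM hnil hTI
  have he := Support.fittingHall_eq hG hM hnil
  rcases NTI.cases hG hM hnil hx hx1 hxM with ⟨hc, h2, h1, -⟩ | ⟨p, n⟩
  · exact Or.inr (Or.inl ⟨he.symm ▸ hc, he.symm ▸ h2, he.symm ▸ h1⟩)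
  · exact Or.inr (Or.inr ⟨fun q hq hd => NTI.exponent_dvd hG hM hnil hKU rfl n hq hd,
      p, n.prime, he.symm ▸ n.dvd, isCyclic_pPrimeCore hG hM hKU hx hx1 hxM n⟩)

end Cfsg.Agent.OddOrder.TypeOne
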