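/-
The sets `A₁(M) ⊆ A(M) ⊆ A₀(M)` of a maximal subgroup (BG section 16).
-/
import Cfsg.Agent.Lib.OddOrder.DadeTau
import Cfsg.Agent.Lib.OddOrder.TypeOne

set_option autoImplicit false
set_option linter.style.haveILetI false
set_option linter.unusedSectionVars false

namespace Cfsg.Agent.OddOrder.TypeA

open scoped commutatorElement IsMulCommutative Pointwise
open Exceptional TauOne Kappa Support

universe u

variable {G : Type u} [Group G] [Finite G] {M K U : Subgroup G}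

omit [Finite G] in
theorem compl_swap {A B X : Subgroup G} (h : Cfsg.IsComplIn A B X) : Cfsg.IsComplIn B A X :=
  ⟨h.2.1, h.1, (inf_comm B A).trans h.2.2.1, fun m hm => by
    obtain ⟨a, ha, b, hb, e⟩ := h.2.2.2 m⁻¹ (X.inv_mem hm)
    exact ⟨b⁻¹, B.inv_mem hb, a⁻¹, A.inv_mem ha, by rw [← mul_inv_rev, ← e, inv_inv]⟩⟩

/-- The set `Ẑ` of `Z = K K*` outside both factors. -/
def outerSet (M K : Subgroup G) : Set G :=
  (↑(K ⊔ (Cfsg.sigmaCore M ⊓ Subgroup.centralizer (K : Set G))) : Set G) \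
    ((K : Set G) ∪ ↑(Cfsg.sigmaCore M ⊓ Subgroup.centralizer (K : Set G)))

/-- The `M`-conjugates of `outerSet M K`. -/
def outerConj (M K : Subgroup G) : Set G := {v | ∃ m ∈ M, ∃ w ∈ outerSet M K, v = m * w * m⁻¹}

theorem outerSet_ne_one {w : G} (hw : w ∈ outerSet M K) : w ≠ 1 := fun e => hw.2 (Or.inl (e ▸ one_mem K))

variable (hG : Cfsg.IsMinSimpleOddOrder G) (hM : IsCoatom M)
include hG hM

theorem typeI_iff : Cfsg.IsOfTypeI M ↔ Cfsg.kappa M = ∅ := by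
  refine ⟨Types.typeI_kappa hG hM, fun hκ => ?_⟩
  obtain ⟨K, U, hKU⟩ := FStruct.exists_decomp hG hM
  have hK : K = ⊥ := by
    by_contra hK
    exact (Types.kappa_nonempty hKU hK).ne_empty hκ
  subst hK
  refine TypeOne.typeI hG hM hKU fun hU => ?_
  obtain ⟨-, -, hSd, hlt, -⟩ := S1355.result hG M hM
  refine hlt.not_ge fun m hm => hSd ?_
  obtain ⟨u, hu, w, hw, rfl⟩ := hKU.compl.2.2.2 m hm
  rw [hU, Subgroup.mem_bot] at hu
  rw [bot_sup_eq] at hw
  rwa [hu, one_mul]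

/-- Unfolding of `A(M)`. -/
theorem typeA_mem {a : G} (ha : a ∈ Cfsg.typeA M) :
    a ∈ M ∧ a ≠ 1 ∧ (∃ x ∈ Cfsg.sigmaCore M, x ≠ 1 ∧ a * x = x * a) ∧
      (¬ Cfsg.IsOfTypeI M → a ∈ ⁅M, M⁆) := by
  by_cases hI : Cfsg.IsOfTypeI M
  · rw [Cfsg.typeA, if_pos hI, (Types.decomp_of_kappa_empty hG hM ((typeI_iff hG hM).1 hI)).1] at ha
    exact ⟨ha.1, ha.2.1, ha.2.2, fun h => absurd hI h⟩
  · rw [Cfsg.typeA, if_neg hI, Types.typeCore_eq hG hM] at ha
    exact ⟨(Subgroup.commutator_le.2 fun g hg h hh => M.mul_mem (M.mul_mem (M.mul_mem hg hh) (M.inv_mem hg))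
      (M.inv_mem hh)) ha.1, ha.2.1, ha.2.2, fun _ => ha.1⟩

theorem mem_typeA {a : G} (haM : a ∈ M) (ha1 : a ≠ 1) (hd : ¬ Cfsg.IsOfTypeI M → a ∈ ⁅M, M⁆)
    (hx : ∃ x ∈ Cfsg.sigmaCore M, x ≠ 1 ∧ a * x = x * a) : a ∈ Cfsg.typeA M := by
  by_cases hI : Cfsg.IsOfTypeI M
  · rw [Cfsg.typeA, if_pos hI, (Types.decomp_of_kappa_empty hG hM ((typeI_iff hG hM).1 hI)).1]
    exact ⟨haM, ha1, hx⟩
  · rw [Cfsg.typeA, if_neg hI, Types.typeCore_eq hG hM]
    exact ⟨hd hI, ha1, hx⟩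

theorem typeA1_eq : Cfsg.typeA1 M = (Cfsg.sigmaCore M : Set G) \ {1} := by
  rw [Cfsg.typeA1, Types.typeCore_eq hG hM]

theorem typeA1_sub : Cfsg.typeA1 M ⊆ Cfsg.typeA M := by
  rw [typeA1_eq hG hM]
  rintro a ⟨ha, ha1⟩
  obtain ⟨-, -, hSd, -, -⟩ := S1355.result hG M hM
  exact mem_typeA hG hM (sigmaCore_le M ha) ha1 (fun _ => hSd ha) ⟨a, ha, ha1, rfl⟩

/-- The elements of `A(M)` are `σ(M) ∪ τ₂(M)`-elements of `M̂_σ`. -/
theorem typeA_sub : Cfsg.typeA M ⊆ DadeT.supp M := by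
  intro a ha
  obtain ⟨haM, ha1, ⟨x, hx, hx1, hax⟩, hd⟩ := typeA_mem hG hM ha
  refine ⟨haM, ha1, ⟨x, hx, hx1, hax⟩, fun r hr hra => ?_⟩
  by_contra hno
  rw [Set.mem_union, not_or] at hno
  set y := a ^ (orderOf a / r) with hy
  have hyo : orderOf y = r := orderOf_pow_orderOf_div (orderOf_pos a).ne' hra
  have hy1 : y ≠ 1 := fun e => hr.ne_one (by rw [← hyo, e, orderOf_one])
  have hyC : y ∈ M ⊓ Subgroup.centralizer ({x} : Set G) :=
    ⟨M.pow_mem haM _, Subgroup.mem_centralizer_singleton_iff.2 ((show Commute a x from hax).pow_left _).eq⟩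
  rcases S1432.result hG M hM x hx hx1 y hyC hy1 (fun t ht htd => by
      rw [hyo] at htd
      exact (Nat.prime_dvd_prime_iff_eq ht hr).1 htd ▸ hno.1) with ⟨hk, -⟩ | ⟨hk, -⟩
  · have hrκ := hk r hr hyo.symm.dvd
    obtain ⟨K, U, hKU⟩ := FStruct.exists_decomp hG hM
    have hI : ¬ Cfsg.IsOfTypeI M := fun hI => Set.eq_empty_iff_forall_notMem.1 ((typeI_iff hG hM).1 hI) r hrκ
    have hK1 := Types.K_ne hKU ⟨r, hrκ⟩
    refine hKU.hall.2.2 r hr hrκ ?_
    rw [Compl.relIndex_right (Types.compl_derived hG hM hKU hK1), ← hyo]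
    exact Subgroup.orderOf_dvd_natCard _ (Subgroup.pow_mem _ (hd hI) _)
  · exact hno.2 (hk r hr hyo.symm.dvd)


theorem typeA1_conj {m a : G} (hm : m ∈ M) (ha : a ∈ Cfsg.typeA1 M) : m * a * m⁻¹ ∈ Cfsg.typeA1 M := by
  rw [typeA1_eq hG hM] at ha ⊢
  exact ⟨(Subgroup.mem_normalizer_iff.1 (le_normalizer_sigmaCore M hm) a).1 ha.1, fun e => ha.2 (conj_eq_one_iff.1 e)⟩

theorem typeA_conj {m a : G} (hm : m ∈ M) (ha : a ∈ Cfsg.typeA M) : m * a * m⁻¹ ∈ Cfsg.typeA M := by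
  obtain ⟨haM, ha1, ⟨x, hx, hx1, hax⟩, hd⟩ := typeA_mem hG hM ha
  refine mem_typeA hG hM (M.mul_mem (M.mul_mem hm haM) (M.inv_mem hm)) (fun e => ha1 (conj_eq_one_iff.1 e))
    (fun h => (Subgroup.mem_normalizer_iff.1 (Subgroup.normalizer_commutator_ge_left M M hm) a).1 (hd h))
    ⟨m * x * m⁻¹, (Subgroup.mem_normalizer_iff.1 (le_normalizer_sigmaCore M hm) x).1 hx,
      fun e => hx1 (conj_eq_one_iff.1 e), ?_⟩
  calc m * a * m⁻¹ * (m * x * m⁻¹) = m * (a * x) * m⁻¹ := by group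
    _ = m * (x * a) * m⁻¹ := by rw [hax]
    _ = m * x * m⁻¹ * (m * a * m⁻¹) := by group

theorem typeA0_conj {m a : G} (hm : m ∈ M) (ha : a ∈ Cfsg.typeA0 M) : m * a * m⁻¹ ∈ Cfsg.typeA0 M := by
  rcases ha with ha | ⟨hI, W₁, V, W₂, hP, n, hn, w, hw, h1, h2, rfl⟩
  · exact Or.inl (typeA_conj hG hM hm ha)
  · exact Or.inr ⟨hI, W₁, V, W₂, hP, m * n, M.mul_mem hm hn, w, hw, h1, h2, by group⟩

/-- `W₁W₂` is a conjugate of `K K*` for all choices of the type P data. -/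
theorem typeA0_cases (hKU : Cfsg.IsSigmaDecomposition M K U) {v : G} (hv : v ∈ Cfsg.typeA0 M) :
    v ∈ DadeT.supp M ∨ (K ≠ ⊥ ∧ v ∈ outerConj M K) := by
  rcases hv with hv | ⟨-, W₁, V, W₂, hP, m, hm, w, hw, hw1, hw2, rfl⟩
  · exact Or.inl (typeA_sub hG hM hv)
  have hK1 : K ≠ ⊥ := Types.K_ne hKU (Types.kappa_of_typeP hG hM hP)
  refine Or.inr ⟨hK1, ?_⟩
  haveI := MinSimple.isSolvable hG hM.1
  haveI := hKU.cyclic
  haveI := hP.W₁_cyclic
  have hcd := Types.compl_derived hG hM hKU hK1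
  obtain ⟨b, hb⟩ := (inferInstance : IsCyclic W₁).exists_generator
  have hbc : orderOf (b : G) = Nat.card W₁ := by
    rw [Subgroup.orderOf_coe, orderOf_eq_card_of_forall_mem_zpowers hb]
  have hcards : Nat.card W₁ = Nat.card K := by
    rw [← Compl.relIndex_left hP.W₁_compl, Compl.relIndex_left hcd]
  obtain ⟨c, hc, hck⟩ := Pairing.exists_conj_hall hKU.hall.1 (Types.K_hall hKU) (hP.W₁_compl.2.1 b.2)
    (by rw [hbc, hcards]; exact Types.K_hall hKU)
  have hW₁K : W₁.map (MulAut.conj c).toMonoidHom = K := by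
    refine Subgroup.eq_of_le_of_card_ge ?_ (by
      rw [Subgroup.card_map_of_injective (MulAut.conj c).injective, hcards])
    rintro _ ⟨y, hy, rfl⟩
    obtain ⟨i, hi⟩ := Subgroup.mem_zpowers_iff.1 (hb ⟨y, hy⟩)
    show c * y * c⁻¹ ∈ K
    rw [show y = (b : G) ^ i from by simpa using (congrArg Subtype.val hi).symm, ← conj_zpow]
    exact zpow_mem hck i
  set D := Cfsg.sigmaCore M ⊓ Subgroup.centralizer (K : Set G) with hD
  obtain ⟨W, hPK, -, -⟩ := Types.exists_data hG hM hKU hK1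
  have hb1 : (b : G) ≠ 1 := fun e => hP.W₁_ne (Subgroup.card_eq_one.1 (by rw [← hbc, e, orderOf_one]))
  have hk1 : c * b * c⁻¹ ≠ 1 := fun e => hb1 (conj_eq_one_iff.1 e)
  have hW₂D : W₂.map (MulAut.conj c).toMonoidHom = D := by
    rw [← hP.W₂_centralizer b b.2 hb1, hD, ← hPK.W₂_centralizer _ hck hk1,
      Subgroup.map_inf _ _ _ (MulAut.conj c).injective]
    congr 1
    · rw [Subgroup.map_commutator, map_conj_of_mem hc]
    · ext z
      rw [mem_map_conj, Subgroup.mem_centralizer_singleton_iff, Subgroup.mem_centralizer_singleton_iff]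
      constructor
      · intro h
        calc z * (c * b * c⁻¹) = c * (c⁻¹ * z * c * b) * c⁻¹ := by group
          _ = c * (b * (c⁻¹ * z * c)) * c⁻¹ := by rw [h]
          _ = c * b * c⁻¹ * z := by group
      · intro h
        calc c⁻¹ * z * c * b = c⁻¹ * (z * (c * b * c⁻¹)) * c := by group
          _ = c⁻¹ * (c * b * c⁻¹ * z) * c := by rw [h]
          _ = b * (c⁻¹ * z * c) := by group
  refine ⟨m * c⁻¹, M.mul_mem hm (M.inv_mem hc), c * w * c⁻¹, ⟨?_, ?_⟩, by group⟩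
  · have : (MulAut.conj c).toMonoidHom w ∈ (W₁ ⊔ W₂).map (MulAut.conj c).toMonoidHom :=
      Subgroup.mem_map_of_mem _ hw
    rw [Subgroup.map_sup, hW₁K, hW₂D] at this
    exact this
  · rintro (h | h)
    · obtain ⟨y, hy, e⟩ : c * w * c⁻¹ ∈ W₁.map (MulAut.conj c).toMonoidHom := hW₁K.ge h
      exact hw1 ((MulAut.conj c).injective e ▸ hy)
    · obtain ⟨y, hy, e⟩ : c * w * c⁻¹ ∈ W₂.map (MulAut.conj c).toMonoidHom := hW₂D.ge h
      exact hw2 ((MulAut.conj c).injective e ▸ hy)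

variable (hKU : Cfsg.IsSigmaDecomposition M K U) (hK1 : K ≠ ⊥)
include hKU hK1

theorem outer_not_supp {v : G} (hv : v ∈ outerConj M K) : v ∉ DadeT.supp M := by
  obtain ⟨m, hm, w, ⟨hw, hwn⟩, rfl⟩ := hv
  set D := Cfsg.sigmaCore M ⊓ Subgroup.centralizer (K : Set G) with hD
  have hKD : K ≤ Subgroup.normalizer (D : Set G) :=
    (Subgroup.le_centralizer_iff.1 inf_le_right).trans (Subgroup.centralizer_le_normalizer _)
  obtain ⟨d, hd, k, hk, rfl⟩ :=
    (SolvBasic.mem_sup_iff_of_le_normalizer hKD).1 ((sup_comm K D).le hw)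
  have hk1 : k ≠ 1 := fun e => hwn (Or.inr (by rw [e, mul_one]; exact hd))
  obtain ⟨r, hr, hrd⟩ := Nat.exists_prime_and_dvd fun e => hk1 (orderOf_eq_one_iff.1 e)
  have hrκ : r ∈ Cfsg.kappa M := hKU.hall.2.1 r hr (hrd.trans (Subgroup.orderOf_dvd_natCard K hk))
  haveI := Fact.mk hr
  intro h
  have hdk : Commute d k := (Subgroup.mem_centralizer_iff.1 hd.2 k hk).symm
  have hcop : (orderOf d).Coprime (orderOf k) := Nat.coprime_of_dvd fun t ht h1 h2 =>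
    (hKU.hall.2.1 t ht (h2.trans (Subgroup.orderOf_dvd_natCard K hk))).2.2.1
      (primes_of_mem_sigmaCore hd.1 ht h1)
  have hdiv : r ∣ orderOf (m * (d * k) * m⁻¹) := by
    rw [← MulAut.conj_apply, MulEquiv.orderOf_eq, hdk.orderOf_mul_eq_mul_orderOf_of_coprime hcop]
    exact dvd_mul_of_dvd_right hrd _
  rcases h.2.2.2 r hr hdiv with h' | h'
  · exact hrκ.2.2.1 h'
  · exact h'.2.2.2 (rank_one_of_kappa hrκ)

theorem normalizer_outer : Subgroup.normalizer (outerSet M K) ≤ M := by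
  rw [outerSet, (S1370.result hG M hM K U hKU hK1).2]
  exact sup_le hKU.hall.1 (inf_le_left.trans (sigmaCore_le M))

theorem outer_fusion {v g : G} (hv : v ∈ outerConj M K) (hg : g * v * g⁻¹ ∈ outerConj M K) : g ∈ M := by
  obtain ⟨m, hm, w, hw, rfl⟩ := hv
  obtain ⟨n, hn, w', hw', he⟩ := hg
  have h1 : n⁻¹ * g * m ∈ Subgroup.normalizer (outerSet M K) := by
    by_contra h
    refine outerSet_ne_one hw ((S1370.result hG M hM K U hKU hK1).1 _ h w hw ?_)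
    have e : n⁻¹ * g * m * w * (n⁻¹ * g * m)⁻¹ = w' := by
      calc n⁻¹ * g * m * w * (n⁻¹ * g * m)⁻¹ = n⁻¹ * (g * (m * w * m⁻¹) * g⁻¹) * n := by group
        _ = n⁻¹ * (n * w' * n⁻¹) * n := by rw [he]
        _ = w' := by group
    rw [e]
    exact hw'
  have := M.mul_mem (M.mul_mem hn (normalizer_outer hG hM hKU hK1 h1)) (M.inv_mem hm)
  simpa [mul_assoc] using this

theorem outer_mem {v : G} (hv : v ∈ outerConj M K) :
    v ∈ M ∧ v ≠ 1 ∧ Subgroup.centralizer ({v} : Set G) ≤ M := by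
  obtain ⟨m, hm, w, hw, rfl⟩ := hv
  refine ⟨M.mul_mem (M.mul_mem hm (sup_le hKU.hall.1 (inf_le_left.trans (sigmaCore_le M)) hw.1)) (M.inv_mem hm),
    fun e => outerSet_ne_one hw (conj_eq_one_iff.1 e), fun c hc => ?_⟩
  refine outer_fusion hG hM hKU hK1 (v := m * w * m⁻¹) ⟨m, hm, w, hw, rfl⟩ ?_
  rw [Subgroup.mem_centralizer_singleton_iff.1 hc, mul_inv_cancel_right]
  exact ⟨m, hm, w, hw, rfl⟩

omit hK1
omit hKU

/-- An element with centralizer in `M` has trivial `R`. -/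
theorem supportR_eq_bot {v : G} (h : Subgroup.centralizer ({v} : Set G) ≤ M) : Cfsg.supportR M v = ⊥ := by
  unfold Cfsg.supportR
  rw [dif_neg fun h' => h'.1 h]

theorem supportR_eq_kern {v : G} (hv : v ∈ DadeT.supp M) : Cfsg.supportR M v = DadeT.kern M v := by
  by_cases hσ : v ∈ Cfsg.sigmaCore M
  · exact (DadeT.kern_of_mem hσ).symm
  · rw [DadeT.kern_of_not_mem hσ, supportR_eq_bot hG hM (DadeT.centralizer_le hG hM hv hσ)]

/-- Membership data of `A₀(M)`. -/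
theorem typeA0_facts {v : G} (hv : v ∈ Cfsg.typeA0 M) :
    v ∈ DadeT.supp M ∨ (v ∈ M ∧ v ∉ DadeT.supp M ∧ v ≠ 1 ∧ Subgroup.centralizer ({v} : Set G) ≤ M ∧
      (Cfsg.kappa M).Nonempty) := by
  obtain ⟨K, U, hKU⟩ := FStruct.exists_decomp hG hM
  rcases typeA0_cases hG hM hKU hv with h | ⟨hK1, h⟩
  · exact Or.inl h
  · obtain ⟨h1, h2, h3⟩ := outer_mem hG hM hKU hK1 h
    exact Or.inr ⟨h1, outer_not_supp hG hM hKU hK1 h, h2, h3, Types.kappa_nonempty hKU hK1⟩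

theorem typeA0_ne_one {v : G} (hv : v ∈ Cfsg.typeA0 M) : v ∈ M ∧ v ≠ 1 := by
  rcases typeA0_facts hG hM hv with h | h
  exacts [⟨h.1, h.2.1⟩, ⟨h.1, h.2.2.1⟩]

theorem supp_conj_iff {v g : G} (hv : v ∈ DadeT.supp M) (hg : g * v * g⁻¹ ∈ Cfsg.typeA0 M) :
    g * v * g⁻¹ ∈ DadeT.supp M := by
  obtain ⟨K, U, hKU⟩ := FStruct.exists_decomp hG hM
  rcases typeA0_cases hG hM hKU hg with h | ⟨hK1, hout⟩
  · exact h
  exfalso
  obtain ⟨m, hm, w, ⟨hw, hwn⟩, he⟩ := hout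
  set D := Cfsg.sigmaCore M ⊓ Subgroup.centralizer (K : Set G) with hD
  have hKD : K ≤ Subgroup.normalizer (D : Set G) :=
    (Subgroup.le_centralizer_iff.1 inf_le_right).trans (Subgroup.centralizer_le_normalizer _)
  obtain ⟨d, hd, k, hk, rfl⟩ :=
    (SolvBasic.mem_sup_iff_of_le_normalizer hKD).1 ((sup_comm K D).le hw)
  have hk1 : k ≠ 1 := fun e => hwn (Or.inr (by rw [e, mul_one]; exact hd))
  obtain ⟨r, hr, hrd⟩ := Nat.exists_prime_and_dvd fun e => hk1 (orderOf_eq_one_iff.1 e)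
  have hrκ : r ∈ Cfsg.kappa M := hKU.hall.2.1 r hr (hrd.trans (Subgroup.orderOf_dvd_natCard K hk))
  haveI := Fact.mk hr
  have hdk : Commute d k := (Subgroup.mem_centralizer_iff.1 hd.2 k hk).symm
  have hcop : (orderOf d).Coprime (orderOf k) := Nat.coprime_of_dvd fun t ht h1 h2 =>
    (hKU.hall.2.1 t ht (h2.trans (Subgroup.orderOf_dvd_natCard K hk))).2.2.1
      (primes_of_mem_sigmaCore hd.1 ht h1)
  have hdiv : r ∣ orderOf v := by
    rw [← MulEquiv.orderOf_eq (MulAut.conj g) v, MulAut.conj_apply, he, ← MulAut.conj_apply, MulEquiv.orderOf_eq,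
      hdk.orderOf_mul_eq_mul_orderOf_of_coprime hcop]
    exact dvd_mul_of_dvd_right hrd _
  rcases hv.2.2.2 r hr hdiv with h' | h'
  · exact hrκ.2.2.1 h'
  · exact h'.2.2.2 (rank_one_of_kappa hrκ)

/-- Conjugate members of `A₀(M)` are conjugate in `M`. -/
theorem fusion {v g : G} (hv : v ∈ Cfsg.typeA0 M) (hg : g * v * g⁻¹ ∈ Cfsg.typeA0 M) :
    ∃ m ∈ M, m * v * m⁻¹ = g * v * g⁻¹ := by
  obtain ⟨K, U, hKU⟩ := FStruct.exists_decomp hG hM
  rcases typeA0_cases hG hM hKU hv with hs | ⟨hK1, hout⟩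
  · exact DadeT.fusion hG hM hs (supp_conj_iff hG hM hs hg)
  · refine ⟨g, ?_, rfl⟩
    rcases typeA0_cases hG hM hKU hg with hs' | ⟨-, hout'⟩
    · refine absurd ?_ (outer_not_supp hG hM hKU hK1 hout)
      have h := supp_conj_iff hG hM (g := g⁻¹) hs' (by simpa [mul_assoc] using hv)
      simpa [mul_assoc] using h
    · exact outer_fusion hG hM hKU hK1 hout hout'

/-- A member with large centralizer lies in `A₁(M)`. -/
theorem mem_sigma_of_large {v : G} (hv : v ∈ Cfsg.typeA0 M) (hno : ¬ Subgroup.centralizer ({v} : Set G) ≤ M) :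
    v ∈ Cfsg.sigmaCore M ∧ v ≠ 1 := by
  rcases typeA0_facts hG hM hv with h | h
  · refine ⟨?_, h.2.1⟩
    by_contra hσ
    exact hno (DadeT.centralizer_le hG hM h hσ)
  · exact absurd h.2.2.2.1 hno

/-- `C_M(b)` is prime to the supporting kernel. -/
theorem coprime_cent {x : G} (hx : x ∈ Cfsg.sigmaCore M) (hx1 : x ≠ 1)
    (hno : ¬ Subgroup.centralizer ({x} : Set G) ≤ M) {N : Subgroup G} (hN : IsCoatom N)
    (hC : Subgroup.centralizer ({x} : Set G) ≤ N) {b : G} (hb : b ∈ Cfsg.typeA0 M) :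
    (Nat.card (Cfsg.sigmaCore N)).Coprime (Nat.card (M ⊓ Subgroup.centralizer ({b} : Set G) : Subgroup G)) := by
  rcases supportR_cases hG hM hx hx1 with ⟨hle, -⟩ | ⟨L, -, -, -, hu, hdis, -, -⟩
  · exact absurd hle hno
  obtain rfl := hu N hN hC
  refine Nat.coprime_of_dvd fun r hr h1 h2 => ?_
  have hrN : r ∈ Cfsg.sigma N := mem_sigma_of_dvd hr h1
  obtain ⟨hκ, hτ⟩ := (S1436.result hG M hM x hx hx1 hno N hN hC).1
    ⟨r, hrN, h2.trans (Subgroup.card_dvd_of_le inf_le_left)⟩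
  rcases typeA0_facts hG hM hb with hbs | hbs
  swap
  · exact hbs.2.2.2.2.ne_empty hκ
  have hbσ : b ∈ Cfsg.sigmaCore M := by
    by_contra hbσ
    obtain ⟨-, -, -, -, -, -, hne⟩ := DadeT.exists_part hG hM hbs hbσ
    exact hne.ne_empty hτ
  haveI := Fact.mk hr
  obtain ⟨⟨e, he'⟩, hor⟩ := exists_prime_orderOf_dvd_card' r h2
  rw [Subgroup.orderOf_mk] at hor
  rcases S1432.result hG M hM b hbσ hbs.2.1 e he' (fun e1 => hr.ne_one (by rw [← hor, e1, orderOf_one]))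
    (fun t ht hd hσt => hdis t hσt (by rwa [(Nat.prime_dvd_prime_iff_eq ht hr).1 (hor ▸ hd)])) with
    ⟨hk, -⟩ | ⟨hk, -⟩
  · exact (hκ.le (hk r hr hor.symm.dvd)).elim
  · exact (hτ.le (hk r hr hor.symm.dvd)).elim

/-- The Dade hypothesis. -/
theorem hypothesis (A : Set G) (hA : A ⊆ Cfsg.typeA0 M) (hconj : ∀ y ∈ M, ∀ a ∈ A, y * a * y⁻¹ ∈ A) :
    Cfsg.DadeHypothesis A M (Cfsg.supportR M) := by
  have H := DadeT.hypothesis hG hM (A ∩ DadeT.supp M) Set.inter_subset_right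
    fun y hy a ha => ⟨hconj y hy a ha.1, DadeT.supp_conj hy ha.2⟩
  have key : ∀ a ∈ A, (a ∈ DadeT.supp M ∧ Cfsg.supportR M a = DadeT.kern M a) ∨
      (Cfsg.supportR M a = ⊥ ∧ Subgroup.centralizer ({a} : Set G) ≤ M) := fun a ha => by
    rcases typeA0_facts hG hM (hA ha) with h | h
    exacts [Or.inl ⟨h, supportR_eq_kern hG hM h⟩, Or.inr ⟨supportR_eq_bot hG hM h.2.2.2.1, h.2.2.2.1⟩]
  refine
    { one_not_mem := fun h => (typeA0_ne_one hG hM (hA h)).2 rfl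
      subset := fun a ha => (typeA0_ne_one hG hM (hA ha)).1
      conj_mem := hconj
      fusion := fun a ha g hg => fusion hG hM (hA ha) (hA hg)
      le_centralizer := fun a ha => ?_
      conj_mem_H := fun a ha => ?_
      inf_eq_bot := fun a ha => ?_
      sup_eq := fun a ha => ?_
      coprime := fun a ha b hb => ?_ }
  · rcases key a ha with ⟨hs, he⟩ | ⟨he, -⟩ <;> rw [he]
    exacts [H.le_centralizer a ⟨ha, hs⟩, bot_le]
  · rcases key a ha with ⟨hs, he⟩ | ⟨he, -⟩ <;> rw [he]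
    · exact H.conj_mem_H a ⟨ha, hs⟩
    · intro c _ u hu
      rw [Subgroup.mem_bot.1 hu, mul_one, mul_inv_cancel]
      exact one_mem _
  · rcases key a ha with ⟨hs, he⟩ | ⟨he, -⟩ <;> rw [he]
    exacts [H.inf_eq_bot a ⟨ha, hs⟩, bot_inf_eq _]
  · rcases key a ha with ⟨hs, he⟩ | ⟨he, hle⟩ <;> rw [he]
    · exact H.sup_eq a ⟨ha, hs⟩
    · rw [bot_sup_eq, inf_eq_right.2 hle]
  · rcases key a ha with ⟨hs, he⟩ | ⟨he, -⟩ <;> rw [he]
    · rcases DadeT.kern_cases hG hM hs with ⟨hk, -⟩ | ⟨N, hN, hσ, hno, hC, -, -, -, hk⟩ <;> rw [hk]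
      · rw [Subgroup.card_bot]
        exact Nat.coprime_one_left _
      · exact (coprime_cent hG hM hσ hs.2.1 hno hN hC (hA hb)).coprime_dvd_left (Subgroup.card_dvd_of_le inf_le_left)
    · rw [Subgroup.card_bot]
      exact Nat.coprime_one_left _

/-- An invariant set of non-identity elements of `M` has normalizer `M`. -/
theorem normalizer_eq (A : Set G) (hne : A.Nonempty) (hA : A ⊆ Cfsg.typeA0 M)
    (hconj : ∀ y ∈ M, ∀ a ∈ A, y * a * y⁻¹ ∈ A) : Subgroup.normalizer A = M := by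
  have hle : M ≤ Subgroup.normalizer A := fun y hy => Subgroup.mem_set_normalizer_iff.2 fun h =>
    ⟨fun hh => hconj y hy h hh, fun hh => by
      have := hconj y⁻¹ (M.inv_mem hy) _ hh
      simpa [mul_assoc] using this⟩
  refine ((hM.le_iff.1 hle).resolve_left fun htop => ?_)
  obtain ⟨a, ha⟩ := hne
  set R := Subgroup.closure A with hR
  have hRM : R ≤ M := (Subgroup.closure_le M).2 fun z hz => (typeA0_ne_one hG hM (hA hz)).1
  have hR1 : R ≠ ⊥ := fun e => (typeA0_ne_one hG hM (hA ha)).2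
    (Subgroup.mem_bot.1 (e.le (Subgroup.subset_closure ha)))
  refine MinSimple.normalizer_ne_top hG hR1 (ne_top_of_le_ne_top hM.1 hRM) (top_le_iff.1 fun g _ => ?_)
  refine ComplAbelian.mem_normalizer_of_map_le fun z hz => ?_
  have hz' : (MulAut.conj g).toMonoidHom z ∈ R.map (MulAut.conj g).toMonoidHom := Subgroup.mem_map_of_mem _ hz
  rw [hR, MonoidHom.map_closure] at hz'
  refine Subgroup.closure_mono ?_ hz'
  rintro _ ⟨y, hy, rfl⟩
  exact (Subgroup.mem_set_normalizer_iff.1 (htop.ge (Subgroup.mem_top g)) y).1 hy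

theorem typeA1_nonempty : (Cfsg.typeA1 M).Nonempty := by
  obtain ⟨x, hx, hx1⟩ := (Subgroup.bot_or_exists_ne_one _).resolve_left (Kappa.sigmaCore_ne_bot hG hM)
  rw [typeA1_eq hG hM]
  exact ⟨x, hx, hx1⟩

end Cfsg.Agent.OddOrder.TypeA
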