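import Cfsg.Agent.Lib.OddOrder.AppendixC
import Mathlib.GroupTheory.OrderOfElement
import Mathlib.GroupTheory.Index
import Mathlib.Algebra.Group.Subgroup.Finite
import Mathlib.Data.ZMod.Units
import Mathlib.Tactic.Group

/-!
The configuration of the last step of the odd order theorem forces `p ≤ q`.

Two facts carry the proof: only the prime field part of `P` normalizes the subgroup `M` spanned by
the conjugates of `[y, s]`, and no two differences of lattice points coincide.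
-/

set_option autoImplicit false

open Finset Polynomial

namespace Cfsg.Agent.OddOrder.AppC

/-- The configuration. -/
structure Conf (G F : Type*) [Group G] [Field F] (p q : ℕ) where
  x : F → G
  x_add : ∀ a b, x (a + b) = x a * x b
  x_inj : Function.Injective x
  U : Subgroup G
  Q : Subgroup G
  ψ : G → F
  ψ_mul : ∀ u ∈ U, ∀ v ∈ U, ψ (u * v) = ψ u * ψ v
  ψ_inj : Set.InjOn ψ U
  ψ_nrm : ∀ u ∈ U, nrm p q (ψ u) = 1
  ψ_surj : ∀ e, nrm p q e = 1 → ∃ u ∈ U, ψ u = e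
  conj_x : ∀ u ∈ U, ∀ r, u * x r * u⁻¹ = x (ψ u * r)
  card_U : Nat.card U = ∑ i ∈ Finset.range q, p ^ i
  q_comm : ∀ a ∈ Q, ∀ b ∈ Q, a * b = b * a
  q_coprime : (Nat.card Q).Coprime p
  s_normQ : ∀ n : ℤ, x (n : F) ∈ Subgroup.normalizer (Q : Set G)
  y : G
  y_mem : y ∈ Q
  t_normU : ∀ n : ℤ, y * x (n : F) * y⁻¹ ∈ Subgroup.normalizer (U : Set G)

variable {G F : Type*} [Group G] [Field F] {p q : ℕ} [hp : Fact p.Prime] [CharP F p]

theorem eq_intCast_of_pow_eq {w : F} (hw : w ^ p = w) : ∃ n : ℤ, w = n := by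
  classical
  set R := (Finset.range p).image fun k : ℕ => (k : F)
  have hR : R.card = p := by
    rw [Finset.card_image_of_injOn, Finset.card_range]
    intro i hi j hj hij
    exact CharP.natCast_injOn_Iio F p (by simpa using hi) (by simpa using hj) hij
  have hsub : R ⊆ (X ^ p - X : F[X]).roots.toFinset := fun a ha => by
    obtain ⟨k, -, rfl⟩ := Finset.mem_image.1 ha
    rw [Multiset.mem_toFinset, mem_roots (FiniteField.X_pow_card_sub_X_ne_zero F hp.out.one_lt)]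
    simp [natCast_pow_char]
  have heq := Finset.eq_of_subset_of_card_le hsub (by
    rw [hR]
    refine (Multiset.toFinset_card_le _).trans ((card_roots' _).trans ?_)
    rw [FiniteField.X_pow_card_sub_X_natDegree_eq F hp.out.one_lt])
  have hwR : w ∈ R := by
    rw [heq, Multiset.mem_toFinset, mem_roots (FiniteField.X_pow_card_sub_X_ne_zero F hp.out.one_lt)]
    simp [hw]
  obtain ⟨k, -, hk⟩ := Finset.mem_image.1 hwR
  exact ⟨k, by rw [Int.cast_natCast, hk]⟩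

theorem nrm_ne_zero {e : F} (hq : 0 < q) (he : nrm p q e = 1) : e ≠ 0 := by
  rintro rfl
  rw [nrm, Finset.prod_eq_zero (Finset.mem_range.2 hq) (by simp [hp.out.ne_zero])] at he
  exact zero_ne_one he

/-- A progression of norm one elements is constant. -/
theorem progression_const (hqp : q < p) (hq : 0 < q) {e δ : F}
    (h : ∀ k : ℕ, nrm p q (e + k * δ) = 1) : δ = 0 := by
  classical
  by_contra hδ
  have he : e ≠ 0 := nrm_ne_zero hq (by simpa using h 0)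
  have he1 : nrm p q e = 1 := by simpa using h 0
  set b := δ / e with hb
  have hb0 : b ≠ 0 := div_ne_zero hδ he
  have hlin : ∀ k : ℕ, nrm p q (1 + k * b) = 1 := fun k => by
    have hk := h k
    rw [show e + k * δ = e * (1 + k * b) by rw [hb]; field_simp, nrm_mul, he1, one_mul] at hk
    exact hk
  let g : F[X] := ∏ i ∈ Finset.range q, (1 + X * C (b ^ p ^ i))
  have hdeg : g.natDegree ≤ q := by
    refine (natDegree_prod_le _ _).trans ?_
    calc ∑ i ∈ Finset.range q, (1 + X * C (b ^ p ^ i)).natDegree ≤ ∑ i ∈ Finset.range q, 1 := by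
          refine Finset.sum_le_sum fun i _ => ?_
          refine (natDegree_add_le _ _).trans ?_
          simp only [natDegree_one, Nat.zero_le, max_le_iff, true_and]
          exact natDegree_mul_le.trans (by simp)
      _ = q := by simp
  have hg1 : g - 1 ≠ 0 := by
    intro h
    have hg : g = 1 := sub_eq_zero.mp h
    have hev : g.eval (-(b⁻¹)) = 0 := by
      rw [eval_prod]
      exact Finset.prod_eq_zero (Finset.mem_range.mpr hq) (by simp [hb0])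
    simp [hg] at hev
  have hsub : ((Finset.range p).image fun k : ℕ => (k : F)) ⊆ (g - 1).roots.toFinset := by
    intro a ha
    obtain ⟨k, _, rfl⟩ := Finset.mem_image.mp ha
    rw [Multiset.mem_toFinset, mem_roots hg1, IsRoot.def, eval_sub, eval_one, eval_prod]
    have h := hlin k
    rw [nrm_linear] at h
    simp [h]
  have hcard : ((Finset.range p).image fun k : ℕ => (k : F)).card = p := by
    rw [Finset.card_image_of_injOn, Finset.card_range]
    intro i hi j hj hij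
    exact CharP.natCast_injOn_Iio F p (by simpa using hi) (by simpa using hj) hij
  have hle : p ≤ q := by
    calc p = _ := hcard.symm
      _ ≤ (g - 1).roots.toFinset.card := Finset.card_le_card hsub
      _ ≤ Multiset.card (g - 1).roots := Multiset.toFinset_card_le _
      _ ≤ (g - 1).natDegree := card_roots' _
      _ ≤ q := (natDegree_sub_le _ _).trans (by simp [hdeg])
  omega

/-- Every nonzero element is a prime field element times one of norm one. -/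
theorem exists_decomp [Fintype F] (hq : 0 < q) (hF : Fintype.card F = p ^ q)
    (hA : Nat.Coprime ((p ^ q - 1) / (p - 1)) (p - 1)) {r : F} (hr : r ≠ 0) :
    ∃ (k : ℤ) (e : F), (k : F) ≠ 0 ∧ nrm p q e = 1 ∧ r = k * e := by
  set A := ∑ i ∈ Finset.range q, p ^ i with hAdef
  have hAp : A * (p - 1) = p ^ q - 1 := by
    rw [hAdef, Nat.geomSum_eq hp.out.two_le, Nat.div_mul_cancel]
    simpa using Nat.sub_dvd_pow_sub_pow p 1 q
  have hw1 : (r ^ A) ^ p = r ^ A := by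
    conv_lhs => rw [show p = (p - 1) + 1 from (Nat.sub_add_cancel hp.out.one_le).symm]
    rw [pow_succ, ← pow_mul, hAp, ← hF, FiniteField.pow_card_sub_one_eq_one r hr, one_mul]
  obtain ⟨n, hn⟩ := eq_intCast_of_pow_eq hw1
  set φ : ZMod p →+* F := ZMod.castHom (dvd_refl p) F with hφ
  have hn0 : (n : ZMod p) ≠ 0 := by
    intro h
    have : φ (n : ZMod p) = 0 := by rw [h, map_zero]
    rw [map_intCast, ← hn] at this
    exact pow_ne_zero _ hr this
  have hcop : (Nat.card (ZMod p)ˣ).Coprime A := by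
    rw [Nat.card_eq_fintype_card, ZMod.card_units p, hAdef, Nat.geomSum_eq hp.out.two_le]
    exact hA.symm
  obtain ⟨κ, hκ⟩ := (powCoprime hcop).surjective (Units.mk0 _ hn0)
  have hkA : φ (κ : ZMod p) ^ A = (n : F) := by
    have := congrArg (fun a : (ZMod p)ˣ => φ (a : ZMod p)) hκ
    simp only [powCoprime_apply, Units.val_pow_eq_pow_val, Units.val_mk0, map_pow, map_intCast] at this
    exact this
  have hk : (((κ : ZMod p).val : ℤ) : F) = φ (κ : ZMod p) := by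
    rw [Int.cast_natCast, ZMod.natCast_val, hφ, ZMod.castHom_apply]
  set k : F := φ (κ : ZMod p) with hkdef
  have hk0 : k ≠ 0 := fun h => by
    rw [h, zero_pow (Finset.sum_pos (fun i _ => pow_pos hp.out.pos i)
      (Finset.nonempty_range_iff.2 hq.ne')).ne'] at hkA
    rw [← hkA] at hn
    exact pow_ne_zero _ hr hn
  refine ⟨((κ : ZMod p).val : ℤ), r / k, by rwa [hk], ?_, by rw [hk]; field_simp⟩
  rw [nrm_eq_pow, div_pow, hkA, ← hn, div_self (pow_ne_zero _ hr)]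

namespace Conf

variable (C : Conf G F p q)

/-- The prime field part of `P`. -/
def S (n : ℤ) : G := C.x (n : F)

/-- Its conjugate by `y`. -/
def T (n : ℤ) : G := C.y * C.S n * C.y⁻¹

/-- Conjugates of `y`. -/
def Y (n : ℤ) : G := C.S n * C.y * (C.S n)⁻¹

/-- The translations. -/
def z (n : ℤ) : G := C.Y 0 * (C.Y n)⁻¹

/-- The conjugates of `P`. -/
def xi (l : ℤ) (r : F) : G := C.T l * C.x r * (C.T l)⁻¹

/-- The twisted scalars. -/
def E (l : ℤ) (u : G) : F := C.ψ ((C.T l)⁻¹ * u * C.T l)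

/-- The subgroup spanned by the steps. -/
def M : Subgroup G := Subgroup.closure (Set.range fun n : ℤ => C.Y n * (C.Y (n + 1))⁻¹)

/-- `Q` as an abelian group. -/
@[reducible] def qComm : CommGroup C.Q :=
  { (inferInstance : Group C.Q) with mul_comm := fun a b => Subtype.ext (C.q_comm _ a.2 _ b.2) }

theorem x_zero : C.x 0 = 1 := by
  have h := C.x_add 0 0
  rw [add_zero] at h
  exact left_eq_mul.1 h

theorem x_neg (a : F) : C.x (-a) = (C.x a)⁻¹ := by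
  refine eq_inv_of_mul_eq_one_left ?_
  rw [← C.x_add, neg_add_cancel, C.x_zero]

theorem x_comm (a b : F) : C.x a * C.x b = C.x b * C.x a := by
  rw [← C.x_add, ← C.x_add, add_comm]

theorem x_pow (a : F) (n : ℕ) : C.x a ^ n = C.x (n * a) := by
  induction n with
  | zero => rw [pow_zero, Nat.cast_zero, zero_mul, C.x_zero]
  | succ n ih => rw [pow_succ, ih, ← C.x_add, Nat.cast_succ, add_mul, one_mul]

theorem S_add (m n : ℤ) : C.S (m + n) = C.S m * C.S n := by rw [S, S, S, Int.cast_add, C.x_add]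

theorem S_zero : C.S 0 = 1 := by rw [S, Int.cast_zero, C.x_zero]

theorem S_neg (n : ℤ) : C.S (-n) = (C.S n)⁻¹ := by rw [S, S, Int.cast_neg, C.x_neg]

theorem Y_zero : C.Y 0 = C.y := by rw [Y, S_zero, one_mul, inv_one, mul_one]

theorem conj_Y (m n : ℤ) : C.S m * C.Y n * (C.S m)⁻¹ = C.Y (m + n) := by
  rw [Y, Y, S_add]; group

theorem Y_mem (n : ℤ) : C.Y n ∈ C.Q :=
  (Subgroup.mem_normalizer_iff.1 (C.s_normQ n) C.y).1 C.y_mem

theorem z_eq (n : ℤ) : C.z n = C.T n * (C.S n)⁻¹ := by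
  rw [z, Y_zero, Y, T]; group

theorem T_eq (n : ℤ) : C.T n = C.z n * C.S n := by rw [z_eq]; group

theorem T_add (m n : ℤ) : C.T (m + n) = C.T m * C.T n := by rw [T, T, T, S_add]; group

theorem T_zero : C.T 0 = 1 := by rw [T, S_zero]; group

theorem T_neg (n : ℤ) : C.T (-n) = (C.T n)⁻¹ := by rw [T, T, S_neg]; group

theorem T_mem (n : ℤ) : C.T n ∈ Subgroup.normalizer (C.U : Set G) := C.t_normU n

theorem xi_eq (l : ℤ) (r : F) : C.xi l r = C.z l * C.x r * (C.z l)⁻¹ := by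
  have h : C.S l * C.x r = C.x r * C.S l := C.x_comm _ _
  calc C.xi l r = C.z l * (C.S l * C.x r) * (C.S l)⁻¹ * (C.z l)⁻¹ := by rw [xi, T_eq]; group
    _ = C.z l * (C.x r * C.S l) * (C.S l)⁻¹ * (C.z l)⁻¹ := by rw [h]
    _ = _ := by group

theorem xi_zero (r : F) : C.xi 0 r = C.x r := by rw [xi, T_zero]; group

theorem xi_add (l : ℤ) (a b : F) : C.xi l (a + b) = C.xi l a * C.xi l b := by
  rw [xi, xi, xi, C.x_add]; group

theorem shift_xi (m l : ℤ) (r : F) : C.T m * C.xi l r * (C.T m)⁻¹ = C.xi (m + l) r := by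
  rw [xi, xi, T_add]; group

theorem twist_mem {u : G} (hu : u ∈ C.U) (l : ℤ) : (C.T l)⁻¹ * u * C.T l ∈ C.U :=
  (Subgroup.mem_normalizer_iff''.1 (C.T_mem l) u).1 hu

theorem scale_xi {u : G} (hu : u ∈ C.U) (l : ℤ) (r : F) :
    u * C.xi l r * u⁻¹ = C.xi l (C.E l u * r) := by
  rw [xi, xi, E, ← C.conj_x _ (C.twist_mem hu l) r]; group

theorem scale_x {u : G} (hu : u ∈ C.U) (r : F) : u * C.x r * u⁻¹ = C.x (C.ψ u * r) := C.conj_x u hu r

theorem E_shift (n l : ℤ) (u : G) : C.E l ((C.T n)⁻¹ * u * C.T n) = C.E (n + l) u := by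
  rw [E, E, T_add]; congr 1; group

theorem E_zero (u : G) : C.E 0 u = C.ψ u := by rw [E, T_zero]; congr 1; group

theorem E_nrm {u : G} (hu : u ∈ C.U) (l : ℤ) : nrm p q (C.E l u) = 1 := C.ψ_nrm _ (C.twist_mem hu l)

/-- Identities in `Q` are identities in an abelian group. -/
theorem q_identity {a b : C.Q} (h : a = b) : (a : G) = b := congrArg Subtype.val h

/-- The triangle. -/
theorem triangle (u v : ℤ) : C.xi u ((-v : ℤ) : F) * C.xi v ((u : ℤ) : F) = C.S (u - v) := by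
  letI := C.qComm
  rw [xi_eq, xi_eq]
  change C.z u * C.S (-v) * (C.z u)⁻¹ * (C.z v * C.S u * (C.z v)⁻¹) = C.S (u - v)
  set Yq : ℤ → C.Q := fun n => ⟨C.Y n, C.Y_mem n⟩ with hYq
  have hkey : C.Y 0 * (C.Y u)⁻¹ * (C.Y (-v + u) * (C.Y (-v))⁻¹) * (C.Y (-v) * (C.Y (-v + v))⁻¹) *
      (C.Y (-v + u + v) * (C.Y (-v + u))⁻¹) = (1 : G) := by
    have h : Yq 0 * (Yq u)⁻¹ * (Yq (-v + u) * (Yq (-v))⁻¹) * (Yq (-v) * (Yq (-v + v))⁻¹) *
        (Yq (-v + u + v) * (Yq (-v + u))⁻¹) = 1 := by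
      rw [neg_add_cancel, show -v + u + v = u by ring]
      simp [mul_comm, mul_left_comm, mul_assoc]
    simpa [hYq] using C.q_identity h
  have h2 : C.S (u - v) = C.S (-v) * C.S u := by rw [← S_add, neg_add_eq_sub]
  have hmove : ∀ m n : ℤ, C.S m * C.Y n = C.Y (m + n) * C.S m := fun m n => by rw [← conj_Y]; group
  have hmove' : ∀ m n : ℤ, C.S m * (C.Y n)⁻¹ = (C.Y (m + n))⁻¹ * C.S m := fun m n => by
    rw [← conj_Y]; group
  rw [h2]
  calc C.z u * C.S (-v) * (C.z u)⁻¹ * (C.z v * C.S u * (C.z v)⁻¹)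
      = C.Y 0 * (C.Y u)⁻¹ * (C.S (-v) * C.Y u) * (C.Y 0)⁻¹ * C.Y 0 * (C.Y v)⁻¹ *
          C.S u * C.Y v * (C.Y 0)⁻¹ := by rw [z, z]; group
    _ = C.Y 0 * (C.Y u)⁻¹ * C.Y (-v + u) * ((C.S (-v)) * (C.Y v)⁻¹) *
          C.S u * C.Y v * (C.Y 0)⁻¹ := by rw [hmove]; group
    _ = C.Y 0 * (C.Y u)⁻¹ * C.Y (-v + u) * (C.Y (-v + v))⁻¹ * (C.S (-v) * C.S u * C.Y v) * (C.Y 0)⁻¹ := by
          rw [hmove']; group
    _ = C.Y 0 * (C.Y u)⁻¹ * C.Y (-v + u) * (C.Y (-v + v))⁻¹ * C.Y (-v + u + v) *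
          (C.S (-v + u) * (C.Y 0)⁻¹) := by rw [← S_add, hmove]; group
    _ = C.Y 0 * (C.Y u)⁻¹ * C.Y (-v + u) * (C.Y (-v + v))⁻¹ * C.Y (-v + u + v) *
          ((C.Y (-v + u))⁻¹ * C.S (-v + u)) := by rw [hmove', add_zero]
    _ = (C.Y 0 * (C.Y u)⁻¹ * (C.Y (-v + u) * (C.Y (-v))⁻¹) * (C.Y (-v) * (C.Y (-v + v))⁻¹) *
          (C.Y (-v + u + v) * (C.Y (-v + u))⁻¹)) * C.S (-v + u) := by group
    _ = C.S (-v) * C.S u := by rw [hkey, one_mul, S_add]

theorem step_mem (n : ℤ) : C.Y n * (C.Y (n + 1))⁻¹ ∈ C.M := Subgroup.subset_closure ⟨n, rfl⟩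

theorem M_le : C.M ≤ C.Q :=
  (Subgroup.closure_le _).2 (by rintro _ ⟨n, rfl⟩; exact C.Q.mul_mem (C.Y_mem _) (C.Q.inv_mem (C.Y_mem _)))

theorem diff_mem (a b : ℤ) : C.Y a * (C.Y b)⁻¹ ∈ C.M := by
  have h : ∀ n : ℤ, C.Y 0 * (C.Y n)⁻¹ ∈ C.M := by
    intro n
    induction n with
    | zero => simp
    | succ n ih => simpa [mul_assoc] using C.M.mul_mem ih (C.step_mem n)
    | pred n ih =>
      have := C.M.mul_mem ih (C.M.inv_mem (C.step_mem (-n - 1)))
      simpa [mul_assoc] using this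
  simpa [mul_assoc] using C.M.mul_mem (C.M.inv_mem (h a)) (h b)

theorem z_mem (n : ℤ) : C.z n ∈ C.M := C.diff_mem 0 n

theorem conj_mem_M (m : ℤ) {a : G} (ha : a ∈ C.M) : C.S m * a * (C.S m)⁻¹ ∈ C.M := by
  induction ha using Subgroup.closure_induction with
  | mem a ha =>
    obtain ⟨n, rfl⟩ := ha
    have : C.S m * (C.Y n * (C.Y (n + 1))⁻¹) * (C.S m)⁻¹ =
        C.Y (m + n) * (C.Y (m + n + 1))⁻¹ := by
      rw [add_assoc m n 1, ← C.conj_Y m n, ← C.conj_Y m (n + 1)]; group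
    rw [this]; exact C.step_mem _
  | one => simp
  | mul a b _ _ iha ihb =>
    rw [show C.S m * (a * b) * (C.S m)⁻¹ = (C.S m * a * (C.S m)⁻¹) * (C.S m * b * (C.S m)⁻¹) by group]
    exact C.M.mul_mem iha ihb
  | inv a _ iha =>
    rw [show C.S m * a⁻¹ * (C.S m)⁻¹ = (C.S m * a * (C.S m)⁻¹)⁻¹ by group]
    exact C.M.inv_mem iha

theorem M_comm {a b : G} (ha : a ∈ C.M) (hb : b ∈ C.M) : a * b = b * a :=
  C.q_comm _ (C.M_le ha) _ (C.M_le hb)

/-- Elements of `Q` and of `P` with the same value are trivial. -/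
theorem eq_zero_of_x_mem [Finite G] {r : F} (h : C.x r ∈ C.Q) : r = 0 := by
  have h1 : C.x r ^ p = 1 := by rw [C.x_pow, CharP.cast_eq_zero, zero_mul, C.x_zero]
  have h2 : C.x r ^ Nat.card C.Q = 1 := congrArg Subtype.val (pow_card_eq_one' (x := (⟨C.x r, h⟩ : C.Q)))
  have h3 := pow_gcd_eq_one.2 ⟨h2, h1⟩
  rw [C.q_coprime.gcd_eq_one, pow_one, ← C.x_zero] at h3
  exact C.x_inj h3

theorem ψ_ne_zero (hq : 0 < q) {u : G} (hu : u ∈ C.U) : C.ψ u ≠ 0 :=
  nrm_ne_zero hq (C.ψ_nrm u hu)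

theorem ψ_one (hq : 0 < q) : C.ψ 1 = 1 := by
  have h := C.ψ_mul 1 C.U.one_mem 1 C.U.one_mem
  rw [mul_one] at h
  exact mul_left_cancel₀ (C.ψ_ne_zero hq C.U.one_mem) (h.symm.trans (mul_one _).symm)

theorem eq_one_of_ψ (hq : 0 < q) {u : G} (hu : u ∈ C.U) (h : C.ψ u = 1) : u = 1 :=
  C.ψ_inj hu C.U.one_mem (h.trans (C.ψ_one hq).symm)

theorem ψ_inv (hq : 0 < q) {u : G} (hu : u ∈ C.U) : C.ψ u⁻¹ = (C.ψ u)⁻¹ := by
  refine eq_inv_of_mul_eq_one_left ?_
  rw [← C.ψ_mul _ (C.U.inv_mem hu) _ hu, inv_mul_cancel, C.ψ_one hq]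

theorem eq_zero_of_x_mem_U (hq : 0 < q) {r : F} (h : C.x r ∈ C.U) : r = 0 := by
  have h1 : C.ψ (C.x r) * 1 = 1 := C.x_inj (by
    rw [← C.scale_x h 1, C.x_comm r 1, mul_inv_cancel_right])
  have h2 := C.eq_one_of_ψ hq h (by simpa using h1)
  exact C.x_inj (h2.trans C.x_zero.symm)

theorem exists_U_ne_one [Fact q.Prime] [Finite G] : ∃ u ∈ C.U, C.ψ u ≠ 1 := by
  have hq : 0 < q := (Fact.out : q.Prime).pos
  by_contra! h
  have hU : C.U = ⊥ := (Subgroup.eq_bot_iff_forall _).2 fun u hu => C.eq_one_of_ψ hq hu (h u hu)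
  have hc := C.card_U
  rw [hU, Subgroup.card_bot] at hc
  have hle : (∑ i ∈ Finset.range 2, p ^ i) ≤ ∑ i ∈ Finset.range q, p ^ i :=
    Finset.sum_le_sum_of_subset (Finset.range_subset_range.2 (Fact.out : q.Prime).two_le)
  rw [← hc, Finset.sum_range_succ, Finset.sum_range_one, pow_zero, pow_one] at hle
  have := (Fact.out : p.Prime).two_le
  omega

variable [Finite G] [Fact q.Prime]

theorem S_eq_of_cast {m n : ℤ} (h : (m : F) = n) : C.S m = C.S n := by rw [S, S, h]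

/-- The conjugation by a nonzero prime field element fixes nothing in `M`. -/
theorem fixed_eq_one {n : ℤ} (hn : (n : F) ≠ 0) {a : G} (ha : a ∈ C.M)
    (hfix : C.S n * a * (C.S n)⁻¹ = a) : a = 1 := by
  letI := C.qComm
  have hc : ∀ k : ℕ, C.S (k * n) * a = a * C.S (k * n) := by
    intro k
    induction k with
    | zero => simp [S_zero]
    | succ k ih =>
      rw [Nat.cast_succ, add_mul, one_mul, S_add, mul_assoc, ← (mul_inv_eq_iff_eq_mul.1 hfix).symm,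
        ← mul_assoc, ih, mul_assoc]
  -- the step is fixed
  have hnz : ((n : ZMod p)) ≠ 0 := fun h => hn ((CharP.intCast_eq_zero_iff F p n).2
    ((ZMod.intCast_zmod_eq_zero_iff_dvd n p).1 h))
  have hone : ∀ j : ℤ, C.S j * a = a * C.S j := by
    intro j
    have hj := hc ((j : ZMod p) * (n : ZMod p)⁻¹).val
    rwa [C.S_eq_of_cast (n := j)] at hj
    rw [← ZMod.cast_intCast (R := F) dvd_rfl ((((j : ZMod p) * (n : ZMod p)⁻¹).val : ℤ) * n),
      ← ZMod.cast_intCast (R := F) dvd_rfl j]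
    congr 1
    push_cast
    rw [ZMod.natCast_val, ZMod.cast_id', id_eq, mul_assoc, inv_mul_cancel₀ hnz, mul_one]
  -- the product over the orbit is a power, and kills the steps
  let σ : ℕ → C.Q →* C.Q := fun i =>
    { toFun := fun b => ⟨C.S i * b * (C.S i)⁻¹,
        (Subgroup.mem_normalizer_iff.1 (C.s_normQ i) b).1 b.2⟩
      map_one' := Subtype.ext (by simp)
      map_mul' := fun b c => Subtype.ext (by simp) }
  let Φ : C.Q →* C.Q := ∏ i ∈ Finset.range p, σ i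
  have hker : C.M ≤ Φ.ker.map C.Q.subtype := by
    refine (Subgroup.closure_le _).2 ?_
    rintro _ ⟨m, rfl⟩
    refine ⟨⟨_, C.Q.mul_mem (C.Y_mem m) (C.Q.inv_mem (C.Y_mem (m + 1)))⟩, ?_, rfl⟩
    show Φ _ = 1
    simp only [Φ, MonoidHom.finset_prod_apply]
    have hσ : ∀ i : ℕ, σ i ⟨_, C.Q.mul_mem (C.Y_mem m) (C.Q.inv_mem (C.Y_mem (m + 1)))⟩ =
        (⟨C.Y (m + i), C.Y_mem _⟩ : C.Q) / ⟨C.Y (m + (i + 1 : ℕ)), C.Y_mem _⟩ := fun i => by
      refine Subtype.ext ?_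
      show C.S i * (C.Y m * (C.Y (m + 1))⁻¹) * (C.S i)⁻¹ = _
      rw [Subgroup.coe_div, div_eq_mul_inv]
      show _ = C.Y (m + i) * (C.Y (m + ((i + 1 : ℕ) : ℤ)))⁻¹
      rw [show m + ((i + 1 : ℕ) : ℤ) = i + (m + 1) by push_cast; ring, add_comm m (i : ℤ),
        ← C.conj_Y i m, ← C.conj_Y i (m + 1)]
      group
    simp only [hσ]
    rw [Finset.prod_range_div' (fun i => (⟨C.Y (m + i), C.Y_mem _⟩ : C.Q)) p, div_eq_one]
    refine Subtype.ext ?_
    show C.Y (m + (0 : ℕ)) = C.Y (m + p)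
    rw [Y, Y, C.S_eq_of_cast (m := m + p) (n := m + (0 : ℕ)) (by simp)]
  obtain ⟨b, hb, hba⟩ := hker ha
  have hab : (b : G) = a := hba
  have hΦ : Φ b = b ^ p := by
    simp only [Φ, MonoidHom.finset_prod_apply]
    rw [Finset.prod_eq_pow_card (s := Finset.range p) (b := b), Finset.card_range]
    intro i _
    refine Subtype.ext ?_
    show C.S i * (b : G) * (C.S i)⁻¹ = b
    rw [hab, hone, mul_inv_cancel_right]
  rw [SetLike.mem_coe, MonoidHom.mem_ker, hΦ] at hb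
  have h3 := pow_gcd_eq_one.2 ⟨pow_card_eq_one' (x := b), hb⟩
  rw [C.q_coprime.gcd_eq_one, pow_one] at h3
  rw [← hab, h3, Subgroup.coe_one]

theorem Y_eq_imp {a b : ℤ} (h : C.Y a = C.Y b) : (a : F) = b := by
  by_contra hne
  have h0 : C.Y (a - b) = C.Y 0 := by
    have h1 := conj_Y C (-b) a
    rw [h, conj_Y, neg_add_cancel] at h1
    rw [h1, neg_add_eq_sub]
  have hT : C.T (a - b) = C.S (a - b) := by rw [T_eq, z, h0, mul_inv_cancel, one_mul]
  obtain ⟨u, hu, hu1⟩ := C.exists_U_ne_one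
  have hq : 0 < q := (Fact.out : q.Prime).pos
  set n := a - b with hn
  have hmem : C.S n * u * (C.S n)⁻¹ ∈ C.U :=
    (Subgroup.mem_normalizer_iff.1 (hT ▸ C.T_mem n) u).1 hu
  have heq : C.S n * u * (C.S n)⁻¹ * u⁻¹ = C.x ((1 - C.ψ u) * n) := by
    rw [sub_mul, one_mul, sub_eq_add_neg, C.x_add, C.x_neg, ← C.scale_x hu (n : F), S]; group
  have hz := C.eq_zero_of_x_mem_U hq (heq ▸ C.U.mul_mem hmem (C.U.inv_mem hu))
  rcases mul_eq_zero.1 hz with h' | h'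
  · exact hu1 (sub_eq_zero.1 h').symm
  · rw [hn, Int.cast_sub, sub_eq_zero] at h'
    exact hne h'

/-- The elements normalizing `M`. -/
def NM (r : F) : Prop := C.x r ∈ Subgroup.normalizer (C.M : Set G)

theorem mem_normalizer_of_conj {g : G} (h : ∀ a ∈ C.M, g * a * g⁻¹ ∈ C.M) :
    g ∈ Subgroup.normalizer (C.M : Set G) := by
  rw [Subgroup.mem_normalizer_iff]
  refine fun a => ⟨h a, fun ha => ?_⟩
  let φ : C.M → C.M := fun b => ⟨g * b * g⁻¹, h b b.2⟩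
  have hφ : Function.Injective φ := fun b c hbc => Subtype.ext (by
    simpa [φ] using congrArg Subtype.val hbc)
  obtain ⟨b, hb⟩ := Finite.injective_iff_surjective.1 hφ ⟨_, ha⟩
  have : (b : G) = a := by simpa [φ] using congrArg Subtype.val hb
  exact this ▸ b.2

theorem NM_int (n : ℤ) : C.NM (n : F) := C.mem_normalizer_of_conj fun _ => C.conj_mem_M n

theorem NM_add {a b : F} (ha : C.NM a) (hb : C.NM b) : C.NM (a + b) := by
  rw [NM, C.x_add]; exact Subgroup.mul_mem _ ha hb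

theorem NM_neg {a : F} (ha : C.NM a) : C.NM (-a) := by
  rw [NM, C.x_neg]; exact Subgroup.inv_mem _ ha

theorem NM_natMul {a : F} (ha : C.NM a) (n : ℕ) : C.NM (n * a) := by
  rw [NM, ← C.x_pow]; exact Subgroup.pow_mem _ ha n

/-- The move. -/
theorem move {u v : ℤ} (huv : ((u - v : ℤ) : F) ≠ 0) {A B L : F} {N : G} (hN : N ∈ C.M)
    (h : C.x A * ((C.z u)⁻¹ * C.z v) * C.x B = N * C.x L) :
    C.NM (B - L) ∧ A + B = L ∧
      N = (C.x (B - L))⁻¹ * ((C.z u)⁻¹ * C.z v) * C.x (B - L) := by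
  set W := (C.z u)⁻¹ * C.z v with hW
  have hWeq : W = C.Y u * (C.Y v)⁻¹ := by rw [hW, z, z]; group
  have hWM : W ∈ C.M := hWeq ▸ C.diff_mem u v
  set B' := B - L with hB'
  have h1 : C.x A * W * C.x B' = N := by
    rw [hB', sub_eq_add_neg, C.x_add, C.x_neg, ← mul_assoc, h, mul_inv_cancel_right]
  have hsc : ∀ (n : ℤ) (r : F), C.S n * C.x r = C.x r * C.S n := fun n r => C.x_comm _ _
  -- conjugating by the prime field
  set d := W⁻¹ * (C.S 1 * W * (C.S 1)⁻¹) with hd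
  have hdconj : (C.x B')⁻¹ * d * C.x B' = N⁻¹ * (C.S 1 * N * (C.S 1)⁻¹) := by
    calc (C.x B')⁻¹ * d * C.x B'
        = (C.x A * W * C.x B')⁻¹ * (C.x A * (C.S 1 * W * (C.S 1)⁻¹) * C.x B') := by rw [hd]; group
      _ = (C.x A * W * C.x B')⁻¹ * (C.S 1 * (C.x A * W * C.x B') * (C.S 1)⁻¹) := by
          congr 1
          have e1 : C.S 1 * (C.x A * W * C.x B') * (C.S 1)⁻¹ =
              (C.S 1 * C.x A) * W * (C.S 1)⁻¹ * ((C.S 1 * C.x B') * (C.S 1)⁻¹) := by group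
          rw [e1, hsc, hsc]; group
      _ = _ := by rw [h1]
  have hdM : (C.x B')⁻¹ * d * C.x B' ∈ C.M := hdconj ▸ C.M.mul_mem (C.M.inv_mem hN) (C.conj_mem_M 1 hN)
  -- the map `m ↦ m⁻¹ σ m` is onto, and its image is spanned by the conjugates of `d`
  set j := u - v with hj
  let g : C.M → C.M := fun m => ⟨(m : G)⁻¹ * (C.S j * m * (C.S j)⁻¹),
    C.M.mul_mem (C.M.inv_mem m.2) (C.conj_mem_M j m.2)⟩
  have hg : Function.Surjective g := by
    refine Finite.injective_iff_surjective.1 fun a b hab => ?_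
    have hab' : (a : G)⁻¹ * (C.S j * a * (C.S j)⁻¹) = (b : G)⁻¹ * (C.S j * b * (C.S j)⁻¹) :=
      congrArg Subtype.val hab
    have hfix : C.S j * ((a : G) * (b : G)⁻¹) * (C.S j)⁻¹ = a * (b : G)⁻¹ := by
      have h' := congrArg (fun c => (a : G) * c) hab'
      rw [mul_inv_cancel_left] at h'
      rw [show C.S j * ((a : G) * (b : G)⁻¹) * (C.S j)⁻¹ =
        (C.S j * a * (C.S j)⁻¹) * (C.S j * b * (C.S j)⁻¹)⁻¹ by group, h']
      group
    exact Subtype.ext (mul_inv_eq_one.1 (C.fixed_eq_one huv (C.M.mul_mem a.2 (C.M.inv_mem b.2)) hfix))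
  have hgen : ∀ m ∈ C.M, (C.x B')⁻¹ * (m⁻¹ * (C.S j * m * (C.S j)⁻¹)) * C.x B' ∈ C.M := by
    intro m hm
    induction hm using Subgroup.closure_induction with
    | mem a ha =>
      obtain ⟨i, rfl⟩ := ha
      have e : (C.Y i * (C.Y (i + 1))⁻¹)⁻¹ * (C.S j * (C.Y i * (C.Y (i + 1))⁻¹) * (C.S j)⁻¹) =
          (C.S (i - v) * d * (C.S (i - v))⁻¹)⁻¹ := by
        have e1 : C.S j * (C.Y i * (C.Y (i + 1))⁻¹) * (C.S j)⁻¹ =
            C.Y (j + i) * (C.Y (j + i + 1))⁻¹ := by rw [add_assoc j i 1, ← C.conj_Y j i, ← C.conj_Y j (i + 1)]; group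
        have e2 : d = C.Y v * (C.Y u)⁻¹ * (C.Y (1 + u) * (C.Y (1 + v))⁻¹) := by
          rw [hd, hWeq, ← conj_Y, ← conj_Y]; group
        have e3 : C.S (i - v) * d * (C.S (i - v))⁻¹ = C.Y i * (C.Y (j + i))⁻¹ *
            (C.Y (j + i + 1) * (C.Y (i + 1))⁻¹) := by
          rw [e2, show j + i + 1 = (i - v) + (1 + u) by omega,
            show i + 1 = (i - v) + (1 + v) by omega, show j + i = (i - v) + u by omega,
            show i = (i - v) + v by omega]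
          simp only [← conj_Y]
          rw [show (i - v) + v - v = i - v by omega]
          group
        rw [e1, e3]
        letI := C.qComm
        have hh : ∀ a b c e : C.Q, (a * b⁻¹)⁻¹ * (c * e⁻¹) = (a * c⁻¹ * (e * b⁻¹))⁻¹ := fun a b c e => by
          simp [mul_comm, mul_left_comm, mul_assoc]
        exact C.q_identity (hh ⟨_, C.Y_mem i⟩ ⟨_, C.Y_mem (i + 1)⟩ ⟨_, C.Y_mem (j + i)⟩ ⟨_, C.Y_mem (j + i + 1)⟩)
      rw [e]
      have := C.M.inv_mem (C.conj_mem_M (i - v) hdM)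
      convert this using 1
      rw [show C.S (i - v) * ((C.x B')⁻¹ * d * C.x B') * (C.S (i - v))⁻¹ =
        (C.S (i - v) * (C.x B')⁻¹) * d * (C.x B' * (C.S (i - v))⁻¹) by group,
        ← C.x_neg, hsc, C.x_neg, ← S_neg, ← hsc, S_neg]
      group
    | one => simp
    | mul a b ha hb iha ihb =>
      have e : (a * b)⁻¹ * (C.S j * (a * b) * (C.S j)⁻¹) =
          (a⁻¹ * (C.S j * a * (C.S j)⁻¹)) * (b⁻¹ * (C.S j * b * (C.S j)⁻¹)) := by
        calc (a * b)⁻¹ * (C.S j * (a * b) * (C.S j)⁻¹)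
            = b⁻¹ * (a⁻¹ * (C.S j * a * (C.S j)⁻¹)) * (C.S j * b * (C.S j)⁻¹) := by group
          _ = (a⁻¹ * (C.S j * a * (C.S j)⁻¹)) * b⁻¹ * (C.S j * b * (C.S j)⁻¹) := by
            rw [C.M_comm (C.M.inv_mem hb) (C.M.mul_mem (C.M.inv_mem ha) (C.conj_mem_M j ha))]
          _ = _ := by group
      rw [e]
      have := C.M.mul_mem iha ihb
      convert this using 1
      group
    | inv a ha iha =>
      have e : a⁻¹⁻¹ * (C.S j * a⁻¹ * (C.S j)⁻¹) = (a⁻¹ * (C.S j * a * (C.S j)⁻¹))⁻¹ := by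
        rw [inv_inv, C.M_comm ha (C.conj_mem_M j (C.M.inv_mem ha))]
        group
      rw [e]
      have := C.M.inv_mem iha
      convert this using 1
      group
  have hnorm : ∀ m ∈ C.M, (C.x B')⁻¹ * m * C.x B' ∈ C.M := by
    intro m hm
    obtain ⟨m0, hm0⟩ := hg ⟨m, hm⟩
    have : (m0 : G)⁻¹ * (C.S j * m0 * (C.S j)⁻¹) = m := congrArg Subtype.val hm0
    exact this ▸ hgen m0 m0.2
  have hNM : C.NM B' := by
    have := C.mem_normalizer_of_conj (g := (C.x B')⁻¹) fun a ha => by simpa using hnorm a ha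
    exact inv_mem_iff.1 this
  have hprod : C.x (A + B') = N * ((C.x B')⁻¹ * W * C.x B')⁻¹ := by rw [C.x_add, ← h1]; group
  have hzero := C.eq_zero_of_x_mem (hprod ▸ C.M_le (C.M.mul_mem hN (C.M.inv_mem (hnorm W hWM))))
  refine ⟨hNM, ?_, ?_⟩
  · rw [hB'] at hzero; linear_combination hzero
  · rw [hzero, C.x_zero] at hprod
    exact mul_inv_eq_one.1 hprod.symm

theorem NM_step {u : G} (hu : u ∈ C.U) (hNM : C.NM (C.ψ u)) (hp2 : p ≠ 2) :
    C.NM (C.E 1 u) ∧ C.E 1 u + C.E (-1) u = 2 * C.ψ u := by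
  have htri := C.triangle 1 (-1)
  have hl : u * (C.xi 1 ((-(-1 : ℤ) : ℤ) : F) * C.xi (-1) (((1 : ℤ)) : F)) * u⁻¹ =
      C.xi 1 (C.E 1 u) * C.xi (-1) (C.E (-1) u) := by
    rw [neg_neg, Int.cast_one]
    calc u * (C.xi 1 (1 : F) * C.xi (-1) (1 : F)) * u⁻¹
        = (u * C.xi 1 (1 : F) * u⁻¹) * (u * C.xi (-1) (1 : F) * u⁻¹) := by group
      _ = _ := by rw [C.scale_xi hu, C.scale_xi hu, mul_one, mul_one]
  rw [htri, S, C.scale_x hu] at hl
  set L := C.ψ u * ((1 - (-1) : ℤ) : F) with hL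
  have hL2 : L = 2 * C.ψ u := by rw [hL]; push_cast; ring
  have hLN : C.NM L := by rw [hL2, two_mul]; exact C.NM_add hNM hNM
  have hphi : C.x L * C.z (-1) * (C.x L)⁻¹ ∈ C.M :=
    (Subgroup.mem_normalizer_iff.1 hLN _).1 (C.z_mem (-1))
  have h : C.x (C.E 1 u) * ((C.z 1)⁻¹ * C.z (-1)) * C.x (C.E (-1) u) =
      ((C.z 1)⁻¹ * (C.x L * C.z (-1) * (C.x L)⁻¹)) * C.x L := by
    rw [xi_eq, xi_eq] at hl
    calc _ = (C.z 1)⁻¹ * (C.z 1 * C.x (C.E 1 u) * (C.z 1)⁻¹ *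
          (C.z (-1) * C.x (C.E (-1) u) * (C.z (-1))⁻¹)) * C.z (-1) := by group
      _ = _ := by rw [← hl]; group
  have h2 : (((1 : ℤ) - (-1) : ℤ) : F) ≠ 0 := by
    intro h0
    have : ((2 : ℕ) : F) = 0 := by rw [← h0]; norm_num
    rw [CharP.cast_eq_zero_iff F p] at this
    exact hp2 ((Nat.prime_dvd_prime_iff_eq (Fact.out : p.Prime) Nat.prime_two).1 this)
  obtain ⟨hB, hsum, -⟩ := C.move h2 (C.M.mul_mem (C.M.inv_mem (C.z_mem 1)) hphi) h
  refine ⟨?_, hsum.trans hL2⟩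
  have : C.E 1 u = -(C.E (-1) u - L) := by linear_combination hsum
  rw [this]
  exact C.NM_neg hB

variable [Fintype F]

/-- Only the prime field part of `P` normalizes `M`. -/
theorem NM_scalar (hqp : q < p) (hp2 : p ≠ 2) (hF : Fintype.card F = p ^ q)
    (hA : Nat.Coprime ((p ^ q - 1) / (p - 1)) (p - 1)) {r : F} (hr : C.NM r) : ∃ n : ℤ, r = n := by
  have hq : 0 < q := (Fact.out : q.Prime).pos
  rcases eq_or_ne r 0 with rfl | hr0
  · exact ⟨0, Int.cast_zero.symm⟩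
  obtain ⟨k, e, hk, he, rfl⟩ := exists_decomp hq hF hA hr0
  refine ⟨k, ?_⟩
  suffices e = 1 by rw [this, mul_one]
  have heN : C.NM e := by
    obtain ⟨m, hm⟩ : ∃ m : ℕ, (m : F) * k = 1 := by
      have hkz : (k : ZMod p) ≠ 0 := fun h => hk ((CharP.intCast_eq_zero_iff F p k).2
        ((ZMod.intCast_zmod_eq_zero_iff_dvd k p).1 h))
      refine ⟨((k : ZMod p)⁻¹).val, ?_⟩
      rw [ZMod.natCast_val, ← ZMod.cast_intCast (R := F) dvd_rfl k, ← ZMod.cast_mul (R := F) dvd_rfl,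
        inv_mul_cancel₀ hkz, ZMod.cast_one dvd_rfl]
    have := C.NM_natMul hr m
    rwa [← mul_assoc, hm, one_mul] at this
  obtain ⟨u, hu, rfl⟩ := C.ψ_surj e he
  set δ := C.E 1 u - C.ψ u with hδ
  have hprog : ∀ n : ℕ, C.NM (C.E n u) ∧ C.E (n + 1) u = C.E n u + δ := by
    intro n
    induction n with
    | zero => rw [Nat.cast_zero, zero_add, E_zero, hδ, add_sub_cancel]; exact ⟨heN, rfl⟩
    | succ n ih =>
      obtain ⟨ihn, ihe⟩ := ih
      have hn1 : C.NM (C.E (n + 1) u) := by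
        have hun := C.twist_mem hu (n : ℤ)
        have h := (C.NM_step hun ihn hp2).1
        rwa [E_shift] at h
      have hun1 := C.twist_mem hu ((n : ℤ) + 1)
      obtain ⟨-, hsum⟩ := C.NM_step hun1 hn1 hp2
      rw [E_shift, E_shift, show ((n : ℤ) + 1) + -1 = n by ring,
        show C.ψ ((C.T ((n : ℤ) + 1))⁻¹ * u * C.T ((n : ℤ) + 1)) = C.E ((n : ℤ) + 1) u from rfl] at hsum
      rw [Nat.cast_succ]
      exact ⟨hn1, by linear_combination hsum + ihe⟩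
  have hlin : ∀ n : ℕ, C.E n u = C.ψ u + n * δ := by
    intro n
    induction n with
    | zero => rw [Nat.cast_zero, Nat.cast_zero, zero_mul, add_zero, E_zero]
    | succ n ih => rw [Nat.cast_succ, (hprog n).2, ih, Nat.cast_succ]; ring
  have hδ0 : δ = 0 := progression_const hqp hq fun n => hlin n ▸ C.E_nrm hu n
  have hfix : (C.T 1)⁻¹ * u * C.T 1 = u := C.ψ_inj (C.twist_mem hu 1) hu (sub_eq_zero.1 hδ0)
  -- so `u` carries `z` to `z` times an element of `P`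
  have huT : u * C.T 1 * u⁻¹ = C.T 1 := by
    calc u * C.T 1 * u⁻¹ = C.T 1 * ((C.T 1)⁻¹ * u * C.T 1) * u⁻¹ := by group
      _ = _ := by rw [hfix]; group
  have hconj : u * C.z 1 * u⁻¹ = C.z 1 * C.x (1 - C.ψ u) := by
    have hx : (u * C.S 1 * u⁻¹) = C.x (C.ψ u) := by rw [S, C.scale_x hu, Int.cast_one, mul_one]
    calc u * C.z 1 * u⁻¹ = (u * C.T 1 * u⁻¹) * (u * C.S 1 * u⁻¹)⁻¹ := by rw [z_eq]; group
      _ = C.z 1 * C.S 1 * (C.x (C.ψ u))⁻¹ := by rw [huT, hx, T_eq]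
      _ = _ := by rw [← C.x_neg, mul_assoc, S, ← C.x_add, Int.cast_one, sub_eq_add_neg]
  set w := 1 - C.ψ u with hw
  have hwN : C.NM w := by rw [hw, sub_eq_add_neg, ← Int.cast_one]; exact C.NM_add (C.NM_int 1) (C.NM_neg heN)
  have hpow : ∀ n : ℕ, ∃ m ∈ C.M, (C.z 1 * C.x w) ^ n = m * C.x w ^ n := by
    intro n
    induction n with
    | zero => exact ⟨1, C.M.one_mem, by simp⟩
    | succ n ih =>
      obtain ⟨m, hm, hmn⟩ := ih
      refine ⟨m * (C.x w ^ n * C.z 1 * (C.x w ^ n)⁻¹),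
        C.M.mul_mem hm ((Subgroup.mem_normalizer_iff.1 (Subgroup.pow_mem _ hwN n) _).1 (C.z_mem 1)), ?_⟩
      rw [pow_succ, hmn, pow_succ]; group
  obtain ⟨m, hm, hmn⟩ := hpow (Nat.card C.Q)
  have hz1 : C.z 1 ^ Nat.card C.Q = 1 :=
    congrArg Subtype.val (pow_card_eq_one' (x := (⟨C.z 1, C.M_le (C.z_mem 1)⟩ : C.Q)))
  rw [← hconj, conj_pow, hz1, mul_one, mul_inv_cancel, C.x_pow] at hmn
  have hmem : C.x ((Nat.card C.Q : F) * w) ∈ C.Q := by
    rw [← inv_eq_of_mul_eq_one_right hmn.symm]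
    exact C.Q.inv_mem (C.M_le hm)
  rcases mul_eq_zero.1 (C.eq_zero_of_x_mem hmem) with h | h
  · rw [CharP.cast_eq_zero_iff F p] at h
    exact absurd h ((Fact.out : p.Prime).coprime_iff_not_dvd.1 C.q_coprime.symm)
  · exact (sub_eq_zero.1 h).symm

/-- Elements of `P * U`. -/
def InH (g : G) : Prop := ∃ r, ∃ u ∈ C.U, g = C.x r * u

theorem InH_mul {g h : G} (hg : C.InH g) (hh : C.InH h) : C.InH (g * h) := by
  obtain ⟨r, u, hu, rfl⟩ := hg
  obtain ⟨r', u', hu', rfl⟩ := hh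
  refine ⟨r + C.ψ u * r', u * u', C.U.mul_mem hu hu', ?_⟩
  rw [C.x_add, ← C.scale_x hu]; group

theorem InH_inv {g : G} (hg : C.InH g) : C.InH g⁻¹ := by
  obtain ⟨r, u, hu, rfl⟩ := hg
  refine ⟨C.ψ u⁻¹ * -r, u⁻¹, C.U.inv_mem hu, ?_⟩
  rw [← C.scale_x (C.U.inv_mem hu), C.x_neg]; group

theorem InH_x (r : F) : C.InH (C.x r) := ⟨r, 1, C.U.one_mem, (mul_one _).symm⟩

theorem InH_U {u : G} (hu : u ∈ C.U) : C.InH u := ⟨0, u, hu, by rw [C.x_zero, one_mul]⟩

/-- A difference of lattice points carrying two lattice conjugates of `U` into `H` is trivial. -/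
theorem diff_eq_one (hF : Fintype.card F = p ^ q) {a c n : ℤ} (hn : (n : F) ≠ 0)
    (h2 : C.Y c * (C.Y n)⁻¹ = C.Y a * (C.Y 0)⁻¹) : C.Y a * (C.Y 0)⁻¹ = 1 := by
  set g := C.Y a * (C.Y 0)⁻¹ with hgdef
  have hkey : ∀ m l : ℤ, ∀ u ∈ C.U,
      C.InH ((C.Y m * (C.Y l)⁻¹) * (C.S l * u * (C.S l)⁻¹) * (C.Y m * (C.Y l)⁻¹)⁻¹) := by
    intro m l u hu
    have e : C.Y m * (C.Y l)⁻¹ * C.S l = C.S m * C.T (-m + l) := by
      rw [Y, Y, T, S_add, S_neg]; group
    have hu' : C.T (-m + l) * u * (C.T (-m + l))⁻¹ ∈ C.U :=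
      (Subgroup.mem_normalizer_iff.1 (C.T_mem _) u).1 hu
    have e2 : (C.Y m * (C.Y l)⁻¹) * (C.S l * u * (C.S l)⁻¹) * (C.Y m * (C.Y l)⁻¹)⁻¹ =
        (C.Y m * (C.Y l)⁻¹ * C.S l) * u * (C.Y m * (C.Y l)⁻¹ * C.S l)⁻¹ := by group
    rw [e2, e, show C.S m * C.T (-m + l) * u * (C.S m * C.T (-m + l))⁻¹ =
      C.S m * (C.T (-m + l) * u * (C.T (-m + l))⁻¹) * (C.S m)⁻¹ by group]
    exact C.InH_mul (C.InH_mul (C.InH_x _) (C.InH_U hu')) (C.InH_inv (C.InH_x _))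
  have hU0 : ∀ u ∈ C.U, C.InH (g * u * g⁻¹) := fun u hu => by
    simpa [S_zero, ← hgdef] using hkey a 0 u hu
  have hUn : ∀ u ∈ C.U, C.InH (g * (C.S n * u * (C.S n)⁻¹) * g⁻¹) := fun u hu => h2 ▸ hkey c n u hu
  let K : AddSubgroup F :=
    { carrier := {r | C.InH (g * C.x r * g⁻¹)}
      add_mem' := fun {r r'} hr hr' => by
        have := C.InH_mul hr hr'
        show C.InH _
        convert this using 1
        rw [C.x_add]; group
      zero_mem' := by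
        show C.InH _
        rw [C.x_zero, mul_one, mul_inv_cancel]; exact C.InH_U C.U.one_mem
      neg_mem' := fun {r} hr => by
        have := C.InH_inv hr
        show C.InH _
        convert this using 1
        rw [C.x_neg]; group }
  obtain ⟨u₀, hu₀, hu₀1⟩ := C.exists_U_ne_one
  set r0 : F := (C.ψ u₀ - 1) * n with hr0
  have hr0' : r0 ≠ 0 := mul_ne_zero (sub_ne_zero.2 hu₀1) hn
  have hKr : ∀ u ∈ C.U, C.ψ u * r0 ∈ K := by
    intro u hu
    have hbase : C.InH (g * C.x r0 * g⁻¹) := by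
      have := C.InH_mul (hU0 u₀ hu₀) (hUn u₀⁻¹ (C.U.inv_mem hu₀))
      have hinv := C.InH_inv this
      have h' := C.InH_inv hinv
      convert h' using 1
      rw [inv_inv, hr0, sub_mul, one_mul, sub_eq_add_neg, C.x_add, C.x_neg, ← C.scale_x hu₀, S]
      have hc : C.x (n : F) * u₀⁻¹ = C.x (n : F) * u₀⁻¹ := rfl
      group
    have := C.InH_mul (C.InH_mul (hU0 u hu) hbase) (C.InH_inv (hU0 u hu))
    show C.InH _
    convert this using 1
    rw [← C.scale_x hu]; group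
  have hKtop : ∀ r, r ∈ K := by
    have hq : 0 < q := (Fact.out : q.Prime).pos
    let ι : C.U → K := fun u => ⟨C.ψ u * r0, hKr u u.2⟩
    have hι : Function.Injective ι := fun u v huv =>
      Subtype.ext (C.ψ_inj u.2 v.2 (mul_right_cancel₀ hr0' (congrArg Subtype.val huv)))
    have hlt : Nat.card C.U < Nat.card K := by
      haveI := Fintype.ofFinite C.U
      haveI := Fintype.ofFinite K
      rw [Nat.card_eq_fintype_card, Nat.card_eq_fintype_card]
      refine Fintype.card_lt_of_injective_of_notMem ι hι (b := 0) ?_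
      rintro ⟨u, hu⟩
      exact mul_ne_zero (C.ψ_ne_zero hq u.2) hr0' (congrArg Subtype.val hu)
    have hdvd : Nat.card K ∣ p ^ q := by
      rw [← hF, ← Nat.card_eq_fintype_card]; exact AddSubgroup.card_addSubgroup_dvd_card K
    obtain ⟨i, hi, hKi⟩ := (Nat.dvd_prime_pow (Fact.out : p.Prime)).1 hdvd
    have hiq : i = q := by
      by_contra hne
      have hle : i ≤ q - 1 := by omega
      have h1 : p ^ i ≤ p ^ (q - 1) := Nat.pow_le_pow_right (Fact.out : p.Prime).pos hle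
      have h2 : p ^ (q - 1) ≤ ∑ i ∈ Finset.range q, p ^ i :=
        Finset.single_le_sum (f := fun i => p ^ i) (fun i _ => Nat.zero_le _) (Finset.mem_range.2 (by omega))
      rw [C.card_U, hKi] at hlt
      omega
    have htop : K = ⊤ := AddSubgroup.eq_top_of_card_eq K (by
      rw [hKi, hiq, ← hF, Nat.card_eq_fintype_card])
    intro r
    rw [htop]
    trivial
  obtain ⟨r, v, hv, hrv⟩ : C.InH (g * C.S 1 * g⁻¹) := hKtop _
  -- the `U` part vanishes
  have hpowH : ∀ k : ℕ, ∃ r', (C.x r * v) ^ k = C.x r' * v ^ k := by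
    intro k
    induction k with
    | zero => exact ⟨0, by simp [C.x_zero]⟩
    | succ k ih =>
      obtain ⟨r', hr'⟩ := ih
      refine ⟨r' + C.ψ (v ^ k) * r, ?_⟩
      rw [pow_succ, hr', C.x_add, ← C.scale_x (C.U.pow_mem hv k), pow_succ]; group
  obtain ⟨r', hr'⟩ := hpowH p
  rw [← hrv, conj_pow, S, C.x_pow, CharP.cast_eq_zero, zero_mul, C.x_zero, mul_one, mul_inv_cancel] at hr'
  have hvp : v ^ p = 1 := by
    have h1 : C.x r' = (v ^ p)⁻¹ := eq_inv_of_mul_eq_one_left hr'.symm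
    have h2 := C.eq_zero_of_x_mem_U (Fact.out : q.Prime).pos (h1 ▸ C.U.inv_mem (C.U.pow_mem hv p))
    rw [h2, C.x_zero] at h1
    exact inv_eq_one.1 h1.symm
  have hv1 : v = 1 := by
    have h1 : v ^ Nat.card C.U = 1 := congrArg Subtype.val (pow_card_eq_one' (x := (⟨v, hv⟩ : C.U)))
    have hcop : (Nat.card C.U).Coprime p := by
      rw [C.card_U, Nat.coprime_comm, (Fact.out : p.Prime).coprime_iff_not_dvd]
      obtain ⟨q', rfl⟩ : ∃ q', q = q' + 1 := ⟨q - 1, by have := (Fact.out : q.Prime).pos; omega⟩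
      rw [Finset.sum_range_succ', pow_zero]
      intro hd
      have : p ∣ ∑ i ∈ Finset.range q', p ^ (i + 1) := Finset.dvd_sum fun i _ => dvd_pow_self p (by omega)
      exact (Fact.out : p.Prime).not_dvd_one ((Nat.dvd_add_right this).1 hd)
    have := pow_gcd_eq_one.2 ⟨h1, hvp⟩
    rwa [hcop.gcd_eq_one, pow_one] at this
  rw [hv1, mul_one] at hrv
  have hgM : g ∈ C.M := C.diff_mem a 0
  have hm : g * (C.S 1 * g * (C.S 1)⁻¹)⁻¹ = C.x (r + -((1 : ℤ) : F)) := by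
    rw [C.x_add, C.x_neg, ← hrv, S]; group
  have hzero := C.eq_zero_of_x_mem (hm ▸ C.M_le (C.M.mul_mem hgM (C.M.inv_mem (C.conj_mem_M 1 hgM))))
  rw [hzero, C.x_zero, mul_inv_eq_one] at hm
  exact C.fixed_eq_one (n := 1) (by simp) hgM hm.symm

/-- The key step. -/
theorem twisted_inv (hqp : q < p) (hp2 : p ≠ 2) (hF : Fintype.card F = p ^ q)
    (hA : Nat.Coprime ((p ^ q - 1) / (p - 1)) (p - 1)) {w : G} (hw : w ∈ C.U)
    (hb : nrm p q (2 - C.ψ w) = 1) :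
    nrm p q (2 - (C.E (-3) w)⁻¹) = 1 := by
  have hq : 0 < q := (Fact.out : q.Prime).pos
  obtain ⟨wb, hwb, hwbb⟩ := C.ψ_surj _ hb
  set u := C.T 3 * w * (C.T 3)⁻¹ with hudef
  have hu : u ∈ C.U := (Subgroup.mem_normalizer_iff.1 (C.T_mem 3) w).1 hw
  have hg : C.ψ u = C.E (-3) w := by rw [E, T_neg, inv_inv]
  set g := C.ψ u with hgdef
  have hgn : nrm p q g = 1 := C.ψ_nrm u hu
  have hE3 : C.E 3 u = C.ψ w := by rw [E, hudef]; congr 1; group
  -- the three triangles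
  have htA : C.x (2 * g) = C.xi 3 (-C.ψ w) * C.xi 1 (3 * C.E 1 u) := by
    have h : u * (C.xi 3 ((-1 : ℤ) : F) * C.xi 1 ((3 : ℤ) : F)) * u⁻¹ = u * C.S (3 - 1) * u⁻¹ :=
      congrArg (fun a => u * a * u⁻¹) (C.triangle 3 1)
    rw [show u * (C.xi 3 ((-1 : ℤ) : F) * C.xi 1 ((3 : ℤ) : F)) * u⁻¹ =
      (u * C.xi 3 ((-1 : ℤ) : F) * u⁻¹) * (u * C.xi 1 ((3 : ℤ) : F) * u⁻¹) by group,
      C.scale_xi hu, C.scale_xi hu, hE3, S, C.scale_x hu] at h
    push_cast at h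
    ring_nf at h ⊢
    exact h.symm
  have htB : C.x (-1 : F) = C.xi 2 (-3 : F) * C.xi 3 (2 : F) := by
    have h := C.triangle 2 3
    rw [S] at h
    push_cast at h
    norm_num at h
    exact h.symm
  have htC : C.xi 3 (2 - C.ψ w) = C.xi 2 (2 * C.E (-1) wb) * C.xi 1 (-C.E (-2) wb) := by
    have h : C.T 3 * (wb * (C.xi (-1) ((-(-2) : ℤ) : F) * C.xi (-2) ((-1 : ℤ) : F)) * wb⁻¹) * (C.T 3)⁻¹ =
        C.T 3 * (wb * C.S (-1 - -2) * wb⁻¹) * (C.T 3)⁻¹ :=
      congrArg (fun a => C.T 3 * (wb * a * wb⁻¹) * (C.T 3)⁻¹) (C.triangle (-1) (-2))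
    rw [show wb * (C.xi (-1) ((-(-2) : ℤ) : F) * C.xi (-2) ((-1 : ℤ) : F)) * wb⁻¹ =
      (wb * C.xi (-1) ((-(-2) : ℤ) : F) * wb⁻¹) * (wb * C.xi (-2) ((-1 : ℤ) : F) * wb⁻¹) by group,
      C.scale_xi hwb, C.scale_xi hwb, S, C.scale_x hwb, hwbb] at h
    rw [show ∀ a b : G, C.T 3 * (a * b) * (C.T 3)⁻¹ = (C.T 3 * a * (C.T 3)⁻¹) * (C.T 3 * b * (C.T 3)⁻¹)
      from fun a b => by group, C.shift_xi, C.shift_xi] at h
    push_cast at h
    rw [mul_one, ← xi] at h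
    rw [← h]
    congr 2 <;> ring
  set AA : F := 2 * C.E (-1) wb - 3 with hAA
  set CC : F := 3 * C.E 1 u - C.E (-2) wb with hCC
  have hstar : C.x (2 * g - 1) = C.xi 2 AA * C.xi 1 CC := by
    calc C.x (2 * g - 1) = C.x (-1 : F) * C.x (2 * g) := by rw [← C.x_add]; congr 1; ring
      _ = C.xi 2 (-3 : F) * (C.xi 3 (2 : F) * C.xi 3 (-C.ψ w)) * C.xi 1 (3 * C.E 1 u) := by
          rw [htA, htB]; group
      _ = C.xi 2 (-3 : F) * C.xi 3 (2 - C.ψ w) * C.xi 1 (3 * C.E 1 u) := by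
          rw [← xi_add, sub_eq_add_neg]
      _ = (C.xi 2 (-3 : F) * C.xi 2 (2 * C.E (-1) wb)) *
            (C.xi 1 (-C.E (-2) wb) * C.xi 1 (3 * C.E 1 u)) := by rw [htC]; group
      _ = _ := by
          rw [← xi_add, ← xi_add, hAA, hCC]
          congr 2 <;> ring
  -- `2 g - 1` is not zero
  have htwo : (2 : F) ≠ 0 := by
    intro h0
    have : ((2 : ℕ) : F) = 0 := by exact_mod_cast h0
    rw [CharP.cast_eq_zero_iff F p] at this
    exact hp2 ((Nat.prime_dvd_prime_iff_eq (Fact.out : p.Prime) Nat.prime_two).1 this)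
  have hR : 2 * g - 1 ≠ 0 := by
    intro h0
    have hc := coprime_q (Fact.out : p.Prime).two_le hA
    have hgq : g = ((2 : ℕ) : F)⁻¹ := by
      rw [Nat.cast_ofNat]; field_simp; linear_combination h0
    have h1 := natCast_eq_one_of_nrm hc (c := g) (by rw [hgq, inv_pow, natCast_pow_char])
      (nrm_ne_zero hq hgn) hgn
    rw [h1] at h0
    exact one_ne_zero (α := F) (by linear_combination h0)
  obtain ⟨k, e, hk, he, hRe⟩ := exists_decomp hq hF hA hR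
  obtain ⟨ue, hue, hue'⟩ := C.ψ_surj e he
  have he0 : e ≠ 0 := nrm_ne_zero hq he
  -- scale to a prime field value
  have hsk : C.S k = C.xi 2 (C.E 2 ue⁻¹ * AA) * C.xi 1 (C.E 1 ue⁻¹ * CC) := by
    rw [← C.scale_xi (C.U.inv_mem hue), ← C.scale_xi (C.U.inv_mem hue), S]
    calc C.x (k : F) = ue⁻¹ * C.x (2 * g - 1) * ue⁻¹⁻¹ := by
          rw [C.scale_x (C.U.inv_mem hue), C.ψ_inv hq hue, hue', hRe, mul_comm (k : F) e,
            inv_mul_cancel_left₀ he0]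
      _ = _ := by rw [hstar]; group
  set A' := C.E 2 ue⁻¹ * AA
  set C' := C.E 1 ue⁻¹ * CC
  rw [xi_eq, xi_eq] at hsk
  set N := (C.z 2)⁻¹ * (C.S k * C.z 1 * (C.S k)⁻¹) with hN
  have h : C.x A' * ((C.z 2)⁻¹ * C.z 1) * C.x C' = N * C.x (k : F) := by
    calc _ = (C.z 2)⁻¹ * (C.z 2 * C.x A' * (C.z 2)⁻¹ * (C.z 1 * C.x C' * (C.z 1)⁻¹)) * C.z 1 := by group
      _ = (C.z 2)⁻¹ * C.S k * C.z 1 := by rw [← hsk]
      _ = _ := by rw [hN, S]; group
  have hNM : N ∈ C.M := C.M.mul_mem (C.M.inv_mem (C.z_mem 2)) (C.conj_mem_M k (C.z_mem 1))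
  obtain ⟨hBN, -, hNeq⟩ := C.move (u := 2) (v := 1) (by simp) hNM h
  obtain ⟨j, hj⟩ := C.NM_scalar hqp hp2 hF hA hBN
  rw [hj, show C.x (j : F) = C.S j from rfl, ← S_neg] at hNeq
  have hpure : C.Y 2 * (C.Y 0)⁻¹ * (C.Y k * (C.Y (k + 1))⁻¹) =
      C.Y (-j + 2) * (C.Y (-j + 1))⁻¹ := by
    have e1 : N = C.Y 2 * (C.Y 0)⁻¹ * (C.Y k * (C.Y (k + 1))⁻¹) := by
      rw [hN, z, z, ← conj_Y C k 1]
      have : C.Y k = C.S k * C.Y 0 * (C.S k)⁻¹ := by rw [conj_Y, add_zero]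
      rw [this]; group
    have e2 : C.S (-j) * ((C.z 2)⁻¹ * C.z 1) * C.S j = C.Y (-j + 2) * (C.Y (-j + 1))⁻¹ := by
      rw [z, z, ← conj_Y, ← conj_Y, S_neg]; group
    rw [← e1, hNeq, e2]
  -- the fixed element
  letI := C.qComm
  set Fx := (C.Y k * (C.Y 0)⁻¹) * (C.Y (-j + 1) * (C.Y 1)⁻¹) with hFx
  have hfix : C.S 1 * Fx * (C.S 1)⁻¹ = Fx := by
    have e : C.S 1 * Fx * (C.S 1)⁻¹ =
        (C.Y (k + 1) * (C.Y 1)⁻¹) * (C.Y (-j + 2) * (C.Y 2)⁻¹) := by
      have hc : ∀ a b : ℤ, C.S 1 * (C.Y a * (C.Y b)⁻¹) * (C.S 1)⁻¹ = C.Y (1 + a) * (C.Y (1 + b))⁻¹ :=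
        fun a b => by rw [← conj_Y, ← conj_Y]; group
      rw [hFx, show ∀ a b : G, C.S 1 * (a * b) * (C.S 1)⁻¹ = (C.S 1 * a * (C.S 1)⁻¹) * (C.S 1 * b * (C.S 1)⁻¹)
        from fun a b => by group, hc, hc, show (1 : ℤ) + k = k + 1 by ring,
        show (1 : ℤ) + (-j + 1) = -j + 2 by ring]
      norm_num
    rw [e, hFx]
    have hh : ∀ y2 y0 yk yk1 a b y1 : C.Q, y2 * y0⁻¹ * (yk * yk1⁻¹) = a * b⁻¹ →
        yk1 * y1⁻¹ * (a * y2⁻¹) = yk * y0⁻¹ * (b * y1⁻¹) := fun y2 y0 yk yk1 a b y1 hab => by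
      rw [eq_mul_inv_iff_mul_eq] at hab
      rw [← hab]
      apply Additive.ofMul.injective
      simp only [ofMul_mul, ofMul_inv]
      abel
    exact C.q_identity (hh ⟨_, C.Y_mem 2⟩ ⟨_, C.Y_mem 0⟩ ⟨_, C.Y_mem k⟩ ⟨_, C.Y_mem (k + 1)⟩
      ⟨_, C.Y_mem (-j + 2)⟩ ⟨_, C.Y_mem (-j + 1)⟩ ⟨_, C.Y_mem 1⟩ (Subtype.ext hpure))
  have hF1 := C.fixed_eq_one (n := 1) (by simp) (C.M.mul_mem (C.diff_mem _ _) (C.diff_mem _ _)) hfix
  have hpar : C.Y 1 * (C.Y (-j + 1))⁻¹ = C.Y k * (C.Y 0)⁻¹ := by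
    rw [mul_eq_one_iff_eq_inv] at hF1
    rw [hF1]; group
  have hk1 : (k : F) = 1 := by
    by_cases hn : ((-j + 1 : ℤ) : F) = 0
    · have h0 : C.Y (-j + 1) = C.Y 0 := by rw [Y, Y, C.S_eq_of_cast (n := 0) (by rw [hn, Int.cast_zero])]
      rw [h0] at hpar
      simpa using (C.Y_eq_imp (mul_right_cancel hpar)).symm
    · have h1 := C.diff_eq_one hF hn hpar
      rw [mul_inv_eq_one] at h1
      exact absurd (by simpa using C.Y_eq_imp h1) hk
  rw [hk1, one_mul] at hRe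
  rw [← hg, show 2 - g⁻¹ = (2 * g - 1) * g⁻¹ by
    rw [sub_mul, mul_inv_cancel_right₀ (nrm_ne_zero hq hgn), one_mul], nrm_mul, hRe, he, one_mul]
  have h := nrm_mul p q g g⁻¹
  rw [mul_inv_cancel₀ (nrm_ne_zero hq hgn), hgn, one_mul, nrm_one] at h
  exact h.symm

include C in
/-- The set of norm one pairs is closed under inversion. -/
theorem inv_mem_eset (hqp : q < p) (hp5 : 5 ≤ p) (hF : Fintype.card F = p ^ q)
    (hA : Nat.Coprime ((p ^ q - 1) / (p - 1)) (p - 1)) {a : F} (ha : a ∈ eset (F := F) p q) :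
    a⁻¹ ∈ eset (F := F) p q := by
  have hq : 0 < q := (Fact.out : q.Prime).pos
  have hp2 : p ≠ 2 := by omega
  let Φ : G → G := fun w => (C.T 3 * w * (C.T 3)⁻¹)⁻¹
  let P' : G → Prop := fun w => w ∈ C.U ∧ nrm p q (2 - C.ψ w) = 1
  have hΦ : ∀ w, P' w → P' (Φ w) := by
    rintro w ⟨hw, hwn⟩
    have hmem : C.T 3 * w * (C.T 3)⁻¹ ∈ C.U := (Subgroup.mem_normalizer_iff.1 (C.T_mem 3) w).1 hw
    refine ⟨C.U.inv_mem hmem, ?_⟩
    have h := C.twisted_inv hqp hp2 hF hA hw hwn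
    rw [E, T_neg, inv_inv] at h
    rw [C.ψ_inv hq hmem]
    exact h
  have hΦ2 : ∀ w, P' w → ∀ n : ℕ, P' (C.T (6 * n) * w * (C.T (6 * n))⁻¹) := by
    intro w hw n
    induction n with
    | zero => simpa [T_zero] using hw
    | succ n ih =>
      have h := hΦ _ (hΦ _ ih)
      convert h using 1
      simp only [Φ]
      rw [show (6 : ℤ) * ((n + 1 : ℕ) : ℤ) = 3 + (3 + 6 * n) by push_cast; ring, T_add, T_add]
      simp only [mul_inv_rev, inv_inv, mul_assoc]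
  obtain ⟨w, hw, rfl⟩ := C.ψ_surj a ha.1
  obtain ⟨n, hn⟩ : ∃ n : ℕ, ((6 * n + 3 : ℤ) : F) = 0 := by
    have h2 : (2 : ZMod p) ≠ 0 := by
      intro h
      have : p ∣ 2 := (ZMod.natCast_eq_zero_iff 2 p).1 (by exact_mod_cast h)
      have := Nat.le_of_dvd (by norm_num) this
      omega
    refine ⟨(-(2 : ZMod p)⁻¹).val, ?_⟩
    rw [← ZMod.cast_intCast (R := F) dvd_rfl (6 * ((-(2 : ZMod p)⁻¹).val : ℤ) + 3)]
    push_cast
    rw [ZMod.natCast_val, ZMod.cast_id', id_eq, show (6 : ZMod p) * -(2 : ZMod p)⁻¹ + 3 = 0 by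
      field_simp; ring, ZMod.cast_zero]
  have h := hΦ _ (hΦ2 w ⟨hw, ha.2⟩ n)
  have hT : C.T (6 * n + 3) = 1 := by
    rw [T, C.S_eq_of_cast (n := 0) (by rw [hn, Int.cast_zero]), S_zero]; group
  have hval : Φ (C.T (6 * n) * w * (C.T (6 * n))⁻¹) = w⁻¹ := by
    simp only [Φ]
    rw [show C.T 3 * (C.T (6 * n) * w * (C.T (6 * n))⁻¹) * (C.T 3)⁻¹ =
      (C.T 3 * C.T (6 * n)) * w * (C.T 3 * C.T (6 * n))⁻¹ by group, ← T_add, add_comm, hT]
    group
  rw [hval] at h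
  refine ⟨?_, ?_⟩
  · rw [← C.ψ_inv hq hw]; exact C.ψ_nrm _ (C.U.inv_mem hw)
  · rw [← C.ψ_inv hq hw]; exact h.2

end Conf

end Cfsg.Agent.OddOrder.AppC
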