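/-
The field-theoretic part of the final step of the odd order theorem: the set of pairs of
norm-one elements with sum two.
-/
import Mathlib.Algebra.CharP.Frobenius
import Mathlib.Algebra.CharP.Lemmas
import Mathlib.Algebra.Field.GeomSum
import Mathlib.Algebra.Polynomial.Roots
import Mathlib.Algebra.Polynomial.BigOperators
import Mathlib.FieldTheory.Finite.Basic

set_option autoImplicit false

namespace Cfsg.Agent.OddOrder.AppC

open Finset Polynomial

variable {F : Type*} [Field F]

/-- The product of the `q` Frobenius conjugates. -/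
def nrm (p q : ℕ) (x : F) : F := ∏ i ∈ Finset.range q, x ^ p ^ i

/-- The pairs of norm-one elements with sum two, recorded by their first component. -/
def eset (p q : ℕ) : Set F := {a | nrm p q a = 1 ∧ nrm p q (2 - a) = 1}

theorem nrm_mul (p q : ℕ) (x y : F) : nrm p q (x * y) = nrm p q x * nrm p q y := by
  simp only [nrm, mul_pow, Finset.prod_mul_distrib]

theorem nrm_eq_pow (p q : ℕ) (x : F) : nrm p q x = x ^ (∑ i ∈ Finset.range q, p ^ i) := by
  simp only [nrm, Finset.prod_pow_eq_pow_sum]

theorem nrm_one (p q : ℕ) : nrm p q (1 : F) = 1 := by simp [nrm]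

theorem coprime_q {p q : ℕ} (hp : 2 ≤ p) (hA : Nat.Coprime ((p ^ q - 1) / (p - 1)) (p - 1)) :
    q.Coprime (p - 1) := by
  rw [← Nat.geomSum_eq hp] at hA
  have h : (∑ i ∈ Finset.range q, p ^ i) ≡ q [MOD p - 1] := by
    induction q with
    | zero => rfl
    | succ n ih =>
      rw [Finset.sum_range_succ]
      clear hA
      have h1 : (∑ i ∈ Finset.range n, p ^ i) ≡ n [MOD p - 1] := by
        clear ih
        induction n with
        | zero => rfl
        | succ m ih2 =>
          rw [Finset.sum_range_succ]
          refine ih2.add ?_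
          have hp1 : p ≡ 1 [MOD p - 1] := ((Nat.modEq_iff_dvd' (by omega)).mpr dvd_rfl).symm
          simpa using hp1.pow m
      have hp1 : p ≡ 1 [MOD p - 1] := ((Nat.modEq_iff_dvd' (by omega)).mpr dvd_rfl).symm
      exact h1.add (by simpa using hp1.pow n)
  unfold Nat.Coprime at hA ⊢
  rw [← h.gcd_eq]
  exact hA

/-- The only norm-one element of the prime field is `1`. -/
theorem natCast_eq_one_of_nrm {p q : ℕ} [Fact p.Prime] [CharP F p]
    (hc : q.Coprime (p - 1)) {c : F} (hfix : c ^ p = c) (h0 : c ≠ 0) (hn : nrm p q c = 1) :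
    c = 1 := by
  have hi : ∀ i : ℕ, c ^ p ^ i = c := by
    intro i
    induction i with
    | zero => simp
    | succ i ih => rw [pow_succ, pow_mul, ih, hfix]
  have hq : c ^ q = 1 := by simpa [nrm, hi] using hn
  have hp1 : c ^ (p - 1) = 1 := by
    have hsucc : p - 1 + 1 = p := Nat.sub_add_cancel (Fact.out : p.Prime).one_le
    refine mul_right_cancel₀ h0 ?_
    rw [← pow_succ, hsucc, hfix, one_mul]
  have := pow_gcd_eq_one.mpr ⟨hq, hp1⟩
  simpa [hc.gcd_eq_one] using this

theorem natCast_pow_char {p : ℕ} [Fact p.Prime] [CharP F p] (k : ℕ) : (k : F) ^ p = k := by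
  rw [← frobenius_def, map_natCast]

theorem nrm_linear {p q : ℕ} [Fact p.Prime] [CharP F p] (b : F) (k : ℕ) :
    nrm p q (1 + k * b) = ∏ i ∈ Finset.range q, (1 + (k : F) * b ^ p ^ i) := by
  refine Finset.prod_congr rfl fun i _ => ?_
  rw [← iterateFrobenius_def, map_add, map_mul, map_one, map_natCast, iterateFrobenius_def]

/-- A set `eset` closed under inversion and with an element other than `1` forces `p ≤ q`. -/
theorem p_le_q {p q : ℕ} [Fact p.Prime] [CharP F p]
    (hq : 0 < q) (hA : Nat.Coprime ((p ^ q - 1) / (p - 1)) (p - 1))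
    (hinv : ∀ a ∈ eset (F := F) p q, a⁻¹ ∈ eset (F := F) p q)
    {a : F} (ha : a ∈ eset (F := F) p q) (ha1 : a ≠ 1) : p ≤ q := by
  classical
  have hc := coprime_q (Fact.out : p.Prime).two_le hA
  have hne : ∀ k : ℕ, (k : F) + 1 - k * a ≠ 0 := by
    intro k hk
    by_cases hk0 : (k : F) = 0
    · simp [hk0] at hk
    · have hak : a = ((k + 1 : ℕ) : F) / k := by
        rw [eq_div_iff hk0]; push_cast; linear_combination (-1 : F) * hk
      have hfix : a ^ p = a := by rw [hak, div_pow, natCast_pow_char, natCast_pow_char]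
      refine ha1 (natCast_eq_one_of_nrm hc hfix ?_ ha.1)
      rintro rfl
      have h := ha.1
      have : nrm p q (0 : F) = 0 := Finset.prod_eq_zero (Finset.mem_range.mpr hq) (by simp)
      simp [this] at h
  have hall : ∀ k : ℕ,
      ((k : F) - (k - 1) * a) / (k + 1 - k * a) ∈ eset (F := F) p q := by
    intro k
    induction k with
    | zero => simpa using ha
    | succ k ih =>
      have h2 : (2 - ((k : F) - (k - 1) * a) / (k + 1 - k * a)) ∈ eset (F := F) p q := by
        refine ⟨ih.2, ?_⟩
        simpa using ih.1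
      have h3 := hinv _ h2
      convert h3 using 1
      have := hne k
      rw [eq_comm, inv_eq_iff_eq_inv, inv_div, eq_div_iff (by
        have := hne (k + 1); push_cast at this ⊢; intro h; apply hne k; linear_combination h)]
      field_simp
      push_cast
      ring
  have hN : ∀ k : ℕ, nrm p q ((k : F) + 1 - k * a) = 1 := by
    intro k
    induction k with
    | zero => simpa using nrm_one p q
    | succ k ih =>
      have h := (hall (k + 1)).1
      have hd := hne (k + 1)
      have hmul : ((k + 1 : ℕ) : F) - (((k + 1 : ℕ) : F) - 1) * a =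
          (((k + 1 : ℕ) : F) - (((k + 1 : ℕ) : F) - 1) * a) / (((k + 1 : ℕ) : F) + 1 - ((k + 1 : ℕ) : F) * a)
            * (((k + 1 : ℕ) : F) + 1 - ((k + 1 : ℕ) : F) * a) := (div_mul_cancel₀ _ hd).symm
      have h1 := congrArg (nrm p q) hmul
      rw [nrm_mul, h, one_mul] at h1
      rw [← h1]
      convert ih using 2
      push_cast
      ring
  set b : F := 1 - a with hb
  have hb0 : b ≠ 0 := sub_ne_zero.mpr (Ne.symm ha1)
  let g : F[X] := ∏ i ∈ Finset.range q, (1 + X * C (b ^ p ^ i))
  have hdeg : g.natDegree ≤ q := by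
    refine (natDegree_prod_le _ _).trans ?_
    calc ∑ i ∈ Finset.range q, (1 + X * C (b ^ p ^ i)).natDegree ≤ ∑ i ∈ Finset.range q, 1 := by
          refine Finset.sum_le_sum fun i _ => ?_
          refine (natDegree_add_le _ _).trans ?_
          simp only [natDegree_one, Nat.zero_le, max_le_iff, true_and]
          exact natDegree_mul_le.trans (by simp)
      _ = q := by simp
  have hg1 : g - 1 ≠ 0 := by
    intro h
    have hg : g = 1 := sub_eq_zero.mp h
    have hev : g.eval (-(b⁻¹)) = 0 := by
      rw [eval_prod]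
      exact Finset.prod_eq_zero (Finset.mem_range.mpr hq) (by simp [hb0])
    simp [hg] at hev
  have hsub : ((Finset.range p).image fun k : ℕ => (k : F)) ⊆ (g - 1).roots.toFinset := by
    intro x hx
    obtain ⟨k, _, rfl⟩ := Finset.mem_image.mp hx
    rw [Multiset.mem_toFinset, mem_roots hg1, IsRoot.def, eval_sub, eval_one, eval_prod]
    have h := hN k
    have hk : (k : F) + 1 - k * a = 1 + k * b := by rw [hb]; ring
    rw [hk, nrm_linear] at h
    simp [h]
  have hcard : ((Finset.range p).image fun k : ℕ => (k : F)).card = p := by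
    rw [Finset.card_image_of_injOn, Finset.card_range]
    intro i hi j hj hij
    exact CharP.natCast_injOn_Iio F p (by simpa using hi) (by simpa using hj) hij
  calc p = _ := hcard.symm
    _ ≤ (g - 1).roots.toFinset.card := Finset.card_le_card hsub
    _ ≤ Multiset.card (g - 1).roots := Multiset.toFinset_card_le _
    _ ≤ (g - 1).natDegree := card_roots' _
    _ ≤ q := (natDegree_sub_le _ _).trans (by simp [hdeg])

end Cfsg.Agent.OddOrder.AppC
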