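/-
The norm of `GaloisField p q` in product form.
-/
import Cfsg.Agent.Lib.OddOrder.AppendixC
import Mathlib.FieldTheory.Finite.GaloisField
import Mathlib.FieldTheory.Finite.Trace
import Mathlib.RingTheory.Norm.Basic

set_option autoImplicit false

namespace Cfsg.Agent.OddOrder.AppC

variable (p : ℕ) [Fact p.Prime] {q : ℕ}

theorem algebraMap_norm_galois (hq : 0 < q) (x : GaloisField p q) :
    algebraMap (ZMod p) (GaloisField p q) (Algebra.norm (ZMod p) x) = nrm p q x := by
  rw [FiniteField.algebraMap_norm_eq_prod_pow, GaloisField.finrank p hq.ne', Nat.card_zmod]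
  rfl

theorem galois_norm_eq_one_iff (hq : 0 < q) (x : GaloisField p q) :
    Algebra.norm (ZMod p) x = 1 ↔ nrm p q x = 1 := by
  rw [← algebraMap_norm_galois p hq,
    ← (algebraMap (ZMod p) (GaloisField p q)).injective.eq_iff, map_one]

theorem galois_mem_iff (hq : 0 < q) (a : GaloisField p q) :
    a ∈ {a : GaloisField p q | Algebra.norm (ZMod p) a = 1 ∧ Algebra.norm (ZMod p) (2 - a) = 1} ↔
      a ∈ eset (F := GaloisField p q) p q :=
  and_congr (galois_norm_eq_one_iff p hq a) (galois_norm_eq_one_iff p hq (2 - a))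

end Cfsg.Agent.OddOrder.AppC
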