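import Mathlib.Algebra.MonoidAlgebra.Basic
import Mathlib.FieldTheory.Finite.GaloisField
import Mathlib.RingTheory.AdjoinRoot
import Mathlib.RingTheory.Norm.Basic
import Mathlib.LinearAlgebra.Matrix.Charpoly.Coeff
import Mathlib.RingTheory.UniqueFactorizationDomain.NormalizedFactors
import Mathlib.RingTheory.Polynomial.UniqueFactorization
import Mathlib.Algebra.Polynomial.BigOperators

/-!
Monic irreducible polynomials of prime degree with prescribed values at `0` and `2`.

The monic polynomials are weighted by their pair of values in the group ring of `Fˣ × Fˣ`. The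
logarithmic derivative of the sum over all of them is computed exactly, and it has positive
coefficients in odd degree.
-/

set_option autoImplicit false

open Polynomial UniqueFactorizationMonoid

namespace Cfsg.Agent.OddOrder.NormCount

variable (p : ℕ) [hp : Fact p.Prime]

/-- The group of pairs of nonzero values. -/
abbrev Val : Type := (ZMod p)ˣ × (ZMod p)ˣ

/-- The group ring. -/
abbrev Alg : Type := MonoidAlgebra ℤ (Val p)

variable {p}

/-- The weight of a polynomial. -/
noncomputable def wt (f : (ZMod p)[X]) : Alg p :=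
  if h : f.eval 0 ≠ 0 ∧ f.eval 2 ≠ 0 then MonoidAlgebra.single (Units.mk0 _ h.1, Units.mk0 _ h.2) 1
  else 0

theorem wt_mul (f g : (ZMod p)[X]) : wt (f * g) = wt f * wt g := by
  by_cases hf : f.eval 0 ≠ 0 ∧ f.eval 2 ≠ 0
  · by_cases hg : g.eval 0 ≠ 0 ∧ g.eval 2 ≠ 0
    · have h : (f * g).eval 0 ≠ 0 ∧ (f * g).eval 2 ≠ 0 := by
        simp only [eval_mul]
        exact ⟨mul_ne_zero hf.1 hg.1, mul_ne_zero hf.2 hg.2⟩
      rw [wt, wt, wt, dif_pos hf, dif_pos hg, dif_pos h, MonoidAlgebra.single_mul_single, one_mul]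
      congr 1
      ext <;> simp
    · have h : ¬ ((f * g).eval 0 ≠ 0 ∧ (f * g).eval 2 ≠ 0) := by
        simp only [eval_mul, mul_ne_zero_iff]
        exact fun h => hg ⟨h.1.2, h.2.2⟩
      rw [wt, wt, wt, dif_neg hg, dif_neg h, mul_zero]
  · have h : ¬ ((f * g).eval 0 ≠ 0 ∧ (f * g).eval 2 ≠ 0) := by
      simp only [eval_mul, mul_ne_zero_iff]
      exact fun h => hf ⟨h.1.1, h.2.1⟩
    rw [wt, wt, wt, dif_neg hf, dif_neg h, zero_mul]

theorem wt_one : wt (1 : (ZMod p)[X]) = 1 := by
  have h : (1 : (ZMod p)[X]).eval 0 ≠ 0 ∧ (1 : (ZMod p)[X]).eval 2 ≠ 0 := by simp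
  rw [wt, dif_pos h, MonoidAlgebra.one_def]
  congr 1
  ext <;> simp

theorem wt_pow (f : (ZMod p)[X]) (n : ℕ) : wt (f ^ n) = wt f ^ n := by
  induction n with
  | zero => rw [pow_zero, pow_zero, wt_one]
  | succ n ih => rw [pow_succ, pow_succ, wt_mul, ih]

theorem wt_apply_nonneg (f : (ZMod p)[X]) (u : Val p) : 0 ≤ (wt f).coeff u := by
  classical
  unfold wt
  split_ifs
  · rw [MonoidAlgebra.coeff_single, Finsupp.single_apply]; split_ifs <;> norm_num
  · simp

/-- The monic polynomial with given lower coefficients. -/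
noncomputable def poly : ∀ n : ℕ, (Fin n → ZMod p) → (ZMod p)[X]
  | 0, _ => 1
  | n + 1, c => C (c 0) + X * poly n (Fin.tail c)

theorem poly_spec : ∀ (n : ℕ) (c : Fin n → ZMod p), (poly n c).Monic ∧ (poly n c).natDegree = n
  | 0, _ => ⟨monic_one, natDegree_one⟩
  | n + 1, c => by
    obtain ⟨hm, hd⟩ := poly_spec n (Fin.tail c)
    have hmX : (X * poly n (Fin.tail c)).Monic := monic_X.mul hm
    have hdX : (X * poly n (Fin.tail c)).natDegree = n + 1 := by
      rw [natDegree_X_mul hm.ne_zero, hd]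
    have hlt : (C (c 0)).degree < (X * poly n (Fin.tail c)).degree := by
      rw [degree_eq_natDegree hmX.ne_zero, hdX]
      exact degree_C_le.trans_lt (by exact_mod_cast Nat.succ_pos n)
    refine ⟨?_, ?_⟩
    · rw [poly]; exact hmX.add_of_right hlt
    · rw [poly, natDegree_add_eq_right_of_degree_lt hlt, hdX]

theorem poly_injective : ∀ n : ℕ, Function.Injective (poly (p := p) n)
  | 0, _, _, _ => Subsingleton.elim _ _
  | n + 1, c, d, h => by
    rw [poly, poly] at h
    have h0 : c 0 = d 0 := by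
      have := congrArg (fun f => f.coeff 0) h
      simpa using this
    rw [h0] at h
    have ht := poly_injective n (mul_left_cancel₀ X_ne_zero (add_left_cancel h))
    rw [← Fin.cons_self_tail c, ← Fin.cons_self_tail d, h0, ht]

theorem poly_surjective : ∀ (n : ℕ) (f : (ZMod p)[X]), f.Monic → f.natDegree = n → ∃ c, poly n c = f
  | 0, f, hm, hd => ⟨Fin.elim0, (hm.natDegree_eq_zero.1 hd).symm⟩
  | n + 1, f, hm, hd => by
    have hdiv : f.divX.natDegree = n := by rw [natDegree_divX_eq_natDegree_tsub_one, hd]; rfl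
    have hmdiv : f.divX.Monic := by
      rw [Monic, leadingCoeff, hdiv, coeff_divX, ← hd]
      exact hm
    obtain ⟨c, hc⟩ := poly_surjective n f.divX hmdiv hdiv
    refine ⟨Fin.cons (f.coeff 0) c, ?_⟩
    rw [poly, Fin.tail_cons, Fin.cons_zero, hc, add_comm]
    exact X_mul_divX_add f

/-- The monic polynomials of degree `n`. -/
noncomputable def monics (p : ℕ) [Fact p.Prime] (n : ℕ) : Finset (ZMod p)[X] :=
  Finset.univ.map ⟨poly n, poly_injective n⟩

theorem mem_monics {n : ℕ} {f : (ZMod p)[X]} : f ∈ monics p n ↔ f.Monic ∧ f.natDegree = n := by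
  simp only [monics, Finset.mem_map, Finset.mem_univ, true_and, Function.Embedding.coeFn_mk]
  exact ⟨fun ⟨c, hc⟩ => hc ▸ poly_spec n c, fun h => poly_surjective n f h.1 h.2⟩

/-- The weighted number of monic polynomials of degree `n`. -/
noncomputable def L (p : ℕ) [Fact p.Prime] (n : ℕ) : Alg p := ∑ f ∈ monics p n, wt f

/-- The pairs `(P, j)`, `P` irreducible, with `deg (P ^ j) = k`. -/
noncomputable def powers (p : ℕ) [Fact p.Prime] (k : ℕ) : Finset ((ZMod p)[X] × ℕ) := by
  classical
  exact (((Finset.range (k + 1)).biUnion (monics p)) ×ˢ Finset.Icc 1 k).filter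
    fun x => Irreducible x.1 ∧ x.1.natDegree * x.2 = k

theorem mem_powers {k : ℕ} {x : (ZMod p)[X] × ℕ} (hk : 1 ≤ k) : x ∈ powers p k ↔
    x.1.Monic ∧ Irreducible x.1 ∧ x.1.natDegree * x.2 = k := by
  classical
  simp only [powers, Finset.mem_filter, Finset.mem_product, Finset.mem_biUnion, Finset.mem_range,
    mem_monics, Finset.mem_Icc]
  refine ⟨fun ⟨⟨⟨d, _, hm, _⟩, _⟩, hi, hd⟩ => ⟨hm, hi, hd⟩, fun ⟨hm, hi, hd⟩ => ?_⟩
  have h1 : 1 ≤ x.1.natDegree := hi.natDegree_pos
  have h2 : 1 ≤ x.2 := Nat.pos_of_ne_zero fun h => by rw [h, mul_zero] at hd; omega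
  refine ⟨⟨⟨_, ?_, hm, rfl⟩, h2, ?_⟩, hi, hd⟩
  · nlinarith
  · nlinarith

/-- The logarithmic derivative. -/
noncomputable def psi (p : ℕ) [Fact p.Prime] (k : ℕ) : Alg p :=
  ∑ x ∈ powers p k, (x.1.natDegree : Alg p) * wt x.1 ^ x.2

open Classical in
/-- The degree is the weighted number of prime power divisors. -/
theorem degree_eq_sum {n : ℕ} {f : (ZMod p)[X]} (hf : f.Monic) (hd : f.natDegree = n) :
    ∑ x ∈ ((Finset.Icc 1 n).biUnion (powers p)), (if x.1 ^ x.2 ∣ f then x.1.natDegree else 0) = n := by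
  classical
  set m := normalizedFactors f with hm
  have hprod : m.prod = f := by
    rw [hm, prod_normalizedFactors_eq hf.ne_zero, hf.normalize_eq_self]
  have hmon : ∀ P ∈ m, P.Monic ∧ Irreducible P := fun P hP => by
    have hi := irreducible_of_normalized_factor P hP
    exact ⟨(normalize_eq_self_iff_monic hi.ne_zero).1 (normalize_normalized_factor P hP), hi⟩
  have hsum : (m.map natDegree).sum = n := by
    rw [← hd, ← hprod, natDegree_multiset_prod_of_monic _ fun P hP => (hmon P hP).1]
  have hdvd : ∀ P : (ZMod p)[X], P.Monic → Irreducible P → ∀ j, P ^ j ∣ f ↔ j ≤ m.count P := by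
    intro P hPm hPi j
    rw [dvd_iff_normalizedFactors_le_normalizedFactors (pow_ne_zero j hPm.ne_zero) hf.ne_zero,
      normalizedFactors_pow, normalizedFactors_irreducible hPi, hPm.normalize_eq_self,
      Multiset.nsmul_singleton, ← Multiset.le_count_iff_replicate_le]
  have hset : ((Finset.Icc 1 n).biUnion (powers p)).filter (fun x => x.1 ^ x.2 ∣ f) =
      m.toFinset.biUnion fun P => (Finset.Icc 1 (m.count P)).image (Prod.mk P) := by
    ext ⟨P, j⟩
    simp only [Finset.mem_filter, Finset.mem_biUnion, Multiset.mem_toFinset, Finset.mem_image,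
      Prod.mk.injEq, Finset.mem_Icc]
    constructor
    · rintro ⟨⟨k, hk, hP⟩, hdiv⟩
      obtain ⟨hPm, hPi, hdeg⟩ := (mem_powers hk.1).1 hP
      have hj : 1 ≤ j := Nat.pos_of_ne_zero fun h => by
        simp only [h, mul_zero] at hdeg
        omega
      have hc := (hdvd P hPm hPi j).1 hdiv
      exact ⟨P, Multiset.count_pos.1 (by omega), j, ⟨hj, hc⟩, rfl, rfl⟩
    · rintro ⟨Q, hQ, i, hi, rfl, rfl⟩
      obtain ⟨hQm, hQi⟩ := hmon _ hQ
      have hdiv := (hdvd _ hQm hQi i).2 hi.2
      have hle := natDegree_le_of_dvd hdiv hf.ne_zero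
      rw [natDegree_pow, hd, mul_comm] at hle
      have h1 : 1 ≤ Q.natDegree * i := Nat.mul_pos hQi.natDegree_pos hi.1
      exact ⟨⟨Q.natDegree * i, ⟨h1, hle⟩, (mem_powers h1).2 ⟨hQm, hQi, rfl⟩⟩, hdiv⟩
  rw [← Finset.sum_filter, hset, Finset.sum_biUnion]
  · rw [← hsum, Finset.sum_multiset_map_count]
    refine Finset.sum_congr rfl fun P _ => ?_
    rw [Finset.sum_image fun a _ b _ h => congrArg Prod.snd h]
    dsimp only
    rw [Finset.sum_const, Nat.card_Icc,
      Nat.add_sub_cancel]
  · intro P _ Q _ hne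
    simp only [Function.onFun, Finset.disjoint_left, Finset.mem_image]
    rintro x ⟨a, -, rfl⟩ ⟨b, -, h⟩
    exact hne (congrArg Prod.fst h).symm

/-- The recursion. -/
theorem recursion (n : ℕ) : (n : Alg p) * L p n = ∑ k ∈ Finset.Icc 1 n, psi p k * L p (n - k) := by
  classical
  calc (n : Alg p) * L p n = ∑ f ∈ monics p n, ∑ x ∈ ((Finset.Icc 1 n).biUnion (powers p)),
        (if x.1 ^ x.2 ∣ f then (x.1.natDegree : Alg p) * wt f else 0) := by
        rw [L, Finset.mul_sum]
        refine Finset.sum_congr rfl fun f hf => ?_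
        obtain ⟨hm, hd⟩ := mem_monics.1 hf
        conv_lhs => rw [← degree_eq_sum hm hd]
        rw [Nat.cast_sum, Finset.sum_mul]
        refine Finset.sum_congr rfl fun x _ => ?_
        split_ifs <;> simp
    _ = ∑ x ∈ ((Finset.Icc 1 n).biUnion (powers p)),
        (x.1.natDegree : Alg p) * wt x.1 ^ x.2 * L p (n - x.1.natDegree * x.2) := by
        rw [Finset.sum_comm]
        refine Finset.sum_congr rfl fun x hx => ?_
        obtain ⟨k, hk, hxk⟩ := Finset.mem_biUnion.1 hx
        obtain ⟨hk1, hkn⟩ := Finset.mem_Icc.1 hk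
        obtain ⟨hPm, hPi, hdeg⟩ := (mem_powers hk1).1 hxk
        have hPj : (x.1 ^ x.2).Monic := hPm.pow _
        have hPd : (x.1 ^ x.2).natDegree = k := by rw [hPm.natDegree_pow, mul_comm, hdeg]
        rw [← Finset.sum_filter, hdeg, L, Finset.mul_sum]
        symm
        refine Finset.sum_bij (fun g _ => x.1 ^ x.2 * g) (fun g hg => ?_) (fun g _ g' _ h => ?_)
          (fun f hf => ?_) fun g _ => ?_
        · obtain ⟨hgm, hgd⟩ := mem_monics.1 hg
          refine Finset.mem_filter.2 ⟨mem_monics.2 ⟨hPj.mul hgm, ?_⟩, dvd_mul_right _ _⟩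
          rw [hPj.natDegree_mul hgm, hPd, hgd]
          omega
        · exact mul_left_cancel₀ hPj.ne_zero h
        · obtain ⟨hf, g, rfl⟩ := Finset.mem_filter.1 hf
          obtain ⟨hfm, hfd⟩ := mem_monics.1 hf
          have hgm : g.Monic := hPj.of_mul_monic_left hfm
          refine ⟨g, mem_monics.2 ⟨hgm, ?_⟩, rfl⟩
          rw [hPj.natDegree_mul hgm, hPd] at hfd
          omega
        · rw [wt_mul, wt_pow, mul_assoc]
    _ = _ := by
        rw [Finset.sum_biUnion]
        · refine Finset.sum_congr rfl fun k hk => ?_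
          rw [psi, Finset.sum_mul]
          refine Finset.sum_congr rfl fun x hx => ?_
          rw [((mem_powers (Finset.mem_Icc.1 hk).1).1 hx).2.2]
        · intro a ha b hb hne
          simp only [Function.onFun, Finset.disjoint_left]
          intro x hxa hxb
          exact hne (((mem_powers (Finset.mem_Icc.1 ha).1).1 hxa).2.2.symm.trans
            ((mem_powers (Finset.mem_Icc.1 hb).1).1 hxb).2.2)

/-- The sum of all pairs. -/
noncomputable def J (p : ℕ) [Fact p.Prime] : Alg p := ∑ u : Val p, MonoidAlgebra.single u 1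

theorem single_mul_J (u : Val p) : MonoidAlgebra.single u 1 * J p = J p := by
  rw [J, Finset.mul_sum]
  simp only [MonoidAlgebra.single_mul_single, one_mul]
  exact Equiv.sum_comp (Equiv.mulLeft u) fun v => MonoidAlgebra.single v (1 : ℤ)

theorem J_apply (u : Val p) : (J p).coeff u = 1 := by
  classical
  rw [J, MonoidAlgebra.coeff_sum, Finsupp.finsetSum_apply]
  simp only [MonoidAlgebra.coeff_single, Finsupp.single_apply]
  rw [Finset.sum_ite_eq' Finset.univ u, if_pos (Finset.mem_univ u)]

theorem card_val : (Fintype.card (Val p) : ℤ) = ((p : ℤ) - 1) ^ 2 := by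
  rw [Fintype.card_prod, ZMod.card_units p, Nat.cast_mul, Nat.cast_sub hp.out.one_le, pow_two, Nat.cast_one]

theorem J_mul_J : J p * J p = (((p : ℤ) - 1) ^ 2 : ℤ) • J p := by
  conv_lhs => arg 1; rw [J]
  rw [Finset.sum_mul]
  simp only [single_mul_J]
  rw [Finset.sum_const, Finset.card_univ, ← natCast_zsmul, card_val]

theorem L_zero : L p 0 = 1 := by
  have h : monics p 0 = {1} := by
    ext f
    rw [mem_monics, Finset.mem_singleton]
    exact ⟨fun h => h.1.natDegree_eq_zero.1 h.2, fun h => h ▸ ⟨monic_one, natDegree_one⟩⟩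
  rw [L, h, Finset.sum_singleton, wt_one]

theorem L_one_mul_J (hp2 : p ≠ 2) : L p 1 * J p = (((p : ℤ) - 2) : ℤ) • J p := by
  classical
  have htwo : (2 : ZMod p) ≠ 0 := fun h => hp2 (by
    have := (CharP.cast_eq_zero_iff (ZMod p) p 2).1 (by exact_mod_cast h)
    exact (Nat.prime_dvd_prime_iff_eq hp.out Nat.prime_two).1 this)
  rw [L, monics, Finset.sum_map, Finset.sum_mul]
  have h : ∀ c : Fin 1 → ZMod p, wt (poly 1 c) * J p =
      if c 0 ≠ 0 ∧ c 0 + 2 ≠ 0 then J p else 0 := fun c => by
    simp only [wt, poly, eval_add, eval_C, eval_mul, eval_X, eval_one, zero_mul, add_zero, mul_one]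
    split_ifs <;> simp [single_mul_J]
  simp only [Function.Embedding.coeFn_mk, h]
  rw [← Finset.sum_filter, Finset.sum_const, ← natCast_zsmul]
  congr 1
  have hset : (Finset.univ.filter fun c : Fin 1 → ZMod p => c 0 ≠ 0 ∧ c 0 + 2 ≠ 0) =
      ({0, fun _ => -2} : Finset (Fin 1 → ZMod p))ᶜ := by
    ext c
    simp only [Finset.mem_filter, Finset.mem_univ, true_and, Finset.mem_compl, Finset.mem_insert,
      Finset.mem_singleton, not_or]
    refine and_congr (not_congr ⟨fun h => funext fun i => ?_, fun h => by rw [h]; rfl⟩)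
      (not_congr ⟨fun h => funext fun i => ?_, fun h => by rw [h]; simp⟩)
    · rw [Subsingleton.elim i 0, h]; rfl
    · rw [Subsingleton.elim i 0]; exact eq_neg_of_add_eq_zero_left h
  have hne : (0 : Fin 1 → ZMod p) ≠ fun _ => -2 := fun h => htwo (neg_eq_zero.1 (congrFun h 0).symm)
  rw [hset, Finset.card_compl, Finset.card_pair hne, Fintype.card_fun, ZMod.card, Fintype.card_fin, pow_one,
    Nat.cast_sub hp.out.two_le]
  norm_num

theorem L_add_two (hp2 : p ≠ 2) (n : ℕ) : L p (n + 2) = ((p : ℤ) ^ n : ℤ) • J p := by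
  classical
  have htwo : (2 : ZMod p) ≠ 0 := fun h => hp2 (by
    have := (CharP.cast_eq_zero_iff (ZMod p) p 2).1 (by exact_mod_cast h)
    exact (Nat.prime_dvd_prime_iff_eq hp.out Nat.prime_two).1 this)
  -- a polynomial is its rest and two values
  let e : (Fin n → ZMod p) × (ZMod p × ZMod p) ≃ (Fin (n + 2) → ZMod p) :=
    { toFun := fun x => Fin.cons x.2.1 (Fin.cons ((x.2.2 - x.2.1) * 2⁻¹ - 2 * (poly n x.1).eval 2) x.1)
      invFun := fun c => (Fin.tail (Fin.tail c), (c 0, c 0 + 2 * (c 1 + 2 * (poly n (Fin.tail (Fin.tail c))).eval 2)))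
      left_inv := fun x => by
        obtain ⟨h, a, b⟩ := x
        simp only [Fin.tail_cons, Fin.cons_zero, Prod.mk.injEq, true_and]
        rw [show (1 : Fin (n + 2)) = Fin.succ 0 from rfl, Fin.cons_succ, Fin.cons_zero]
        field_simp
        ring
      right_inv := fun c => by
        simp only
        have : ((c 0 + 2 * (c 1 + 2 * (poly n (Fin.tail (Fin.tail c))).eval 2)) - c 0) * 2⁻¹ -
            2 * (poly n (Fin.tail (Fin.tail c))).eval 2 = c 1 := by field_simp; ring
        rw [this]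
        conv_rhs => rw [← Fin.cons_self_tail c, ← Fin.cons_self_tail (Fin.tail c)]
        rfl }
  let F : ZMod p × ZMod p → Alg p := fun y =>
    if h : y.1 ≠ 0 ∧ y.2 ≠ 0 then MonoidAlgebra.single (Units.mk0 _ h.1, Units.mk0 _ h.2) 1 else 0
  have hw : ∀ x, wt (poly (n + 2) (e x)) = F x.2 := by
    intro x
    obtain ⟨h, a, b⟩ := x
    have h0 : (poly (n + 2) (e (h, a, b))).eval 0 = a := by simp [e, poly]
    have h2 : (poly (n + 2) (e (h, a, b))).eval 2 = b := by
      simp only [e, Equiv.coe_fn_mk, poly, Fin.tail_cons, Fin.cons_zero, eval_add, eval_C, eval_mul, eval_X]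
      field_simp
      ring
    unfold wt
    simp only [h0, h2, F]
  rw [L, monics, Finset.sum_map, ← Equiv.sum_comp e]
  simp only [Function.Embedding.coeFn_mk, hw]
  rw [Fintype.sum_prod_type]
  dsimp only
  rw [Finset.sum_const, Finset.card_univ, Fintype.card_fun, ZMod.card, Fintype.card_fin, ← natCast_zsmul,
    Nat.cast_pow]
  congr 1
  rw [J, Fintype.sum_prod_type]
  -- only the nonzero values count
  have key : ∀ F : ZMod p → Alg p, F 0 = 0 → ∑ a, F a = ∑ u : (ZMod p)ˣ, F u := fun F hF => by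
    refine (Finset.sum_bij_ne_zero (fun a _ ha => Units.mk0 a fun h => ha (h ▸ hF))
      (fun _ _ _ => Finset.mem_univ _) (fun a _ _ b _ _ h => by simpa using congrArg Units.val h)
      (fun u _ hu => ⟨u, Finset.mem_univ _, hu, Units.ext rfl⟩) fun a _ _ => rfl)
  rw [Fintype.sum_prod_type, key (fun a => ∑ b, F (a, b)) (by simp [F])]
  refine Finset.sum_congr rfl fun u _ => ?_
  rw [key (fun b => F ((u : ZMod p), b)) (by simp [F])]
  refine Finset.sum_congr rfl fun v _ => ?_
  simp only [F]
  rw [dif_pos ⟨u.ne_zero, v.ne_zero⟩]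
  simp [Units.mk0_val]

/-- The closed form. -/
theorem psi_eq (hp2 : p ≠ 2) : ∀ n : ℕ, 1 ≤ n → (((p : ℤ) - 1) ^ 2 : ℤ) • psi p n =
    ((p : ℤ) ^ n - 2 + (-((p : ℤ) - 2)) ^ n : ℤ) • J p - (((p : ℤ) - 1) ^ 2 : ℤ) • (-L p 1) ^ n := by
  set D : Alg p := ((((p : ℤ) - 1) ^ 2 : ℤ) : Alg p) with hD
  set e : Alg p := ((((p : ℤ) - 2) : ℤ) : Alg p) with he
  set P : Alg p := (((p : ℤ)) : Alg p) with hP
  set l := L p 1 with hl
  set Xn : ℕ → Alg p := fun n => (P ^ n - 2 + (-e) ^ n) * J p - D * (-l) ^ n with hXn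
  have hJJ : J p * J p = D * J p := by rw [J_mul_J, zsmul_eq_mul]
  have hlJ : l * J p = e * J p := by rw [hl, L_one_mul_J hp2, zsmul_eq_mul]
  have hlnJ : ∀ n : ℕ, (-l) ^ n * J p = (-e) ^ n * J p := by
    intro n
    induction n with
    | zero => rfl
    | succ n ih => linear_combination (-l) * ih - (-e) ^ n * hlJ
  have hL : ∀ n, L p (n + 2) = P ^ n * J p := fun n => by
    rw [L_add_two hp2, zsmul_eq_mul, hP, Int.cast_pow]
  -- the sums telescope
  have hS : ∀ n : ℕ, ∑ k ∈ Finset.range (n + 2), Xn (k + 1) * L p (n + 1 - k) =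
      (n + 2 : ℕ) * D * (P ^ n * J p) := by
    intro n
    induction n with
    | zero =>
      simp only [Finset.sum_range_succ, Finset.sum_range_zero, zero_add, Nat.sub_zero, Nat.sub_self,
        L_zero, mul_one, hXn, ← hl]
      have hD' : D = (P - 1) ^ 2 := by rw [hD, hP]; push_cast; ring
      have he' : e = P - 2 := by rw [he, hP]; push_cast; ring
      rw [hD', he']
      ring
    | succ n ih =>
      have hshift : ∀ k ∈ Finset.range n, Xn (k + 1) * L p (n + 1 + 1 - k) =
          P * (Xn (k + 1) * L p (n + 1 - k)) := by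
        intro k hk
        rw [Finset.mem_range] at hk
        obtain ⟨m, hm⟩ : ∃ m, n + 1 - k = m + 2 := ⟨n - k - 1, by omega⟩
        rw [show n + 1 + 1 - k = (m + 1) + 2 by omega, hm, hL, hL, pow_succ]
        ring
      have h0 : n + 1 - n = 1 := by omega
      have h1 : n + 1 + 1 - n = 2 := by omega
      have h2 : n + 1 + 1 - (n + 1) = 1 := by omega
      simp only [Finset.sum_range_succ, Nat.sub_self, L_zero, mul_one, h0, ← hl] at ih
      simp only [Finset.sum_range_succ, Nat.sub_self, L_zero, mul_one, h1, h2, ← hl]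
      rw [Finset.sum_congr rfl hshift, ← Finset.mul_sum, show L p 2 = J p by rw [hL 0, pow_zero, one_mul]]
      simp only [hXn] at ih ⊢
      have hD' : D = (P - 1) ^ 2 := by rw [hD, hP]; push_cast; ring
      have he' : e = P - 2 := by rw [he, hP]; push_cast; ring
      have hlnJ' := hlnJ (n + 1)
      simp only [hD', he'] at hJJ hlJ hlnJ' ih ⊢
      push_cast at ih ⊢
      linear_combination P * ih + ((P ^ (n + 1) - 2 + (-(P - 2)) ^ (n + 1))) * hJJ - (P - 1) ^ 2 * hlnJ'
        + (P ^ (n + 2) - 2 + (-(P - 2)) ^ (n + 2)) * hlJ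
        - P * (P ^ (n + 1) - 2 + (-(P - 2)) ^ (n + 1)) * hlJ
  intro n
  induction n using Nat.strong_induction_on with
  | _ n ih =>
  intro hn
  suffices h : D * psi p n = Xn n by
    rw [zsmul_eq_mul, zsmul_eq_mul, zsmul_eq_mul]
    simpa [hXn, hD, he, hP] using h
  have ih' : ∀ k, 1 ≤ k → k < n → D * psi p k = Xn k := fun k hk1 hkn => by
    have := ih k hkn hk1
    rw [zsmul_eq_mul, zsmul_eq_mul, zsmul_eq_mul] at this
    simpa [hXn, hD, he, hP] using this
  obtain ⟨m, rfl⟩ : ∃ m, n = m + 1 := ⟨n - 1, by omega⟩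
  have hrec := congrArg (fun z => D * z) (recursion (p := p) (m + 1))
  simp only [Finset.mul_sum] at hrec
  have hre : ∑ k ∈ Finset.Icc 1 (m + 1), D * (psi p k * L p (m + 1 - k)) =
      (∑ k ∈ Finset.range m, Xn (k + 1) * L p (m - k)) + D * psi p (m + 1) := by
    rw [show Finset.Icc 1 (m + 1) = (Finset.range (m + 1)).map ⟨fun k => k + 1, add_left_injective 1⟩ from ?_,
      Finset.sum_map, Finset.sum_range_succ]
    · simp only [Function.Embedding.coeFn_mk, Nat.sub_self, L_zero, mul_one]
      congr 1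
      refine Finset.sum_congr rfl fun k hk => ?_
      rw [Finset.mem_range] at hk
      rw [← mul_assoc, ih' (k + 1) (by omega) (by omega), Nat.succ_sub_succ]
    · ext k
      simp only [Finset.mem_Icc, Finset.mem_map, Finset.mem_range, Function.Embedding.coeFn_mk]
      exact ⟨fun h => ⟨k - 1, by omega, by omega⟩, fun ⟨a, ha, hak⟩ => by omega⟩
  rw [hre] at hrec
  cases m with
  | zero =>
    simp only [Finset.range_zero, Finset.sum_empty, zero_add, Nat.cast_one, one_mul, ← hl] at hrec
    rw [← hrec]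
    have he' : e = P - 2 := by rw [he, hP]; push_cast; ring
    simp only [hXn, zero_add, pow_one, he']
    ring
  | succ m =>
    have h := hS m
    rw [Finset.sum_range_succ, Nat.sub_self, L_zero, mul_one] at h
    rw [hL] at hrec
    linear_combination -hrec - h

theorem mul_apply_nonneg {a b : Alg p} (ha : ∀ u, 0 ≤ a.coeff u) (hb : ∀ u, 0 ≤ b.coeff u) :
    ∀ u, 0 ≤ (a * b).coeff u := by
  classical
  intro u
  rw [MonoidAlgebra.coeff_mul]
  refine Finset.sum_nonneg fun x _ => Finset.sum_nonneg fun y _ => ?_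
  dsimp only
  split_ifs
  · exact mul_nonneg (ha x) (hb y)
  · exact le_rfl

/-- An irreducible polynomial of degree `q` with the values `-1` at `0` and `1` at `2`. -/
theorem exists_irreducible {q : ℕ} (hq : q.Prime) (hp2 : p ≠ 2) (hq2 : q ≠ 2) (hcop : q.Coprime (p - 1)) :
    ∃ f : (ZMod p)[X], f.Monic ∧ Irreducible f ∧ f.natDegree = q ∧ f.eval 0 = -1 ∧ f.eval 2 = 1 := by
  classical
  have hqodd : Odd q := hq.odd_of_ne_two hq2
  set c₀ : Val p := (-1, 1) with hc₀
  by_contra hno
  push Not at hno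
  -- the coefficient is at most one
  have hterm : ∀ x ∈ powers p q, ((x.1.natDegree : Alg p) * wt x.1 ^ x.2).coeff c₀ ≤
      if x = (X - C 1, q) then 1 else 0 := by
    intro x hx
    obtain ⟨hm, hi, hdeg⟩ := (mem_powers hq.one_lt.le).1 hx
    rw [← wt_pow, ← nsmul_eq_mul, MonoidAlgebra.coeff_smul, Finsupp.smul_apply]
    have hzero : ∀ g : (ZMod p)[X], ¬ (g.eval 0 = -1 ∧ g.eval 2 = 1) → (wt g).coeff c₀ = 0 := by
      intro g hg
      unfold wt
      split_ifs with h
      · rw [MonoidAlgebra.coeff_single, Finsupp.single_apply, if_neg]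
        intro he
        rw [hc₀, Prod.mk.injEq] at he
        exact hg ⟨by simpa using congrArg Units.val he.1, by simpa using congrArg Units.val he.2⟩
      · rfl
    rcases (Nat.dvd_prime hq).1 (Dvd.intro _ hdeg) with h1 | h1
    · rw [h1, one_smul]
      rw [h1, one_mul] at hdeg
      obtain ⟨a, ha⟩ : ∃ a, x.1 = X - C a := ⟨-x.1.coeff 0, by
        rw [hm.eq_X_add_C h1, map_neg, sub_neg_eq_add]
        simp⟩
      by_cases hval : (x.1 ^ x.2).eval 0 = -1 ∧ (x.1 ^ x.2).eval 2 = 1
      · have hxe : x = (X - C 1, q) := by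
          refine Prod.ext ?_ hdeg
          obtain ⟨hv, -⟩ := hval
          rw [ha, hdeg, eval_pow, eval_sub, eval_X, eval_C, zero_sub, hqodd.neg_pow, neg_inj] at hv
          have ha0 : a ≠ 0 := fun h => by rw [h, zero_pow hq.ne_zero] at hv; exact zero_ne_one hv
          have hcard : q.Coprime (Nat.card (ZMod p)ˣ) := by
            rwa [Nat.card_eq_fintype_card, ZMod.card_units p]
          have hu : (Units.mk0 a ha0) = 1 := (powCoprime hcard.symm).injective (by
            simp only [powCoprime_apply, one_pow]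
            exact Units.ext hv)
          rw [ha, show a = 1 from congrArg Units.val hu]
        rw [if_pos hxe]
        unfold wt
        split_ifs
        · rw [MonoidAlgebra.coeff_single, Finsupp.single_apply]; split_ifs <;> norm_num
        · simp
      · rw [hzero _ hval]
        split_ifs <;> norm_num
    · have hj : x.2 = 1 := by
        rw [h1] at hdeg
        exact Nat.eq_of_mul_eq_mul_left hq.pos (hdeg.trans (mul_one q).symm)
      rw [hj, pow_one, hzero _ (fun hv => hno x.1 hm hi h1 hv.1 hv.2), smul_zero]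
      split_ifs <;> norm_num
  have hupp : (psi p q).coeff c₀ ≤ 1 := by
    rw [psi, MonoidAlgebra.coeff_sum, Finsupp.finsetSum_apply]
    refine (Finset.sum_le_sum hterm).trans ?_
    rw [Finset.sum_ite_eq']
    split_ifs <;> norm_num
  -- the closed form is bigger
  have hform := congrArg (fun z : Alg p => z.coeff c₀) (psi_eq hp2 q hq.one_lt.le)
  simp only [MonoidAlgebra.coeff_smul, MonoidAlgebra.coeff_sub, Finsupp.smul_apply, Finsupp.sub_apply,
    smul_eq_mul, J_apply, mul_one] at hform
  have hpos : ((-L p 1) ^ q).coeff c₀ ≤ 0 := by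
    rw [hqodd.neg_pow, MonoidAlgebra.coeff_neg, Finsupp.neg_apply]
    refine neg_nonpos.2 ?_
    have h : ∀ n, ∀ u, 0 ≤ ((L p 1) ^ n).coeff u := by
      intro n
      induction n with
      | zero =>
        intro u
        rw [pow_zero, MonoidAlgebra.one_def, MonoidAlgebra.coeff_single, Finsupp.single_apply]
        split_ifs <;> norm_num
      | succ n ih =>
        rw [pow_succ]
        refine mul_apply_nonneg ih fun u => ?_
        rw [L, MonoidAlgebra.coeff_sum, Finsupp.finsetSum_apply]
        exact Finset.sum_nonneg fun f _ => wt_apply_nonneg f u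
    exact h q c₀
  have hp3 : (3 : ℤ) ≤ p := by
    have := hp.out.two_le
    omega
  set P := (p : ℤ)
  have hge : 6 * (P - 1) ^ 2 ≤ P ^ q - 2 + (-(P - 2)) ^ q := by
    rw [hqodd.neg_pow]
    obtain ⟨t, ht⟩ : ∃ t, q = 3 + t := ⟨q - 3, by have := hq.two_le; omega⟩
    have h1 : (P - 2) ^ t ≤ P ^ t := pow_le_pow_left₀ (by linarith) (by linarith) t
    have h2 : 1 ≤ P ^ t := one_le_pow₀ (by linarith)
    have h3 : (0 : ℤ) ≤ (P - 2) ^ 3 := pow_nonneg (by linarith) 3
    rw [ht, pow_add, pow_add]
    nlinarith [mul_le_mul_of_nonneg_left h1 h3]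
  have hD0 : (0 : ℤ) < (P - 1) ^ 2 := pow_pos (by linarith) 2
  nlinarith

/-- Two elements of norm one whose differences from two have norm one. -/
theorem two_le_ncard {q : ℕ} [hq : Fact q.Prime] (hp2 : p ≠ 2) (hq2 : q ≠ 2) (hcop : q.Coprime (p - 1)) :
    2 ≤ Set.ncard {a : GaloisField p q | Algebra.norm (ZMod p) a = 1 ∧ Algebra.norm (ZMod p) (2 - a) = 1} := by
  classical
  obtain ⟨f, hm, hi, hd, h0, h2⟩ := exists_irreducible hq.out hp2 hq2 hcop
  haveI := Fact.mk hi
  set pb := AdjoinRoot.powerBasis hi.ne_zero with hpb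
  haveI : FiniteDimensional (ZMod p) (AdjoinRoot f) := pb.finite
  haveI : Finite (AdjoinRoot f) := Module.finite_of_finite (ZMod p)
  have hgen : pb.gen = AdjoinRoot.root f := AdjoinRoot.powerBasis_gen hi.ne_zero
  have hmin : minpoly (ZMod p) (AdjoinRoot.root f) = f := AdjoinRoot.minpoly_root hm.ne_zero |>.trans (by
    rw [hm.leadingCoeff, inv_one, map_one, mul_one])
  have hnorm : ∀ r : ZMod p,
      Algebra.norm (ZMod p) (algebraMap (ZMod p) (AdjoinRoot f) r - AdjoinRoot.root f) = f.eval r := by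
    intro r
    rw [Algebra.norm_eq_matrix_det pb.basis, map_sub, AlgHom.commutes]
    conv_rhs => rw [← hmin, ← hgen, ← charpoly_leftMulMatrix pb, Matrix.eval_charpoly]
    rw [Matrix.algebraMap_eq_diagonal]
    rfl
  have hcard : Nat.card (AdjoinRoot f) = p ^ q := by
    haveI := Fintype.ofFinite (AdjoinRoot f)
    rw [Nat.card_eq_fintype_card, Module.card_eq_pow_finrank (K := ZMod p), pb.finrank,
      AdjoinRoot.powerBasis_dim, hd, ZMod.card]
  haveI := Fintype.ofFinite (AdjoinRoot f)
  haveI := Fintype.ofFinite (GaloisField p q)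
  have hcard' := hcard.trans (GaloisField.card p q hq.out.ne_zero).symm
  rw [Nat.card_eq_fintype_card, Nat.card_eq_fintype_card] at hcard'
  let e : AdjoinRoot f ≃ₐ[ZMod p] GaloisField p q := FiniteField.algEquivOfCardEq p hcard'
  have hne : ∀ x : AdjoinRoot f, Algebra.norm (ZMod p) (e x) = Algebra.norm (ZMod p) x := fun x =>
    Algebra.norm_eq_of_algEquiv e x
  set a := AdjoinRoot.root f with ha
  have hqodd : Odd q := hq.out.odd_of_ne_two hq2
  have ha1 : Algebra.norm (ZMod p) a = 1 := by
    have h := hnorm 0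
    rw [map_zero, zero_sub, h0] at h
    have hneg : Algebra.norm (ZMod p) (algebraMap (ZMod p) (AdjoinRoot f) (-1)) = -1 := by
      rw [Algebra.norm_algebraMap, pb.finrank, AdjoinRoot.powerBasis_dim, hd, hqodd.neg_one_pow]
    rw [show -a = algebraMap (ZMod p) (AdjoinRoot f) (-1) * a by simp, map_mul, hneg] at h
    simpa using h
  have ha2 : Algebra.norm (ZMod p) (2 - a) = 1 := by
    have h := hnorm 2
    rwa [map_ofNat, h2] at h
  have hane : e a ≠ 1 := by
    intro h
    have h1 : a = 1 := e.injective (h.trans (map_one e).symm)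
    have := hmin
    rw [h1, minpoly.one] at this
    rw [← this, show (X : (ZMod p)[X]) - 1 = X - C 1 by simp, natDegree_X_sub_C] at hd
    exact hq.out.one_lt.ne hd
  rw [← Set.ncard_pair hane]
  refine Set.ncard_le_ncard ?_ (Set.toFinite _)
  rintro x (rfl | rfl)
  · refine ⟨by rw [hne, ha1], ?_⟩
    rw [show (2 : GaloisField p q) - e a = e (2 - a) by rw [map_sub, map_ofNat], hne, ha2]
  · refine ⟨map_one _, ?_⟩
    rw [show (2 : GaloisField p q) - 1 = 1 by norm_num, map_one]

end Cfsg.Agent.OddOrder.NormCount
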