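/-
One maximal subgroup supporting another (BG 16.4).
-/
import Cfsg.Agent.Lib.OddOrder.TypeA
import Cfsg.Agent.S1375
import Cfsg.Agent.S1433

set_option autoImplicit false
set_option linter.style.haveILetI false
set_option linter.unusedSectionVars false

namespace Cfsg.Agent.OddOrder.Supporting

open scoped commutatorElement IsMulCommutative Pointwise
open Exceptional TauOne Kappa Support

universe u

variable {G : Type u} [Group G] [Finite G] {S T : Subgroup G}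
variable (hG : Cfsg.IsMinSimpleOddOrder G) (hS : IsCoatom S) (hT : IsCoatom T)
include hG

omit hG in
theorem map_back (M : Subgroup G) (g : G) :
    (M.map (MulAut.conj g).toMonoidHom).map (MulAut.conj g⁻¹).toMonoidHom = M := by
  rw [Sigma.map_conj_map, inv_mul_cancel, Sigma.map_conj_one]

include hT in
theorem kappa_conj_nonempty (g : G) (h : (Cfsg.kappa T).Nonempty) :
    (Cfsg.kappa (T.map (MulAut.conj g).toMonoidHom)).Nonempty :=
  h.imp fun _ ht => PSupp.kappa_conj hG hT g ht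

include hT in
theorem typeA_transport (g : G) {a : G} (ha : a ∈ Cfsg.typeA T) :
    g * a * g⁻¹ ∈ Cfsg.typeA (T.map (MulAut.conj g).toMonoidHom) := by
  obtain ⟨haT, ha1, ⟨x, hx, hx1, hax⟩, hd⟩ := TypeA.typeA_mem hG hT ha
  refine TypeA.mem_typeA hG (coatom_conj hT g) ⟨a, haT, rfl⟩ (fun e => ha1 (conj_eq_one_iff.1 e)) (fun hI => ?_)
    ⟨g * x * g⁻¹, (sigmaCore_conj g).ge ⟨x, hx, rfl⟩, fun e => hx1 (conj_eq_one_iff.1 e), ?_⟩
  · rw [← Subgroup.map_commutator]
    refine ⟨a, hd fun hI' => hI ?_, rfl⟩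
    rw [TypeA.typeI_iff hG (coatom_conj hT g)]
    rw [TypeA.typeI_iff hG hT] at hI'
    by_contra hne
    have h := kappa_conj_nonempty hG (coatom_conj hT g) g⁻¹ (Set.nonempty_iff_ne_empty.2 hne)
    rw [map_back] at h
    exact h.ne_empty hI'
  · calc g * a * g⁻¹ * (g * x * g⁻¹) = g * (a * x) * g⁻¹ := by group
      _ = g * (x * a) * g⁻¹ := by rw [hax]
      _ = g * x * g⁻¹ * (g * a * g⁻¹) := by group

include hS in
theorem typeA1_transport (g : G) {a : G} (ha : a ∈ Cfsg.typeA1 S) :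
    g * a * g⁻¹ ∈ Cfsg.typeA1 (S.map (MulAut.conj g).toMonoidHom) := by
  rw [TypeA.typeA1_eq hG hS] at ha
  rw [TypeA.typeA1_eq hG (coatom_conj hS g)]
  exact ⟨(sigmaCore_conj g).ge ⟨a, ha.1, rfl⟩, fun e => ha.2 (conj_eq_one_iff.1 e)⟩

include hS hT

/-- The two `σ`-sets are disjoint. -/
theorem disjoint (hnc : ∀ g : G, T.map (MulAut.conj g).toMonoidHom ≠ S) {t : ℕ} (h : t ∈ Cfsg.sigma S) :
    t ∉ Cfsg.sigma T := fun h' => by
  obtain ⟨g, hg⟩ := SigmaDisj.conj_of_sigma hG hT hS h' h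
  exact hnc g hg.symm

theorem not_mem_core (hnc : ∀ g : G, T.map (MulAut.conj g).toMonoidHom ≠ S) {x : G} (hx : x ∈ Cfsg.typeA1 S) :
    x ∉ Cfsg.sigmaCore T := fun h => by
  rw [TypeA.typeA1_eq hG hS] at hx
  obtain ⟨t, ht, htd⟩ := Nat.exists_prime_and_dvd fun e => hx.2 (orderOf_eq_one_iff.1 e)
  exact disjoint hG hS hT hnc (primes_of_mem_sigmaCore hx.1 ht htd) (primes_of_mem_sigmaCore h ht htd)

/-- An element of `A₁(S) ∩ A(T)` has centralizer in `T`, not in `S`. -/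
theorem centralizer_of_mem (hnc : ∀ g : G, T.map (MulAut.conj g).toMonoidHom ≠ S) {x : G}
    (hx : x ∈ Cfsg.typeA1 S) (hxT : x ∈ Cfsg.typeA T) :
    ¬ Subgroup.centralizer ({x} : Set G) ≤ S ∧ Subgroup.centralizer ({x} : Set G) ≤ T := by
  have hxs := TypeA.typeA_sub hG hT hxT
  have hxσ := not_mem_core hG hS hT hnc hx
  refine ⟨fun hle => ?_, DadeT.centralizer_le hG hT hxs hxσ⟩
  obtain ⟨r, hr, hr1, -, hC, hu, -⟩ := DadeT.exists_part hG hT hxs hxσ
  rw [TypeA.typeA1_eq hG hS] at hx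
  have hrS : r ∈ Cfsg.sigmaCore S := (Subgroup.zpowers_le.2 hx.1) hr
  have hno : ¬ Subgroup.centralizer ({r} : Set G) ≤ S := fun h => by
    refine hnc 1 ?_
    rw [Sigma.map_conj_one]
    exact (hu S hS h).symm
  obtain ⟨-, -, hbot, -⟩ := PSupp.support hG hS hrS hr1 hno hT hC
  obtain ⟨y, hy, hy1, hxy⟩ := hxs.2.2.1
  exact hy1 (Subgroup.mem_bot.1 (hbot.le ⟨hy, hle (Subgroup.mem_centralizer_singleton_iff.2 hxy.symm)⟩))

theorem supports_iff (hnc : ∀ g : G, T.map (MulAut.conj g).toMonoidHom ≠ S) :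
    Cfsg.Supports T S ↔ (Cfsg.typeA1 S ∩ Cfsg.typeA T).Nonempty := by
  constructor
  · rintro ⟨-, x, hx, hno, hC⟩
    obtain ⟨hxσ, hx1⟩ := TypeA.mem_sigma_of_large hG hS hx hno
    obtain ⟨N, ⟨hN, -⟩, hu, -, -, -, -, hdec⟩ := S1375.result hG S hS x hxσ hx1 hno
    obtain rfl := hu T hT hC
    obtain ⟨K, U, hKU⟩ := FStruct.exists_decomp hG hN
    obtain ⟨-, hxA, -⟩ := hdec K U hKU
    obtain ⟨hxT, y, hy, hy1, hxy⟩ := hxA.1
    refine ⟨x, by rw [TypeA.typeA1_eq hG hS]; exact ⟨hxσ, hx1⟩,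
      TypeA.mem_typeA hG hN hxT hx1 (fun hI => ?_) ⟨y, hy, hy1, hxy⟩⟩
    have hne : (Cfsg.kappa T).Nonempty := Set.nonempty_iff_ne_empty.2 fun e => hI ((TypeA.typeI_iff hG hN).2 e)
    exact (S1365.result hG T hN K U hKU (Types.K_ne hKU hne)).1.ge hxA.2
  · rintro ⟨x, hx, hxT⟩
    obtain ⟨h1, h2⟩ := centralizer_of_mem hG hS hT hnc hx hxT
    exact ⟨hT, x, Or.inl (TypeA.typeA1_sub hG hS hx), h1, h2⟩

omit hT in
theorem conj_not_conj (hnc : ∀ g : G, T.map (MulAut.conj g).toMonoidHom ≠ S) (d g : G) :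
    (T.map (MulAut.conj d).toMonoidHom).map (MulAut.conj g).toMonoidHom ≠ S := by
  rw [Sigma.map_conj_map]
  exact hnc _

theorem tilde_iff (hnc : ∀ g : G, T.map (MulAut.conj g).toMonoidHom ≠ S) :
    (∃ g : G, Cfsg.Supports (T.map (MulAut.conj g).toMonoidHom) S) ↔
      (Cfsg.tildeOf S (Cfsg.typeA1 S) ∩ Cfsg.tildeOf T (Cfsg.typeA T)).Nonempty := by
  constructor
  · rintro ⟨g, hg⟩
    obtain ⟨x, hx, hxT⟩ := (supports_iff hG hS (coatom_conj hT g) (conj_not_conj hG hS hnc g)).1 hg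
    refine ⟨x, ⟨x, hx, 1, one_mem _, 1, by group⟩, g⁻¹ * x * g, ?_, 1, one_mem _, g, by group⟩
    have h := typeA_transport hG (coatom_conj hT g) g⁻¹ hxT
    rwa [map_back, inv_inv] at h
  · rintro ⟨_, ⟨a, ha, r, hr, y, rfl⟩, b, hb, s, hs, z, he⟩
    set c := z⁻¹ * y with hc
    have hS' := coatom_conj hS c
    set a' := c * a * c⁻¹ with ha'
    set r' := c * r * c⁻¹ with hr'
    have ha'1 := typeA1_transport hG hS c ha
    rw [← ha'] at ha'1
    rw [TypeA.typeA1_eq hG hS] at ha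
    have hr'' : r' ∈ Cfsg.supportR (S.map (MulAut.conj c).toMonoidHom) a' :=
      supportR_conj_le hG hS ha.1 ha.2 hr c
    have he' : a' * r' = b * s := by
      calc c * a * c⁻¹ * (c * r * c⁻¹) = z⁻¹ * (y * (a * r) * y⁻¹) * z := by rw [hc]; group
        _ = z⁻¹ * (z * (b * s) * z⁻¹) * z := by rw [he]
        _ = b * s := by group
    have hnc' : ∀ g : G, T.map (MulAut.conj g).toMonoidHom ≠ S.map (MulAut.conj c).toMonoidHom := fun g e =>
      hnc (c⁻¹ * g) (by rw [← Sigma.map_conj_map, e, map_back])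
    have hbs := TypeA.typeA_sub hG hT hb
    have hdone : a' ∈ Cfsg.typeA T → ∃ g : G, Cfsg.Supports (T.map (MulAut.conj g).toMonoidHom) S := fun hA =>
      ⟨c⁻¹, (supports_iff hG hS (coatom_conj hT _) (conj_not_conj hG hS hnc _)).2
        ⟨a, by rw [TypeA.typeA1_eq hG hS]; exact ha, by
          have h := typeA_transport hG hT c⁻¹ hA
          rwa [show c⁻¹ * a' * c⁻¹⁻¹ = a by rw [ha']; group] at h⟩⟩
    have ha'S := (TypeA.typeA1_eq hG hS').le ha'1
    by_cases hbσ : b ∈ Cfsg.sigmaCore T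
    · refine absurd he' (S1433.result hG _ T hS' hT a' b ha'S.1 hbσ ha'S.2 hbs.2.1 ?_ r' hr'' s hs)
      exact fun e => not_mem_core hG hS' hT hnc' ha'1 (e ▸ hbσ)
    · rw [TypeA.supportR_eq_bot hG hT (DadeT.centralizer_le hG hT hbs hbσ), Subgroup.mem_bot] at hs
      rw [hs, mul_one] at he'
      refine hdone ?_
      have hcom := commute_supportR hG hS' ha'S.1 ha'S.2 hr''
      have hcop : (orderOf r').Coprime (orderOf a') := by
        rcases supportR_cases hG hS' ha'S.1 ha'S.2 with ⟨-, e⟩ | ⟨L, -, -, -, -, hdis, -, e⟩ <;> rw [e] at hr''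
        · rw [Subgroup.mem_bot.1 hr'', orderOf_one]
          exact Nat.coprime_one_left _
        · exact Nat.coprime_of_dvd fun t ht h1 h2 =>
            hdis t (primes_of_mem_sigmaCore ha'S.1 ht h2) (primes_of_mem_sigmaCore hr''.1 ht h1)
      have hab : a' ∈ Subgroup.zpowers b := he' ▸ Pairing.mem_zpowers_mul hcom hcop
      obtain ⟨hbT, -, ⟨w, hw, hw1, hbw⟩, hd⟩ := TypeA.typeA_mem hG hT hb
      refine TypeA.mem_typeA hG hT ((Subgroup.zpowers_le.2 hbT) hab) ha'S.2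
        (fun hI => (Subgroup.zpowers_le.2 (hd hI)) hab) ⟨w, hw, hw1, ?_⟩
      obtain ⟨i, hi⟩ := Subgroup.mem_zpowers_iff.1 hab
      rw [← hi]
      exact ((show Commute b w from hbw).zpow_left i).eq

/-- Mutual support is impossible. -/
theorem not_mutual (hnc : ∀ g : G, T.map (MulAut.conj g).toMonoidHom ≠ S) {g h : G}
    (h1 : Cfsg.Supports (T.map (MulAut.conj g).toMonoidHom) S)
    (h2 : Cfsg.Supports (S.map (MulAut.conj h).toMonoidHom) T) : False := by
  obtain ⟨hN, x, hx, hno, hC⟩ := h1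
  obtain ⟨hxσ, hx1⟩ := TypeA.mem_sigma_of_large hG hS hx hno
  have hnc' : ∀ d : G, (S.map (MulAut.conj h).toMonoidHom).map (MulAut.conj d).toMonoidHom ≠ T := fun d e => by
    rw [Sigma.map_conj_map] at e
    refine hnc (d * h)⁻¹ ?_
    rw [← e, map_back]
  obtain ⟨w, hw, hwS⟩ := (supports_iff hG hT (coatom_conj hS h) hnc').1 h2
  have hwσ := not_mem_core hG hT (coatom_conj hS h) hnc' hw
  have hws := TypeA.typeA_sub hG (coatom_conj hS h) hwS
  obtain ⟨-, -, -, -, -, -, hne⟩ := DadeT.exists_part hG (coatom_conj hS h) hws hwσ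
  obtain ⟨q, hq⟩ := hne
  have hq' := PSupp.tau2_conj h⁻¹ hq
  rw [map_back] at hq'
  rw [TypeA.typeA1_eq hG hT] at hw
  obtain ⟨t, ht, htd⟩ := Nat.exists_prime_and_dvd fun e => hw.2 (orderOf_eq_one_iff.1 e)
  have htS : t ∣ Nat.card S := by
    have e : Nat.card (S.map (MulAut.conj h).toMonoidHom) = Nat.card S :=
      Subgroup.card_map_of_injective (MulAut.conj h).injective
    rw [← e]
    exact htd.trans (Subgroup.orderOf_dvd_natCard _ hws.1)
  obtain ⟨-, hτ⟩ := (S1436.result hG S hS x hxσ hx1 hno _ hN hC).1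
    ⟨t, (sigma_conj_iff g).2 (primes_of_mem_sigmaCore hw.1 ht htd), htS⟩
  exact hτ.le hq'

end Cfsg.Agent.OddOrder.Supporting
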