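/-
A central element of order `t ∈ τ₂(M)` with nonabelian Sylow subgroups over an abelian complement: the setup.
-/
import Cfsg.Agent.Lib.OddOrder.CentralHostNonNil
import Cfsg.Agent.Lib.OddOrder.BetaCore
import Cfsg.Agent.Lib.OddOrder.NarrowGroup
import Cfsg.Agent.Lib.CharP.AxB

set_option autoImplicit false
set_option linter.style.haveILetI false
set_option linter.unusedSectionVars false
set_option linter.unusedVariables false

namespace Cfsg.Agent.OddOrder.CNab

open scoped commutatorElement IsMulCommutative Pointwise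
open Exceptional TauOne Kappa Support
open Pairing (exists_pi_parts mem_sigmaCore_of_primes)
open Tau3 (line_pgroup line_ne_bot)

universe u

variable {G : Type u} [Group G] [Finite G]

/-- The standing data. -/
structure Setup (M E L : Subgroup G) (y : G) (t : ℕ) (T : Sylow t G) : Prop where
  compl : Cfsg.IsComplIn E (Cfsg.sigmaCore M) M
  prime : t.Prime
  tau2 : t ∈ Cfsg.tau2 M
  comm : IsMulCommutative E
  order : orderOf y = t
  y_mem : y ∈ (T : Subgroup G)
  cent_y : Subgroup.centralizer ({y} : Set G) = M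
  coatomL : IsCoatom L
  normal_le : Subgroup.normalizer ((T : Subgroup G) : Set G) ≤ L
  sigmaL : t ∈ Cfsg.sigma L
  y_sigma : y ∈ Cfsg.sigmaCore L
  not_le : ¬ Subgroup.centralizer ({y} : Set G) ≤ L
  inter : L ⊓ M = E
  noncomm : ¬ IsMulCommutative (T : Subgroup G)
  not_central : ¬ (T : Subgroup G) ≤ M
  not_beta : t ∉ Cfsg.beta L
  card_le : 2 * t + 1 ≤ Nat.card (Cfsg.sigmaCore M)
  normalizer_y : Subgroup.normalizer (Subgroup.zpowers y : Set G) = M

variable (hG : Cfsg.IsMinSimpleOddOrder G) {M : Subgroup G} (hM : IsCoatom M)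
include hG hM

theorem exists_setup {E : Subgroup G} (hE : Cfsg.IsComplIn E (Cfsg.sigmaCore M) M) (hEc : IsMulCommutative E)
    {t : ℕ} [ht : Fact t.Prime] (htτ : t ∈ Cfsg.tau2 M)
    (hS : ∀ S : Sylow t G, ¬ IsMulCommutative (S : Subgroup G)) {y : G} (hyE : y ∈ E) (hy : orderOf y = t)
    (hyH : ∀ h ∈ Cfsg.sigmaCore M, h * y = y * h) :
    ∃ (E' L : Subgroup G) (T : Sylow t G), Setup M E' L y t T := by
  haveI := hEc
  have hy1 : y ≠ 1 := fun e => ht.out.ne_one (by rw [← hy, e, orderOf_one])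
  set S := Cfsg.sigmaCore M with hSdef
  have hMy : Subgroup.centralizer ({y} : Set G) = M := by
    refine (hM.le_iff.1 ?_).resolve_left (MinSimple.centralizer_singleton_ne_top hG hy1)
    intro m hm
    obtain ⟨a, ha, s, hs, rfl⟩ := hE.2.2.2 m hm
    exact Subgroup.mem_centralizer_singleton_iff.2 ((show Commute a y from
      congrArg Subtype.val (mul_comm' (⟨a, ha⟩ : E) ⟨y, hyE⟩)).mul_left (hyH s hs)).eq
  have hY : Nat.card (Subgroup.zpowers y) = t := by rw [Nat.card_zpowers, hy]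
  have hNY : Subgroup.normalizer (Subgroup.zpowers y : Set G) = M := by
    refine (hM.le_iff.1 ?_).resolve_left (MinSimple.normalizer_ne_top hG (line_ne_bot hY)
      (MinSimple.pSubgroup_ne_top hG (line_pgroup hY)))
    rw [← hMy, ← Plane.centralizer_zpowers]
    exact Subgroup.centralizer_le_normalizer _
  -- the derived group of `M` lies in `M_σ`
  have hderM : ⁅M, M⁆ ≤ S := by
    refine Subgroup.commutator_le.2 fun g hg h hh => ?_
    haveI : (S.subgroupOf M).Normal := Subgroup.normal_subgroupOf_of_le_normalizer (le_normalizer_sigmaCore M)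
    let π := QuotientGroup.mk' (S.subgroupOf M)
    have hπ : ∀ x : M, ∃ a ∈ E, ∃ ha : a ∈ M, π x = π ⟨a, ha⟩ := fun x => by
      obtain ⟨a, ha, s, hs, e⟩ := hE.2.2.2 x x.2
      refine ⟨a, ha, hE.1 ha, ?_⟩
      rw [show x = (⟨a, hE.1 ha⟩ : M) * ⟨s, sigmaCore_le M hs⟩ from Subtype.ext e, map_mul,
        show π ⟨s, sigmaCore_le M hs⟩ = 1 from (QuotientGroup.eq_one_iff _).2 (Subgroup.mem_subgroupOf.2 hs), mul_one]
    obtain ⟨a, ha, ha', ea⟩ := hπ ⟨g, hg⟩
    obtain ⟨b, hb, hb', eb⟩ := hπ ⟨h, hh⟩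
    have : π ⁅(⟨g, hg⟩ : M), (⟨h, hh⟩ : M)⁆ = 1 := by
      rw [map_commutatorElement, ea, eb, ← map_commutatorElement,
        show ⁅(⟨a, ha'⟩ : M), (⟨b, hb'⟩ : M)⁆ = (1 : M) from commutatorElement_eq_one_iff_mul_comm.2 (Subtype.ext (by
          show a * b = b * a; exact congrArg (fun z : E => (z : G)) (mul_comm' (⟨a, ha⟩ : E) ⟨b, hb⟩))), map_one]
    exact Subgroup.mem_subgroupOf.1
      ((QuotientGroup.eq_one_iff (N := S.subgroupOf M) ⁅(⟨g, hg⟩ : M), (⟨h, hh⟩ : M)⁆).1 this)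
  obtain ⟨T, hT⟩ := (line_pgroup hY).exists_le_sylow
  have hyT : y ∈ (T : Subgroup G) := hT (Subgroup.mem_zpowers y)
  have hTne : (T : Subgroup G) ≠ ⊥ := fun e => hy1 (Subgroup.mem_bot.1 (e.le hyT))
  have hTM : ¬ (T : Subgroup G) ≤ M := by
    intro hle
    refine hS T (.of_setLike_mul_comm fun a ha b hb => commutatorElement_eq_one_iff_mul_comm.1 ?_)
    have h1 : ⁅a, b⁆ ∈ S := hderM (Subgroup.commutator_mem_commutator (hle ha) (hle hb))
    have h2 : ⁅a, b⁆ ∈ (T : Subgroup G) := mul_mem (mul_mem (mul_mem ha hb) (inv_mem ha)) (inv_mem hb)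
    by_contra hne
    obtain ⟨r, hr, hrd⟩ := Nat.exists_prime_and_dvd fun e => hne (orderOf_eq_one_iff.1 e)
    obtain ⟨n, hn⟩ := IsPGroup.iff_card.1 T.isPGroup'
    obtain rfl : r = t := (Nat.prime_dvd_prime_iff_eq hr ht.out).1
      (hr.dvd_of_dvd_pow (hn ▸ hrd.trans (Subgroup.orderOf_dvd_natCard _ h2)))
    exact htτ.2.1 (primes_of_mem_sigmaCore h1 hr hrd)
  obtain ⟨L, hL, hNL⟩ := Uniq.exists_maximal_ge
    (MinSimple.normalizer_ne_top hG hTne (MinSimple.pSubgroup_ne_top hG T.isPGroup'))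
  have hTL : (T : Subgroup G) ≤ L := Subgroup.le_normalizer.trans hNL
  have hLM : L ≠ M := fun e => hTM (e ▸ hTL)
  have htL : t ∈ Cfsg.sigma L := by
    refine ⟨ht.out, ?_, T.subtype hTL, ?_⟩
    · exact (hy ▸ Subgroup.orderOf_dvd_natCard _ (hTL hyT) : t ∣ Nat.card L)
    · rw [Sylow.coe_subtype, Subgroup.subgroupOf_map_subtype, inf_eq_left.2 hTL]
      exact hNL
  have hyσ : y ∈ Cfsg.sigmaCore L := mem_sigmaCore_of_primes hG hL (hTL hyT)
    fun s hs hd => by rwa [(Nat.prime_dvd_prime_iff_eq hs ht.out).1 (hy ▸ hd)]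
  have hnot : ¬ Subgroup.centralizer ({y} : Set G) ≤ L := fun h =>
    hLM ((hM.le_iff.1 (hMy ▸ h)).resolve_left hL.1)
  obtain ⟨-, -, hbot, hcompl, -⟩ := PSupp.support hG hL hyσ hy1 hnot hM hMy.le
  have hcomm : IsMulCommutative (L ⊓ M : Subgroup G) := .of_setLike_mul_comm fun a ha b hb =>
    commutatorElement_eq_one_iff_mul_comm.1 (Subgroup.mem_bot.1 (hbot.le
      ⟨hderM (Subgroup.commutator_mem_commutator ha.2 hb.2),
        L.mul_mem (L.mul_mem (L.mul_mem ha.1 hb.1) (L.inv_mem ha.1)) (L.inv_mem hb.1)⟩))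
  obtain ⟨A, hAE, hAe, hA⟩ := TauTwo.exists_plane (p := t) hG hM hE htτ
  have hβ := Central.not_beta_of_plane hG hM htτ.2.1 (hAE.trans hE.1) hAe hA L
  obtain ⟨A₁, hA₁, hA₁c, hA₁r⟩ := (S1417.result hG M hM t htτ A ⟨hAE.trans hE.1, hAe, hA⟩).2.2.2.2.2
  have h11 : 2 * t + 1 ≤ Nat.card S := by
    have hn : A₁ ≤ Subgroup.normalizer (S : Set G) :=
      (hA₁.trans (hAE.trans hE.1)).trans (le_normalizer_sigmaCore M)
    let φ : A₁ →* MulAut S := (Subgroup.normalizerMonoidHom S).comp (Subgroup.inclusion hn)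
    letI : MulAction A₁ S := MulAction.compHom _ φ
    have hmod := (IsPGroup.of_card (n := 1) (p := t) (G := A₁) (by rw [hA₁c, pow_one])).card_modEq_card_fixedPoints S
    have hfix : MulAction.fixedPoints A₁ S = {1} := by
      ext h
      simp only [MulAction.mem_fixedPoints, Set.mem_singleton_iff]
      constructor
      · intro hh
        refine Subtype.ext (Subgroup.mem_bot.1 (hA₁r.le ⟨h.2, Subgroup.mem_centralizer_iff.2 fun a ha => ?_⟩))
        have he : a * (h : G) * a⁻¹ = h := congrArg Subtype.val (hh ⟨a, ha⟩)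
        calc a * (h : G) = a * h * a⁻¹ * a := by group
          _ = h * a := by rw [he]
      · rintro rfl a
        exact map_one (φ a)
    rw [hfix, show Nat.card ({1} : Set S) = 1 from by simp] at hmod
    obtain ⟨i, hi⟩ : t ∣ Nat.card S - 1 := (Nat.modEq_iff_dvd' Nat.card_pos).1 hmod.symm
    obtain ⟨j, hj⟩ := (hG.1.of_dvd_nat S.card_subgroup_dvd_card : Odd (Nat.card S))
    obtain ⟨l, hl⟩ := (hG.1.of_dvd_nat (hy ▸ orderOf_dvd_natCard y) : Odd t)
    have hne : Nat.card S ≠ 1 := fun e => Kappa.sigmaCore_ne_bot hG hM (Subgroup.card_eq_one.1 e)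
    have hi2 : 2 ≤ i := by
      rcases i with _ | _ | i
      · omega
      · exfalso; omega
      · omega
    nlinarith [Nat.sub_add_cancel (Nat.card_pos (α := S))]
  exact ⟨L ⊓ M, L, T, hcompl, ht.out, htτ, hcomm, hy, hyT, hMy, hL, hNL, htL, hyσ, hnot, rfl, hS T, hTM, hβ, h11,
    hNY⟩

end Cfsg.Agent.OddOrder.CNab
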