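/-
A central element of order `t ∈ τ₂(M)` with nonabelian Sylow subgroups, nilpotent host: common facts.
-/
import Cfsg.Agent.Lib.OddOrder.CentralNonab

set_option autoImplicit false
set_option linter.style.haveILetI false
set_option linter.unusedSectionVars false
set_option linter.unusedVariables false

namespace Cfsg.Agent.OddOrder.CNab

open scoped commutatorElement IsMulCommutative Pointwise
open Exceptional TauOne Kappa Support
open Pairing (exists_pi_parts mem_sigmaCore_of_primes)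
open Tau3 (line_pgroup line_ne_bot)

universe u

variable {G : Type u} [Group G] [Finite G] {M E L : Subgroup G} {y : G} {t : ℕ} {T : Sylow t G}
variable (hG : Cfsg.IsMinSimpleOddOrder G) (hM : IsCoatom M) (s : Setup M E L y t T)
include hG hM s

theorem T_le : (T : Subgroup G) ≤ L := Subgroup.le_normalizer.trans s.normal_le

theorem y_ne : y ≠ 1 := fun e => s.prime.ne_one (by rw [← s.order, e, orderOf_one])

theorem E_le : E ≤ L := fun _ he => (s.inter.ge he).1

theorem E_comm : ∀ a ∈ E, ∀ b ∈ E, a * b = b * a := fun a ha b hb => by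
  haveI := s.comm
  exact congrArg Subtype.val (mul_comm' (⟨a, ha⟩ : E) ⟨b, hb⟩)

theorem y_mem_E : y ∈ E :=
  s.inter.le ⟨T_le hG hM s s.y_mem, s.cent_y.le (Subgroup.mem_centralizer_singleton_iff.2 rfl)⟩

theorem cent_le : L ⊓ Subgroup.centralizer ((T : Subgroup G) : Set G) ≤ E := fun c hc =>
  s.inter.le ⟨hc.1, s.cent_y.le (Subgroup.mem_centralizer_singleton_iff.2
    (Subgroup.mem_centralizer_iff.1 hc.2 y s.y_mem).symm)⟩

theorem T_sigma : (T : Subgroup G) ≤ Cfsg.sigmaCore L := fun a ha =>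
  haveI := Fact.mk s.prime
  mem_sigmaCore_of_primes hG s.coatomL (T_le hG hM s ha) fun r hr hd => by
    obtain ⟨n, hn⟩ := IsPGroup.iff_card.1 T.isPGroup'
    rw [(Nat.prime_dvd_prime_iff_eq hr s.prime).1
      (hr.dvd_of_dvd_pow ((hd.trans (Subgroup.orderOf_dvd_natCard _ ha)).trans hn.dvd))]
    exact s.sigmaL

theorem cop_index : ((T : Subgroup G).relIndex L).Coprime t := by
  haveI := Fact.mk s.prime
  exact (s.prime.coprime_iff_not_dvd.2 fun h =>
    T.not_dvd_index (h.trans ((T : Subgroup G).relIndex_dvd_index_of_le (T_le hG hM s)))).symm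

theorem T_card_cop : (Nat.card (T : Subgroup G)).Coprime ((T : Subgroup G).relIndex L) := by
  haveI := Fact.mk s.prime
  obtain ⟨n, hn⟩ := IsPGroup.iff_card.1 T.isPGroup'
  rw [hn]
  exact Nat.Coprime.pow_left n (cop_index hG hM s).symm

theorem derived_T : (T : Subgroup G) ≤ ⁅L, L⁆ := by
  obtain ⟨K, U, hKU⟩ := FStruct.exists_decomp hG s.coatomL
  exact (T_sigma hG hM s).trans (Pairing.sigmaCore_le_derived hG s.coatomL hKU)

theorem narrow : Cfsg.IsNarrow t (T : Subgroup G) := by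
  haveI := Fact.mk s.prime
  have hTL := T_le hG hM s
  have hp2 : t ≠ 2 := Uniq.ne_two_of_dvd hG (s.order ▸ orderOf_dvd_natCard y)
  have hmap : ((T.subtype hTL : Sylow t L) : Subgroup L).map L.subtype = (T : Subgroup G) := by
    rw [Sylow.coe_subtype, Subgroup.subgroupOf_map_subtype, inf_eq_left.2 hTL]
  exact NarrowSolvable.isNarrow_of_equiv
    (((T.subtype hTL : Sylow t L) : Subgroup L).equivMapOfInjective L.subtype L.subtype_injective |>.trans
      (MulEquiv.subgroupCongr hmap))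
    (BetaCore.isNarrow_sylow hG s.coatomL hp2 s.not_beta (T.subtype hTL))

variable (hnil : Group.IsNilpotent (Cfsg.sigmaCore L))
include hnil

theorem T_normal : L ≤ Subgroup.normalizer ((T : Subgroup G) : Set G) := by
  haveI := Fact.mk s.prime
  have hTS := T_sigma hG hM s
  let TS : Sylow t (Cfsg.sigmaCore L) := T.subtype hTS
  haveI : (TS : Subgroup (Cfsg.sigmaCore L)).Normal :=
    (Group.isNilpotent_of_finite_tfae (G := Cfsg.sigmaCore L)).out 0 3 rfl rfl |>.1 hnil t ⟨s.prime⟩ TS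
  have h := NTI.normalizer_le_normalizer_char (X := Cfsg.sigmaCore L) (Sylow.characteristic_of_normal TS inferInstance)
  rw [Sylow.coe_subtype, Subgroup.subgroupOf_map_subtype, inf_eq_left.2 hTS] at h
  exact (le_normalizer_sigmaCore L).trans h

theorem mem_T {x : G} (hx : x ∈ L) (h : x ^ Nat.card (T : Subgroup G) = 1) : x ∈ (T : Subgroup G) := by
  haveI : ((T : Subgroup G).subgroupOf L).Normal :=
    Subgroup.normal_subgroupOf_of_le_normalizer (T_normal hG hM s hnil)
  have h1 : ((⟨x, hx⟩ : L) : L ⧸ (T : Subgroup G).subgroupOf L) = 1 := orderOf_eq_one_iff.1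
    (Nat.eq_one_of_dvd_coprimes (T_card_cop hG hM s)
      (orderOf_dvd_of_pow_eq_one (by
        rw [← QuotientGroup.mk_pow, show (⟨x, hx⟩ : L) ^ Nat.card (T : Subgroup G) = 1 from Subtype.ext h]
        rfl))
      (orderOf_dvd_natCard _))
  exact Subgroup.mem_subgroupOf.1 ((QuotientGroup.eq_one_iff _).1 h1)

/-- The central product of `T` with its centralizer in `L`. -/
theorem cent_normal : L ≤ Subgroup.normalizer ((L ⊓ Subgroup.centralizer ((T : Subgroup G) : Set G) : Subgroup G) : Set G) := by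
  intro g hg
  refine ComplAbelian.mem_normalizer_of_map_le ?_
  rintro c hc
  refine ⟨L.mul_mem (L.mul_mem hg hc.1) (L.inv_mem hg), Subgroup.mem_centralizer_iff.2 fun a ha => ?_⟩
  have h1 : g⁻¹ * a * g ∈ (T : Subgroup G) := by
    have := (Subgroup.mem_normalizer_iff.1 (T_normal hG hM s hnil (L.inv_mem hg)) a).1 ha
    rwa [inv_inv] at this
  calc a * (g * c * g⁻¹) = g * ((g⁻¹ * a * g) * c) * g⁻¹ := by group
    _ = g * (c * (g⁻¹ * a * g)) * g⁻¹ := by rw [Subgroup.mem_centralizer_iff.1 hc.2 _ h1]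
    _ = g * c * g⁻¹ * a := by group

theorem E_le_product : E ≤ (T : Subgroup G) ⊔ (L ⊓ Subgroup.centralizer ((T : Subgroup G) : Set G)) := by
  haveI := Fact.mk s.prime
  intro e he
  obtain ⟨u, v, huv, -, huz, hvz, hu, hv⟩ := exists_pi_parts ({t} : Set ℕ) e
  have huE : u ∈ E := (Subgroup.zpowers_le.2 he) huz
  have hvE : v ∈ E := (Subgroup.zpowers_le.2 he) hvz
  have huL := E_le hG hM s huE
  have hvL := E_le hG hM s hvE
  obtain ⟨n, hn⟩ := IsPGroup.iff_card.1 T.isPGroup'
  have huT : u ∈ (T : Subgroup G) := by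
    refine mem_T hG hM s hnil huL (orderOf_dvd_iff_pow_eq_one.1 ?_)
    obtain ⟨i, hi⟩ : ∃ i, orderOf u = t ^ i := ⟨_, Nat.eq_prime_pow_of_unique_prime_dvd (orderOf_pos u).ne'
      fun {r} hr hd => hu r hr hd⟩
    rw [hi, hn]
    refine Nat.pow_dvd_pow t ((Nat.pow_dvd_pow_iff_le_right s.prime.one_lt).1 ?_)
    have h1 : Nat.card (Subgroup.zpowers u) = t ^ i := by rw [Nat.card_zpowers, hi]
    obtain ⟨T', hT'⟩ := (IsPGroup.of_card h1).exists_le_sylow
    rw [← h1, ← hn, T.card_eq_multiplicity, ← T'.card_eq_multiplicity]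
    exact Subgroup.card_dvd_of_le hT'
  rw [huv]
  refine mul_mem (Subgroup.mem_sup_left huT) (Subgroup.mem_sup_right ⟨hvL, Subgroup.mem_centralizer_iff.2 fun a ha => ?_⟩)
  refine (AxB.thompson (n := orderOf v) T.isPGroup' (A := Subgroup.zpowers y) (T.isPGroup'.to_le (Subgroup.zpowers_le.2 s.y_mem))
    ((Subgroup.zpowers_le.2 s.y_mem).trans Subgroup.le_normalizer)
    (fun a ha => (Subgroup.mem_normalizer_iff.1 (T_normal hG hM s hnil hvL) a).1 ha) (fun b hb => ?_)
    (pow_orderOf_eq_one v) (s.prime.coprime_iff_not_dvd.2 fun h => hv t s.prime h rfl) (fun z hz hzy => ?_) a ha).symm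
  · obtain ⟨i, rfl⟩ := Subgroup.mem_zpowers_iff.1 hb
    exact ((show Commute y v from E_comm hG hM s y (y_mem_E hG hM s) v hvE).zpow_left i).eq
  · refine E_comm hG hM s v hvE z (s.inter.le ⟨T_le hG hM s hz, s.cent_y.le ?_⟩)
    exact Subgroup.mem_centralizer_singleton_iff.2 (hzy y (Subgroup.mem_zpowers y)).symm

/-- A prime-order element outside `σ(L)` centralizing `T` has `τ₂` prime. -/
theorem supp_product {z : G} (hz : z ∈ (T : Subgroup G) ⊔ (L ⊓ Subgroup.centralizer ((T : Subgroup G) : Set G)))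
    (hz1 : z ≠ 1) : z ∈ DadeT.supp L := by
  haveI := Fact.mk s.prime
  have hCL : (L ⊓ Subgroup.centralizer ((T : Subgroup G) : Set G)) ≤ L := inf_le_left
  have hzL : z ∈ L := sup_le (T_le hG hM s) hCL hz
  obtain ⟨a, ha, c, hc, rfl⟩ := (SolvBasic.mem_sup_iff_of_le_normalizer
    (inf_le_left.trans (T_normal hG hM s hnil))).1 hz
  have : Nontrivial (T : Subgroup G) := (Subgroup.nontrivial_iff_ne_bot _).2 fun e =>
    y_ne hG hM s (Subgroup.mem_bot.1 (e.le s.y_mem))
  haveI := T.isPGroup'.center_nontrivial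
  obtain ⟨x, hx⟩ := exists_ne (1 : Subgroup.center (T : Subgroup G))
  have hxc : (((x : (T : Subgroup G)) : G)) * c = c * ((x : (T : Subgroup G)) : G) :=
    Subgroup.mem_centralizer_iff.1 hc.2 _ (x : (T : Subgroup G)).2
  have hxa : ((x : (T : Subgroup G)) : G) * a = a * ((x : (T : Subgroup G)) : G) :=
    (congrArg Subtype.val (Subgroup.mem_center_iff.1 x.2 ⟨a, ha⟩)).symm
  refine ⟨hzL, hz1, ⟨_, T_sigma hG hM s (x : (T : Subgroup G)).2, fun e => hx (Subtype.ext (Subtype.ext e)),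
    ((show Commute _ a from hxa).mul_right hxc).symm.eq⟩, fun r hr hd => ?_⟩
  by_contra hcon
  simp only [Set.mem_union, not_or] at hcon
  haveI := Fact.mk hr
  have hrt : r ≠ t := fun e => hcon.1 (e ▸ s.sigmaL)
  have hac : Commute a c := Subgroup.mem_centralizer_iff.1 hc.2 a ha
  have hrc : r ∣ orderOf c := by
    rcases hr.dvd_mul.1 (hd.trans hac.orderOf_mul_dvd_mul_orderOf) with h | h
    · obtain ⟨n, hn⟩ := IsPGroup.iff_card.1 T.isPGroup'
      exact absurd ((Nat.prime_dvd_prime_iff_eq hr s.prime).1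
        (hr.dvd_of_dvd_pow (hn ▸ h.trans (Subgroup.orderOf_dvd_natCard _ ha)))) hrt
    · exact h
  set k := c ^ (orderOf c / r)
  have hko : orderOf k = r := orderOf_pow_orderOf_div (orderOf_pos c).ne' hrc
  have hk : k ∈ L ⊓ Subgroup.centralizer ((T : Subgroup G) : Set G) := pow_mem hc _
  rcases S1432.result hG L s.coatomL y s.y_sigma (y_ne hG hM s) k
      ⟨hk.1, Subgroup.mem_centralizer_singleton_iff.2 (Subgroup.mem_centralizer_iff.1 hk.2 y s.y_mem).symm⟩
      (fun e => hr.ne_one (by rw [← hko, e, orderOf_one]))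
      (fun l hl hld => by rw [(Nat.prime_dvd_prime_iff_eq hl hr).1 (hko ▸ hld)]; exact hcon.1) with ⟨-, hle⟩ | ⟨h, -⟩
  · exact s.not_le hle
  · exact hcon.2 (h r hr hko.symm.dvd)

/-- The derived group of `L_σ` is that of `T`. -/
theorem derived_sigma : ⁅Cfsg.sigmaCore L, Cfsg.sigmaCore L⁆ ≤ ⁅(T : Subgroup G), (T : Subgroup G)⁆ := by
  haveI := Fact.mk s.prime
  set C := L ⊓ Subgroup.centralizer ((T : Subgroup G) : Set G) with hC
  have hdec : ∀ a ∈ Cfsg.sigmaCore L, ∃ u ∈ (T : Subgroup G), ∃ v ∈ C, a = u * v := by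
    intro a ha
    obtain ⟨u, v, huv, -, huz, hvz, hu, hv⟩ := exists_pi_parts ({t} : Set ℕ) a
    have huS := (Subgroup.zpowers_le.2 ha) huz
    have hvS := (Subgroup.zpowers_le.2 ha) hvz
    refine ⟨u, ?_, v, ⟨sigmaCore_le L hvS, Subgroup.mem_centralizer_iff.2 fun b hb => ?_⟩, huv⟩
    · let TS : Sylow t (Cfsg.sigmaCore L) := T.subtype (T_sigma hG hM s)
      haveI : (TS : Subgroup (Cfsg.sigmaCore L)).Normal :=
        (Group.isNilpotent_of_finite_tfae (G := Cfsg.sigmaCore L)).out 0 3 rfl rfl |>.1 hnil t ⟨s.prime⟩ TS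
      obtain ⟨i, hi⟩ : ∃ i, orderOf u = t ^ i := ⟨_, Nat.eq_prime_pow_of_unique_prime_dvd (orderOf_pos u).ne'
        fun {r} hr hd => hu r hr hd⟩
      have hp : IsPGroup t (Subgroup.zpowers (⟨u, huS⟩ : Cfsg.sigmaCore L)) :=
        IsPGroup.of_card (n := i) (by rw [Nat.card_zpowers, Subgroup.orderOf_mk, hi])
      obtain ⟨T', hT'⟩ := hp.exists_le_sylow
      obtain ⟨g, hg⟩ := MulAction.exists_smul_eq (Cfsg.sigmaCore L) TS T'
      have e : TS = T' := by rw [← hg, Sylow.smul_eq_of_normal]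
      have := e.symm ▸ hT' (Subgroup.mem_zpowers _)
      rw [Sylow.coe_subtype] at this
      exact Subgroup.mem_subgroupOf.1 this
    · refine (CN.commute_of_coprime hnil (T_sigma hG hM s hb) hvS ?_).eq
      obtain ⟨n, hn⟩ := IsPGroup.iff_card.1 T.isPGroup'
      refine Nat.Coprime.coprime_dvd_left (hn ▸ Subgroup.orderOf_dvd_natCard _ hb) ?_
      exact Nat.Coprime.pow_left n (s.prime.coprime_iff_not_dvd.2 fun h => hv t s.prime h rfl)
  refine Subgroup.commutator_le.2 fun a ha b hb => ?_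
  obtain ⟨u, hu, v, hv, rfl⟩ := hdec a ha
  obtain ⟨u', hu', v', hv', rfl⟩ := hdec b hb
  have c1 : Commute u' v := Subgroup.mem_centralizer_iff.1 hv.2 u' hu'
  have c2 : Commute u v' := Subgroup.mem_centralizer_iff.1 hv'.2 u hu
  have c3 : Commute v v' := E_comm hG hM s v (cent_le hG hM s hv) v' (cent_le hG hM s hv')
  have e : ⁅u * v, u' * v'⁆ = ⁅u, u'⁆ := by
    calc ⁅u * v, u' * v'⁆ = u * (v * (u' * v') * v⁻¹) * u⁻¹ * (u' * v')⁻¹ := by
          rw [commutatorElement_def]; group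
      _ = u * u' * (v' * u⁻¹) * (v'⁻¹ * u'⁻¹) := by
          rw [(c1.symm.mul_right c3).eq, mul_inv_cancel_right]; group
      _ = u * u' * (u⁻¹ * v') * (v'⁻¹ * u'⁻¹) := by rw [c2.symm.inv_right.eq]
      _ = ⁅u, u'⁆ := by rw [commutatorElement_def]; group
  rw [e]
  exact Subgroup.commutator_mem_commutator hu hu'

/-- A `κ(L)`-element centralizes nothing in `T` outside `[T, T]`. -/
theorem kappa_fixed {k : G} (hk : k ∈ L) {r : ℕ} (hr : r.Prime) (hko : orderOf k = r) (hrκ : r ∈ Cfsg.kappa L)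
    {g : G} (hg : g ∈ (T : Subgroup G)) (hgk : Commute g k) : g ∈ ⁅(T : Subgroup G), (T : Subgroup G)⁆ := by
  haveI := Fact.mk hr
  obtain ⟨K, U, hKU⟩ := FStruct.exists_decomp hG s.coatomL
  have hrL : r ∣ Nat.card L := hko ▸ Subgroup.orderOf_dvd_natCard _ hk
  have hK1 : K ≠ ⊥ := Types.K_ne hKU ⟨r, hrκ⟩
  have hU : U = ⊥ := NTI.U_eq_bot hG s.coatomL hnil s.y_sigma (y_ne hG hM s) s.not_le hKU hK1
  obtain ⟨hKL, hKπ, hKcop⟩ := hKU.hall
  haveI := MinSimple.isSolvable hG s.coatomL.1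
  obtain ⟨c, hcle⟩ := HallSolv.hall_conj_le (G := L) (m := Nat.card K) (n := K.relIndex L)
    (by
      rw [← Nat.card_congr (Subgroup.subgroupOfEquivOfLe hKL).toEquiv]
      exact ((K.subgroupOf L).card_mul_index).symm)
    (Nat.coprime_of_dvd fun p hp h1 h2 => hKcop p hp (hKπ p hp h1) h2) (H := K.subgroupOf L) (K := Subgroup.zpowers (⟨k, hk⟩ : L))
    (Nat.card_congr (Subgroup.subgroupOfEquivOfLe hKL).toEquiv)
    (by
      rw [Nat.card_zpowers, Subgroup.orderOf_mk, hko]
      exact hr.coprime_iff_not_dvd.2 fun h => hKcop r hr hrκ h)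
  set c' : G := (c : G)
  have hkK : c' * k * c'⁻¹ ∈ K := by
    have := hcle (Subgroup.smul_mem_pointwise_smul (⟨k, hk⟩ : L) (MulAut.conj c) _ (Subgroup.mem_zpowers _))
    simpa [c', Subgroup.mem_subgroupOf] using this
  have hgS : c' * g * c'⁻¹ ∈ Cfsg.sigmaCore L :=
    (Subgroup.mem_normalizer_iff.1 (le_normalizer_sigmaCore L (c : L).2) g).1 (T_sigma hG hM s hg)
  haveI := hKU.cyclic
  haveI := (decomp_factor hG s.coatomL hKU hK1).comm
  have hk1 : c' * k * c'⁻¹ ≠ 1 := fun e => hr.ne_one (by rw [← hko, conj_eq_one_iff.1 e, orderOf_one])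
  have hD : c' * g * c'⁻¹ ∈ Cfsg.sigmaCore L ⊓ Subgroup.centralizer (K : Set G) := by
    rw [← (decomp_factor hG s.coatomL hKU hK1).prime _ hkK hk1]
    refine ⟨hgS, Subgroup.mem_centralizer_singleton_iff.2 ?_⟩
    simpa [MulAut.conj_apply] using (hgk.map (MulAut.conj c').toMonoidHom).eq
  obtain ⟨hLd, hD2⟩ := S1365.result hG L s.coatomL K U hKU hK1
  rw [hU, bot_sup_eq] at hLd
  rw [hLd] at hD2
  have h := derived_sigma hG hM s hnil (hD2 hD)
  have hn : c' ∈ Subgroup.normalizer ((⁅(T : Subgroup G), (T : Subgroup G)⁆ : Subgroup G) : Set G) := by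
    have hc := T_normal hG hM s hnil (c : L).2
    exact Subgroup.mem_normalizer_iff_map_conj_eq.2 (by
      show (⁅(T : Subgroup G), (T : Subgroup G)⁆).map (MulAut.conj c').toMonoidHom = _
      have hT' : (T : Subgroup G).map (MulAut.conj c').toMonoidHom = (T : Subgroup G) :=
        Subgroup.mem_normalizer_iff_map_conj_eq.1 hc
      rw [Subgroup.map_commutator, hT'])
  exact (Subgroup.mem_normalizer_iff.1 hn g).2 h

end Cfsg.Agent.OddOrder.CNab
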