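/-
Two invariant maximal subgroups of a `t`-group under an abelian group of operators of exponent `t - 1`.
-/
import Mathlib.FieldTheory.Finite.Basic
import Mathlib.GroupTheory.Nilpotent
import Mathlib.GroupTheory.SpecificGroups.Cyclic
import Mathlib.GroupTheory.PGroup
import Mathlib.LinearAlgebra.Span.Basic

set_option autoImplicit false
set_option linter.style.haveILetI false
set_option linter.unusedSectionVars false

namespace Cfsg.Agent.OddOrder.EigenHom

universe u v

variable {t : ℕ} [ht : Fact t.Prime]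

section Op

variable {W : Type u} [AddCommGroup W] [Module (ZMod t) W] {ι : Type v} [Finite ι]

/-- An operator with `a ^ (t - 1) = 1` has an eigenvector in every nonzero invariant subspace. -/
theorem exists_eigen (a : Module.End (ZMod t) W) (ha : a ^ (t - 1) = 1) (U : Submodule (ZMod t) W)
    (hU : ∀ w ∈ U, a w ∈ U) {f : W} (hf : f ∈ U) (hf0 : f ≠ 0) :
    ∃ (w : W) (c : ZMod t), w ∈ U ∧ w ≠ 0 ∧ a w = c • w := by
  classical
  by_contra hno
  push Not at hno
  set n := t - 1 with hn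
  have hn0 : 0 < n := by have := ht.out.two_le; omega
  have hpow : ∀ i : ℕ, (a ^ i) f ∈ U := fun i => by
    induction i with
    | zero => simpa using hf
    | succ i ih => rw [pow_succ', Module.End.mul_apply]; exact hU _ ih
  let e : (ZMod t)ˣ → W := fun c => ∑ i ∈ Finset.range n, ((c⁻¹ : (ZMod t)ˣ) : ZMod t) ^ i • (a ^ i) f
  have he : ∀ c, e c = 0 := by
    intro c
    by_contra hne
    refine hno (e c) (c : ZMod t) (U.sum_mem fun i _ => U.smul_mem _ (hpow i)) hne ?_
    set z : ZMod t := ((c⁻¹ : (ZMod t)ˣ) : ZMod t)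
    set g : ℕ → W := fun i => z ^ i • (a ^ i) f
    have hcz : (c : ZMod t) * z = 1 := c.mul_inv
    have hshift : ∀ i, a (g i) = (c : ZMod t) • g (i + 1) := fun i => by
      simp only [g, map_smul, smul_smul, pow_succ' z, ← mul_assoc, hcz, one_mul]
      rw [pow_succ' a, Module.End.mul_apply]
    show a (∑ i ∈ Finset.range n, g i) = (c : ZMod t) • ∑ i ∈ Finset.range n, g i
    rw [map_sum, Finset.sum_congr rfl fun i _ => hshift i, ← Finset.smul_sum]
    congr 1
    have h0 : g n = g 0 := by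
      simp only [g, ha, Module.End.one_apply, pow_zero]
      rw [show z ^ n = 1 from ZMod.pow_card_sub_one_eq_one (Units.ne_zero _)]
    have h1 := Finset.sum_range_succ g n
    rw [Finset.sum_range_succ', h0] at h1
    exact add_right_cancel h1
  have hsum : ∑ c : (ZMod t)ˣ, e c = -f := by
    simp only [e]
    rw [Finset.sum_comm]
    have hcoef : ∀ i ∈ Finset.range n, ∑ c : (ZMod t)ˣ, ((c⁻¹ : (ZMod t)ˣ) : ZMod t) ^ i • (a ^ i) f =
        if i = 0 then -f else 0 := by
      intro i hi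
      rw [← Finset.sum_smul, show ∑ c : (ZMod t)ˣ, ((c⁻¹ : (ZMod t)ˣ) : ZMod t) ^ i =
        ∑ c : (ZMod t)ˣ, ((c ^ i : (ZMod t)ˣ) : ZMod t) from
          Fintype.sum_equiv (Equiv.inv (ZMod t)ˣ) _ _ fun c => by rw [Equiv.inv_apply, Units.val_pow_eq_pow_val],
        show ∑ c : (ZMod t)ˣ, ((c ^ i : (ZMod t)ˣ) : ZMod t) = if t - 1 ∣ i then -1 else 0 by
          have := FiniteField.sum_pow_units (ZMod t) i
          simpa only [ZMod.card, Nat.card_zmod, Units.val_pow_eq_pow_val] using this]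
      by_cases hi0 : i = 0
      · subst hi0; simp
      · rw [if_neg hi0, if_neg fun h => hi0 (Nat.eq_zero_of_dvd_of_lt h (Finset.mem_range.1 hi)), zero_smul]
    rw [Finset.sum_congr rfl hcoef, Finset.sum_ite_eq', if_pos (Finset.mem_range.2 hn0)]
  rw [Finset.sum_eq_zero fun c _ => he c, eq_comm, neg_eq_zero] at hsum
  exact hf0 hsum

/-- A common eigenvector. -/
theorem exists_common (a : ι → Module.End (ZMod t) W) (ha : ∀ i, a i ^ (t - 1) = 1)
    (hcomm : ∀ i j, Commute (a i) (a j)) (U : Submodule (ZMod t) W) (hU : ∀ i, ∀ w ∈ U, a i w ∈ U)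
    (hU0 : U ≠ ⊥) : ∃ w ∈ U, w ≠ 0 ∧ ∀ i, ∃ c : ZMod t, a i w = c • w := by
  classical
  haveI := Fintype.ofFinite ι
  suffices H : ∀ s : Finset ι, ∃ U' : Submodule (ZMod t) W, U' ≤ U ∧ U' ≠ ⊥ ∧ (∀ i, ∀ w ∈ U', a i w ∈ U') ∧
      ∀ i ∈ s, ∃ c : ZMod t, ∀ w ∈ U', a i w = c • w by
    obtain ⟨U', hle, hne, -, hs⟩ := H Finset.univ
    obtain ⟨w, hw, hw0⟩ := (Submodule.ne_bot_iff U').1 hne
    exact ⟨w, hle hw, hw0, fun i => (hs i (Finset.mem_univ i)).imp fun c hc => hc w hw⟩
  intro s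
  induction s using Finset.induction with
  | empty => exact ⟨U, le_rfl, hU0, hU, by simp⟩
  | insert j s _ ih =>
    obtain ⟨U', hle, hne, hinv, hs⟩ := ih
    obtain ⟨f, hf, hf0⟩ := (Submodule.ne_bot_iff U').1 hne
    obtain ⟨w, c, hw, hw0, hwc⟩ := exists_eigen (a j) (ha j) U' (hinv j) hf hf0
    let E : Submodule (ZMod t) W := LinearMap.ker (a j - c • (1 : Module.End (ZMod t) W))
    have hE : ∀ x, x ∈ E ↔ a j x = c • x := fun x => by simp [E, sub_eq_zero]
    refine ⟨U' ⊓ E, inf_le_left.trans hle, (Submodule.ne_bot_iff _).2 ⟨w, ⟨hw, (hE w).2 hwc⟩, hw0⟩, ?_, ?_⟩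
    · intro i x hx
      refine ⟨hinv i x hx.1, (hE _).2 ?_⟩
      rw [← Module.End.mul_apply, (hcomm j i).eq, Module.End.mul_apply, (hE x).1 hx.2, map_smul]
    · intro i hi
      rcases Finset.mem_insert.1 hi with rfl | hi
      · exact ⟨c, fun x hx => (hE x).1 hx.2⟩
      · exact (hs i hi).imp fun d hd x hx => hd x hx.1

/-- Two independent common eigenvectors. -/
theorem exists_two (a : ι → Module.End (ZMod t) W) (ha : ∀ i, a i ^ (t - 1) = 1)
    (hcomm : ∀ i j, Commute (a i) (a j)) (hW : ∀ v : W, ∃ w, w ∉ Submodule.span (ZMod t) {v}) :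
    ∃ v w : W, v ≠ 0 ∧ w ∉ Submodule.span (ZMod t) {v} ∧ (∀ i, ∃ c : ZMod t, a i v = c • v) ∧
      ∀ i, ∃ c : ZMod t, a i w = c • w := by
  obtain ⟨w₀, hw₀⟩ := hW 0
  have hw₀' : w₀ ≠ 0 := fun e => hw₀ (by rw [e]; exact zero_mem _)
  obtain ⟨v, -, hv0, hv⟩ := exists_common a ha hcomm ⊤ (fun _ _ _ => Submodule.mem_top)
    ((Submodule.ne_bot_iff _).2 ⟨w₀, Submodule.mem_top, hw₀'⟩)
  by_cases hsc : ∀ i, ∀ x : W, ∃ c : ZMod t, a i x = c • x
  · obtain ⟨w, hw⟩ := hW v
    exact ⟨v, w, hv0, hw, hv, fun i => hsc i w⟩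
  push Not at hsc
  obtain ⟨j, x, hx⟩ := hsc
  obtain ⟨c, hc⟩ := hv j
  let N : Module.End (ZMod t) W := a j - c • (1 : Module.End (ZMod t) W)
  have hN : ∀ y, N y = a j y - c • y := fun y => by simp [N]
  have hne : LinearMap.range N ≠ ⊥ := (Submodule.ne_bot_iff _).2 ⟨N x, ⟨x, rfl⟩, fun e => hx c (sub_eq_zero.1 (hN x ▸ e))⟩
  obtain ⟨w, ⟨y, rfl⟩, hw0, hw⟩ := exists_common a ha hcomm (LinearMap.range N) (by
    rintro i _ ⟨y, rfl⟩
    refine ⟨a i y, ?_⟩
    rw [hN, hN, map_sub, map_smul, ← Module.End.mul_apply, (hcomm j i).eq, Module.End.mul_apply]) hne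
  refine ⟨v, N y, hv0, fun hmem => hw0 ?_, hv, hw⟩
  -- the range of `a j - c` meets the eigenspace trivially
  obtain ⟨r, hr⟩ := Submodule.mem_span_singleton.1 hmem
  set z := N y with hz
  have hz' : a j z = c • z := by rw [← hr, map_smul, hc, smul_comm]
  have hy : a j y = c • y + z := by rw [hz, hN]; abel
  have hiter : ∀ i : ℕ, (a j ^ i) y = c ^ i • y + ((i : ZMod t) * c ^ (i - 1)) • z := by
    intro i
    induction i with
    | zero => simp
    | succ i ih =>
      rw [pow_succ' (a j), Module.End.mul_apply, ih, map_add, map_smul, map_smul, hy, hz', smul_add, smul_smul,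
        smul_smul, ← pow_succ c, add_assoc, ← add_smul]
      congr 2
      rcases i with _ | i
      · simp
      · simp only [Nat.add_sub_cancel, Nat.cast_add, Nat.cast_one, pow_succ]
        ring
  by_cases hc0 : c = 0
  · exfalso
    have h1 := LinearMap.congr_fun (ha j) v
    rw [Module.End.one_apply] at h1
    have hn : t - 1 = (t - 2) + 1 := by have := ht.out.two_le; omega
    rw [hn, pow_succ, Module.End.mul_apply, hc, hc0, zero_smul, map_zero] at h1
    exact hv0 h1.symm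
  have h1 := hiter (t - 1)
  rw [ha j, Module.End.one_apply, ZMod.pow_card_sub_one_eq_one hc0, one_smul, left_eq_add] at h1
  have hcoef : ((t - 1 : ℕ) : ZMod t) * c ^ (t - 1 - 1) ≠ 0 := by
    refine mul_ne_zero ?_ (pow_ne_zero _ hc0)
    rw [Ne, ZMod.natCast_eq_zero_iff]
    exact fun h => absurd (Nat.le_of_dvd (by have := ht.out.two_le; omega) h) (by have := ht.out.two_le; omega)
  exact (smul_eq_zero.1 h1).resolve_left hcoef

end Op

variable {T : Type u} [Group T] [Finite T]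

/-- Two independent homomorphisms of a noncyclic `t`-group into `ZMod t`. -/
theorem exists_outside (hT : IsPGroup t T) (hnc : ¬ IsCyclic T) (v : Additive T →+ ZMod t) :
    ∃ w : Additive T →+ ZMod t, w ∉ Submodule.span (ZMod t) {v} := by
  classical
  have hmax : ∀ M : Subgroup T, IsCoatom M → ∃ w : Additive T →+ ZMod t, ∀ x : T, w (Additive.ofMul x) = 0 ↔ x ∈ M := by
    intro M hM
    haveI : Group.IsNilpotent T := hT.isNilpotent
    haveI : M.Normal := (Group.isNilpotent_of_finite_tfae (G := T)).out 0 2 rfl rfl |>.1 inferInstance M hM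
    have hd : t ∣ Nat.card (T ⧸ M) :=
      (hT.to_quotient M).card_eq_or_dvd.resolve_left fun e => hM.1 (Subgroup.index_eq_one.1 e)
    obtain ⟨q, hq⟩ := exists_prime_orderOf_dvd_card' t hd
    have hq1 : q ≠ 1 := fun e => ht.out.ne_one (by rw [← hq, e, orderOf_one])
    have htop : (Subgroup.zpowers q).comap (QuotientGroup.mk' M) = ⊤ := by
      refine hM.2 _ (lt_of_le_of_ne (fun x hx => ?_) fun e => hq1 ?_)
      · rw [Subgroup.mem_comap, QuotientGroup.mk'_apply, (QuotientGroup.eq_one_iff x).2 hx]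
        exact one_mem _
      · obtain ⟨x, rfl⟩ := QuotientGroup.mk'_surjective M q
        exact (QuotientGroup.eq_one_iff x).2 (e.ge (Subgroup.mem_comap.2 (Subgroup.mem_zpowers _)))
    have hcard : Nat.card (T ⧸ M) = t := by
      have hz : Subgroup.zpowers q = ⊤ := by
        rw [eq_top_iff]
        rintro x -
        obtain ⟨x, rfl⟩ := QuotientGroup.mk'_surjective M x
        exact htop.ge (Subgroup.mem_top x)
      rw [← hq, ← Nat.card_zpowers, hz, Subgroup.card_top]
    let e : T ⧸ M ≃* Multiplicative (ZMod t) := mulEquivOfPrimeCardEq hcard (by simp)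
    refine ⟨(e.toMonoidHom.comp (QuotientGroup.mk' M)).toAdditiveLeft, fun x => ?_⟩
    show Multiplicative.toAdd (e (x : T ⧸ M)) = 0 ↔ _
    rw [toAdd_eq_zero, EmbeddingLike.map_eq_one_iff, QuotientGroup.eq_one_iff]
  by_contra hall
  push Not at hall
  by_cases hex : ∃ x : T, v (Additive.ofMul x) ≠ 0
  · obtain ⟨x, hx⟩ := hex
    refine hnc (isCyclic_iff_exists_zpowers_eq_top.2 ⟨x, ?_⟩)
    by_contra hne
    obtain ⟨M, hM, hle⟩ := (eq_top_or_exists_le_coatom (Subgroup.zpowers x)).resolve_left hne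
    obtain ⟨w, hw⟩ := hmax M hM
    obtain ⟨r, hr⟩ := Submodule.mem_span_singleton.1 (hall w)
    have h0 : r * v (Additive.ofMul x) = 0 := by
      have := (hw x).2 (hle (Subgroup.mem_zpowers x))
      rw [← hr] at this
      simpa using this
    have hr0 : r = 0 := (mul_eq_zero.1 h0).resolve_right hx
    refine hM.1 (eq_top_iff.2 fun z _ => (hw z).1 ?_)
    rw [← hr, hr0, zero_smul]
    rfl
  · push Not at hex
    obtain ⟨M, hM, -⟩ := (eq_top_or_exists_le_coatom (⊥ : Subgroup T)).resolve_left fun e => hnc (by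
      haveI : Subsingleton T := Subgroup.subsingleton_iff.1 (subsingleton_of_bot_eq_top e)
      exact isCyclic_of_subsingleton)
    obtain ⟨w, hw⟩ := hmax M hM
    obtain ⟨r, hr⟩ := Submodule.mem_span_singleton.1 (hall w)
    refine hM.1 (eq_top_iff.2 fun z _ => (hw z).1 ?_)
    rw [← hr]
    simp [hex z]

/-- Two invariant maximal subgroups, with the multipliers on the quotients. -/
theorem exists_pair (hT : IsPGroup t T) (hnc : ¬ IsCyclic T) {L : Type v} [Group L] [Finite L]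
    (α : L →* MulAut T) (hexp : ∀ u : L, ∀ f : Additive T →+ ZMod t, ∀ x : T,
      f (Additive.ofMul ((α u ^ (t - 1)) x)) = f (Additive.ofMul x))
    (hcomm : ∀ u v : L, ∀ f : Additive T →+ ZMod t, ∀ x : T,
      f (Additive.ofMul (α u (α v x))) = f (Additive.ofMul (α v (α u x)))) :
    ∃ f₁ f₂ : Additive T →+ ZMod t, (∃ x, f₁ x ≠ 0) ∧ (∃ x, f₁ x = 0 ∧ f₂ x ≠ 0) ∧ (∃ x, f₂ x = 0 ∧ f₁ x ≠ 0) ∧
      (∀ u, ∃ c : ZMod t, ∀ x : T, f₁ (Additive.ofMul (α u x)) = c * f₁ (Additive.ofMul x)) ∧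
      ∀ u, ∃ c : ZMod t, ∀ x : T, f₂ (Additive.ofMul (α u x)) = c * f₂ (Additive.ofMul x) := by
  let a : L → Module.End (ZMod t) (Additive T →+ ZMod t) := fun u =>
    { toFun := fun f => f.comp (MonoidHom.toAdditive (α u).toMonoidHom)
      map_add' := fun f g => rfl
      map_smul' := fun r f => rfl }
  have hapow : ∀ u, ∀ i : ℕ, ∀ f x, (a u ^ i) f (Additive.ofMul x) = f (Additive.ofMul ((α u ^ i) x)) := by
    intro u i
    induction i with
    | zero => intro f x; rfl
    | succ i ih =>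
      intro f x
      rw [pow_succ' (a u), Module.End.mul_apply, pow_succ (α u), MulAut.mul_apply]
      show ((a u ^ i) f) (Additive.ofMul (α u x)) = _
      rw [ih]
  obtain ⟨f₁, f₂, h1, h2, hc1, hc2⟩ := exists_two a
    (fun u => LinearMap.ext fun f => AddMonoidHom.ext fun x => (hapow u _ f x.toMul).trans (hexp u f x.toMul))
    (fun u v => LinearMap.ext fun f => AddMonoidHom.ext fun x => hcomm v u f x.toMul)
    (exists_outside hT hnc)
  obtain ⟨x₁, hx₁⟩ : ∃ x, f₁ x ≠ 0 := by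
    by_contra h
    push Not at h
    exact h1 (AddMonoidHom.ext fun x => h x)
  obtain ⟨y₂, hy₂, hy₂'⟩ : ∃ x, f₁ x = 0 ∧ f₂ x ≠ 0 := by
    by_contra h
    push Not at h
    refine h2 (Submodule.mem_span_singleton.2 ⟨f₂ x₁ / f₁ x₁, AddMonoidHom.ext fun x => ?_⟩)
    set k : ZMod t := f₁ x / f₁ x₁
    have hk : f₁ (x - k.val • x₁) = 0 := by
      rw [map_sub, map_nsmul, nsmul_eq_mul, ZMod.natCast_zmod_val, div_mul_cancel₀ _ hx₁, sub_self]
    have := h _ hk
    rw [map_sub, map_nsmul, nsmul_eq_mul, ZMod.natCast_zmod_val, sub_eq_zero] at this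
    show f₂ x₁ / f₁ x₁ * f₁ x = f₂ x
    rw [this]
    simp only [k]
    ring
  refine ⟨f₁, f₂, ⟨x₁, hx₁⟩, ⟨y₂, hy₂, hy₂'⟩, ?_, fun u => ?_, fun u => ?_⟩
  · refine ⟨x₁ - (f₂ x₁ / f₂ y₂).val • y₂, ?_, ?_⟩
    · rw [map_sub, map_nsmul, nsmul_eq_mul, ZMod.natCast_zmod_val, div_mul_cancel₀ _ hy₂', sub_self]
    · rwa [map_sub, map_nsmul, hy₂, smul_zero, sub_zero]
  · obtain ⟨c, hc⟩ := hc1 u
    exact ⟨c, fun x => DFunLike.congr_fun hc (Additive.ofMul x)⟩
  · obtain ⟨c, hc⟩ := hc2 u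
    exact ⟨c, fun x => DFunLike.congr_fun hc (Additive.ofMul x)⟩

end Cfsg.Agent.OddOrder.EigenHom
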