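/-
Characters of a maximal subgroup vanishing outside its Dade support, weighted by their degrees: the
coefficient of the exceptional character in their Dade images.
-/
import Cfsg.Agent.Lib.OddOrder.DadeTau
import Cfsg.Agent.Lib.Char.DadeVirtual
import Cfsg.Agent.Lib.Char.Isometry
import Cfsg.Agent.Lib.Char.Conjugate
import Cfsg.Agent.Lib.Char.InducedSet
import Cfsg.Agent.S1500

set_option autoImplicit false
set_option linter.style.haveILetI false
set_option linter.unusedSectionVars false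
set_option linter.unusedSimpArgs false

namespace Cfsg.Agent.OddOrder.WFam

open scoped ComplexConjugate
open Cfsg.Agent.Char

universe u v

/-! ## The real part of the inner product -/

section zin

variable {X : Type u} [Group X] [Fintype X]

/-- The real part of the inner product. -/
noncomputable def zin (f g : X → ℂ) : ℝ := (Cfsg.classInner f g).re

theorem zin_comm (f g : X → ℂ) : zin f g = zin g f := by
  rw [zin, zin, ← classInner_conj_symm g f, Complex.conj_re]

theorem zin_add_left (f g h : X → ℂ) : zin (f + g) h = zin f h + zin g h := by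
  simp [zin, classInner_add_left]

theorem zin_add_right (f g h : X → ℂ) : zin f (g + h) = zin f g + zin f h := by
  simp [zin, classInner_add_right]

theorem zin_sub_left (f g h : X → ℂ) : zin (f - g) h = zin f h - zin g h := by
  simp [zin, classInner_sub_left]

theorem zin_sub_right (f g h : X → ℂ) : zin f (g - h) = zin f g - zin f h := by
  simp [zin, classInner_sub_right]

theorem zin_smul_left (r : ℝ) (f g : X → ℂ) : zin ((r : ℂ) • f) g = r * zin f g := by
  rw [zin, zin, classInner_smul_left, Complex.re_ofReal_mul]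

theorem zin_smul_right (r : ℝ) (f g : X → ℂ) : zin f ((r : ℂ) • g) = r * zin f g := by
  rw [zin_comm, zin_smul_left, zin_comm]

theorem zin_sum_left {ι : Type v} (s : Finset ι) (f : ι → X → ℂ) (g : X → ℂ) :
    zin (∑ i ∈ s, f i) g = ∑ i ∈ s, zin (f i) g := by
  simp [zin, classInner_sum_left]

theorem zin_sum_right {ι : Type v} (s : Finset ι) (f : X → ℂ) (g : ι → X → ℂ) :
    zin f (∑ i ∈ s, g i) = ∑ i ∈ s, zin f (g i) := by
  simp [zin, classInner_sum_right]

theorem zin_self_nonneg (f : X → ℂ) : 0 ≤ zin f f := classInner_self_nonneg f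

theorem zin_int {f g : X → ℂ} (hf : Cfsg.IsGeneralizedCharacter X f) (hg : Cfsg.IsGeneralizedCharacter X g) :
    ∃ n : ℤ, zin f g = n := by
  obtain ⟨n, hn⟩ := IsGeneralizedCharacter.exists_classInner_int hf hg
  exact ⟨n, by simp [zin, hn]⟩

theorem zin_self_eq (f : X → ℂ) : zin f f = (Nat.card X : ℝ)⁻¹ * ∑ x : X, ‖f x‖ ^ 2 := by
  rw [zin, classInner_self_eq, Complex.ofReal_re]

end zin

variable {G : Type u} [Group G] [Fintype G]

/-- A reference character of degree `d1` vanishing outside the Dade support, with its exceptional image. -/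
structure Base (L : Subgroup G) [Fintype L] where
  d1 : ℕ
  φ0 : L → ℂ
  χ0 : G → ℂ
  gen0 : Cfsg.IsGeneralizedCharacter L φ0
  supp0 : ∀ x : L, x ≠ 1 → (x : G) ∉ DadeT.supp L → φ0 x = 0
  one0 : φ0 1 = d1
  d1pos : 0 < d1
  norm0 : zin φ0 φ0 = 1
  genχ : Cfsg.IsGeneralizedCharacter G χ0
  normχ : zin χ0 χ0 = 1

namespace Base

variable {L : Subgroup G} [Fintype L] (B : Base L)

/-- The degree in units of `d1`. -/
noncomputable def wt (φ : L → ℂ) : ℝ := (φ 1).re / B.d1

/-- The function of degree zero attached to `φ`. -/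
noncomputable def flat (φ : L → ℂ) : L → ℂ := φ - (B.wt φ : ℂ) • B.φ0

/-- The weighted image of `φ`. -/
noncomputable def img (φ : L → ℂ) : G → ℂ :=
  Cfsg.dadeIsometry (DadeT.supp L) L (DadeT.kern L) (B.flat φ) + (B.wt φ : ℂ) • B.χ0

/-- The defect of `φ`. -/
noncomputable def bval (φ : L → ℂ) : ℝ := zin (B.img φ) B.χ0 - zin φ B.φ0

/-- The functions to which the construction applies. -/
structure Adm (φ : L → ℂ) : Prop where
  gen : Cfsg.IsGeneralizedCharacter L φ
  supp : ∀ x : L, x ≠ 1 → (x : G) ∉ DadeT.supp L → φ x = 0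
  dvd : ∃ a : ℤ, φ 1 = (a : ℂ) * B.d1

theorem adm_base : B.Adm B.φ0 := ⟨B.gen0, B.supp0, 1, by simp [B.one0]⟩

variable {B}

theorem Adm.wt_int {φ : L → ℂ} (h : B.Adm φ) {a : ℤ} (ha : φ 1 = (a : ℂ) * B.d1) : B.wt φ = a := by
  have : (B.d1 : ℝ) ≠ 0 := Nat.cast_ne_zero.2 B.d1pos.ne'
  rw [wt, ha, show ((a : ℂ) * (B.d1 : ℂ)).re = (a : ℝ) * B.d1 by simp, mul_div_assoc, div_self this, mul_one]

theorem Adm.add {φ ψ : L → ℂ} (h : B.Adm φ) (h' : B.Adm ψ) : B.Adm (φ + ψ) where
  gen := IsGeneralizedCharacter.add h.gen h'.gen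
  supp x hx hxA := by simp [h.supp x hx hxA, h'.supp x hx hxA]
  dvd := by
    obtain ⟨a, ha⟩ := h.dvd
    obtain ⟨b, hb⟩ := h'.dvd
    exact ⟨a + b, by simp [ha, hb, add_mul]⟩

theorem Adm.sub {φ ψ : L → ℂ} (h : B.Adm φ) (h' : B.Adm ψ) : B.Adm (φ - ψ) where
  gen := IsGeneralizedCharacter.sub h.gen h'.gen
  supp x hx hxA := by simp [h.supp x hx hxA, h'.supp x hx hxA]
  dvd := by
    obtain ⟨a, ha⟩ := h.dvd
    obtain ⟨b, hb⟩ := h'.dvd
    exact ⟨a - b, by simp [ha, hb, sub_mul]⟩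

theorem Adm.nsmul {φ : L → ℂ} (h : B.Adm φ) (n : ℕ) : B.Adm ((n : ℂ) • φ) where
  gen := by simpa using IsGeneralizedCharacter.int_smul h.gen (n : ℤ)
  supp x hx hxA := by simp [h.supp x hx hxA]
  dvd := by
    obtain ⟨a, ha⟩ := h.dvd
    exact ⟨n * a, by simp [ha, mul_assoc]⟩

variable (B) in
theorem adm_zero : B.Adm 0 :=
  ⟨isGeneralizedCharacter_zero, fun _ _ _ => rfl, 0, by simp⟩

theorem adm_sum {ι : Type v} (s : Finset ι) {f : ι → L → ℂ} (h : ∀ i ∈ s, B.Adm (f i)) :
    B.Adm (∑ i ∈ s, f i) := by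
  classical
  induction s using Finset.induction with
  | empty => simpa using B.adm_zero
  | insert a s ha ih =>
    rw [Finset.sum_insert ha]
    exact (h a (Finset.mem_insert_self a s)).add (ih fun i hi => h i (Finset.mem_insert_of_mem hi))

theorem Adm.flat_gen {φ : L → ℂ} (h : B.Adm φ) : Cfsg.IsGeneralizedCharacter L (B.flat φ) := by
  obtain ⟨a, ha⟩ := h.dvd
  rw [flat, h.wt_int ha]
  refine IsGeneralizedCharacter.sub h.gen ?_
  simpa using IsGeneralizedCharacter.int_smul B.gen0 a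

theorem Adm.flat_supp {φ : L → ℂ} (h : B.Adm φ) (x : L) (hx : (x : G) ∉ DadeT.supp L) : B.flat φ x = 0 := by
  obtain ⟨a, ha⟩ := h.dvd
  by_cases h1 : x = 1
  · subst h1
    simp [flat, h.wt_int ha, ha, B.one0]
  · simp [flat, h.supp x h1 hx, B.supp0 x h1 hx]

theorem Adm.flat_cf {φ : L → ℂ} (h : B.Adm φ) : Cfsg.IsClassFunction L (B.flat φ) :=
  IsGeneralizedCharacter.isClassFunction h.flat_gen

variable (B)

theorem wt_base : B.wt B.φ0 = 1 := by
  rw [B.adm_base.wt_int (a := 1) (by simp [B.one0])]; simp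

theorem wt_add (φ ψ : L → ℂ) : B.wt (φ + ψ) = B.wt φ + B.wt ψ := by
  simp [wt, add_div]

theorem wt_sub (φ ψ : L → ℂ) : B.wt (φ - ψ) = B.wt φ - B.wt ψ := by
  simp [wt, sub_div]

theorem wt_smul (r : ℝ) (φ : L → ℂ) : B.wt ((r : ℂ) • φ) = r * B.wt φ := by
  simp [wt, Complex.mul_re, mul_div_assoc]

theorem wt_sum {ι : Type v} (s : Finset ι) (f : ι → L → ℂ) : B.wt (∑ i ∈ s, f i) = ∑ i ∈ s, B.wt (f i) := by
  simp [wt, Finset.sum_apply, Finset.sum_div]

theorem dade_add (α β : L → ℂ) : Cfsg.dadeIsometry (DadeT.supp L) L (DadeT.kern L) (α + β) =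
    Cfsg.dadeIsometry (DadeT.supp L) L (DadeT.kern L) α + Cfsg.dadeIsometry (DadeT.supp L) L (DadeT.kern L) β := by
  funext g
  simp only [Cfsg.dadeIsometry, Pi.add_apply]
  split_ifs <;> simp

theorem dade_smul (c : ℂ) (α : L → ℂ) : Cfsg.dadeIsometry (DadeT.supp L) L (DadeT.kern L) (c • α) =
    c • Cfsg.dadeIsometry (DadeT.supp L) L (DadeT.kern L) α := by
  funext g
  simp only [Cfsg.dadeIsometry, Pi.smul_apply]
  split_ifs <;> simp

theorem dade_zero : Cfsg.dadeIsometry (DadeT.supp L) L (DadeT.kern L) 0 = 0 := by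
  funext g
  simp only [Cfsg.dadeIsometry, Pi.zero_apply]
  split_ifs <;> rfl

theorem flat_add (φ ψ : L → ℂ) : B.flat (φ + ψ) = B.flat φ + B.flat ψ := by
  simp only [flat, wt_add, Complex.ofReal_add, add_smul]
  abel

theorem flat_smul (r : ℝ) (φ : L → ℂ) : B.flat ((r : ℂ) • φ) = (r : ℂ) • B.flat φ := by
  simp only [flat, wt_smul, Complex.ofReal_mul, mul_smul, smul_sub]

theorem img_add (φ ψ : L → ℂ) : B.img (φ + ψ) = B.img φ + B.img ψ := by
  simp only [img, flat_add, dade_add, wt_add, Complex.ofReal_add, add_smul]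
  abel

theorem img_smul (r : ℝ) (φ : L → ℂ) : B.img ((r : ℂ) • φ) = (r : ℂ) • B.img φ := by
  simp only [img, flat_smul, dade_smul, wt_smul, Complex.ofReal_mul, mul_smul, smul_add]

theorem bval_add (φ ψ : L → ℂ) : B.bval (φ + ψ) = B.bval φ + B.bval ψ := by
  simp only [bval, img_add, zin_add_left]
  ring

theorem bval_smul (r : ℝ) (φ : L → ℂ) : B.bval ((r : ℂ) • φ) = r * B.bval φ := by
  simp only [bval, img_smul, zin_smul_left]
  ring

theorem bval_zero : B.bval 0 = 0 := by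
  have := B.bval_add 0 0
  simpa using this

theorem bval_sub (φ ψ : L → ℂ) : B.bval (φ - ψ) = B.bval φ - B.bval ψ := by
  have := B.bval_add (φ - ψ) ψ
  rw [sub_add_cancel] at this
  linarith

theorem bval_sum {ι : Type v} (s : Finset ι) (f : ι → L → ℂ) :
    B.bval (∑ i ∈ s, f i) = ∑ i ∈ s, B.bval (f i) := by
  classical
  induction s using Finset.induction with
  | empty => simpa using B.bval_zero
  | insert a s ha ih => rw [Finset.sum_insert ha, Finset.sum_insert ha, bval_add, ih]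

variable (hG : Cfsg.IsMinSimpleOddOrder G) (hL : IsCoatom L)
include hG hL

omit [Fintype L] in
theorem hypothesis : Cfsg.DadeHypothesis (DadeT.supp L) L (DadeT.kern L) :=
  DadeT.hypothesis hG hL _ subset_rfl fun _ hy _ ha => DadeT.supp_conj hy ha

theorem img_gen {φ : L → ℂ} (h : B.Adm φ) : Cfsg.IsGeneralizedCharacter G (B.img φ) := by
  obtain ⟨a, ha⟩ := h.dvd
  refine IsGeneralizedCharacter.add
    (Dade.isGeneralizedCharacter_dade (hypothesis hG hL) h.flat_gen h.flat_supp) ?_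
  rw [h.wt_int ha]
  simpa using IsGeneralizedCharacter.int_smul B.genχ a

theorem bval_int {φ : L → ℂ} (h : B.Adm φ) : ∃ z : ℤ, B.bval φ = z := by
  obtain ⟨m, hm⟩ := zin_int (B.img_gen hG hL h) B.genχ
  obtain ⟨n, hn⟩ := zin_int h.gen B.gen0
  exact ⟨m - n, by simp [bval, hm, hn]⟩

theorem zin_img {φ ψ : L → ℂ} (h : B.Adm φ) (h' : B.Adm ψ) :
    zin (B.img φ) (B.img ψ) = zin φ ψ + B.wt ψ * B.bval φ + B.wt φ * B.bval ψ := by
  have e : zin (Cfsg.dadeIsometry (DadeT.supp L) L (DadeT.kern L) (B.flat φ))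
      (Cfsg.dadeIsometry (DadeT.supp L) L (DadeT.kern L) (B.flat ψ)) = zin (B.flat φ) (B.flat ψ) := by
    rw [zin, zin, (S1500.result _ L _ (hypothesis hG hL) _ h.flat_cf h.flat_supp).1 _ h'.flat_cf h'.flat_supp]
  simp only [bval, img, zin_add_left, zin_add_right, zin_smul_left, zin_smul_right, e, B.normχ]
  simp only [flat, zin_sub_left, zin_sub_right, zin_smul_left, zin_smul_right, B.norm0,
    zin_comm B.φ0 ψ, zin_comm B.χ0 (Cfsg.dadeIsometry (DadeT.supp L) L (DadeT.kern L) (ψ - (B.wt ψ : ℂ) • B.φ0))]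
  ring

/-- A function whose defect is forced to vanish by a good one. -/
theorem bval_eq_zero {φ φB : L → ℂ} (h : B.Adm φ) (hB : B.Adm φB) (hgood : B.bval φB = 0)
    (hN : 0 < zin φB φB) {m : ℕ} (hm : 0 < m) (hdvd : ∃ z : ℤ, B.bval φ = (m : ℝ) * z) {K : ℝ}
    (hK : |B.wt φ * zin φB φB - B.wt φB * zin φ φB| ≤ K)
    (hlt : zin φB φB * zin φ φ + 2 * K * m < (m : ℝ) ^ 2 * B.wt φB ^ 2) : B.bval φ = 0 := by
  obtain ⟨z, hz⟩ := hdvd
  by_contra hb
  have hz0 : z ≠ 0 := fun e => hb (by rw [hz, e]; simp)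
  have habs : (m : ℝ) ≤ |B.bval φ| := by
    rw [hz, abs_mul, Nat.abs_cast]
    have h1 : (1 : ℝ) ≤ |(z : ℝ)| := by exact_mod_cast Int.one_le_abs hz0
    exact le_mul_of_one_le_right (Nat.cast_nonneg m) h1
  set N := zin φB φB
  set e := zin φ φ
  set a := B.wt φ
  set aB := B.wt φB
  set b := B.bval φ
  set w := zin φ φB
  have hXB : zin (B.img φB) (B.img φB) = N := by
    rw [B.zin_img hG hL hB hB, hgood]; ring
  have hX : zin (B.img φ) (B.img φ) = e + 2 * a * b := by
    rw [B.zin_img hG hL h h]; ring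
  have hXX : zin (B.img φ) (B.img φB) = w + aB * b := by
    rw [B.zin_img hG hL h hB, hgood]; ring
  have hsq : (w + aB * b) ^ 2 ≤ N * (e + 2 * a * b) := by
    have h0 := zin_self_nonneg ((N : ℂ) • B.img φ - ((w + aB * b : ℝ) : ℂ) • B.img φB)
    simp only [zin_sub_left, zin_sub_right, zin_smul_left, zin_smul_right, hXB, hX, hXX,
      zin_comm (B.img φB) (B.img φ)] at h0
    nlinarith
  have hK0 : 0 ≤ K := (abs_nonneg _).trans hK
  have h2 : aB ^ 2 * b ^ 2 ≤ N * e + 2 * |b| * K := by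
    have h3 : b * (a * N - aB * w) ≤ |b| * K := by
      refine (le_abs_self _).trans ?_
      rw [abs_mul]
      exact mul_le_mul_of_nonneg_left hK (abs_nonneg b)
    nlinarith [sq_nonneg w]
  rw [← sq_abs b] at h2
  have hm1 : (1 : ℝ) ≤ m := by exact_mod_cast hm
  have he : 0 ≤ e := zin_self_nonneg φ
  have hNe : 0 ≤ N * e := mul_nonneg hN.le he
  have h4 : 2 * K < (m : ℝ) * aB ^ 2 := by
    by_contra h5
    push Not at h5
    nlinarith
  nlinarith [mul_le_mul_of_nonneg_left habs (sq_nonneg aB), mul_nonneg (sub_nonneg.2 habs) (sub_nonneg.2 h4.le)]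

omit B in
/-- An orthonormal family of functions of equal degree gives a reference character. -/
theorem exists_base {ι : Type u} [Finite ι] (i₀ : ι) (f : ι → L → ℂ) {d : ℕ} (hd : 0 < d)
    (hgen : ∀ i, Cfsg.IsGeneralizedCharacter L (f i))
    (hsupp : ∀ i, ∀ x : L, x ≠ 1 → (x : G) ∉ DadeT.supp L → f i x = 0) (hone : ∀ i, f i 1 = d)
    (hgram : ∀ i j, (i = j → Cfsg.classInner (f i) (f j) = 1) ∧ (i ≠ j → Cfsg.classInner (f i) (f j) = 0)) :
    ∃ B : Base L, B.d1 = d ∧ ∀ i, B.bval (f i) = 0 := by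
  classical
  have hD := hypothesis hG hL
  let α : ι → L → ℂ := fun i => f i - f i₀
  let τ : ι → G → ℂ := fun i => Cfsg.dadeIsometry (DadeT.supp L) L (DadeT.kern L) (α i)
  have hαgen : ∀ i, Cfsg.IsGeneralizedCharacter L (α i) := fun i => IsGeneralizedCharacter.sub (hgen i) (hgen i₀)
  have hαA : ∀ i, ∀ x : L, (x : G) ∉ DadeT.supp L → α i x = 0 := fun i x hx => by
    by_cases h1 : x = 1
    · simp [α, h1, hone]
    · simp [α, hsupp i x h1 hx, hsupp i₀ x h1 hx]
  have hαcf : ∀ i, Cfsg.IsClassFunction L (α i) := fun i => IsGeneralizedCharacter.isClassFunction (hαgen i)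
  have hτ0 : τ i₀ = 0 := by
    show Cfsg.dadeIsometry (DadeT.supp L) L (DadeT.kern L) (α i₀) = 0
    rw [show α i₀ = 0 from sub_self _, dade_zero]
  have hτ1 : ∀ i, τ i 1 = 0 := fun i => Dade.dadeIsometry_zero hD fun a ha hg => by
    obtain ⟨u, hu, x, hx⟩ := Dade.mem_coset.1 hg
    rw [mul_one, mul_inv_cancel] at hx
    have hau : a = u⁻¹ := eq_inv_of_mul_eq_one_left hx.symm
    have : a ∈ DadeT.kern L a ⊓ (L ⊓ Subgroup.centralizer ({a} : Set G)) :=
      ⟨by have h' := inv_mem hu; rwa [← hau] at h', Dade.mem_CL hD ha⟩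
    rw [hD.inf_eq_bot a ha, Subgroup.mem_bot] at this
    exact hD.one_not_mem (this ▸ ha)
  have hτgram : ∀ i j, i ≠ i₀ → j ≠ i₀ → Cfsg.classInner (τ i) (τ j) = if i = j then 2 else 1 := by
    intro i j hi hj
    rw [(S1500.result _ L _ hD (α i) (hαcf i) (hαA i)).1 (α j) (hαcf j) (hαA j)]
    simp only [α, classInner_sub_left, classInner_sub_right, (hgram i i₀).2 hi, (hgram i₀ j).2 (Ne.symm hj),
      (hgram i₀ i₀).1 rfl]
    split_ifs with h
    · rw [(hgram i j).1 h]; norm_num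
    · rw [(hgram i j).2 h]; norm_num
  obtain ⟨ε, hε, μ, hμ, hμinj, hτμ⟩ := isometry_lemma i₀ τ hτ0
    (fun i => Dade.isGeneralizedCharacter_dade hD (hαgen i) (hαA i)) hτ1 hτgram
  have hχgen : ∀ i, Cfsg.IsGeneralizedCharacter G (ε • μ i) := fun i => by
    have h := IsGeneralizedCharacter.of_isCharacter (IsIrrCharacter.isCharacter (hμ i))
    rcases hε with rfl | rfl
    · simpa using h
    · simpa using IsGeneralizedCharacter.neg h
  have hχgram : ∀ i j, Cfsg.classInner (ε • μ i) (ε • μ j) = if i = j then 1 else 0 := fun i j => by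
    have h : Cfsg.classInner (μ i) (μ j) = if i = j then 1 else 0 := by
      rw [classInner_irr (hμ i) (hμ j)]
      simp only [hμinj.eq_iff]
    rw [classInner_smul_left, classInner_smul_right, h]
    rcases hε with rfl | rfl <;> simp
  let B : Base L :=
    { d1 := d
      φ0 := f i₀
      χ0 := ε • μ i₀
      gen0 := hgen i₀
      supp0 := hsupp i₀
      one0 := hone i₀
      d1pos := hd
      norm0 := by simp [zin, (hgram i₀ i₀).1 rfl]
      genχ := hχgen i₀
      normχ := by simp [zin, hχgram] }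
  refine ⟨B, rfl, fun i => ?_⟩
  have hwt : B.wt (f i) = 1 := by
    have : (d : ℝ) ≠ 0 := Nat.cast_ne_zero.2 hd.ne'
    simp [Base.wt, B, hone, this]
  have himg : B.img (f i) = ε • μ i := by
    rw [Base.img, Base.flat, hwt, Complex.ofReal_one, one_smul, one_smul]
    show τ i + ε • μ i₀ = ε • μ i
    rw [hτμ i, smul_sub, sub_add_cancel]
  rw [Base.bval, himg]
  show zin (ε • μ i) (ε • μ i₀) - zin (f i) (f i₀) = 0
  by_cases h : i = i₀
  · simp [zin, hχgram, h, (hgram i₀ i₀).1 rfl]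
  · simp [zin, hχgram, h, (hgram i i₀).2 h]

end Base

end Cfsg.Agent.OddOrder.WFam
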