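/-
Defects of the functions induced from a normal subgroup inside the Dade support.
-/
import Cfsg.Agent.Lib.OddOrder.WeightedFamily

set_option autoImplicit false
set_option linter.style.haveILetI false
set_option linter.unusedSectionVars false
set_option linter.unusedSimpArgs false
set_option linter.unusedVariables false

namespace Cfsg.Agent.OddOrder.WFam

open scoped ComplexConjugate
open Cfsg.Agent.Char

universe u

namespace Base

variable {G : Type u} [Group G] [Fintype G] {L : Subgroup G} [Fintype L] (B : Base L)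
variable {R : Subgroup L} [hR : R.Normal]

/-- Sets of characters closed under conjugation in `L`. -/
def Stable (s : Finset (Cfsg.IrrCharacter R)) : Prop :=
  ∀ θ ∈ s, ∀ (g : L) (θ' : Cfsg.IrrCharacter R), (θ' : R → ℂ) = conjChar R g θ → θ' ∈ s

theorem conj_deg {θ θ' : Cfsg.IrrCharacter R} {g : L} (h : (θ' : R → ℂ) = conjChar R g θ) :
    Cfsg.charDegree (θ' : R → ℂ) = Cfsg.charDegree (θ : R → ℂ) := by
  refine Nat.cast_injective (R := ℂ) ?_
  rw [← CharX.irr_deg, ← CharX.irr_deg, h]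
  exact congrArg (θ : R → ℂ) (Subtype.ext (by simp))

theorem stable_over (A : Subgroup L) [A.Normal] : Stable (IndSet.over R A) := by
  intro θ hθ g θ' hθ'
  obtain ⟨h1, h2⟩ := (IndSet.mem_over R).1 hθ
  refine (IndSet.mem_over R).2 ⟨fun e => h1 ?_, fun a ha => ?_⟩
  · have := congrArg (conjChar R g⁻¹) (hθ'.symm.trans e)
    rw [IndSet.conjChar_const, ← conjChar_mul, mul_inv_cancel, conjChar_one] at this
    exact this
  · rw [hθ']
    exact IndSet.trivial_conj R A h2 g a ha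

/-- The number of elements conjugating `θ` into `ψ`. -/
noncomputable def cnt (θ ψ : Cfsg.IrrCharacter R) : ℕ :=
  Nat.card {g : L // conjChar R g (θ : R → ℂ) = (ψ : R → ℂ)}

theorem zin_ind (θ ψ : Cfsg.IrrCharacter R) :
    zin (Cfsg.indFun R (θ : R → ℂ)) (Cfsg.indFun R (ψ : R → ℂ)) = (cnt θ ψ : ℝ) / Nat.card R := by
  rw [zin, classInner_indFun_normal R θ.2 ψ.2, cnt, div_eq_inv_mul]
  simp [← Complex.ofReal_natCast, ← Complex.ofReal_inv, ← Complex.ofReal_mul]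

open scoped Classical in
theorem sum_cnt (s : Finset (Cfsg.IrrCharacter R)) (θ : Cfsg.IrrCharacter R) (w : Cfsg.IrrCharacter R → ℝ) :
    ∑ ψ ∈ s, w ψ * cnt θ ψ = ∑ g : L,
      if (⟨conjChar R g θ, isIrrCharacter_conjChar R θ.2 g⟩ : Cfsg.IrrCharacter R) ∈ s then
        w ⟨conjChar R g θ, isIrrCharacter_conjChar R θ.2 g⟩ else 0 := by
  rw [Finset.sum_congr rfl fun ψ _ => show w ψ * cnt θ ψ = ∑ g : L,
      if (⟨conjChar R g θ, isIrrCharacter_conjChar R θ.2 g⟩ : Cfsg.IrrCharacter R) = ψ then w ψ else 0 by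
    rw [← Finset.sum_filter, Finset.sum_const, nsmul_eq_mul, mul_comm]
    congr 1
    rw [cnt, Nat.card_eq_fintype_card, Fintype.card_subtype]
    congr 2
    exact Finset.filter_congr fun g _ => by rw [Subtype.ext_iff],
    Finset.sum_comm]
  exact Finset.sum_congr rfl fun g _ => Finset.sum_ite_eq s _ _

theorem cnt_sum_le (s : Finset (Cfsg.IrrCharacter R)) (θ : Cfsg.IrrCharacter R) :
    ∑ ψ ∈ s, (cnt θ ψ : ℝ) ≤ Nat.card L := by
  classical
  have := sum_cnt s θ fun _ => 1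
  simp only [one_mul] at this
  rw [this, Nat.card_eq_fintype_card, ← Finset.card_univ, Finset.sum_boole]
  exact_mod_cast Finset.card_filter_le _ _

theorem card_div : (Nat.card L : ℝ) / Nat.card R = R.index := by
  rw [div_eq_iff (Nat.cast_ne_zero.2 Nat.card_pos.ne')]
  exact_mod_cast R.index_mul_card.symm

theorem zin_ind_sum (s : Finset (Cfsg.IrrCharacter R)) (hs : Stable s) (θ : Cfsg.IrrCharacter R)
    [Decidable (θ ∈ s)] :
    ∑ ψ ∈ s, (Cfsg.charDegree (ψ : R → ℂ) : ℝ) * zin (Cfsg.indFun R (θ : R → ℂ)) (Cfsg.indFun R (ψ : R → ℂ)) =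
      if θ ∈ s then (Cfsg.charDegree (θ : R → ℂ) : ℝ) * R.index else 0 := by
  classical
  simp only [zin_ind, mul_div_assoc']
  rw [← Finset.sum_div, sum_cnt]
  split_ifs with h
  · rw [Finset.sum_congr rfl fun g _ => if_pos (hs θ h g _ rfl), Finset.sum_congr rfl fun g _ =>
      congrArg (fun n : ℕ => (n : ℝ)) (conj_deg (θ := θ)
        (θ' := ⟨conjChar R g θ, isIrrCharacter_conjChar R θ.2 g⟩) rfl), Finset.sum_const, Finset.card_univ,
      nsmul_eq_mul, mul_comm, mul_div_assoc, ← Nat.card_eq_fintype_card, card_div]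
  · rw [Finset.sum_eq_zero fun g _ => if_neg fun hg => h ?_, zero_div]
    refine hs _ hg g⁻¹ θ ?_
    show (θ : R → ℂ) = conjChar R g⁻¹ (conjChar R g θ)
    rw [← conjChar_mul, mul_inv_cancel, conjChar_one]

variable (hsupp : ∀ z ∈ R, z ≠ 1 → (z : G) ∈ DadeT.supp L) {d2 : ℕ} (hidx : R.index = B.d1 * d2)

/-- The weighted sum over a set of characters. -/
noncomputable def fam (s : Finset (Cfsg.IrrCharacter R)) : L → ℂ :=
  ∑ ψ ∈ s, (Cfsg.charDegree (ψ : R → ℂ) : ℂ) • Cfsg.indFun R (ψ : R → ℂ)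

/-- The sum of squares of the degrees. -/
noncomputable def mass (s : Finset (Cfsg.IrrCharacter R)) : ℕ :=
  ∑ ψ ∈ s, Cfsg.charDegree (ψ : R → ℂ) ^ 2

include hsupp hidx

theorem adm_ind (θ : Cfsg.IrrCharacter R) : B.Adm (Cfsg.indFun R (θ : R → ℂ)) where
  gen := IsGeneralizedCharacter.of_isCharacter (isCharacter_indFun R (IsIrrCharacter.isCharacter θ.2))
  supp x hx hxA := indFun_eq_zero_of_not_mem R _ fun h => hxA (hsupp x h hx)
  dvd := ⟨(d2 * Cfsg.charDegree (θ : R → ℂ) : ℕ), by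
    rw [indFun_one_apply, CharX.irr_deg, hidx]; push_cast; ring⟩

theorem wt_ind (θ : Cfsg.IrrCharacter R) :
    B.wt (Cfsg.indFun R (θ : R → ℂ)) = (Cfsg.charDegree (θ : R → ℂ) : ℝ) * d2 := by
  rw [(B.adm_ind hsupp hidx θ).wt_int (a := (d2 * Cfsg.charDegree (θ : R → ℂ) : ℕ))
    (by rw [indFun_one_apply, CharX.irr_deg, hidx]; push_cast; ring)]
  push_cast
  ring

theorem adm_fam (s : Finset (Cfsg.IrrCharacter R)) : B.Adm (fam s) :=
  adm_sum s fun ψ _ => (B.adm_ind hsupp hidx ψ).nsmul _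

theorem wt_fam (s : Finset (Cfsg.IrrCharacter R)) : B.wt (fam s) = (d2 : ℝ) * mass s := by
  rw [fam, wt_sum, mass, Nat.cast_sum, Finset.mul_sum]
  refine Finset.sum_congr rfl fun ψ _ => ?_
  rw [show (Cfsg.charDegree (ψ : R → ℂ) : ℂ) = ((Cfsg.charDegree (ψ : R → ℂ) : ℝ) : ℂ) by simp,
    wt_smul, B.wt_ind hsupp hidx]
  push_cast
  ring

omit hsupp hidx in
theorem zin_fam (s : Finset (Cfsg.IrrCharacter R)) (hs : Stable s) (θ : Cfsg.IrrCharacter R) [Decidable (θ ∈ s)] :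
    zin (Cfsg.indFun R (θ : R → ℂ)) (fam s) =
      if θ ∈ s then (Cfsg.charDegree (θ : R → ℂ) : ℝ) * R.index else 0 := by
  rw [fam, zin_sum_right, ← zin_ind_sum s hs θ]
  refine Finset.sum_congr rfl fun ψ _ => ?_
  rw [show (Cfsg.charDegree (ψ : R → ℂ) : ℂ) = ((Cfsg.charDegree (ψ : R → ℂ) : ℝ) : ℂ) by simp,
    zin_smul_right]

omit hsupp hidx in
theorem zin_fam_self (s : Finset (Cfsg.IrrCharacter R)) (hs : Stable s) :
    zin (fam s) (fam s) = (R.index : ℝ) * mass s := by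
  classical
  rw [show fam s = ∑ ψ ∈ s, (Cfsg.charDegree (ψ : R → ℂ) : ℂ) • Cfsg.indFun R (ψ : R → ℂ) from rfl,
    zin_sum_left, mass, Nat.cast_sum, Finset.mul_sum]
  refine Finset.sum_congr rfl fun ψ hψ => ?_
  rw [show (Cfsg.charDegree (ψ : R → ℂ) : ℂ) = ((Cfsg.charDegree (ψ : R → ℂ) : ℝ) : ℂ) by simp,
    zin_smul_left]
  have := zin_fam s hs ψ
  rw [if_pos hψ] at this
  rw [show (∑ φ ∈ s, (Cfsg.charDegree (φ : R → ℂ) : ℂ) • Cfsg.indFun R (φ : R → ℂ)) = fam s from rfl, this]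
  push_cast
  ring

omit hsupp hidx in
theorem bval_fam (s : Finset (Cfsg.IrrCharacter R)) (h : ∀ ψ ∈ s, B.bval (Cfsg.indFun R (ψ : R → ℂ)) = 0) :
    B.bval (fam s) = 0 := by
  rw [fam, bval_sum]
  refine Finset.sum_eq_zero fun ψ hψ => ?_
  rw [show (Cfsg.charDegree (ψ : R → ℂ) : ℂ) = ((Cfsg.charDegree (ψ : R → ℂ) : ℝ) : ℂ) by simp,
    bval_smul, h ψ hψ, mul_zero]

variable (hG : Cfsg.IsMinSimpleOddOrder G) (hL : IsCoatom L)
include hG hL

/-- A batch of characters of equal degree outside a stable good set. -/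
theorem good_batch (s t : Finset (Cfsg.IrrCharacter R)) (hs : Stable s)
    (hgood : ∀ ψ ∈ s, B.bval (Cfsg.indFun R (ψ : R → ℂ)) = 0) (hdisj : ∀ θ ∈ t, θ ∉ s) {a : ℕ}
    (ha : ∀ θ ∈ t, Cfsg.charDegree (θ : R → ℂ) = a) (h2 : 2 * B.d1 ^ 2 < mass s)
    (hlt : B.d1 * (B.d1 + 2 * a * t.card) < t.card * mass s) :
    ∀ θ ∈ t, B.bval (Cfsg.indFun R (θ : R → ℂ)) = 0 := by
  classical
  intro θ₀ hθ₀
  have hd2 : 0 < d2 := Nat.pos_of_ne_zero fun e => Subgroup.index_ne_zero_of_finite (H := R) (by rw [hidx, e, mul_zero])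
  have hd2' : (0 : ℝ) < d2 := Nat.cast_pos.2 hd2
  have hS : (0 : ℝ) < mass s := Nat.cast_pos.2 ((Nat.zero_le _).trans_lt h2)
  have hd0 : (R.index : ℝ) = B.d1 * d2 := by rw [hidx]; push_cast; ring
  have hd1 : (0 : ℝ) < B.d1 := Nat.cast_pos.2 B.d1pos
  have hR0 : (0 : ℝ) < Nat.card R := Nat.cast_pos.2 Nat.card_pos
  have hN : 0 < zin (fam (R := R) s) (fam s) := by rw [zin_fam_self s hs, hd0]; positivity
  have hzero : ∀ θ ∈ t, zin (Cfsg.indFun R (θ : R → ℂ)) (fam s) = 0 := fun θ hθ => by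
    rw [zin_fam s hs, if_neg (hdisj θ hθ)]
  have hself : ∀ θ : Cfsg.IrrCharacter R,
      zin (Cfsg.indFun R (θ : R → ℂ)) (Cfsg.indFun R (θ : R → ℂ)) ≤ R.index := fun θ => by
    rw [zin_ind, ← card_div]
    refine div_le_div_of_nonneg_right ?_ hR0.le
    simpa using cnt_sum_le {θ} θ
  -- equal degrees give equal defects
  have heq : ∀ θ ∈ t, B.bval (Cfsg.indFun R (θ : R → ℂ)) = B.bval (Cfsg.indFun R (θ₀ : R → ℂ)) := by
    intro θ hθ
    rw [← sub_eq_zero, ← bval_sub]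
    refine B.bval_eq_zero hG hL ((B.adm_ind hsupp hidx θ).sub (B.adm_ind hsupp hidx θ₀))
      (B.adm_fam hsupp hidx s) (B.bval_fam s hgood) hN Nat.one_pos ?_ (K := 0) ?_ ?_
    · obtain ⟨z, hz⟩ := B.bval_int hG hL ((B.adm_ind hsupp hidx θ).sub (B.adm_ind hsupp hidx θ₀))
      exact ⟨z, by simpa using hz⟩
    · rw [wt_sub, B.wt_ind hsupp hidx, B.wt_ind hsupp hidx, ha θ hθ, ha θ₀ hθ₀, zin_sub_left, hzero θ hθ,
        hzero θ₀ hθ₀]
      simp
    · rw [zin_fam_self s hs, B.wt_fam hsupp hidx, Nat.cast_one, mul_zero, zero_mul, add_zero, one_pow, one_mul]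
      have h1 : zin (Cfsg.indFun R (θ : R → ℂ) - Cfsg.indFun R (θ₀ : R → ℂ))
          (Cfsg.indFun R (θ : R → ℂ) - Cfsg.indFun R (θ₀ : R → ℂ)) ≤ 2 * R.index := by
        simp only [zin_sub_left, zin_sub_right]
        have := hself θ
        have := hself θ₀
        have h3 : 0 ≤ zin (Cfsg.indFun R (θ : R → ℂ)) (Cfsg.indFun R (θ₀ : R → ℂ)) := by
          rw [zin_ind]; positivity
        linarith [zin_comm (Cfsg.indFun R (θ₀ : R → ℂ)) (Cfsg.indFun R (θ : R → ℂ))]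
      refine (mul_le_mul_of_nonneg_left h1 (by positivity)).trans_lt ?_
      rw [hd0]
      have h2' : 2 * (B.d1 : ℝ) ^ 2 < mass s := by exact_mod_cast h2
      nlinarith [mul_pos (pow_pos hd2' 2) hS]
  have ht0 : 0 < t.card := Finset.card_pos.2 ⟨θ₀, hθ₀⟩
  have hsum : B.bval (∑ θ ∈ t, Cfsg.indFun R (θ : R → ℂ)) = 0 := by
    refine B.bval_eq_zero hG hL (adm_sum t fun θ _ => B.adm_ind hsupp hidx θ) (B.adm_fam hsupp hidx s)
      (B.bval_fam s hgood) hN ht0 ?_
      (K := (t.card : ℝ) * a * d2 * ((R.index : ℝ) * mass s)) ?_ ?_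
    · obtain ⟨z, hz⟩ := B.bval_int hG hL (B.adm_ind hsupp hidx θ₀)
      refine ⟨z, ?_⟩
      rw [bval_sum, Finset.sum_congr rfl fun θ hθ => (heq θ hθ).trans hz, Finset.sum_const, nsmul_eq_mul]
    · rw [zin_fam_self s hs, wt_sum, Finset.sum_congr rfl fun (θ : Cfsg.IrrCharacter R) hθ => show B.wt (Cfsg.indFun R (θ : R → ℂ)) =
        (a : ℝ) * d2 by rw [B.wt_ind hsupp hidx, ha θ hθ], Finset.sum_const, nsmul_eq_mul,
        zin_sum_left, Finset.sum_congr rfl fun θ hθ => hzero θ hθ, Finset.sum_const_zero, mul_zero, sub_zero,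
        abs_of_nonneg (by positivity)]
      exact le_of_eq (by ring)
    · rw [zin_fam_self s hs, B.wt_fam hsupp hidx]
      have h1 : zin (∑ θ ∈ t, Cfsg.indFun R (θ : R → ℂ)) (∑ θ ∈ t, Cfsg.indFun R (θ : R → ℂ)) ≤
          (t.card : ℝ) * R.index := by
        rw [zin_sum_left, ← nsmul_eq_mul, ← Finset.sum_const]
        refine Finset.sum_le_sum fun θ _ => ?_
        rw [zin_sum_right, Finset.sum_congr rfl fun ψ _ => zin_ind θ ψ, ← Finset.sum_div, ← card_div]
        exact div_le_div_of_nonneg_right (cnt_sum_le t θ) hR0.le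
      have h2' : (B.d1 : ℝ) * (B.d1 + 2 * a * t.card) < t.card * mass s := by exact_mod_cast hlt
      have h3 : (0 : ℝ) < t.card * d2 ^ 2 * mass s := by positivity
      refine (add_le_add (mul_le_mul_of_nonneg_left h1 (by positivity)) le_rfl).trans_lt ?_
      rw [hd0]
      nlinarith [mul_lt_mul_of_pos_left h2' h3]
  rw [bval_sum, Finset.sum_congr rfl heq, Finset.sum_const, nsmul_eq_mul, mul_eq_zero] at hsum
  exact hsum.resolve_left (Nat.cast_ne_zero.2 ht0.ne')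

/-- One character outside a stable good set. -/
theorem good_single (s : Finset (Cfsg.IrrCharacter R)) (hs : Stable s)
    (hgood : ∀ ψ ∈ s, B.bval (Cfsg.indFun R (ψ : R → ℂ)) = 0) (θ : Cfsg.IrrCharacter R)
    (h2 : 2 * B.d1 ^ 2 < mass s)
    (hlt : B.d1 * (B.d1 + 2 * Cfsg.charDegree (θ : R → ℂ)) < mass s) :
    B.bval (Cfsg.indFun R (θ : R → ℂ)) = 0 := by
  classical
  by_cases hθ : θ ∈ s
  · exact hgood θ hθ
  refine B.good_batch hsupp hidx hG hL s {θ} hs hgood (fun ψ hψ => Finset.mem_singleton.1 hψ ▸ hθ)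
    (fun ψ hψ => by rw [Finset.mem_singleton.1 hψ]) h2 ?_ θ (Finset.mem_singleton_self θ)
  simpa using hlt

end Base

end Cfsg.Agent.OddOrder.WFam
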