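/-
Goodness of all characters of a nilpotent section follows from goodness of the linear ones.
-/
import Cfsg.Agent.Lib.OddOrder.WeightedInd

set_option autoImplicit false
set_option linter.style.haveILetI false
set_option linter.unusedSectionVars false
set_option linter.unusedSimpArgs false
set_option linter.unusedVariables false

namespace Cfsg.Agent.OddOrder.WFam

open scoped ComplexConjugate commutatorElement
open Cfsg.Agent.Char

universe u

/-- `⁅x ^ n, y⁆ = ⁅x, y⁆ ^ n` for a central commutator. -/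
theorem comm_pow_central {H : Type u} [Group H] (x y : H) (h : Commute x ⁅x, y⁆) (n : ℕ) :
    ⁅x ^ n, y⁆ = ⁅x, y⁆ ^ n := by
  induction n with
  | zero => simp [commutatorElement_def]
  | succ n ih =>
    calc ⁅x ^ (n + 1), y⁆ = x * ⁅x ^ n, y⁆ * x⁻¹ * ⁅x, y⁆ := by
          rw [pow_succ']; simp only [commutatorElement_def]; group
      _ = x * ⁅x, y⁆ ^ n * x⁻¹ * ⁅x, y⁆ := by rw [ih]
      _ = ⁅x, y⁆ ^ n * ⁅x, y⁆ := by rw [(h.pow_right n).eq, mul_inv_cancel_right]
      _ = ⁅x, y⁆ ^ (n + 1) := (pow_succ _ _).symm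

/-- The commutator part of the first step has exponent dividing the index. -/
theorem pow_mem_step {L : Type u} [Group L] {R Q N1 : Subgroup L} [R.Normal] [Q.Normal] [N1.Normal]
    (hN1 : ⁅R, R⁆ ⊔ Q = N1) (hN1R : N1 ≤ R) {n : ℕ} (hpow : ∀ x ∈ R, x ^ n ∈ N1) :
    ∀ z ∈ N1, z ^ n ∈ ⁅N1, R⁆ ⊔ Q := by
  set N' := ⁅N1, R⁆ ⊔ Q
  set π := QuotientGroup.mk' N'
  have hQ : Q.map π = ⊥ := (Subgroup.map_eq_bot_iff Q).2 (by rw [QuotientGroup.ker_mk']; exact le_sup_right)
  have hcen : ∀ z ∈ N1.map π, ∀ x ∈ R.map π, Commute z x := by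
    rintro _ ⟨z, hz, rfl⟩ _ ⟨x, hx, rfl⟩
    rw [← commutatorElement_eq_one_iff_commute, ← map_commutatorElement, ← MonoidHom.mem_ker, QuotientGroup.ker_mk']
    exact Subgroup.mem_sup_left (Subgroup.commutator_mem_commutator hz hx)
  have hN : N1.map π = ⁅R.map π, R.map π⁆ := by
    rw [show N1.map π = (⁅R, R⁆ ⊔ Q).map π from congrArg (Subgroup.map π) hN1.symm, Subgroup.map_sup, hQ,
      sup_bot_eq, Subgroup.map_commutator]
  have hRN : N1.map π ≤ R.map π := Subgroup.map_mono hN1R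
  have key : ∀ z ∈ ⁅R.map π, R.map π⁆, z ^ n = 1 := by
    intro z hz
    suffices z ∈ N1.map π ∧ z ^ n = 1 from this.2
    have hz' : z ∈ Subgroup.closure {g | ∃ g₁ ∈ R.map π, ∃ g₂ ∈ R.map π, ⁅g₁, g₂⁆ = g} := hz
    clear hz
    induction hz' using Subgroup.closure_induction with
    | mem w hw =>
      obtain ⟨a, ha, b, hb, rfl⟩ := hw
      have hab : ⁅a, b⁆ ∈ N1.map π := hN ▸ Subgroup.commutator_mem_commutator ha hb
      refine ⟨hab, ?_⟩
      rw [← comm_pow_central a b (hcen _ hab a ha).symm n, commutatorElement_eq_one_iff_commute]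
      obtain ⟨x, hx, rfl⟩ := ha
      exact hcen _ (by rw [← map_pow]; exact ⟨_, hpow x hx, rfl⟩) _ hb
    | one => exact ⟨one_mem _, one_pow _⟩
    | mul p q _ _ hp hq =>
      refine ⟨mul_mem hp.1 hq.1, ?_⟩
      rw [(hcen p hp.1 q (hRN hq.1)).mul_pow, hp.2, hq.2, one_mul]
    | inv p _ hp => exact ⟨inv_mem hp.1, by rw [inv_pow, hp.2, inv_one]⟩
  intro z hz
  have := key (π z) (hN ▸ ⟨z, hz, rfl⟩)
  rwa [← map_pow, ← MonoidHom.mem_ker, QuotientGroup.ker_mk'] at this

namespace Base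

variable {G : Type u} [Group G] [Fintype G] {L : Subgroup G} [Fintype L] (B : Base L)
variable {R : Subgroup L} [hR : R.Normal] (hsupp : ∀ z ∈ R, z ≠ 1 → (z : G) ∈ DadeT.supp L)
variable {d2 : ℕ} (hidx : R.index = B.d1 * d2) (hG : Cfsg.IsMinSimpleOddOrder G) (hL : IsCoatom L)

theorem linear_over {A N : Subgroup L} [A.Normal] (hAR : A ≤ R) (hN : ⁅R, R⁆ ⊔ A = N)
    {θ : Cfsg.IrrCharacter R} (hθ : θ ∈ IndSet.over R A) (h1 : (θ : R → ℂ) 1 = 1) : θ ∈ IndSet.over R N := by
  obtain ⟨hne, hA⟩ := (IndSet.mem_over R).1 hθ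
  obtain ⟨f, hf⟩ := exists_hom_of_degree_one (IsIrrCharacter.isCharacter θ.2) h1
  refine (IndSet.mem_over R).2 ⟨hne, fun a ha => ?_⟩
  have hle : N ≤ f.ker.map R.subtype := by
    rw [← hN]
    refine sup_le (Subgroup.commutator_le.2 fun x hx y hy =>
      ⟨⁅(⟨x, hx⟩ : R), ⟨y, hy⟩⁆, ?_, rfl⟩) fun x hx => ?_
    · show f ⁅(⟨x, hx⟩ : R), ⟨y, hy⟩⁆ = 1
      rw [map_commutatorElement, commutatorElement_eq_one_iff_commute]
      exact Commute.all _ _
    · refine ⟨⟨x, hAR hx⟩, ?_, rfl⟩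
      have := hA ⟨x, hAR hx⟩ hx
      rw [hf] at this
      exact Units.ext (by simpa using this)
  obtain ⟨b, hb, hba⟩ := hle ha
  obtain rfl : b = a := Subtype.ext hba
  rw [hf]
  simp [MonoidHom.mem_ker.1 hb]

include hsupp hidx hG hL

/-- Every non-principal character of `R` trivial on `Q` is good as soon as the linear ones are. -/
theorem chain_good {t : ℕ} (ht : t.Prime) (hd : 2 * B.d1 + 1 ≤ t) (hodd : Odd (Nat.card L))
    {Q N1 : Subgroup L} [hQn : Q.Normal] [hN1n : N1.Normal] (hN1R : N1 ≤ R) (hN1 : ⁅R, R⁆ ⊔ Q = N1)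
    (hser : ∀ N : Subgroup L, N.Normal → Q ≤ N → N ≤ R → ⁅N, R⁆ ⊔ Q = N → N = Q)
    (hsize : t ^ 2 ∣ N1.relIndex R)
    (hdeg : ∀ θ ∈ IndSet.over R Q, ∃ j, Cfsg.charDegree (θ : R → ℂ) = t ^ j)
    (hbase : ∀ θ ∈ IndSet.over R N1, B.bval (Cfsg.indFun R (θ : R → ℂ)) = 0) :
    ∀ θ ∈ IndSet.over R Q, B.bval (Cfsg.indFun R (θ : R → ℂ)) = 0 := by
  classical
  have hQN1 : Q ≤ N1 := hN1 ▸ le_sup_right
  have hover : ∀ {A A' : Subgroup L}, A ≤ A' → IndSet.over R A' ⊆ IndSet.over R A := fun h θ hθ => by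
    obtain ⟨a, b⟩ := (IndSet.mem_over R).1 hθ
    exact (IndSet.mem_over R).2 ⟨a, fun x hx => b x (h hx)⟩
  have hmass : ∀ (A : Subgroup L) [A.Normal], mass (IndSet.over R A) + 1 = A.relIndex R :=
    fun A _ => IndSet.sum_over_sq R A
  have hoddR : ∀ A A' : Subgroup L, A ≤ A' → Odd (A.relIndex A') := fun A A' h =>
    hodd.of_dvd_nat ((Subgroup.relIndex_dvd_card (H := A) (K := A')).trans (Subgroup.card_subgroup_dvd_card A'))
  suffices H : ∀ c : ℕ, ∀ N : Subgroup L, Nat.card N = c → N.Normal → Q ≤ N → N ≤ N1 →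
      (∀ θ ∈ IndSet.over R N, B.bval (Cfsg.indFun R (θ : R → ℂ)) = 0) →
      ∀ θ ∈ IndSet.over R Q, B.bval (Cfsg.indFun R (θ : R → ℂ)) = 0 from
    H _ N1 rfl hN1n hQN1 le_rfl hbase
  intro c
  induction c using Nat.strong_induction_on with
  | _ c ih =>
    intro N hc hNn hQN hNN1 hgood
    have hNR := hNN1.trans hN1R
    set N' := ⁅N, R⁆ ⊔ Q with hN'def
    haveI : N'.Normal := Subgroup.sup_normal _ _
    have hN'N : N' ≤ N := sup_le (Subgroup.commutator_le_left N R) hQN
    by_cases heq : N' = N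
    · rw [← hser N hNn hQN hNR heq]
      exact hgood
    have hlt : Nat.card N' < c := hc ▸ lt_of_le_of_ne (Subgroup.card_le_of_le hN'N) fun e =>
      heq (Subgroup.eq_of_le_of_card_ge hN'N e.ge)
    refine ih _ hlt N' rfl inferInstance le_sup_right (hN'N.trans hNN1) ?_
    set s := N.relIndex R with hsdef
    have hs : mass (IndSet.over R N) + 1 = s := hmass N
    obtain ⟨k, hk⟩ := hsize
    have hk0 : 0 < k := Nat.pos_of_ne_zero fun e => Subgroup.index_ne_zero_of_finite (H := N1.subgroupOf R) (by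
      show N1.relIndex R = 0
      rw [hk, e, mul_zero])
    have hsk : s = t ^ 2 * k * N.relIndex N1 := by
      rw [hsdef, ← Subgroup.relIndex_mul_relIndex N N1 R hNN1 hN1R, hk, mul_comm]
    have hdata : ∀ θ ∈ IndSet.over R N', ∃ j, Cfsg.charDegree (θ : R → ℂ) = t ^ j ∧ (t ^ j) ^ 2 ≤ s := by
      intro θ hθ
      obtain ⟨j, hj⟩ := hdeg θ (hover le_sup_right hθ)
      refine ⟨j, hj, ?_⟩
      have := IndSet.degree_sq_le R (B := N') (C := R) (D := N) le_rfl (fun x hx y hy =>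
        Subgroup.mem_sup_left (Subgroup.commutator_mem_commutator hx hy)) θ.2 ((IndSet.mem_over R).1 hθ).2
        (d := t ^ j) (by rw [CharX.irr_deg, hj])
      rwa [Subgroup.relIndex_self, one_pow, one_mul] at this
    have ht3 : 3 ≤ t := by have := B.d1pos; omega
    have hd1 : 2 * B.d1 ^ 2 < mass (IndSet.over R N) := by
      have h1 : t ^ 2 ≤ s := hsk ▸ le_trans (Nat.le_mul_of_pos_right _ hk0)
        (Nat.le_mul_of_pos_right _ (Nat.pos_of_ne_zero fun e =>
          Subgroup.index_ne_zero_of_finite (H := N.subgroupOf N1) e))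
      nlinarith
    intro θ hθ
    by_cases hθN : θ ∈ IndSet.over R N
    · exact hgood θ hθN
    obtain ⟨j, hj, hjs⟩ := hdata θ hθ
    rcases Nat.lt_or_ge s (3 * t ^ 2) with hsmall | hbig
    · -- the tight step
      have hone : k * N.relIndex N1 = 1 := by
        have h1 : k * N.relIndex N1 < 3 := by
          rw [hsk, mul_assoc, mul_comm 3] at hsmall
          exact Nat.lt_of_mul_lt_mul_left hsmall
        have h2 : Odd (k * N.relIndex N1) := by
          refine (hoddR N R hNR).of_dvd_nat ⟨t ^ 2, ?_⟩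
          rw [← hsdef, hsk]; ring
        obtain ⟨i, hi⟩ := h2
        omega
      obtain ⟨hk1, hNN⟩ := Nat.eq_one_of_mul_eq_one_right hone, Nat.eq_one_of_mul_eq_one_left hone
      have hNeq : N = N1 := le_antisymm hNN1 (Subgroup.relIndex_eq_one.1 hNN)
      have hst : s = t ^ 2 := by rw [hsk, hk1, hNN, mul_one, mul_one]
      subst hNeq
      set new := IndSet.over R N' \ IndSet.over R N with hnew
      have hnewdeg : ∀ ψ ∈ new, Cfsg.charDegree (ψ : R → ℂ) = t := by
        intro ψ hψ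
        obtain ⟨hψ', hψN⟩ := Finset.mem_sdiff.1 hψ
        obtain ⟨i, hi, his⟩ := hdata ψ hψ'
        rw [hst, ← pow_mul] at his
        have h1 : i * 2 ≤ 2 := (Nat.pow_le_pow_iff_right ht.one_lt).1 his
        have h2 : i ≠ 0 := fun e => hψN (linear_over (hQN1.trans hN1R) hN1 (hover le_sup_right hψ') (by
          rw [CharX.irr_deg, hi, e, pow_zero, Nat.cast_one]))
        rw [hi, show i = 1 by omega, pow_one]
      have hcount : t ^ 2 * new.card + t ^ 2 = N'.relIndex R := by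
        rw [← hmass N', mass, ← Finset.sum_sdiff (hover hN'N), ← hnew,
          Finset.sum_congr rfl fun ψ hψ => by rw [hnewdeg ψ hψ], Finset.sum_const, smul_eq_mul, mul_comm,
          add_assoc, ← hst, ← hs]
        rfl
      have hidx' : N'.relIndex N = new.card + 1 := by
        rw [← Subgroup.relIndex_mul_relIndex N' N R hN'N hN1R, ← hsdef, hst] at hcount
        exact Nat.eq_of_mul_eq_mul_right (pow_pos ht.pos 2) (by linarith)
      have htd : t ∣ N'.relIndex N := by
        obtain ⟨q, hq, hqd⟩ := Nat.exists_prime_and_dvd (n := N'.relIndex N) fun e =>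
          heq (le_antisymm hN'N (Subgroup.relIndex_eq_one.1 e))
        haveI := Fact.mk hq
        obtain ⟨z, hz⟩ := exists_prime_orderOf_dvd_card' (G := N ⧸ N'.subgroupOf N) q hqd
        obtain ⟨w, rfl⟩ := QuotientGroup.mk_surjective z
        have h1 : (w : L) ^ (t ^ 2) ∈ N' := by
          refine pow_mem_step hN1 hN1R (fun x hx => ?_) w w.2
          have := Subgroup.pow_index_mem (N.subgroupOf R) ⟨x, hx⟩
          rw [show (N.subgroupOf R).index = t ^ 2 from hst] at this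
          simpa [Subgroup.mem_subgroupOf] using this
        have h2 : orderOf (w : N ⧸ N'.subgroupOf N) ∣ t ^ 2 := by
          rw [orderOf_dvd_iff_pow_eq_one, ← QuotientGroup.mk_pow, QuotientGroup.eq_one_iff]
          simpa [Subgroup.mem_subgroupOf] using h1
        rw [hz] at h2
        rwa [← (Nat.prime_dvd_prime_iff_eq hq ht).1 (hq.dvd_of_dvd_pow h2)]
      have hcard : t ≤ new.card + 1 := hidx' ▸ Nat.le_of_dvd (by omega) htd
      refine B.good_batch hsupp hidx hG hL _ new (stable_over N) hgood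
        (fun ψ hψ => (Finset.mem_sdiff.1 hψ).2) hnewdeg hd1 ?_ θ (Finset.mem_sdiff.2 ⟨hθ, hθN⟩)
      have hm : mass (IndSet.over R N) + 1 = t ^ 2 := hst ▸ hs
      obtain ⟨u, hu⟩ := Nat.exists_eq_add_of_le hd
      obtain ⟨v, hv⟩ : ∃ v, new.card = 2 * B.d1 + u + v := ⟨new.card - (2 * B.d1 + u), by omega⟩
      rw [hv, hu]
      have hm' : mass (IndSet.over R N) = (2 * B.d1 + u) * (2 * B.d1 + u + 2) := by
        refine Nat.add_right_cancel (m := 1) (hm.trans ?_)
        rw [hu]; ring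
      rw [hm']
      have := B.d1pos
      calc _ < B.d1 * (B.d1 + 2 * (2 * B.d1 + 1 + u) * (2 * B.d1 + u + v)) + (3 * B.d1 ^ 2 + 2 * B.d1 * u +
              2 * B.d1 * v + (2 * B.d1 + u + v) * (2 * B.d1 * u + u ^ 2 + 2 * u)) :=
            Nat.lt_add_of_pos_right (by positivity)
        _ = _ := by ring
    · refine B.good_single hsupp hidx hG hL _ (stable_over N) hgood θ hd1 ?_
      rw [hj]
      set a := t ^ j
      nlinarith [sq_nonneg ((5 : ℤ) * t - 3 * a)]

end Base

end Cfsg.Agent.OddOrder.WFam
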