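/-
A normal `t`-subgroup with an abelian group of operators of exponent `t - 1`: all characters of the central
product with its centralizer are good for the family of one or two invariant maximal subgroups.
-/
import Cfsg.Agent.Lib.OddOrder.WeightedChain
import Cfsg.Agent.Lib.OddOrder.EigenHom
import Cfsg.Agent.Lib.Char.TwistFamily
import Cfsg.Agent.Lib.Char.ItoPSolvable
import Cfsg.Agent.Lib.CharP.AxB
import Cfsg.Agent.Lib.Solvable.Coprime
import Mathlib.GroupTheory.Transfer

set_option autoImplicit false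
set_option linter.style.haveILetI false
set_option linter.unusedSectionVars false
set_option linter.unusedSimpArgs false
set_option linter.unusedVariables false

namespace Cfsg.Agent.OddOrder.TwoAx

open scoped ComplexConjugate commutatorElement IsMulCommutative
open Cfsg.Agent.Char WFam

universe u

/-- The standing data, inside the maximal subgroup. -/
structure Data {X : Type u} [Group X] (T C : Subgroup X) (t : ℕ) : Prop where
  prime : t.Prime
  three_le : 3 ≤ t
  odd : Odd (Nat.card X)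
  pgroup : IsPGroup t T
  normalT : T.Normal
  normalC : C.Normal
  cop : T.index.Coprime t
  noncomm : ¬ IsMulCommutative T
  derived : T ≤ commutator X
  cent : ∀ x ∈ T, ∀ c ∈ C, x * c = c * x
  abC : ∀ a ∈ C, ∀ b ∈ C, a * b = b * a
  abq : ∀ u v : X, u * v * u⁻¹ * v⁻¹ ∈ T ⊔ C
  exp : ∀ u : X, u ^ (t - 1) ∈ T ⊔ C

section Group

variable {X : Type u} [Group X] [Finite X] {T C : Subgroup X} {t : ℕ}

/-- The part of `C` of order prime to `t`. -/
def primePart (h : Data T C t) : Subgroup X where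
  carrier := {c | c ∈ C ∧ c ^ T.index = 1}
  one_mem' := ⟨one_mem _, one_pow _⟩
  mul_mem' := fun {a b} ha hb => ⟨mul_mem ha.1 hb.1, by
    rw [(show Commute a b from h.abC a ha.1 b hb.1).mul_pow, ha.2, hb.2, one_mul]⟩
  inv_mem' := fun {a} ha => ⟨inv_mem ha.1, by rw [inv_pow, ha.2, inv_one]⟩

variable (h : Data T C t)
include h

theorem Data.mem_prime {c : X} : c ∈ primePart h ↔ c ∈ C ∧ c ^ T.index = 1 := Iff.rfl

theorem Data.prime_normal : (primePart h).Normal := ⟨fun c hc g =>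
  ⟨h.normalC.conj_mem c hc.1 g, by rw [conj_pow, hc.2, mul_one, mul_inv_cancel]⟩⟩

theorem Data.cop_card : (Nat.card T).Coprime T.index := by
  haveI := Fact.mk h.prime
  obtain ⟨n, hn⟩ := IsPGroup.iff_card.1 h.pgroup
  rw [hn]
  exact Nat.Coprime.pow_left n h.cop.symm

theorem Data.mem_T {x : X} (hx : x ^ Nat.card T = 1) : x ∈ T := by
  haveI := h.normalT
  rw [← QuotientGroup.eq_one_iff, ← orderOf_eq_one_iff]
  exact Nat.eq_one_of_dvd_coprimes h.cop_card (orderOf_dvd_of_pow_eq_one (by rw [← QuotientGroup.mk_pow, hx]; rfl))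
    (by rw [Subgroup.index_eq_card]; exact orderOf_dvd_natCard _)

theorem Data.disjoint {x : X} (hx : x ∈ T) (hc : x ∈ primePart h) : x = 1 :=
  orderOf_eq_one_iff.1 (Nat.eq_one_of_dvd_coprimes h.cop_card (Subgroup.orderOf_dvd_natCard T hx)
    (orderOf_dvd_of_pow_eq_one hc.2))

theorem Data.decomp {z : X} (hz : z ∈ T ⊔ C) : ∃ x ∈ T, ∃ c ∈ primePart h, z = x * c := by
  haveI := h.normalC
  obtain ⟨x, hx, c, hc, rfl⟩ := Subgroup.mem_sup_of_normal_right.1 hz
  obtain ⟨a, b, hab⟩ : ∃ a b : ℤ, a * (T.index : ℤ) + b * (Nat.card T : ℤ) = 1 := by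
    refine ⟨Nat.gcdB (Nat.card T) T.index, Nat.gcdA (Nat.card T) T.index, ?_⟩
    have := Nat.gcd_eq_gcd_ab (Nat.card T) T.index
    rw [h.cop_card.gcd_eq_one] at this
    push_cast at this
    linarith
  have hall : c ^ ((T.index : ℤ) * (Nat.card T : ℤ)) = 1 := by
    rw [← Nat.cast_mul, zpow_natCast, mul_comm T.index, T.card_mul_index]
    exact pow_card_eq_one'
  refine ⟨x * c ^ (a * (T.index : ℤ)), T.mul_mem hx (h.mem_T ?_), c ^ (b * (Nat.card T : ℤ)),
    ⟨C.zpow_mem hc _, ?_⟩, ?_⟩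
  · rw [← zpow_natCast, ← zpow_mul, mul_assoc, mul_comm a, zpow_mul, hall, one_zpow]
  · rw [← zpow_natCast, ← zpow_mul, mul_assoc, mul_comm (Nat.card T : ℤ), mul_comm b, zpow_mul, hall, one_zpow]
  · rw [mul_assoc, ← zpow_add, hab, zpow_one]

theorem Data.cent_T {x : X} (hx : x ∈ T) {c : X} (hc : c ∈ primePart h) : x * c = c * x := h.cent x hx c hc.1

theorem Data.comm_decomp {u x c : X} (hx : x ∈ T) (hc : c ∈ primePart h) :
    u * (x * c) * u⁻¹ * (x * c)⁻¹ = (u * x * u⁻¹ * x⁻¹) * (u * c * u⁻¹ * c⁻¹) := by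
  haveI := h.prime_normal
  have hd : u * c * u⁻¹ * c⁻¹ ∈ primePart h := mul_mem (h.prime_normal.conj_mem c hc u) (inv_mem hc)
  calc u * (x * c) * u⁻¹ * (x * c)⁻¹ = (u * x * u⁻¹) * (u * c * u⁻¹ * c⁻¹) * x⁻¹ := by group
    _ = (u * x * u⁻¹) * x⁻¹ * (u * c * u⁻¹ * c⁻¹) := by
      rw [mul_assoc (u * x * u⁻¹) (u * c * u⁻¹ * c⁻¹), ← h.cent_T (inv_mem hx) hd, ← mul_assoc]

/-- An invariant functional on `T` with its multiplier. -/
structure Axis (f : Additive T →+ ZMod t) (χ : X →* (ZMod t)ˣ) : Prop where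
  ne : ∃ x, f x ≠ 0
  eig : ∀ (u : X) (x : T) (hx : u * (x : X) * u⁻¹ ∈ T),
    f (Additive.ofMul ⟨u * (x : X) * u⁻¹, hx⟩) = (χ u : ZMod t) * f (Additive.ofMul x)

omit [Finite X] h in
theorem exists_axis [Fact t.Prime] [hT : T.Normal] {f : Additive T →+ ZMod t} (hne : ∃ x, f x ≠ 0)
    (hc : ∀ u : X, ∃ c : ZMod t, ∀ x : T,
      f (Additive.ofMul (MulAut.conjNormal u x)) = c * f (Additive.ofMul x)) :
    ∃ χ : X →* (ZMod t)ˣ, Axis f χ := by
  choose c hc using hc
  obtain ⟨x₀, hx₀⟩ := hne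
  let φ : X →* ZMod t :=
    { toFun := c
      map_one' := mul_right_cancel₀ hx₀ (by
        have := (hc 1 x₀.toMul).symm
        simpa using this)
      map_mul' := fun u v => mul_right_cancel₀ hx₀ (by
        have h1 := hc (u * v) x₀.toMul
        rw [map_mul, MulAut.mul_apply, hc u, hc v, ← mul_assoc] at h1
        exact h1.symm) }
  refine ⟨φ.toHomUnits, ⟨x₀, hx₀⟩, fun u x hx => ?_⟩
  rw [MonoidHom.coe_toHomUnits]
  show _ = c u * _
  rw [← hc u x]
  exact congrArg (fun z : T => f (Additive.ofMul z)) (Subtype.ext (MulAut.conjNormal_apply u x).symm)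

/-- The kernel of a functional, with the prime-to-`t` part. -/
def axisKer (h : Data T C t) (f : Additive T →+ ZMod t) : Subgroup X :=
  (f.toMultiplicativeRight.ker).map T.subtype ⊔ primePart h

variable {f : Additive T →+ ZMod t} {χ : X →* (ZMod t)ˣ}

omit [Finite X] h in
theorem mem_ker_map {x : T} : (x : X) ∈ (f.toMultiplicativeRight.ker).map T.subtype ↔ f (Additive.ofMul x) = 0 := by
  constructor
  · rintro ⟨y, hy, e⟩
    obtain rfl : y = x := Subtype.ext e
    exact hy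
  · intro hx
    exact ⟨x, hx, rfl⟩

theorem Data.mem_axisKer (x : T) {c : X} (hc : c ∈ primePart h) :
    (x : X) * c ∈ axisKer h f ↔ f (Additive.ofMul x) = 0 := by
  haveI := h.prime_normal
  constructor
  · intro hm
    obtain ⟨y, ⟨y', hy', rfl⟩, d, hd, e⟩ := Subgroup.mem_sup_of_normal_right.1 hm
    replace e : (y' : X) * d = x * c := e
    have h1 : (y' : X)⁻¹ * x = d * c⁻¹ := by
      rw [eq_mul_inv_iff_mul_eq, mul_assoc, ← e, inv_mul_cancel_left]
    have h2 := h.disjoint (T.mul_mem (T.inv_mem y'.2) x.2) (h1 ▸ mul_mem hd (inv_mem hc))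
    rw [inv_mul_eq_one] at h2
    obtain rfl : y' = x := Subtype.ext h2
    exact hy'
  · intro hx
    exact mul_mem (Subgroup.mem_sup_left (mem_ker_map.2 hx)) (Subgroup.mem_sup_right hc)

theorem Data.axisKer_le : axisKer h f ≤ T ⊔ C :=
  sup_le ((Subgroup.map_subtype_le _).trans le_sup_left) fun c hc => Subgroup.mem_sup_right hc.1

theorem Data.axisKer_normal (ha : Axis f χ) : (axisKer h f).Normal := by
  haveI := h.prime_normal
  haveI : ((f.toMultiplicativeRight.ker).map T.subtype).Normal := ⟨fun y hy g => by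
    obtain ⟨x, hx, rfl⟩ := hy
    have hmem : g * (x : X) * g⁻¹ ∈ T := h.normalT.conj_mem _ x.2 g
    refine (mem_ker_map (x := ⟨_, hmem⟩)).2 ?_
    rw [ha.eig g x hmem, show f (Additive.ofMul x) = 0 from hx, mul_zero]⟩
  exact Subgroup.sup_normal _ _

/-- Elements of `T ⊔ C` fix the functional. -/
theorem Data.le_ker (ha : Axis f χ) : T ⊔ C ≤ χ.ker := by
  haveI := Fact.mk h.prime
  obtain ⟨x₀, hx₀⟩ := ha.ne
  have hmem : ∀ (u : X) (x : T), u * (x : X) * u⁻¹ ∈ T := fun u x => h.normalT.conj_mem _ x.2 u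
  refine sup_le (fun a hat => ?_) fun a hac => ?_ <;> refine MonoidHom.mem_ker.2 (Units.ext ?_) <;>
    refine mul_right_cancel₀ hx₀ ?_ <;> rw [Units.val_one, one_mul] <;>
    refine (ha.eig a x₀.toMul (hmem _ _)).symm.trans ?_
  · rw [show (⟨a * (x₀.toMul : X) * a⁻¹, hmem a x₀.toMul⟩ : T) = ⟨a, hat⟩ * x₀.toMul * ⟨a, hat⟩⁻¹ from rfl,
      ofMul_mul, ofMul_mul, ofMul_inv, map_add, map_add, map_neg]
    simp
  · exact congrArg (fun z : T => f (Additive.ofMul z)) (Subtype.ext (by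
      show a * (x₀.toMul : X) * a⁻¹ = x₀.toMul
      rw [← h.cent _ x₀.toMul.2 a hac, mul_inv_cancel_right]))

/-- `T ⊔ C` is central in the kernel modulo the axis. -/
theorem Data.central (ha : Axis f χ) {k : X} (hk : k ∈ χ.ker) {b : X} (hb : b ∈ T ⊔ C) :
    k * b * k⁻¹ * b⁻¹ ∈ axisKer h f := by
  obtain ⟨x, hx, c, hc, rfl⟩ := h.decomp hb
  rw [h.comm_decomp hx hc]
  have hd : k * c * k⁻¹ * c⁻¹ ∈ primePart h := mul_mem (h.prime_normal.conj_mem c hc k) (inv_mem hc)
  have hmem : k * x * k⁻¹ ∈ T := h.normalT.conj_mem x hx k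
  refine (h.mem_axisKer ⟨k * x * k⁻¹ * x⁻¹, mul_mem hmem (T.inv_mem hx)⟩ hd).2 ?_
  rw [show (⟨k * x * k⁻¹ * x⁻¹, mul_mem hmem (T.inv_mem hx)⟩ : T) = ⟨k * x * k⁻¹, hmem⟩ * (⟨x, hx⟩ : T)⁻¹ from rfl,
    ofMul_mul, ofMul_inv, map_add, map_neg, ha.eig k ⟨x, hx⟩ hmem, MonoidHom.mem_ker.1 hk, Units.val_one, one_mul,
    add_neg_cancel]

theorem Data.pow_mem_axis (ha : Axis f χ) {b : X} (hb : b ∈ T ⊔ C) : b ^ t ∈ axisKer h f := by
  obtain ⟨x, hx, c, hc, rfl⟩ := h.decomp hb
  rw [(show Commute x c from h.cent_T hx hc).mul_pow]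
  refine (h.mem_axisKer ⟨x ^ t, T.pow_mem hx t⟩ (pow_mem hc t)).2 ?_
  rw [show (⟨x ^ t, T.pow_mem hx t⟩ : T) = ⟨x, hx⟩ ^ t from rfl, ofMul_pow, map_nsmul]
  simp

/-- The kernel has abelian quotient modulo the axis. -/
theorem Data.abelian (ha : Axis f χ) {a b : X} (hak : a ∈ χ.ker) (hbk : b ∈ χ.ker) :
    a * b * a⁻¹ * b⁻¹ ∈ axisKer h f := by
  haveI := h.axisKer_normal ha
  set π := QuotientGroup.mk' (axisKer h f)
  have hπ : ∀ x, π x = 1 ↔ x ∈ axisKer h f := fun x => QuotientGroup.eq_one_iff x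
  set w := ⁅a, b⁆ with hw
  have hwR : w ∈ T ⊔ C := h.abq a b
  have hcen : ∀ k ∈ χ.ker, ∀ r ∈ T ⊔ C, Commute (π k) (π r) := fun k hk r hr => by
    rw [← commutatorElement_eq_one_iff_commute, ← map_commutatorElement, hπ]
    exact h.central ha hk hr
  have hwt : π w ^ t = 1 := by rw [← map_pow, hπ]; exact h.pow_mem_axis ha hwR
  have hwm : π w ^ T.index = 1 := by
    haveI := h.normalT
    have hc : Commute (π a) ⁅π a, π b⁆ := by
      rw [← map_commutatorElement]; exact hcen a hak w hwR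
    rw [hw, map_commutatorElement, ← comm_pow_central _ _ hc, commutatorElement_eq_one_iff_commute, ← map_pow]
    exact (hcen b hbk _ (Subgroup.mem_sup_left (Subgroup.pow_index_mem T a))).symm
  have h1 : π w = 1 := orderOf_eq_one_iff.1 (Nat.eq_one_of_dvd_coprimes h.cop (orderOf_dvd_of_pow_eq_one hwm)
    (orderOf_dvd_of_pow_eq_one hwt))
  exact (hπ w).1 h1

theorem Data.free (ha : Axis f χ) {u : X} (hu : u ∉ χ.ker) {b : X} (hb : b ∈ T ⊔ C) (hbV : b ∉ axisKer h f) :
    u * b * u⁻¹ * b⁻¹ ∉ axisKer h f := by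
  haveI := Fact.mk h.prime
  obtain ⟨x, hx, c, hc, rfl⟩ := h.decomp hb
  rw [h.comm_decomp hx hc]
  have hd : u * c * u⁻¹ * c⁻¹ ∈ primePart h := mul_mem (h.prime_normal.conj_mem c hc u) (inv_mem hc)
  have hmem : u * x * u⁻¹ ∈ T := h.normalT.conj_mem x hx u
  intro hcon
  have h1 := (h.mem_axisKer ⟨u * x * u⁻¹ * x⁻¹, mul_mem hmem (T.inv_mem hx)⟩ hd).1 hcon
  rw [show (⟨u * x * u⁻¹ * x⁻¹, mul_mem hmem (T.inv_mem hx)⟩ : T) = ⟨u * x * u⁻¹, hmem⟩ * (⟨x, hx⟩ : T)⁻¹ from rfl,
    ofMul_mul, ofMul_inv, map_add, map_neg, ha.eig u ⟨x, hx⟩ hmem, ← sub_eq_add_neg, sub_eq_zero] at h1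
  have hne : f (Additive.ofMul (⟨x, hx⟩ : T)) ≠ 0 := fun e => hbV ((h.mem_axisKer ⟨x, hx⟩ hc).2 e)
  exact hu (MonoidHom.mem_ker.2 (Units.ext (mul_right_cancel₀ hne (by rw [h1, Units.val_one, one_mul]))))

theorem Data.not_le_axis (ha : Axis f χ) : ¬ T ⊔ C ≤ axisKer h f := fun hle => by
  obtain ⟨x, hx⟩ := ha.ne
  refine hx ((h.mem_axisKer x.toMul (one_mem (primePart h))).1 ?_)
  rw [mul_one]
  exact hle (Subgroup.mem_sup_left x.toMul.2)

theorem Data.axis_index (ha : Axis f χ) : (axisKer h f).relIndex (T ⊔ C) = t := by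
  haveI := Fact.mk h.prime
  have hcomm : ∀ a ∈ T ⊔ C, ∀ b ∈ T ⊔ C, a * b * a⁻¹ * b⁻¹ ∈ axisKer h f :=
    fun a hat b hbt => h.abelian ha (h.le_ker ha hat) (h.le_ker ha hbt)
  haveI := h.axisKer_normal ha
  let R := T ⊔ C
  haveI : (axisKer h f).subgroupOf R |>.Normal := inferInstance
  let incl : T →* R ⧸ (axisKer h f).subgroupOf R :=
    (QuotientGroup.mk' _).comp (Subgroup.inclusion le_sup_left)
  have hsurj : Function.Surjective incl := by
    intro q
    obtain ⟨⟨z, hz⟩, rfl⟩ := QuotientGroup.mk'_surjective _ q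
    obtain ⟨x, hx, c, hc, rfl⟩ := h.decomp hz
    refine ⟨⟨x, hx⟩, QuotientGroup.eq.2 ?_⟩
    have := Subgroup.mem_sup_right (S := (f.toMultiplicativeRight.ker).map T.subtype) hc
    simpa [axisKer, Subgroup.mem_subgroupOf] using this
  have hker : incl.ker = f.toMultiplicativeRight.ker := by
    ext x
    refine (QuotientGroup.eq_one_iff _).trans ?_
    rw [Subgroup.mem_subgroupOf]
    have := h.mem_axisKer (f := f) x (one_mem (primePart h))
    rw [mul_one] at this
    exact this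
  have hfsurj : Function.Surjective f.toMultiplicativeRight := by
    intro z
    obtain ⟨x, hx⟩ := ha.ne
    refine ⟨Additive.toMul ((Multiplicative.toAdd z / f x).val • x : Additive T), ?_⟩
    show Multiplicative.ofAdd (f ((Multiplicative.toAdd z / f x).val • x)) = z
    rw [map_nsmul, nsmul_eq_mul, ZMod.natCast_zmod_val, div_mul_cancel₀ _ hx]
    rfl
  calc (axisKer h f).relIndex R = Nat.card (R ⧸ (axisKer h f).subgroupOf R) := rfl
    _ = incl.ker.index := by rw [Subgroup.index_ker, MonoidHom.range_eq_top.2 hsurj, Subgroup.card_top]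
    _ = t := by
      rw [hker, Subgroup.index_ker, MonoidHom.range_eq_top.2 hfsurj, Subgroup.card_top]
      simp

/-- The index of the kernel. -/
theorem Data.index_bounds (ha : Axis f χ) : 3 ≤ χ.ker.index ∧ 2 * χ.ker.index + 1 ≤ t ∧ χ.ker.index ∣ t - 1 := by
  haveI := Fact.mk h.prime
  have hdvd : χ.ker.index ∣ t - 1 := by
    rw [Subgroup.index_ker]
    refine (Subgroup.card_subgroup_dvd_card _).trans ?_
    rw [Nat.card_units]
    simp
  have hodd : Odd χ.ker.index := h.odd.of_dvd_nat χ.ker.index_dvd_card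
  have hne : χ.ker.index ≠ 1 := by
    intro e
    rw [Subgroup.index_eq_one] at e
    haveI := h.axisKer_normal ha
    haveI := h.normalT
    set π := QuotientGroup.mk' (axisKer h f)
    have hcent : ∀ x ∈ T, π x ∈ Subgroup.center (X ⧸ axisKer h f) := fun x hx =>
      Subgroup.mem_center_iff.2 fun q => by
        obtain ⟨g, rfl⟩ := QuotientGroup.mk'_surjective _ q
        rw [← commutatorElement_eq_one_iff_mul_comm, ← map_commutatorElement]
        exact (QuotientGroup.eq_one_iff _).2 (h.central ha (e.ge (Subgroup.mem_top g)) (Subgroup.mem_sup_left hx))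
    have hle : (T ⊔ axisKer h f).map π ≤ Subgroup.center _ := by
      rw [Subgroup.map_sup, (Subgroup.map_eq_bot_iff _).2 (QuotientGroup.ker_mk' (axisKer h f)).ge, sup_bot_eq]
      rintro _ ⟨x, hx, rfl⟩
      exact hcent x hx
    have hidx : (Subgroup.center (X ⧸ axisKer h f)).index ∣ T.index := by
      refine (Subgroup.index_dvd_of_le hle).trans ((Subgroup.index_map_dvd _ (QuotientGroup.mk'_surjective _)).trans ?_)
      exact Subgroup.index_dvd_of_le le_sup_left
    have hkill : ∀ x ∈ T, x ∈ axisKer h f := by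
      intro x hx
      have hxc : π x ∈ commutator (X ⧸ axisKer h f) := by
        rw [commutator_def, ← Subgroup.map_top_of_surjective π (QuotientGroup.mk'_surjective _),
          ← Subgroup.map_commutator]
        exact ⟨x, h.derived hx, rfl⟩
      have hker : commutator (X ⧸ axisKer h f) ≤ (MonoidHom.transferCenterPow (X ⧸ axisKer h f)).ker :=
        Abelianization.commutator_subset_ker _
      have hpow := congrArg (fun v : Subgroup.center (X ⧸ axisKer h f) => (v : X ⧸ axisKer h f))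
        (MonoidHom.mem_ker.1 (hker hxc))
      simp only [MonoidHom.transferCenterPow_apply, OneMemClass.coe_one] at hpow
      refine (QuotientGroup.eq_one_iff x).1 (orderOf_eq_one_iff.1 (Nat.eq_one_of_dvd_coprimes h.cop
        ((orderOf_dvd_of_pow_eq_one hpow).trans hidx) (orderOf_dvd_of_pow_eq_one ?_)))
      rw [← QuotientGroup.mk_pow]
      exact (QuotientGroup.eq_one_iff _).2 (h.pow_mem_axis ha (Subgroup.mem_sup_left hx))
    refine h.not_le_axis ha (sup_le hkill fun c hc => ?_)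
    obtain ⟨x, hx, d, hd, rfl⟩ := h.decomp (Subgroup.mem_sup_right (S := T) hc)
    exact mul_mem (hkill x hx) (Subgroup.mem_sup_right hd)
  refine ⟨?_, ?_, hdvd⟩
  · obtain ⟨i, hi⟩ := hodd; omega
  · obtain ⟨k, hk⟩ := hdvd
    have ht2 : Even (t - 1) := by
      rcases h.prime.eq_two_or_odd' with h2 | h2
      · exact absurd h.three_le (by omega)
      · exact Nat.Odd.sub_odd h2 odd_one
    have hk1 : k ≠ 1 := fun e => by
      rw [e, mul_one] at hk
      rw [hk] at ht2
      exact (Nat.not_even_iff_odd.2 hodd) ht2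
    have hk0 : k ≠ 0 := fun e => by
      rw [e, mul_zero] at hk
      have := h.three_le
      omega
    have : χ.ker.index * 2 ≤ t - 1 := hk ▸ Nat.mul_le_mul_left _ (by omega)
    have := h.three_le
    omega

end Group

end Cfsg.Agent.OddOrder.TwoAx
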