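/-
All characters of the central product of a normal `t`-subgroup and its centralizer are good for the family
of one or two invariant maximal subgroups.
-/
import Cfsg.Agent.Lib.OddOrder.TwoAxes

set_option autoImplicit false
set_option linter.style.haveILetI false
set_option linter.unusedSectionVars false
set_option linter.unusedSimpArgs false
set_option linter.unusedVariables false

namespace Cfsg.Agent.OddOrder.TwoAx

open scoped ComplexConjugate commutatorElement
open Cfsg.Agent.Char WFam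

universe u

section Group

variable {X : Type u} [Group X] [Finite X] {T C : Subgroup X} {t : ℕ} (h : Data T C t)
include h

/-- Every functional on `T` is invariant under `T ⊔ C`. -/
theorem Data.fix_of_mem (f : Additive T →+ ZMod t) {r : X} (hr : r ∈ T ⊔ C) (x : T)
    (hx : r * (x : X) * r⁻¹ ∈ T) : f (Additive.ofMul ⟨r * (x : X) * r⁻¹, hx⟩) = f (Additive.ofMul x) := by
  obtain ⟨a, ha, c, hc, rfl⟩ := h.decomp hr
  have e : (⟨a * c * (x : X) * (a * c)⁻¹, hx⟩ : T) = ⟨a, ha⟩ * x * ⟨a, ha⟩⁻¹ := Subtype.ext (by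
    show a * c * (x : X) * (a * c)⁻¹ = a * x * a⁻¹
    rw [mul_inv_rev, ← mul_assoc, mul_assoc a c, ← h.cent_T x.2 hc, ← mul_assoc, mul_inv_cancel_right])
  rw [e, ofMul_mul, ofMul_mul, ofMul_inv, map_add, map_add, map_neg]
  abel

/-- An element of the kernel of an axis has its part prime to `t` centralizing an element outside the axis. -/
theorem Data.exists_fixed {f : Additive T →+ ZMod t} {χ : X →* (ZMod t)ˣ} (ha : Axis f χ) {z : X}
    (hz : z ∈ χ.ker) : ∃ g ∈ T, g ∉ ⁅T, T⁆ ∧ Commute g (z ^ Nat.card T) := by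
  haveI := h.normalT
  haveI := Fact.mk h.prime
  set s := z ^ Nat.card T
  haveI := h.axisKer_normal ha
  set N := (f.toMultiplicativeRight.ker).map T.subtype
  have hNn : ∀ g : X, g ∈ Subgroup.normalizer (N : Set X) := by
    intro g
    have key : ∀ g' : X, ∀ y ∈ N, g' * y * g'⁻¹ ∈ N := by
      rintro g' _ ⟨x, hx, rfl⟩
      have hmem : g' * (x : X) * g'⁻¹ ∈ T := h.normalT.conj_mem _ x.2 g'
      refine (mem_ker_map (x := ⟨_, hmem⟩)).2 ?_
      rw [ha.eig g' x hmem, show f (Additive.ofMul x) = 0 from hx, mul_zero]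
    refine Subgroup.mem_normalizer_iff.2 fun y => ⟨key g y, fun hy => ?_⟩
    simpa [mul_assoc] using key g⁻¹ _ hy
  obtain ⟨x₀, hx₀⟩ := ha.ne
  have hs : s ^ T.index = 1 := by
    rw [← pow_mul, T.card_mul_index]
    exact pow_card_eq_one'
  have hcop : (Nat.card (Subgroup.zpowers s)).Coprime (Nat.card T) := by
    rw [Nat.card_zpowers]
    exact (h.cop_card.symm).coprime_dvd_left (orderOf_dvd_of_pow_eq_one hs)
  obtain ⟨c, hc, hcN⟩ := CoprimeAct.exists_mem_centralizer (A := Subgroup.zpowers s) (K := T)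
    (by rw [Subgroup.normalizer_eq_top]; exact le_top) hcop
    (Or.inr (haveI := h.pgroup.isNilpotent; inferInstance)) (Subgroup.map_subtype_le _)
    (fun g _ => hNn g) (fun g _ => hNn g) x₀.toMul.2 fun a ha' => by
      have hak : a ∈ χ.ker := (Subgroup.zpowers_le.2 (pow_mem hz _)) ha'
      have hmem : a * (x₀.toMul : X) * a⁻¹ ∈ T := h.normalT.conj_mem _ x₀.toMul.2 a
      refine (mem_ker_map (x := ⟨_, T.mul_mem hmem (T.inv_mem x₀.toMul.2)⟩)).2 ?_
      rw [show (⟨a * (x₀.toMul : X) * a⁻¹ * (x₀.toMul : X)⁻¹, T.mul_mem hmem (T.inv_mem x₀.toMul.2)⟩ : T) =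
          ⟨_, hmem⟩ * x₀.toMul⁻¹ from rfl, ofMul_mul, ofMul_inv, map_add, map_neg, ha.eig a x₀.toMul hmem,
        MonoidHom.mem_ker.1 hak, Units.val_one, one_mul, add_neg_cancel]
  refine ⟨c, hc.1, fun hcc => hx₀ ?_, (Subgroup.mem_centralizer_iff.1 hc.2 s (Subgroup.mem_zpowers s)).symm⟩
  have hfc : f (Additive.ofMul (⟨c, hc.1⟩ : T)) = 0 := by
    have hle : ⁅T, T⁆ ≤ N := Subgroup.commutator_le.2 fun a haT b hbT =>
      ⟨⁅(⟨a, haT⟩ : T), ⟨b, hbT⟩⁆, by
        show f (Additive.ofMul ⁅(⟨a, haT⟩ : T), ⟨b, hbT⟩⁆) = 0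
        simp only [commutatorElement_def, ofMul_mul, ofMul_inv, map_add, map_neg]
        abel, rfl⟩
    exact (mem_ker_map (x := ⟨c, hc.1⟩)).1 (hle hcc)
  have h2 := (mem_ker_map (x := x₀.toMul⁻¹ * ⟨c, hc.1⟩)).1 hcN
  rw [ofMul_mul, ofMul_inv, map_add, map_neg, hfc, add_zero, neg_eq_zero] at h2
  exact h2

end Group

variable {G : Type u} [Group G] [Fintype G] {L : Subgroup G} [Fintype L] {T C : Subgroup L} {t : ℕ}
variable (h : Data T C t)
include h

open scoped Classical in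
/-- The family of one axis. -/
theorem Data.axis_family {f : Additive T →+ ZMod t} {χ : L →* (ZMod t)ˣ} (ha : Axis f χ) :
    ∃ F : Finset (L → ℂ),
      (∀ φ ∈ F, Cfsg.IsIrrCharacter L φ ∧ φ 1 = χ.ker.index ∧ (∀ x, x ∉ χ.ker → φ x = 0) ∧
        (∀ v ∈ axisKer h f, φ v = χ.ker.index) ∧ ∑ x : (T ⊔ C : Subgroup L), φ x = 0) ∧
      F.card * χ.ker.index = (t - 1) * (T ⊔ C).relIndex χ.ker ∧
      ∀ θ : Cfsg.IrrCharacter (T ⊔ C : Subgroup L), (θ : (T ⊔ C : Subgroup L) → ℂ) ≠ (fun _ => 1) →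
        (θ : (T ⊔ C : Subgroup L) → ℂ) 1 = 1 →
        ∑ φ ∈ F, zin (Cfsg.indFun (T ⊔ C) (θ : (T ⊔ C : Subgroup L) → ℂ)) φ ≤ (T ⊔ C).relIndex χ.ker := by
  classical
  haveI := h.normalT
  haveI := h.normalC
  haveI hV := h.axisKer_normal ha
  set V := axisKer h f
  set TT := T ⊔ C
  have hab : ∀ a ∈ χ.ker, ∀ b ∈ χ.ker, a * b * a⁻¹ * b⁻¹ ∈ V := fun a hak b hbk => h.abelian ha hak hbk
  have hVT : V ≤ TT := h.axisKer_le
  have hTR : TT ≤ χ.ker := h.le_ker ha
  have hfree : ∀ x : L, x ∉ χ.ker → ∀ b ∈ TT, b ∉ V → x * b * x⁻¹ * b⁻¹ ∉ V := fun x hx b hb hbV => h.free ha hx hb hbV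
  haveI := TwistFam.finite_ann χ.ker V hab
  letI : Fintype (TwistFam.Fam χ.ker V TT) := Fintype.ofFinite _
  let Φ : TwistFam.Fam χ.ker V TT → L → ℂ := fun g => TwistFam.phi g
  set F := (Finset.univ : Finset (TwistFam.Fam χ.ker V TT)).image Φ with hF
  set d := χ.ker.index with hd
  set W := TT.relIndex χ.ker with hW
  have hrel : V.relIndex χ.ker = t * W := by
    rw [← Subgroup.relIndex_mul_relIndex V TT χ.ker hVT hTR, h.axis_index ha]
  have hN : Fintype.card (TwistFam.Fam χ.ker V TT) + W = t * W := by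
    have := TwistFam.card_fam (R := χ.ker) (T := TT) hab hVT
    rw [hrel, ← hW, eq_sub_iff_add_eq] at this
    exact_mod_cast this
  have hN' : Fintype.card (TwistFam.Fam χ.ker V TT) = (t - 1) * W := by
    have := h.three_le
    rw [Nat.sub_one_mul]
    omega
  have hfib : ∀ g, ((Finset.univ : Finset (TwistFam.Fam χ.ker V TT)).filter fun g' => Φ g' = Φ g).card = d := fun g => by
    rw [hd, ← TwistFam.card_fibre hab hVT hTR hfree g]
    exact congrArg Finset.card (Finset.filter_congr fun g' _ => eq_comm)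
  have hsumF : ∀ q : (L → ℂ) → ℝ, ∑ g, q (Φ g) = d * ∑ φ ∈ F, q φ := by
    intro q
    rw [Finset.sum_comp, Finset.mul_sum]
    refine Finset.sum_congr rfl fun φ hφ => ?_
    obtain ⟨g, -, rfl⟩ := Finset.mem_image.1 hφ
    rw [hfib, nsmul_eq_mul]
  refine ⟨F, fun φ hφ => ?_, ?_, fun θ hθ hθ1 => ?_⟩
  · obtain ⟨g, -, rfl⟩ := Finset.mem_image.1 hφ
    have hchar : Cfsg.IsCharacter L (Φ g) := TwistFam.isCharacter_phi g
    refine ⟨IsCharacter.isIrr_of_norm_one hchar ?_, TwistFam.phi_one (hVT.trans hTR) g,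
      fun x hx => TwistFam.phi_not_mem g hx, fun v hv => TwistFam.phi_on_V (hVT.trans hTR) g hv, ?_⟩
    · show Cfsg.classInner (TwistFam.phi g) (TwistFam.phi g) = 1
      rw [TwistFam.gram hab hVT hTR hfree, if_pos rfl]
    · rw [Finset.sum_congr rfl fun (x : TT) _ => show Φ g x = (Nat.card χ.ker : ℂ)⁻¹ *
          ∑ u : L, ((TwistFam.twist u g).1.1 ⟨x, hTR x.2⟩ : ℂ) from TwistFam.phi_apply g ⟨x, hTR x.2⟩,
        ← Finset.mul_sum, Finset.sum_comm, Finset.sum_eq_zero, mul_zero]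
      intro u _
      refine sum_hom_units_eq_zero (((Units.coeHom ℂ).comp ((TwistFam.twist u g).1.1.comp (Subgroup.inclusion hTR)))) fun e => ?_
      refine (TwistFam.twist u g).2 fun r hr => Units.ext ?_
      exact DFunLike.congr_fun e ⟨r, hr⟩
  · rw [← hN', ← Finset.card_univ, Finset.card_eq_sum_card_image Φ, Finset.sum_congr rfl fun φ hφ => ?_,
      Finset.sum_const, smul_eq_mul, ← hF]
    obtain ⟨g, -, rfl⟩ := Finset.mem_image.1 hφ
    exact hfib g
  · have hd0 : (0 : ℝ) < d := Nat.cast_pos.2 (Nat.pos_of_ne_zero Subgroup.index_ne_zero_of_finite)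
    refine le_of_mul_le_mul_left ?_ hd0
    rw [← hsumF fun φ => zin (Cfsg.indFun TT (θ : TT → ℂ)) φ, ← zin_sum_right]
    obtain ⟨ψ, hψ⟩ := exists_hom_of_degree_one (IsIrrCharacter.isCharacter θ.2) hθ1
    have hres : ∀ y : TT, (∑ g, Φ g) y = if (y : L) ∈ V then ((d : ℂ) * ((t * W : ℕ) - W)) else -((d : ℂ) * W) := by
      intro y
      rw [Finset.sum_apply]
      split_ifs with hy
      · rw [Finset.sum_congr rfl fun g _ => TwistFam.phi_on_V (hVT.trans hTR) g hy, Finset.sum_const,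
          Finset.card_univ, nsmul_eq_mul, ← hN]
        push_cast
        ring
      · exact TwistFam.sum_phi (R := χ.ker) (T := TT) hab hVT (y := ⟨y, hTR y.2⟩) y.2 hy
    have hcf : Cfsg.IsClassFunction L (∑ g, Φ g) :=
      IsCharacter.isClassFunction (isCharacter_sum _ fun g _ => TwistFam.isCharacter_phi g)
    rw [zin, classInner_indFun_left TT _ hcf]
    have hs0 : ∑ y : TT, (ψ y : ℂ) = 0 := sum_hom_units_eq_zero ((Units.coeHom ℂ).comp ψ) fun e =>
      hθ (by rw [hψ]; funext y; exact DFunLike.congr_fun e y)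
    have hval : Cfsg.classInner (θ : TT → ℂ) (fun y : TT => (∑ g, Φ g) y) =
        (Nat.card TT : ℂ)⁻¹ * ((d : ℂ) * (t * W : ℕ) * ∑ y : TT, if (y : L) ∈ V then (ψ y : ℂ) else 0) := by
      simp only [Cfsg.classInner, hres, hψ]
      congr 1
      rw [Finset.sum_congr rfl fun (y : TT) _ => show (ψ y : ℂ) * conj (if (y : L) ∈ V then
            (d : ℂ) * ((t * W : ℕ) - W) else -((d : ℂ) * W)) =
          (d : ℂ) * (t * W : ℕ) * (if (y : L) ∈ V then (ψ y : ℂ) else 0) - (d : ℂ) * W * (ψ y : ℂ) by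
        split_ifs <;> simp only [map_mul, map_sub, map_neg, map_natCast, mul_zero, zero_sub] <;> ring,
        Finset.sum_sub_distrib, ← Finset.mul_sum, ← Finset.mul_sum, hs0, mul_zero, sub_zero]
    rw [hval]
    refine (Complex.re_le_norm _).trans ?_
    rw [norm_mul, norm_mul, norm_mul, norm_inv, Complex.norm_natCast, Complex.norm_natCast, Complex.norm_natCast]
    have hcardV : (Nat.card TT : ℝ) = t * Nat.card V := by
      have h1 := (V.subgroupOf TT).index_mul_card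
      rw [Nat.card_congr (Subgroup.subgroupOfEquivOfLe hVT).toEquiv,
        show (V.subgroupOf TT).index = t from h.axis_index ha] at h1
      exact_mod_cast h1.symm
    have hnorm : ‖∑ y : TT, if (y : L) ∈ V then (ψ y : ℂ) else 0‖ ≤ (Nat.card V : ℝ) := by
      refine (norm_sum_le _ _).trans ?_
      rw [Finset.sum_congr rfl fun (y : TT) _ => show ‖if (y : L) ∈ V then (ψ y : ℂ) else 0‖ =
          if (y : L) ∈ V then (1 : ℝ) else 0 by
        split_ifs
        · refine norm_eq_one_of_pow (Nat.card_pos (α := TT)).ne' ?_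
          rw [← Units.val_pow_eq_pow_val, ← map_pow, pow_card_eq_one', map_one, Units.val_one]
        · exact norm_zero, Finset.sum_boole]
      refine Nat.cast_le.2 (le_of_eq ?_)
      rw [← Fintype.card_subtype, ← Nat.card_eq_fintype_card]
      exact Nat.card_congr (Subgroup.subgroupOfEquivOfLe hVT).toEquiv
    have hTT : (0 : ℝ) < Nat.card TT := Nat.cast_pos.2 Nat.card_pos
    rw [inv_mul_le_iff₀ hTT, hcardV]
    refine (mul_le_mul_of_nonneg_left hnorm (by positivity)).trans (le_of_eq ?_)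
    push_cast
    ring

/-- Two distinct axes. -/
structure Pair (f₁ f₂ : Additive T →+ ZMod t) (χ₁ χ₂ : L →* (ZMod t)ˣ) : Prop where
  ax₁ : Axis f₁ χ₁
  ax₂ : Axis f₂ χ₂
  sep₂ : ∃ x, f₁ x = 0 ∧ f₂ x ≠ 0
  sep₁ : ∃ x, f₂ x = 0 ∧ f₁ x ≠ 0

open scoped Classical in
/-- The central product of `T` and `C` is good, for two axes with `[L : K₁] ≤ [L : K₂]`. -/
theorem Data.good_of_pair (hG : Cfsg.IsMinSimpleOddOrder G) (hL : IsCoatom L)
    (hsuppR : ∀ z ∈ T ⊔ C, z ≠ 1 → (z : G) ∈ DadeT.supp L)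
    (hsuppK : ∀ z : L, z ≠ 1 → (∃ g ∈ T, g ∉ ⁅T, T⁆ ∧ Commute g (z ^ Nat.card T)) → (z : G) ∈ DadeT.supp L)
    {f₁ f₂ : Additive T →+ ZMod t} {χ₁ χ₂ : L →* (ZMod t)ˣ} (hp : Pair f₁ f₂ χ₁ χ₂)
    (hle : χ₁.ker.index ≤ χ₂.ker.index) :
    ∃ (B : Base L) (d2 : ℕ), 3 ≤ B.d1 ∧ 2 * B.d1 + 1 ≤ t ∧ (T ⊔ C).index = B.d1 * d2 ∧
      ∀ θ ∈ IndSet.over (T ⊔ C) ⊥, B.bval (Cfsg.indFun (T ⊔ C) (θ : (T ⊔ C : Subgroup L) → ℂ)) = 0 := by
  haveI := Fact.mk h.prime
  haveI := h.normalT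
  haveI := h.normalC
  set R := T ⊔ C with hR
  have hRn : R.Normal := Subgroup.sup_normal _ _
  haveI := hRn
  obtain ⟨hd3, hdt, hddvd⟩ := h.index_bounds hp.ax₁
  obtain ⟨hd3', hdt', hddvd'⟩ := h.index_bounds hp.ax₂
  set d := χ₁.ker.index with hd
  set W := R.relIndex χ₁.ker with hW
  have hR1 : R ≤ χ₁.ker := h.le_ker hp.ax₁
  have hR2 : R ≤ χ₂.ker := h.le_ker hp.ax₂
  have hidx : R.index = d * W := by rw [hW, hd, mul_comm]; exact (Subgroup.relIndex_mul_index hR1).symm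
  have hW0 : 0 < W := Nat.pos_of_ne_zero fun e => Subgroup.index_ne_zero_of_finite (H := R) (by rw [hidx, e, mul_zero])
  have hW2 : R.relIndex χ₂.ker ≤ W := by
    have h2 := Subgroup.relIndex_mul_index hR2
    rw [hidx] at h2
    refine Nat.le_of_mul_le_mul_left ?_ (show 0 < d by omega)
    calc d * R.relIndex χ₂.ker ≤ χ₂.ker.index * R.relIndex χ₂.ker := Nat.mul_le_mul_right _ hle
      _ = d * W := by rw [mul_comm, h2]
  have hVne : ¬ axisKer h f₁ ≤ axisKer h f₂ := fun hle' => by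
    obtain ⟨x, hx1, hx2⟩ := hp.sep₂
    refine hx2 ((h.mem_axisKer (f := f₂) x.toMul (one_mem (primePart h))).1 (hle' ?_))
    exact (h.mem_axisKer (f := f₁) x.toMul (one_mem (primePart h))).2 hx1
  have hsup : axisKer h f₁ ⊔ axisKer h f₂ = R := by
    refine le_antisymm (sup_le h.axisKer_le h.axisKer_le) fun z hz => ?_
    obtain ⟨x, hx, c, hc, rfl⟩ := h.decomp hz
    obtain ⟨y, hy1, hy2⟩ := hp.sep₂
    set k := (f₂ (Additive.ofMul (⟨x, hx⟩ : T)) / f₂ y).val
    have h1 : ((Additive.toMul (k • y) : T) : L) ∈ axisKer h f₁ :=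
      Subgroup.mem_sup_left (mem_ker_map.2 (by
        show f₁ (k • y) = 0
        rw [map_nsmul, hy1, smul_zero]))
    have h2 : ((Additive.toMul (k • y) : T)⁻¹ * ⟨x, hx⟩ : T).1 * c ∈ axisKer h f₂ := by
      refine (h.mem_axisKer _ hc).2 ?_
      rw [ofMul_mul, ofMul_inv, ofMul_toMul, map_add, map_neg, map_nsmul, nsmul_eq_mul, ZMod.natCast_zmod_val,
        div_mul_cancel₀ _ hy2, neg_add_cancel]
    have := mul_mem (Subgroup.mem_sup_left (T := axisKer h f₂) h1) (Subgroup.mem_sup_right (S := axisKer h f₁) h2)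
    simpa [mul_assoc] using this
  -- the reference family
  obtain ⟨F₁, hF₁, hn₁, hz₁⟩ := h.axis_family hp.ax₁
  obtain ⟨F₂, hF₂, hn₂, hz₂⟩ := h.axis_family hp.ax₂
  let F : Finset (L → ℂ) := if χ₁.ker.index = χ₂.ker.index then F₁ ∪ F₂ else F₁
  have hFsub : ∀ φ ∈ F, φ ∈ F₁ ∨ (φ ∈ F₂ ∧ χ₁.ker.index = χ₂.ker.index) := fun φ hφ => by
    by_cases he : χ₁.ker.index = χ₂.ker.index
    · simp only [F, if_pos he, Finset.mem_union] at hφ
      exact hφ.imp id fun h' => ⟨h', he⟩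
    · simp only [F, if_neg he] at hφ
      exact Or.inl hφ
  have hirr : ∀ φ ∈ F, Cfsg.IsIrrCharacter L φ ∧ φ 1 = d := fun φ hφ => by
    rcases hFsub φ hφ with h' | ⟨h', he⟩
    · exact ⟨(hF₁ φ h').1, (hF₁ φ h').2.1⟩
    · exact ⟨(hF₂ φ h').1, by rw [(hF₂ φ h').2.1, hd, he]⟩
  have hsuppF : ∀ φ ∈ F, ∀ x : L, x ≠ 1 → (x : G) ∉ DadeT.supp L → φ x = 0 := fun φ hφ x hx hxA => by
    rcases hFsub φ hφ with h' | ⟨h', -⟩
    · refine (hF₁ φ h').2.2.1 x fun hxk => hxA (hsuppK x hx (h.exists_fixed hp.ax₁ hxk))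
    · refine (hF₂ φ h').2.2.1 x fun hxk => hxA (hsuppK x hx (h.exists_fixed hp.ax₂ hxk))
  have hdisj : Disjoint F₁ F₂ := Finset.disjoint_left.2 fun φ h1 h2 => by
    obtain ⟨hirr', hone, -, hv1, hsum⟩ := hF₁ φ h1
    obtain ⟨-, hone', -, hv2, -⟩ := hF₂ φ h2
    obtain ⟨K, hK, hmem, -⟩ := IsCharacter.exists_kernel (IsIrrCharacter.isCharacter hirr')
    have hRK : R ≤ K := hsup ▸ sup_le (fun v hv => (hmem v).2 (by rw [hv1 v hv, hone]))
      (fun v hv => (hmem v).2 (by rw [hv2 v hv, hone']))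
    rw [Finset.sum_congr rfl fun (x : R) _ => ((hmem (x : L)).1 (hRK x.2)).trans hone, Finset.sum_const,
      Finset.card_univ, nsmul_eq_mul, mul_eq_zero] at hsum
    rcases hsum with h' | h'
    · exact Fintype.card_ne_zero (Nat.cast_eq_zero.1 h')
    · exact absurd (Nat.cast_eq_zero.1 h') (by omega)
  have hFn : 4 * W ≤ F.card := by
    obtain ⟨k, hk⟩ := hddvd
    have hk2 : 2 ≤ k := by
      by_contra hk'
      have : d * k ≤ d * 1 := Nat.mul_le_mul_left _ (by omega)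
      omega
    have hF1 : F₁.card = k * W := by
      refine Nat.eq_of_mul_eq_mul_right (show 0 < d by omega) ?_
      rw [hn₁, ← hW, hk]; ring
    by_cases he : χ₁.ker.index = χ₂.ker.index
    · simp only [F, if_pos he, Finset.card_union_of_disjoint hdisj]
      have hF2 : F₂.card = k * W := by
        refine Nat.eq_of_mul_eq_mul_right (show 0 < d by omega) ?_
        have hW' : R.relIndex χ₂.ker = W := by
          refine Nat.eq_of_mul_eq_mul_right (show 0 < d by omega) ?_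
          have := Subgroup.relIndex_mul_index hR2
          rw [← he, hidx] at this
          rw [this]; ring
        have h22 : F₂.card * d = (t - 1) * W := by rw [← hW', ← hn₂, hd, he]
        rw [h22, hk]; ring
      rw [hF1, hF2]
      nlinarith
    · simp only [F, if_neg he, hF1]
      have hk4 : 4 ≤ k := by
        have hev : Even (d * k) := by
          rw [← hk]
          rcases h.prime.eq_two_or_odd' with h2 | h2
          · omega
          · exact Nat.Odd.sub_odd h2 odd_one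
        have hdodd : Odd d := h.odd.of_dvd_nat χ₁.ker.index_dvd_card
        have hke : Even k := (Nat.even_mul.1 hev).resolve_left (Nat.not_even_iff_odd.2 hdodd)
        by_contra hk'
        obtain ⟨m, hm⟩ := hke
        have hk22 : k = 2 := by omega
        rw [hk22] at hk
        omega
      exact Nat.mul_le_mul_right W hk4
  have hF0 : 0 < F.card := lt_of_lt_of_le (by omega) hFn
  obtain ⟨φ₀, hφ₀⟩ := Finset.card_pos.1 hF0
  obtain ⟨B, hBd, hBgood⟩ := Base.exists_base (L := L) hG hL (⟨φ₀, hφ₀⟩ : {φ // φ ∈ F}) (fun i => i.1)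
    (show 0 < d by omega)
    (fun i => IsGeneralizedCharacter.of_isCharacter (IsIrrCharacter.isCharacter (hirr _ i.2).1))
    (fun i => hsuppF _ i.2) (fun i => (hirr _ i.2).2) (fun i j => by
      refine ⟨fun e => ?_, fun e => classInner_irr_of_ne (hirr _ i.2).1 (hirr _ j.2).1 fun e' => e (Subtype.ext e')⟩
      subst e
      exact classInner_self_irr (hirr _ i.2).1)
  refine ⟨B, W, by omega, by omega, by rw [hBd]; exact hidx, ?_⟩
  have hidxB : R.index = B.d1 * W := by rw [hBd]; exact hidx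
  -- the linear characters trivial on both axes
  set Wk := axisKer h f₁ ⊓ axisKer h f₂ with hWk
  haveI := h.axisKer_normal hp.ax₁
  haveI := h.axisKer_normal hp.ax₂
  haveI : Wk.Normal := Subgroup.normal_inf_normal _ _
  have hWkR : Wk ≤ R := inf_le_left.trans h.axisKer_le
  have hcommR : ∀ a ∈ R, ∀ b ∈ R, a * b * a⁻¹ * b⁻¹ ∈ Wk := fun a haR b hbR =>
    ⟨h.abelian hp.ax₁ (hR1 haR) (hR1 hbR), h.abelian hp.ax₂ (hR2 haR) (hR2 hbR)⟩
  have hdeg1 : ∀ (A : Subgroup L) [A.Normal], (∀ a ∈ R, ∀ b ∈ R, a * b * a⁻¹ * b⁻¹ ∈ A) →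
      ∀ θ ∈ IndSet.over R A, Cfsg.charDegree (θ : R → ℂ) = 1 := fun A _ hA θ hθ => by
    have h1 := IndSet.degree_sq_le R (B := A) (C := R) (D := R) le_rfl hA θ.2 ((IndSet.mem_over R).1 hθ).2
      (CharX.irr_deg θ)
    rw [Subgroup.relIndex_self] at h1
    have := CharX.irr_deg_pos θ
    nlinarith
  have hWksize : t ^ 2 ∣ Wk.relIndex R ∧ ∀ z ∈ R, z ^ t ∈ Wk :=
    ⟨by
      have h1 : Wk.relIndex R = Wk.relIndex (axisKer h f₁) * t := by
        rw [← Subgroup.relIndex_mul_relIndex Wk (axisKer h f₁) R inf_le_left h.axisKer_le, h.axis_index hp.ax₁]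
      rw [h1, sq]
      refine Nat.mul_dvd_mul_right ?_ t
      rw [hWk, Subgroup.inf_relIndex_left]
      have hne : (axisKer h f₂).relIndex (axisKer h f₁) ≠ 1 := fun e => hVne (Subgroup.relIndex_eq_one.1 e)
      have : (axisKer h f₂).relIndex (axisKer h f₁) ∣ t :=
        (Dvd.dvd.trans (by
          rw [← Subgroup.relIndex_subgroupOf (h.axisKer_le (f := f₁))]
          exact Subgroup.relIndex_dvd_index_of_normal _ _) (h.axis_index hp.ax₂).dvd)
      exact (((Nat.dvd_prime h.prime).1 this).resolve_left hne).symm.dvd,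
    fun z hz => ⟨h.pow_mem_axis hp.ax₁ hz, h.pow_mem_axis hp.ax₂ hz⟩⟩
  have hsuppR' : ∀ z ∈ R, z ≠ 1 → (z : G) ∈ DadeT.supp L := hsuppR
  have hadmF : ∀ φ ∈ F, B.Adm φ := fun φ hφ =>
    ⟨IsGeneralizedCharacter.of_isCharacter (IsIrrCharacter.isCharacter (hirr φ hφ).1), hsuppF φ hφ, 1, by
      rw [(hirr φ hφ).2, hBd]; simp⟩
  have hwtF : ∀ φ ∈ F, B.wt φ = 1 := fun φ hφ => by
    rw [(hadmF φ hφ).wt_int (a := 1) (by rw [(hirr φ hφ).2, hBd]; simp)]; simp
  have hone : ∀ θ ∈ IndSet.over R Wk, B.bval (Cfsg.indFun R (θ : R → ℂ)) = 0 := by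
    intro θ hθ
    have hθd := hdeg1 Wk hcommR θ hθ
    obtain ⟨hθne, hθW⟩ := (IndSet.mem_over R).1 hθ
    have hθ1 : (θ : R → ℂ) 1 = 1 := by rw [CharX.irr_deg, hθd, Nat.cast_one]
    set φB := ∑ φ ∈ F, φ with hφB
    have hBB : zin φB φB = F.card := by
      rw [hφB, zin_sum_left, Finset.sum_congr rfl fun φ hφ => show zin φ (∑ ψ ∈ F, ψ) = 1 by
        rw [zin_sum_right, Finset.sum_eq_single φ]
        · rw [zin, classInner_self_irr (hirr φ hφ).1, Complex.one_re]
        · intro ψ hψ hne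
          rw [zin, classInner_irr_of_ne (hirr φ hφ).1 (hirr ψ hψ).1 hne.symm, Complex.zero_re]
        · exact fun hn => absurd hφ hn]
      simp
    have hwtB : B.wt φB = F.card := by
      rw [hφB, B.wt_sum, Finset.sum_congr rfl hwtF]; simp
    have hz0 : 0 ≤ zin (Cfsg.indFun R (θ : R → ℂ)) φB := by
      obtain ⟨n, hn⟩ := IsCharacter.exists_classInner_nat (isCharacter_indFun R (IsIrrCharacter.isCharacter θ.2))
        (isCharacter_sum F fun φ hφ => IsIrrCharacter.isCharacter (hirr φ hφ).1)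
      rw [zin, hn]; simp
    have hz2 : zin (Cfsg.indFun R (θ : R → ℂ)) φB ≤ 2 * W := by
      rw [hφB, zin_sum_right]
      have h1 : ∑ φ ∈ F₁, zin (Cfsg.indFun R (θ : R → ℂ)) φ ≤ (W : ℝ) := hz₁ θ hθne hθ1
      have h2 : ∑ φ ∈ F₂, zin (Cfsg.indFun R (θ : R → ℂ)) φ ≤ (W : ℝ) :=
        (hz₂ θ hθne hθ1).trans (by exact_mod_cast hW2)
      by_cases he : χ₁.ker.index = χ₂.ker.index
      · simp only [F, if_pos he, Finset.sum_union hdisj]
        linarith
      · simp only [F, if_neg he]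
        have : (0 : ℝ) ≤ W := Nat.cast_nonneg _
        linarith
    have hstab : zin (Cfsg.indFun R (θ : R → ℂ)) (Cfsg.indFun R (θ : R → ℂ)) ≤ W := by
      obtain ⟨ψ, hψ⟩ := exists_hom_of_degree_one (IsIrrCharacter.isCharacter θ.2) hθ1
      have key : ∀ {fa fb : Additive T →+ ZMod t} {χb : L →* (ZMod t)ˣ}, Axis fb χb → Wk = axisKer h fa ⊓ axisKer h fb →
          (axisKer h fa).Normal → (∃ b : R, (b : L) ∈ axisKer h fa ∧ ψ b ≠ 1) →
          ∀ g : L, conjChar R g (θ : R → ℂ) = θ → g ∈ χb.ker := by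
        intro fa fb χb hb hWab hfaNormal ⟨b, hba, hb1⟩ g hg
        obtain ⟨x, hx, c, hc, he⟩ := h.decomp b.2
        have hxa : fa (Additive.ofMul (⟨x, hx⟩ : T)) = 0 := (h.mem_axisKer ⟨x, hx⟩ hc).1 (he ▸ hba)
        set k := (χb g : ZMod t).val
        have hconj := congrFun hg b
        rw [hψ] at hconj
        have hgb : g * (b : L) * g⁻¹ ∈ R := hRn.conj_mem _ b.2 g
        have hu : (⟨g * b * g⁻¹, hgb⟩ : R).1 * ((b : L) ^ k)⁻¹ ∈ Wk := by
          show g * (b : L) * g⁻¹ * ((b : L) ^ k)⁻¹ ∈ Wk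
          have hd' : g * c * g⁻¹ * (c ^ k)⁻¹ ∈ primePart h :=
            mul_mem (h.prime_normal.conj_mem c hc g) (inv_mem (pow_mem hc k))
          have hmem : g * x * g⁻¹ ∈ T := h.normalT.conj_mem x hx g
          have hsplit : g * (b : L) * g⁻¹ * ((b : L) ^ k)⁻¹ =
              (g * x * g⁻¹ * (x ^ k)⁻¹) * (g * c * g⁻¹ * (c ^ k)⁻¹) := by
            rw [he, (show Commute x c from h.cent_T hx hc).mul_pow, mul_inv_rev]
            calc g * (x * c) * g⁻¹ * ((c ^ k)⁻¹ * (x ^ k)⁻¹)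
                = g * x * g⁻¹ * ((g * c * g⁻¹ * (c ^ k)⁻¹) * (x ^ k)⁻¹) := by group
              _ = g * x * g⁻¹ * ((x ^ k)⁻¹ * (g * c * g⁻¹ * (c ^ k)⁻¹)) := by
                rw [← h.cent_T (T.inv_mem (T.pow_mem hx k)) hd']
              _ = _ := by group
          rw [hsplit, hWab]
          have hval : ∀ ff : Additive T →+ ZMod t,
              ff (Additive.ofMul (⟨g * x * g⁻¹, hmem⟩ * ((⟨x, hx⟩ : T) ^ k)⁻¹)) =
                ff (Additive.ofMul ⟨g * x * g⁻¹, hmem⟩) - k * ff (Additive.ofMul ⟨x, hx⟩) := fun ff => by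
            rw [ofMul_mul, ofMul_inv, ofMul_pow, map_add, map_neg, map_nsmul, nsmul_eq_mul, sub_eq_add_neg]
          refine ⟨(h.mem_axisKer (f := fa) (⟨g * x * g⁻¹, hmem⟩ * ((⟨x, hx⟩ : T) ^ k)⁻¹) hd').2 ?_,
            (h.mem_axisKer (f := fb) (⟨g * x * g⁻¹, hmem⟩ * ((⟨x, hx⟩ : T) ^ k)⁻¹) hd').2 ?_⟩
          · have hga : g * (b : L) * g⁻¹ ∈ axisKer h fa := hfaNormal.conj_mem _ hba g
            rw [hval, hxa, mul_zero, sub_zero]
            rw [he, show g * (x * c) * g⁻¹ = g * x * g⁻¹ * (g * c * g⁻¹) by group] at hga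
            exact (h.mem_axisKer ⟨_, hmem⟩ (h.prime_normal.conj_mem c hc g)).1 hga
          · rw [hval, hb.eig g ⟨x, hx⟩ hmem, ZMod.natCast_zmod_val, sub_self]
        have hu' : ψ (⟨g * b * g⁻¹, hgb⟩ * (b ^ k)⁻¹) = 1 := by
          have := hθW (⟨g * b * g⁻¹, hgb⟩ * (b ^ k)⁻¹) hu
          rw [hψ] at this
          exact Units.ext (by simpa using this)
        have hbb : ψ (⟨g * b * g⁻¹, hgb⟩) = ψ b := Units.ext hconj
        rw [map_mul, map_inv, map_pow, mul_inv_eq_one, hbb] at hu'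
        have hbt : ψ b ^ t = 1 := by
          rw [← map_pow]
          have := hθW (b ^ t) (hWksize.2 b b.2)
          rw [hψ] at this
          exact Units.ext (by simpa using this)
        have hord : orderOf (ψ b) = t := orderOf_eq_prime hbt hb1
        have hk1 : k = 1 := by
          have h3 : ψ b ^ k = ψ b ^ 1 := by rw [pow_one, ← hu']
          exact pow_injOn_Iio_orderOf (by rw [hord]; exact ZMod.val_lt _) (by rw [hord]; exact h.prime.one_lt) h3
        refine MonoidHom.mem_ker.2 (Units.ext ?_)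
        rw [← ZMod.natCast_zmod_val (χb g : ZMod t)]
        show ((k : ℕ) : ZMod t) = 1
        rw [hk1, Nat.cast_one]
      have hbound : ∀ χb : L →* (ZMod t)ˣ, R ≤ χb.ker → R.relIndex χb.ker ≤ W →
          (∀ g : L, conjChar R g (θ : R → ℂ) = θ → g ∈ χb.ker) →
          zin (Cfsg.indFun R (θ : R → ℂ)) (Cfsg.indFun R (θ : R → ℂ)) ≤ W := by
        intro χb hRb hWb hg
        rw [Base.zin_ind]
        rw [div_le_iff₀ (Nat.cast_pos.2 Nat.card_pos)]
        have h1 : Base.cnt θ θ ≤ Nat.card χb.ker :=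
          Nat.card_le_card_of_injective (fun g => (⟨g.1, hg g.1 g.2⟩ : χb.ker))
            fun a b e => Subtype.ext (congrArg (fun v : χb.ker => (v : L)) e)
        have h2 : Nat.card χb.ker = R.relIndex χb.ker * Nat.card R := by
          rw [← Nat.card_congr (Subgroup.subgroupOfEquivOfLe hRb).toEquiv]
          exact (Subgroup.index_mul_card _).symm
        refine le_trans (Nat.cast_le.2 h1) ?_
        rw [h2, Nat.cast_mul]
        exact mul_le_mul_of_nonneg_right (Nat.cast_le.2 hWb) (Nat.cast_nonneg _)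
      by_cases hc : ∃ b : R, (b : L) ∈ axisKer h f₁ ∧ ψ b ≠ 1
      · exact hbound χ₂ hR2 hW2 (key (fa := f₁) (fb := f₂) hp.ax₂ hWk (h.axisKer_normal hp.ax₁) hc)
      · refine hbound χ₁ hR1 le_rfl (key (fa := f₂) (fb := f₁) hp.ax₁ (hWk.trans (inf_comm _ _)) (h.axisKer_normal hp.ax₂) ?_)
        push Not at hc
        by_contra hc2
        push Not at hc2
        refine hθne ?_
        have hle' : R ≤ ψ.ker.map R.subtype :=
          le_trans hsup.ge (sup_le (fun v hv => ⟨⟨v, h.axisKer_le hv⟩, hc _ hv, rfl⟩)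
            fun v hv => ⟨⟨v, h.axisKer_le hv⟩, hc2 _ hv, rfl⟩)
        funext y
        obtain ⟨y', hy', e⟩ := hle' y.2
        obtain rfl : y' = y := Subtype.ext e
        rw [hψ]
        show ((ψ y' : ℂˣ) : ℂ) = 1
        rw [MonoidHom.mem_ker.1 hy', Units.val_one]
    have hwt : B.wt (Cfsg.indFun R (θ : R → ℂ)) = W := by
      rw [B.wt_ind hsuppR' hidxB, hθd]; simp
    refine B.bval_eq_zero hG hL (B.adm_ind hsuppR' hidxB θ) (φB := φB) (Base.adm_sum F hadmF) ?_ ?_ Nat.one_pos ?_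
      (K := (W : ℝ) * F.card) ?_ ?_
    · rw [hφB, B.bval_sum]
      exact Finset.sum_eq_zero fun φ hφ => hBgood ⟨φ, hφ⟩
    · rw [hBB]; exact_mod_cast hF0
    · obtain ⟨z, hz⟩ := B.bval_int hG hL (B.adm_ind hsuppR' hidxB θ)
      exact ⟨z, by simpa using hz⟩
    · rw [hwt, hBB, hwtB, abs_le]
      constructor <;> nlinarith [(Nat.cast_nonneg F.card : (0 : ℝ) ≤ F.card)]
    · rw [hBB, hwtB, Nat.cast_one, one_pow, one_mul, mul_one]
      have h4 : 4 * (W : ℝ) ≤ F.card := by exact_mod_cast hFn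
      have hW' : (1 : ℝ) ≤ W := by exact_mod_cast hW0
      have h5 : (F.card : ℝ) * zin (Cfsg.indFun R (θ : R → ℂ)) (Cfsg.indFun R (θ : R → ℂ)) ≤ F.card * W :=
        mul_le_mul_of_nonneg_left hstab (Nat.cast_nonneg _)
      nlinarith
  -- all linear characters
  have hmass : Base.mass (IndSet.over R Wk) + 1 = Wk.relIndex R := IndSet.sum_over_sq R Wk
  have hWkpos : 0 < Wk.relIndex R :=
    Nat.pos_of_ne_zero fun e => Subgroup.index_ne_zero_of_finite (H := Wk.subgroupOf R) e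
  have hS : t ^ 2 ≤ Wk.relIndex R := Nat.le_of_dvd hWkpos hWksize.1
  haveI : (⁅R, R⁆ ⊔ (⊥ : Subgroup L)).Normal := Subgroup.sup_normal _ _
  have hN1W : ⁅R, R⁆ ⊔ (⊥ : Subgroup L) ≤ Wk := by
    rw [sup_bot_eq]
    exact Subgroup.commutator_le.2 fun a ha b hb => hcommR a ha b hb
  refine B.chain_good hsuppR' hidxB hG hL h.prime (by omega) h.odd (N1 := ⁅R, R⁆ ⊔ ⊥) (hN1W.trans hWkR) rfl ?_ ?_ ?_ ?_
  · intro N hN _ hNR he
    rw [sup_bot_eq] at he
    haveI : Group.IsNilpotent (R : Subgroup L) := by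
      haveI := h.pgroup.isNilpotent
      haveI : IsMulCommutative C := .of_setLike_mul_comm h.abC
      let m : T × C →* R :=
        { toFun := fun p => ⟨(p.1 : L) * p.2, mul_mem (Subgroup.mem_sup_left p.1.2) (Subgroup.mem_sup_right p.2.2)⟩
          map_one' := by ext; simp
          map_mul' := fun p q => by
            refine Subtype.ext ?_
            show ((p.1 : L) * q.1) * ((p.2 : L) * q.2) = (p.1 : L) * p.2 * ((q.1 : L) * q.2)
            rw [mul_assoc (p.1 : L) p.2, ← mul_assoc (p.2 : L), ← h.cent _ q.1.2 _ p.2.2]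
            simp only [mul_assoc] }
      haveI : Group.IsNilpotent C := @CommGroup.isNilpotent C
        { (inferInstance : Group C) with mul_comm := fun a b => Subtype.ext (h.abC _ a.2 _ b.2) }
      refine Group.nilpotent_of_surjective m fun z => ?_
      obtain ⟨x, hx, c, hc, e⟩ := Subgroup.mem_sup_of_normal_right.1 z.2
      exact ⟨(⟨x, hx⟩, ⟨c, hc⟩), Subtype.ext e⟩
    exact AxB.eq_bot_of_commutator_eq (Q := R) hNR le_rfl he
  · exact hWksize.1.trans (Subgroup.relIndex_dvd_of_le_left R hN1W)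
  · intro θ _
    haveI : (C.subgroupOf R).Normal := Subgroup.Normal.subgroupOf h.normalC R
    have hd' := Ito.degree_dvd_index (C.subgroupOf R) (.of_setLike_mul_comm fun a ha b hb =>
      Subtype.ext (h.abC _ ha _ hb)) θ
    obtain ⟨n, hn⟩ := IsPGroup.iff_card.1 h.pgroup
    have hdvd : (C.subgroupOf R).index ∣ t ^ n := by
      show C.relIndex R ∣ t ^ n
      rw [hR, Subgroup.relIndex_sup_right, ← hn]
      exact Subgroup.relIndex_dvd_card C T
    obtain ⟨j, -, hj⟩ := (Nat.dvd_prime_pow h.prime).1 (hd'.trans hdvd)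
    exact ⟨j, hj⟩
  · intro θ hθ
    have hθd : Cfsg.charDegree (θ : R → ℂ) = 1 :=
      hdeg1 (⁅R, R⁆ ⊔ ⊥) (fun a ha b hb => Subgroup.mem_sup_left (Subgroup.commutator_mem_commutator ha hb)) θ hθ
    refine B.good_single hsuppR' hidxB hG hL _ (Base.stable_over Wk) hone θ ?_ ?_
    · rw [hBd]
      nlinarith
    · rw [hθd, hBd]
      nlinarith

/-- All characters of `T ⊔ C` are good for a suitable reference. -/
theorem Data.exists_good (hG : Cfsg.IsMinSimpleOddOrder G) (hL : IsCoatom L)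
    (hsuppR : ∀ z ∈ T ⊔ C, z ≠ 1 → (z : G) ∈ DadeT.supp L)
    (hsuppK : ∀ z : L, z ≠ 1 → (∃ g ∈ T, g ∉ ⁅T, T⁆ ∧ Commute g (z ^ Nat.card T)) → (z : G) ∈ DadeT.supp L) :
    ∃ (B : Base L) (d2 : ℕ), 3 ≤ B.d1 ∧ 2 * B.d1 + 1 ≤ t ∧ (T ⊔ C).index = B.d1 * d2 ∧
      ∀ θ ∈ IndSet.over (T ⊔ C) ⊥, B.bval (Cfsg.indFun (T ⊔ C) (θ : (T ⊔ C : Subgroup L) → ℂ)) = 0 := by
  haveI := Fact.mk h.prime
  haveI := h.normalT
  have hinv : ∀ (f : Additive T →+ ZMod t) (r : L), r ∈ T ⊔ C → ∀ x : T,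
      f (Additive.ofMul (MulAut.conjNormal r x)) = f (Additive.ofMul x) := fun f r hr x => by
    have hmem : r * (x : L) * r⁻¹ ∈ T := h.normalT.conj_mem _ x.2 r
    rw [← h.fix_of_mem f hr x hmem]
    exact congrArg (fun z : T => f (Additive.ofMul z)) (Subtype.ext (MulAut.conjNormal_apply r x))
  obtain ⟨f₁, f₂, hne₁, hs₂, hs₁, hc₁, hc₂⟩ := EigenHom.exists_pair (t := t) h.pgroup
    (fun hc => h.noncomm (haveI := hc; IsCyclic.isMulCommutative))
    (MulAut.conjNormal (H := T)) (fun u f x => by rw [← map_pow]; exact hinv f _ (h.exp u) x)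
    (fun u v f x => by
      rw [← MulAut.mul_apply, ← map_mul, ← MulAut.mul_apply, ← map_mul]
      have h1 := hinv f _ (h.abq u v) (MulAut.conjNormal (v * u) x)
      rw [← MulAut.mul_apply, ← map_mul, show u * v * u⁻¹ * v⁻¹ * (v * u) = u * v by group] at h1
      exact h1)
  obtain ⟨χ₁, ha₁⟩ := exists_axis hne₁ hc₁
  obtain ⟨χ₂, ha₂⟩ := exists_axis (hs₂.imp fun _ h' => h'.2) hc₂
  rcases le_total χ₁.ker.index χ₂.ker.index with hle | hle
  · exact h.good_of_pair hG hL hsuppR hsuppK ⟨ha₁, ha₂, hs₂, hs₁⟩ hle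
  · exact h.good_of_pair hG hL hsuppR hsuppK ⟨ha₂, ha₁, hs₁, hs₂⟩ hle

end Cfsg.Agent.OddOrder.TwoAx
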