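/-
The count against the complete family of a normal subgroup of the host of a central element.
-/
import Cfsg.Agent.Lib.OddOrder.WeightedInd
import Cfsg.Agent.Lib.OddOrder.CentralFamily

set_option autoImplicit false
set_option linter.style.haveILetI false
set_option linter.unusedSectionVars false
set_option linter.unusedSimpArgs false
set_option linter.unusedVariables false

namespace Cfsg.Agent.OddOrder.WFam

open scoped ComplexConjugate
open Exceptional TauOne Kappa Support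
open Pairing (mem_sigmaCore_of_primes)
open Cfsg.Agent.Char

universe u

namespace Base

/-- The weighted sum of the non-principal characters of a group, off the identity. -/
theorem sum_over_bot {L : Type u} [Group L] [Fintype L] {R : Subgroup L} {r : R} (hr : r ≠ 1) :
    ∑ θ ∈ IndSet.over R ⊥, (Cfsg.charDegree (θ : R → ℂ) : ℂ) * (θ : R → ℂ) r = -1 := by
  classical
  haveI : Fintype R := Fintype.ofFinite R
  have h := congrFun (leftRegular_eq_sum (G := R)) r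
  rw [character_leftRegular, if_neg hr, Finset.sum_apply] at h
  rw [show IndSet.over R (⊥ : Subgroup L) = Finset.univ.erase (principal R) by
    ext θ
    simp only [IndSet.mem_over, Finset.mem_erase, Finset.mem_univ, and_true, Subgroup.mem_bot]
    refine ⟨fun h e => h.1 (e ▸ rfl), fun h => ⟨fun e => h (Subtype.ext e), fun a ha => ?_⟩⟩
    exact congrArg _ (Subtype.ext ha), Finset.sum_erase_eq_sub (Finset.mem_univ _)]
  simp only [Pi.smul_apply, smul_eq_mul, CharX.irr_deg] at h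
  rw [← h]
  rw [show ((principal R : Cfsg.IrrCharacter R) : R → ℂ) = fun _ => 1 from rfl, CharX.charDegree_one]
  simp

variable {G : Type u} [Group G] [Fintype G] {L : Subgroup G} [Fintype L] (B : Base L)

theorem false_of_good {R : Subgroup L} [hRn : R.Normal] (hsuppR : ∀ z ∈ R, z ≠ 1 → (z : G) ∈ DadeT.supp L)
    {d2 : ℕ} (hidx : R.index = B.d1 * d2) (hG : Cfsg.IsMinSimpleOddOrder G) (hL : IsCoatom L)
    {M : Subgroup G} (hM : IsCoatom M) {y : G} {t : ℕ} (ht : t.Prime) (hy : orderOf y = t)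
    (htσ : t ∉ Cfsg.sigma M) (htL : t ∈ Cfsg.sigma L) (hyσ : y ∈ Cfsg.sigmaCore L) (hyL : y ∈ L)
    (hyR : (⟨y, hyL⟩ : L) ∈ R) (hCy : Subgroup.centralizer ({y} : Set G) = M)
    (hd : 3 ≤ B.d1) (hdt : 2 * B.d1 ≤ t + 1) (hRsize : t ^ 2 ≤ Nat.card R)
    (hcount : 3 * Nat.card M ≤ Nat.card (Cfsg.sigmaCore M) * Nat.card R) (hH : 3 ≤ Nat.card (Cfsg.sigmaCore M))
    (hgood : ∀ θ ∈ IndSet.over R ⊥, B.bval (Cfsg.indFun R (θ : R → ℂ)) = 0) : False := by
  classical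
  haveI := Fact.mk ht
  have hD := hypothesis hG hL
  have ht5 : 5 ≤ t := by omega
  have hy1 : y ≠ 1 := fun e => ht.ne_one (by rw [← hy, e, orderOf_one])
  have hd2 : 0 < d2 :=
    Nat.pos_of_ne_zero fun e => Subgroup.index_ne_zero_of_finite (H := R) (by rw [hidx, e, mul_zero])
  set d := B.d1 with hddef
  set Sm := mass (IndSet.over R (⊥ : Subgroup L)) with hSmdef
  have hSm : Sm + 1 = Nat.card R := by
    rw [hSmdef, mass, IndSet.sum_over_sq, Subgroup.relIndex_bot_left]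
  have hSm24 : 24 ≤ Sm := by nlinarith
  set fB := fam (IndSet.over R (⊥ : Subgroup L)) with hfBdef
  set aF : ℝ := (d2 : ℝ) * Sm with haF
  have haF0 : 0 < aF := by
    have : (0 : ℝ) < Sm := by exact_mod_cast (show 0 < Sm by omega)
    positivity
  have hwt : B.wt fB = aF := B.wt_fam hsuppR hidx _
  have hadm := B.adm_fam hsuppR hidx (IndSet.over R (⊥ : Subgroup L))
  let vb : G → ℂ := fun g => ((aF⁻¹ : ℝ) : ℂ) * B.img fB g
  have hvb : ∑ g : G, ‖vb g‖ ^ 2 = (Nat.card G : ℝ) * ((d : ℝ) / (d2 * Sm)) := by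
    have h1 : zin (B.img fB) (B.img fB) = (R.index : ℝ) * Sm := by
      rw [B.zin_img hG hL hadm hadm, B.bval_fam _ hgood, zin_fam_self _ (stable_over ⊥)]
      simp [hSmdef]
    rw [zin_self_eq, inv_mul_eq_iff_eq_mul₀ (Nat.cast_ne_zero.2 Nat.card_pos.ne')] at h1
    simp only [vb, norm_mul, mul_pow, ← Finset.mul_sum, h1, Complex.norm_real, Real.norm_eq_abs, sq_abs,
      haF, hidx]
    have : (0 : ℝ) < d2 := Nat.cast_pos.2 hd2
    have : (0 : ℝ) < Sm := by exact_mod_cast (show 0 < Sm by omega)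
    push_cast
    field_simp
  have hyk : ∀ k : ℕ, 0 < k → k < t → (∃ h : y ^ k ∈ L, (⟨y ^ k, h⟩ : L) ∈ R) ∧ y ^ k ≠ 1 ∧
      Subgroup.centralizer ({y ^ k} : Set G) = M := by
    intro k hk hkt
    obtain ⟨j, hj⟩ := exists_pow_eq_self_of_coprime (x := y) (n := k)
      (by rw [hy]; exact ((Nat.Prime.coprime_iff_not_dvd ht).2 (Nat.not_dvd_of_pos_of_lt hk hkt)).symm)
    refine ⟨⟨L.pow_mem hyL k, by simpa using R.pow_mem hyR k⟩, fun h => hy1 (by rw [← hj, h, one_pow]), ?_⟩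
    rw [← Plane.centralizer_zpowers, show Subgroup.zpowers (y ^ k) = Subgroup.zpowers y from
      le_antisymm (Subgroup.zpowers_le.2 (pow_mem (Subgroup.mem_zpowers y) k))
        (Subgroup.zpowers_le.2 (Subgroup.mem_zpowers_iff.2 ⟨j, by rw [zpow_natCast, hj]⟩)),
      Plane.centralizer_zpowers, hCy]
  have hyne : M ≠ L := fun e => htσ (e ▸ htL)
  have hyh : ∀ h ∈ Cfsg.sigmaCore M, Commute h y := fun h hh =>
    Subgroup.mem_centralizer_singleton_iff.1 (hCy.ge (sigmaCore_le M hh))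
  set c : ℝ := -((d : ℝ) / (Sm : ℝ)) with hcdef
  have hfB : ∀ x : L, x ∈ R → x ≠ 1 → fB x = -(R.index : ℂ) := by
    intro x hxR hx1
    rw [hfBdef, fam, Finset.sum_apply]
    simp only [Pi.smul_apply, smul_eq_mul]
    rw [Finset.sum_congr rfl fun (ψ : Cfsg.IrrCharacter R) _ => show
        (Cfsg.charDegree (ψ : R → ℂ) : ℂ) * Cfsg.indFun R (ψ : R → ℂ) x =
          (Nat.card R : ℂ)⁻¹ * ∑ g : L, (Cfsg.charDegree (ψ : R → ℂ) : ℂ) * conjChar R g ψ ⟨x, hxR⟩ by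
      rw [show Cfsg.indFun R (ψ : R → ℂ) x = _ from indFun_normal_apply R (ψ : R → ℂ) ⟨x, hxR⟩, ← Finset.mul_sum]; ring,
      ← Finset.mul_sum, Finset.sum_comm, Finset.sum_congr rfl fun g _ => show
        ∑ ψ ∈ IndSet.over R (⊥ : Subgroup L), (Cfsg.charDegree (ψ : R → ℂ) : ℂ) *
          conjChar R g ψ ⟨x, hxR⟩ = -1 from sum_over_bot fun e => hx1 (by
          have := congrArg Subtype.val e
          exact conj_eq_one_iff.1 this),
      Finset.sum_const, Finset.card_univ, nsmul_eq_mul, ← Nat.card_eq_fintype_card, ← R.index_mul_card]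
    have : (Nat.card R : ℂ) ≠ 0 := Nat.cast_ne_zero.2 Nat.card_pos.ne'
    push_cast
    field_simp
  have hflat : ∀ k, 0 < k → k < t → ∀ hk : y ^ k ∈ L,
      ((aF⁻¹ : ℝ) : ℂ) * B.flat fB ⟨y ^ k, hk⟩ = (c : ℂ) - B.φ0 ⟨y ^ k, hk⟩ := by
    intro k hk0 hkt hk
    obtain ⟨⟨hk', h1⟩, h2, -⟩ := hyk k hk0 hkt
    have h3 : (d2 : ℂ) ≠ 0 := Nat.cast_ne_zero.2 hd2.ne'
    have h4 : (Sm : ℂ) ≠ 0 := Nat.cast_ne_zero.2 (by omega)
    rw [flat, Pi.sub_apply, Pi.smul_apply, smul_eq_mul, hwt, hfB _ h1 fun e => h2 (by simpa using congrArg Subtype.val e),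
      hcdef, haF, hidx]
    push_cast
    field_simp
  have hvbB : ∀ k, 0 < k → k < t → ∀ h ∈ Cfsg.sigmaCore M, ∀ hk : y ^ k ∈ L,
      vb (y ^ k * h) = B.χ0 (y ^ k * h) - B.φ0 ⟨y ^ k, hk⟩ + (c : ℂ) := by
    intro k hk0 hkt h hh hk
    obtain ⟨⟨hk', h1⟩, h2, h3⟩ := hyk k hk0 hkt
    have hA : y ^ k ∈ DadeT.supp L := hsuppR _ h1 fun e => h2 (by simpa using congrArg Subtype.val e)
    have hσ : y ^ k ∈ Cfsg.sigmaCore L := pow_mem hyσ k
    have hker : h ∈ DadeT.kern L (y ^ k) := by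
      rw [DadeT.kern_of_mem hσ]
      rcases supportR_cases hG hL hσ h2 with ⟨hle, -⟩ | ⟨N', hN', -, hC, -, -, -, he⟩
      · exact absurd ((hM.le_iff.1 (h3 ▸ hle)).resolve_left hL.1).symm hyne
      · rw [h3] at hC he
        rw [he, (hM.le_iff.1 hC).resolve_left hN'.1]
        exact ⟨hh, sigmaCore_le M hh⟩
    have h4 : Cfsg.dadeIsometry (DadeT.supp L) L (DadeT.kern L) (B.flat fB) (y ^ k * h) =
        B.flat fB ⟨y ^ k, hk⟩ := Char.Dade.dadeIsometry_coset hD hadm.flat_cf hA hker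
    show ((aF⁻¹ : ℝ) : ℂ) * B.img fB (y ^ k * h) = _
    rw [img, Pi.add_apply, Pi.smul_apply, smul_eq_mul, h4, hwt, mul_add, hflat k hk0 hkt hk, ← mul_assoc,
      ← Complex.ofReal_mul, inv_mul_cancel₀ haF0.ne', Complex.ofReal_one, one_mul]
    ring
  have hzero : ∀ h ∈ Cfsg.sigmaCore M, h ≠ 1 → ∀ r ∈ Cfsg.supportR M h, Cfsg.dadeIsometry (DadeT.supp L) L (DadeT.kern L) (B.flat fB) (h * r) = 0 := by
    intro h hh h1 r hr
    refine Char.Dade.dadeIsometry_zero hD fun a ha hg => ?_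
    obtain ⟨u, hu, x, hx⟩ := Char.Dade.mem_coset.1 hg
    have hasupp := ha
    set M' := M.map (MulAut.conj x).toMonoidHom
    have hM' := coatom_conj hM x
    have hh' : x * h * x⁻¹ ∈ Cfsg.sigmaCore M' := (sigmaCore_conj x).ge ⟨h, hh, rfl⟩
    have h1' : x * h * x⁻¹ ≠ 1 := fun e => h1 (conj_eq_one_iff.1 e)
    have hr' := supportR_conj_le hG hM hh h1 hr x
    have he : x * h * x⁻¹ * (x * r * x⁻¹) = a * u := by rw [← hx]; group
    by_cases haσ : a ∈ Cfsg.sigmaCore L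
    · rw [DadeT.kern_of_mem haσ] at hu
      refine coset_disjoint hG hM' hL hh' haσ h1' hasupp.2.1 (fun e => ?_) hr' hu he
      obtain ⟨p, hp, hpd⟩ := Nat.exists_prime_and_dvd fun e' => hasupp.2.1 (orderOf_eq_one_iff.1 e')
      have h6 : p ∈ Cfsg.sigma L := primes_of_mem_sigmaCore haσ hp hpd
      have h7 : p ∈ Cfsg.sigma M := (sigma_conj_iff x).1 (primes_of_mem_sigmaCore hh' hp (e ▸ hpd))
      obtain ⟨g, hg'⟩ := SigmaDisj.conj_of_sigma hG hM hL h7 h6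
      exact htσ ((sigma_conj_iff g).1 (hg' ▸ htL))
    · rw [DadeT.kern_of_not_mem haσ, Subgroup.mem_bot] at hu
      rw [hu, mul_one] at he
      obtain ⟨-, -, -, -, -, -, hne⟩ := DadeT.exists_part hG hL hasupp haσ
      obtain ⟨p, hp, hpd⟩ := Nat.exists_prime_and_dvd fun e' => h1 (orderOf_eq_one_iff.1 e')
      have hpM := primes_of_mem_sigmaCore hh hp hpd
      have hdvd : p ∣ Nat.card L := by
        refine hpd.trans (dvd_trans ?_ (Subgroup.orderOf_dvd_natCard _ hasupp.1))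
        rw [← he, ← show x * (h * r) * x⁻¹ = x * h * x⁻¹ * (x * r * x⁻¹) by group, ← MulAut.conj_apply,
          MulEquiv.orderOf_eq]
        have hcop : (orderOf h).Coprime (orderOf r) := Nat.coprime_of_dvd fun s hs hs1 hs2 =>
          CFam.primes_supportR hG hM hh h1 hr hs hs2 (primes_of_mem_sigmaCore hh hs hs1)
        rw [(commute_supportR hG hM hh h1 hr).orderOf_mul_eq_mul_orderOf_of_coprime hcop]
        exact dvd_mul_right _ _
      have hnle : ¬ Subgroup.centralizer ({y} : Set G) ≤ L := fun hle =>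
        hyne ((hM.le_iff.1 (hCy ▸ hle)).resolve_left hL.1).symm
      have := (S1436.result hG L hL y hyσ (fun e => hy1 e) hnle M hM hCy.le).1 ⟨p, hpM, hdvd⟩
      exact hne.ne_empty this.2
  have hvbA : ∀ h ∈ Cfsg.sigmaCore M, h ≠ 1 → ∀ r ∈ Cfsg.supportR M h, vb (h * r) = B.χ0 (h * r) := by
    intro h hh h1 r hr
    show ((aF⁻¹ : ℝ) : ℂ) * B.img fB (h * r) = _
    rw [img, Pi.add_apply, Pi.smul_apply, smul_eq_mul, hzero h hh h1 r hr, hwt, zero_add, ← mul_assoc,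
      ← Complex.ofReal_mul, inv_mul_cancel₀ haF0.ne', Complex.ofReal_one, one_mul]
  have hcpos : (0 : ℝ) < (d : ℝ) / (Sm : ℝ) ∧ (d : ℝ) / (Sm : ℝ) ≤ 1 / 8 ∧
      ((t : ℝ) - 1) * ((d : ℝ) / (Sm : ℝ)) ≤ 1 / 2 := by
    have e1 : (3 : ℝ) ≤ d := by exact_mod_cast hd
    have e2 : 2 * (d : ℝ) ≤ t + 1 := by exact_mod_cast hdt
    have e3 : (t : ℝ) ^ 2 ≤ Sm + 1 := by exact_mod_cast (hSm ▸ hRsize)
    have e4 : (5 : ℝ) ≤ t := by exact_mod_cast ht5
    have e5 : (0 : ℝ) < (Sm : ℝ) := by nlinarith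
    refine ⟨div_pos (by linarith) e5, ?_, ?_⟩
    · rw [div_le_iff₀ e5]; nlinarith
    · rw [← mul_div_assoc, div_le_iff₀ e5]; nlinarith
  have hχcf : ∀ g w, B.χ0 (w * g * w⁻¹) = B.χ0 g := fun g w =>
    IsGeneralizedCharacter.isClassFunction B.genχ g w
  have himgcf : ∀ g w, B.img fB (w * g * w⁻¹) = B.img fB g := fun g w =>
    IsGeneralizedCharacter.isClassFunction (B.img_gen hG hL hadm) g w
  have hdisj : ∀ h ∈ Cfsg.sigmaCore M, h ≠ 1 → ∀ r ∈ Cfsg.supportR M h, ∀ h' ∈ Cfsg.sigmaCore M, h' ≠ 1 →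
      ∀ k : ℕ, 0 < k → k < t → ∀ w : G, w * (h * r) * w⁻¹ ≠ y ^ k * h' := by
    intro h hh h1 r hr h' hh' h1' k hk0 hkt w he
    obtain ⟨⟨hk, -⟩, -, -⟩ := hyk k hk0 hkt
    have h8 : vb (y ^ k * h') = vb (h * r) := by rw [← he]; simp only [vb, himgcf]
    rw [hvbB k hk0 hkt h' hh' hk, hvbA h hh h1 r hr, ← he, hχcf] at h8
    have hint : IsIntegral ℤ (((-(d : ℚ) / (Sm : ℚ)) : ℚ) : ℂ) := by
      obtain ⟨a, b, ha, hb, hab⟩ := B.gen0
      have := (Char.IsCharacter.isIntegral ha ⟨y ^ k, hk⟩).sub (Char.IsCharacter.isIntegral hb ⟨y ^ k, hk⟩)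
      rw [← Pi.sub_apply, ← hab, show B.φ0 ⟨y ^ k, hk⟩ = (c : ℂ) by linear_combination -h8] at this
      refine (congrArg (IsIntegral ℤ) ?_).mp this
      rw [hcdef]; push_cast; ring
    obtain ⟨n, hn⟩ := Char.exists_int_of_isIntegral hint
    have hn' : c = n := by
      have := congrArg (fun q : ℚ => (q : ℝ)) hn
      push_cast at this
      rw [hcdef, ← this]; ring
    have e1 : (n : ℝ) < 0 := by rw [← hn', hcdef]; linarith [hcpos.1]
    have e2 : (-1 : ℝ) < n := by rw [← hn', hcdef]; linarith [hcpos.2.1]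
    have e1' : n < 0 := by exact_mod_cast e1
    have e2' : (-1 : ℤ) < n := by exact_mod_cast e2
    omega
  have hFB := CFam.fibre_bound hG hM ht hy htσ hCy hdisj (f := fun g => ‖vb g‖ ^ 2) (fun g => by positivity)
    fun g w => by simp only [vb, himgcf]
  rw [hvb] at hFB
  have hRpow : ∀ h ∈ Cfsg.sigmaCore M, h ≠ 1 → ∀ j : ℕ, j.Coprime (Nat.card G) →
      Cfsg.supportR M (h ^ j) = Cfsg.supportR M h := by
    intro h hh h1 j hj
    obtain ⟨i, hi⟩ := exists_pow_eq_self_of_coprime (x := h) (n := j)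
      (hj.coprime_dvd_right (orderOf_dvd_natCard h))
    have hC : Subgroup.centralizer ({h ^ j} : Set G) = Subgroup.centralizer ({h} : Set G) := by
      rw [← Plane.centralizer_zpowers, ← Plane.centralizer_zpowers (a := h)]
      congr 2
      exact le_antisymm (Subgroup.zpowers_le.2 (pow_mem (Subgroup.mem_zpowers h) j))
        (Subgroup.zpowers_le.2 (Subgroup.mem_zpowers_iff.2 ⟨i, by rw [zpow_natCast, hi]⟩))
    have h1j : h ^ j ≠ 1 := fun e => h1 (by rw [← hi, e, one_pow])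
    rcases supportR_cases hG hM hh h1 with ⟨hle, he⟩ | ⟨N₁, hN₁, hno, hC₁, hu₁, -, -, he⟩ <;>
      rcases supportR_cases hG hM (pow_mem hh j) h1j with ⟨hle', he'⟩ | ⟨N₂, hN₂, hno', hC₂, -, -, -, he'⟩
    · rw [he, he']
    · exact absurd (hC ▸ hle) hno'
    · exact absurd (hC ▸ hle') hno
    · rw [he, he', hC, hu₁ N₂ hN₂ (hC ▸ hC₂)]
  have hyN : ∀ h ∈ Cfsg.sigmaCore M, h ≠ 1 → y ∈ Subgroup.normalizer (Cfsg.supportR M h : Set G) := fun h hh h1 =>
    centralizer_le_normalizer_supportR hG hM hh h1 (Subgroup.mem_centralizer_singleton_iff.2 (hyh h hh).symm)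
  have hfreeχ : ∀ h ∈ Cfsg.sigmaCore M, h ≠ 1 → ∀ k : ℕ, 0 < k → k < t → ∀ r ∈ Cfsg.supportR M h,
      B.χ0 (y ^ k * r * h) = B.χ0 (y ^ k * h) := by
    intro h hh h1 k hk0 hkt r hr
    have hn := inv_mem (pow_mem (hyN h hh h1) k)
    let F : Cfsg.supportR M h → Cfsg.supportR M h := fun s =>
      ⟨(y ^ k)⁻¹ * s * (y ^ k)⁻¹⁻¹ * (s : G)⁻¹, mul_mem ((Subgroup.mem_normalizer_iff.1 hn _).1 s.2) (inv_mem s.2)⟩
    have hinj : Function.Injective F := by
      intro s s' hss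
      have hq : (y ^ k)⁻¹ * s * (y ^ k)⁻¹⁻¹ * (s : G)⁻¹ = (y ^ k)⁻¹ * s' * (y ^ k)⁻¹⁻¹ * (s' : G)⁻¹ :=
        congrArg Subtype.val hss
      have hcomm : ((s' : G)⁻¹ * s) * y ^ k = y ^ k * ((s' : G)⁻¹ * s) := by
        have := congrArg (fun z => y ^ k * ((y ^ k)⁻¹ * s' * (y ^ k)⁻¹⁻¹)⁻¹ * z * (s : G)) hq
        simp only [inv_inv, mul_inv_rev, mul_assoc, mul_inv_cancel_left, inv_mul_cancel_left, inv_mul_cancel,
          mul_one] at this ⊢
        exact this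
      have hmem : (s' : G)⁻¹ * s ∈ M := (hyk k hk0 hkt).2.2.le (Subgroup.mem_centralizer_singleton_iff.2 hcomm)
      have hmem' : (s' : G)⁻¹ * s ∈ Cfsg.supportR M h := mul_mem (inv_mem s'.2) s.2
      rcases supportR_cases hG hM hh h1 with ⟨-, he⟩ | ⟨N₁, -, -, -, -, -, hbot, he⟩
      · exact Subtype.ext (inv_mul_eq_one.1 (Subgroup.mem_bot.1 (he.le hmem'))).symm
      · replace hmem' := he.le hmem'
        exact Subtype.ext (inv_mul_eq_one.1 (Subgroup.mem_bot.1 (hbot.le ⟨hmem'.1, hmem⟩))).symm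
    obtain ⟨s, hs⟩ := Finite.injective_iff_surjective.1 hinj ⟨r, hr⟩
    have hs' : (y ^ k)⁻¹ * s * (y ^ k)⁻¹⁻¹ * (s : G)⁻¹ = r := congrArg Subtype.val hs
    have hsh := commute_supportR hG hM hh h1 s.2
    rw [← hχcf (y ^ k * h) (s : G)]
    congr 1
    rw [← hs']
    calc y ^ k * ((y ^ k)⁻¹ * s * (y ^ k)⁻¹⁻¹ * (s : G)⁻¹) * h = s * y ^ k * ((s : G)⁻¹ * h) := by group
      _ = s * y ^ k * (h * (s : G)⁻¹) := by rw [hsh.symm.inv_left.eq]
      _ = s * (y ^ k * h) * (s : G)⁻¹ := by group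
  set ρ : ℝ := (d : ℝ) - 9 / 8 with hρ
  have hd' : (3 : ℝ) ≤ d := by exact_mod_cast hd
  have hdt' : 2 * (d : ℝ) ≤ t + 1 := by exact_mod_cast hdt
  have htR : (0 : ℝ) < t := by exact_mod_cast ht.pos
  have hnum : ∀ m : ℤ, (d : ℝ) ≤ (m : ℝ) * t + d ∨ (m : ℝ) * t + d ≤ (d : ℝ) - t := fun m => by
    rcases le_or_gt 0 m with h | h
    · left; have : (0 : ℝ) ≤ m := by exact_mod_cast h
      nlinarith
    · right; have : (m : ℝ) ≤ -1 := by exact_mod_cast (by omega : m ≤ -1)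
      nlinarith
  have hdist : ∀ m : ℤ, ρ / t ≤ |(m : ℝ) + ((d : ℝ) - c) / t| := fun m => by
    rw [show (m : ℝ) + ((d : ℝ) - c) / t = ((m : ℝ) * t + d - c) / t by field_simp; ring, abs_div,
      abs_of_pos htR]
    refine div_le_div_of_nonneg_right ?_ htR.le
    rw [le_abs]
    rcases hnum m with h | h
    · left; rw [hcdef, hρ]; linarith [hcpos.1]
    · right; rw [hcdef, hρ]; linarith [hcpos.2.1]
  have hdist' : ∀ m : ℤ, ρ / t ≤ |(m : ℝ) + ((d : ℝ) - c + t * c) / t| := fun m => by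
    rw [show (m : ℝ) + ((d : ℝ) - c + t * c) / t = ((m : ℝ) * t + d + (t - 1) * c) / t by field_simp; ring,
      abs_div, abs_of_pos htR]
    refine div_le_div_of_nonneg_right ?_ htR.le
    rw [le_abs]
    rcases hnum m with h | h
    · left; rw [hcdef, hρ]; nlinarith [hcpos.2.2]
    · right; rw [hcdef, hρ]; nlinarith [hcpos.1]
  have hB := CBound.bound B.genχ (φ := B.φ0) B.gen0
    (y := (⟨y, hyL⟩ : L)) (t := t) (by rw [Subgroup.orderOf_mk, hy]) (d := d) B.one0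
    (Cfsg.sigmaCore M) (Cfsg.supportR M) hyh (fun h hh h1 r hr => commute_supportR hG hM hh h1 hr) hyN hfreeχ hRpow
    (c := c) (δ := ρ / t) (div_nonneg (by rw [hρ]; linarith) htR.le)
    (by rw [div_le_iff₀ htR, hρ]; linarith) hdist hdist'
  set S := (Finset.univ : Finset G).filter fun h => h ∈ Cfsg.sigmaCore M ∧ h ≠ 1 with hSdef
  have hS : ∀ {h}, h ∈ S → h ∈ Cfsg.sigmaCore M ∧ h ≠ 1 := fun hh => (Finset.mem_filter.1 hh).2
  have hle : ∀ h ∈ S, ‖(Nat.card (Cfsg.supportR M h) : ℂ)⁻¹ * ∑ r : Cfsg.supportR M h, B.χ0 (h * r)‖ ^ 2 +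
      ∑ k ∈ Finset.Ico 1 t, ‖B.χ0 ((y : G) ^ k * h) - B.φ0 ((⟨y, hyL⟩ : L) ^ k) + (c : ℂ)‖ ^ 2 ≤
      (Nat.card (Cfsg.supportR M h) : ℝ)⁻¹ * ∑ r : Cfsg.supportR M h, ‖vb (h * r)‖ ^ 2 +
        ∑ k ∈ Finset.Ico 1 t, ‖vb (y ^ k * h)‖ ^ 2 := by
    intro h hh
    obtain ⟨hh, h1⟩ := hS hh
    refine add_le_add ?_ (le_of_eq (Finset.sum_congr rfl fun k hk => ?_))
    · have hn0 : (0 : ℝ) < Nat.card (Cfsg.supportR M h) := Nat.cast_pos.2 Nat.card_pos
      rw [norm_mul, norm_inv, Complex.norm_natCast, mul_pow, inv_pow, sq (Nat.card (Cfsg.supportR M h) : ℝ),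
        mul_inv, mul_assoc]
      refine mul_le_mul_of_nonneg_left ?_ (inv_nonneg.2 hn0.le)
      rw [inv_mul_le_iff₀ hn0]
      refine le_trans (pow_le_pow_left₀ (norm_nonneg _) (norm_sum_le _ _) 2) ?_
      refine le_trans sq_sum_le_card_mul_sum_sq (le_of_eq ?_)
      rw [Finset.card_univ, ← Nat.card_eq_fintype_card]
      exact congrArg _ (Finset.sum_congr rfl fun r _ => by rw [hvbA h hh h1 r r.2])
    · obtain ⟨hk0, hkt⟩ := Finset.mem_Ico.1 hk
      rw [hvbB k hk0 hkt h hh (L.pow_mem hyL k)]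
      rfl
  have hscard : (S.card : ℝ) = (Nat.card (Cfsg.sigmaCore M) : ℝ) - 1 := by
    have h11 : S = ((Finset.univ : Finset G).filter fun h => h ∈ Cfsg.sigmaCore M).erase 1 := by
      ext h; simp [hSdef, and_comm]
    rw [h11, Finset.card_erase_of_mem (by simp), Nat.cast_sub (Finset.card_pos.2 ⟨1, by simp⟩),
      ← Fintype.card_subtype, ← Nat.card_eq_fintype_card, Nat.cast_one]
  have hG0 : (0 : ℝ) < Nat.card G := Nat.cast_pos.2 Nat.card_pos
  have hup : (S.card : ℝ) * ρ ^ 2 ≤ (Nat.card M : ℝ) * ((d : ℝ) / (d2 * Sm)) := by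
    refine le_of_mul_le_mul_left ?_ hG0
    rw [mul_left_comm (Nat.card G : ℝ) (Nat.card M : ℝ)]
    refine le_trans (mul_le_mul_of_nonneg_left ?_ hG0.le) hFB
    refine le_trans (le_of_eq ?_) (hB.trans (Finset.sum_le_sum hle))
    rw [div_pow]
    field_simp
  -- the numerical contradiction
  set H : ℝ := (Nat.card (Cfsg.sigmaCore M) : ℝ) with hHdef
  have hH' : (3 : ℝ) ≤ H := by rw [hHdef]; exact_mod_cast hH
  have hc' : 3 * (Nat.card M : ℝ) ≤ H * ((Sm : ℝ) + 1) := by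
    rw [hHdef]; exact_mod_cast (hSm ▸ hcount)
  have hSR : (24 : ℝ) ≤ Sm := by exact_mod_cast hSm24
  have hd2' : (1 : ℝ) ≤ d2 := by exact_mod_cast hd2
  have h1 : (d : ℝ) / (d2 * Sm) ≤ (d : ℝ) / Sm :=
    div_le_div_of_nonneg_left (Nat.cast_nonneg d) (by linarith) (le_mul_of_one_le_left (by linarith) hd2')
  have h2 : (S.card : ℝ) * ρ ^ 2 ≤ H * (25 / 72) * d := by
    refine hup.trans ((mul_le_mul_of_nonneg_left h1 (Nat.cast_nonneg _)).trans ?_)
    rw [← mul_div_assoc, div_le_iff₀ (by linarith)]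
    have h5 : H * ((Sm : ℝ) + 1) ≤ H * (25 / 24 * Sm) := mul_le_mul_of_nonneg_left (by linarith) (by linarith)
    calc (Nat.card M : ℝ) * d ≤ H * ((25 : ℝ) / 72 * Sm) * d :=
          mul_le_mul_of_nonneg_right (by linarith) (Nat.cast_nonneg d)
      _ = H * (25 / 72) * d * Sm := by ring
  rw [hscard] at h2
  have h6 : H * (2 / 3) * ρ ^ 2 ≤ (H - 1) * ρ ^ 2 := mul_le_mul_of_nonneg_right (by linarith) (sq_nonneg _)
  have h7 : (75 / 144 : ℝ) * d < ρ ^ 2 := by rw [hρ]; nlinarith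
  nlinarith

end Base

end Cfsg.Agent.OddOrder.WFam
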