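/-
A central element of order `t ∈ τ₂(M)` with nonabelian Sylow subgroups, nilpotent host with operators of exponent
dividing `t - 1`: contradiction by the family of two invariant maximal subgroups.
-/
import Cfsg.Agent.Lib.OddOrder.CentralNonabNil
import Cfsg.Agent.Lib.OddOrder.TwoAxesGood
import Cfsg.Agent.Lib.OddOrder.WeightedCount

set_option autoImplicit false
set_option linter.style.haveILetI false
set_option linter.unusedSectionVars false
set_option linter.unusedSimpArgs false
set_option linter.unusedVariables false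

namespace Cfsg.Agent.OddOrder.CNab

open scoped commutatorElement IsMulCommutative Pointwise
open Exceptional TauOne Kappa Support
open Pairing (exists_pi_parts mem_sigmaCore_of_primes)

universe u

variable {G : Type u} [Group G] [Finite G] {M E L : Subgroup G} {y : G} {t : ℕ} {T : Sylow t G}
variable (hG : Cfsg.IsMinSimpleOddOrder G) (hM : IsCoatom M) (s : Setup M E L y t T)
include hG hM s

theorem three_le : 3 ≤ t := by
  haveI := Fact.mk s.prime
  have hp2 : t ≠ 2 := Uniq.ne_two_of_dvd hG (s.order ▸ orderOf_dvd_natCard y)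
  have := s.prime.two_le
  omega

theorem sq_le : t ^ 2 ≤ Nat.card (T : Subgroup G) := by
  haveI := Fact.mk s.prime
  obtain ⟨n, hn⟩ := IsPGroup.iff_card.1 T.isPGroup'
  rw [hn]
  refine Nat.pow_le_pow_right s.prime.pos ?_
  by_contra h
  refine s.noncomm ?_
  haveI : IsCyclic (T : Subgroup G) := by
    rcases n with _ | _ | n
    · haveI : Subsingleton (T : Subgroup G) := (Nat.card_eq_one_iff_unique.1 (by rw [hn, pow_zero])).1
      infer_instance
    · exact isCyclic_of_prime_card (by rw [hn, pow_one])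
    · omega
  exact IsCyclic.isMulCommutative

theorem card_M : Nat.card M = Nat.card E * Nat.card (Cfsg.sigmaCore M) := Compl.card_eq s.compl

variable (hnil : Group.IsNilpotent (Cfsg.sigmaCore L))
include hnil

/-- `E` has index at least three in the central product. -/
theorem three_mul_le :
    3 * Nat.card E ≤ Nat.card ((T : Subgroup G) ⊔ (L ⊓ Subgroup.centralizer ((T : Subgroup G) : Set G)) : Subgroup G) := by
  set R := (T : Subgroup G) ⊔ (L ⊓ Subgroup.centralizer ((T : Subgroup G) : Set G)) with hR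
  have hle : E ≤ R := E_le_product hG hM s hnil
  have hne : E.relIndex R ≠ 1 := fun h =>
    s.not_central ((le_sup_left.trans (Subgroup.relIndex_eq_one.1 h)).trans s.compl.1)
  have hcard : E.relIndex R * Nat.card E = Nat.card R := by
    rw [mul_comm, ← Subgroup.relIndex_bot_left, ← Subgroup.relIndex_bot_left,
      Subgroup.relIndex_mul_relIndex ⊥ E R bot_le hle]
  obtain ⟨i, hi⟩ : Odd (E.relIndex R) :=
    (hG.1.of_dvd_nat R.card_subgroup_dvd_card).of_dvd_nat ⟨Nat.card E, hcard.symm⟩
  rw [← hcard]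
  exact Nat.mul_le_mul_right _ (by omega)

/-- Commutators of the operators lie in the central product. -/
theorem commutator_mem_product (u v : L) :
    ((u * v * u⁻¹ * v⁻¹ : L) : G) ∈ (T : Subgroup G) ⊔ (L ⊓ Subgroup.centralizer ((T : Subgroup G) : Set G)) := by
  haveI := Fact.mk s.prime
  have hTL := T_le hG hM s
  set C := L ⊓ Subgroup.centralizer ((T : Subgroup G) : Set G) with hC
  set T' := (T : Subgroup G).subgroupOf L
  set C' := C.subgroupOf L
  haveI : T'.Normal := Subgroup.normal_subgroupOf_of_le_normalizer (T_normal hG hM s hnil)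
  haveI : C'.Normal := Subgroup.normal_subgroupOf_of_le_normalizer (cent_normal hG hM s hnil)
  have hodd : Odd (Nat.card L) := hG.1.of_dvd_nat L.card_subgroup_dvd_card
  suffices ⁅u, v⁆ ∈ T' ⊔ C' by
    rw [← Subgroup.subgroupOf_sup hTL inf_le_left] at this
    exact this
  let act : L →* MulAut T' := MulAut.conjNormal
  haveI : Group.IsSolvable L := MinSimple.isSolvable hG s.coatomL.1
  haveI : Group.IsSolvable act.range := solvable_of_surjective act.rangeRestrict_surjective
  have hder := NarrowGroup.derived_pgroup (p := t) (R := T') (A := act.range)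
    (by have := three_le hG hM s; omega) T.isPGroup'.comap_subtype
    (NarrowSolvable.isNarrow_of_equiv (Subgroup.subgroupOfEquivOfLe hTL).symm (narrow hG hM s))
    (hodd.of_dvd_nat (Subgroup.card_range_dvd act)) act.range.subtype act.range.subtype_injective
  have hmem : act.rangeRestrict ⁅u, v⁆ ∈ commutator act.range := by
    rw [map_commutatorElement, commutator_def]
    exact Subgroup.commutator_mem_commutator (Subgroup.mem_top _) (Subgroup.mem_top _)
  obtain ⟨k, hk⟩ := hder ⟨_, hmem⟩
  have hk' : act (⁅u, v⁆ ^ t ^ k) = 1 := by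
    rw [map_pow]
    exact congrArg (fun z : commutator act.range => ((z : act.range) : MulAut T')) hk
  have hC' : ⁅u, v⁆ ^ t ^ k ∈ T' ⊔ C' := by
    refine Subgroup.mem_sup_right ?_
    refine ⟨(⁅u, v⁆ ^ t ^ k).2, Subgroup.mem_centralizer_iff.2 fun a ha => ?_⟩
    have he := congrArg (fun z : T' => ((z : L) : G)) (DFunLike.congr_fun hk' (⟨⟨a, hTL ha⟩, ha⟩ : T'))
    simp only [act, MulAut.one_apply, MulAut.conjNormal_apply, Subgroup.coe_mul, Subgroup.coe_inv] at he
    calc a * ((⁅u, v⁆ ^ t ^ k : L) : G)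
        = ((⁅u, v⁆ ^ t ^ k : L) : G) * a * ((⁅u, v⁆ ^ t ^ k : L) : G)⁻¹ * ((⁅u, v⁆ ^ t ^ k : L) : G) := by
          rw [he]
      _ = _ := inv_mul_cancel_right _ _
  have hT' : ⁅u, v⁆ ^ T'.index ∈ T' ⊔ C' := Subgroup.mem_sup_left (Subgroup.pow_index_mem T' _)
  haveI : (T' ⊔ C').Normal := Subgroup.sup_normal _ _
  refine (QuotientGroup.eq_one_iff _).1 (orderOf_eq_one_iff.1 (Nat.eq_one_of_dvd_coprimes
    (show T'.index.Coprime (t ^ k) from (cop_index hG hM s).pow_right k)
    (orderOf_dvd_of_pow_eq_one ?_) (orderOf_dvd_of_pow_eq_one ?_)))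
  · rw [← QuotientGroup.mk_pow]; exact (QuotientGroup.eq_one_iff _).2 hT'
  · rw [← QuotientGroup.mk_pow]; exact (QuotientGroup.eq_one_iff _).2 hC'

/-- The data of two invariant maximal subgroups. -/
theorem twoAx_data
    (hexp : ∀ u ∈ L, u ^ (t - 1) ∈ (T : Subgroup G) ⊔ (L ⊓ Subgroup.centralizer ((T : Subgroup G) : Set G))) :
    TwoAx.Data ((T : Subgroup G).subgroupOf L)
      ((L ⊓ Subgroup.centralizer ((T : Subgroup G) : Set G)).subgroupOf L) t := by
  haveI := Fact.mk s.prime
  have hTL := T_le hG hM s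
  set C := L ⊓ Subgroup.centralizer ((T : Subgroup G) : Set G) with hC
  set T' := (T : Subgroup G).subgroupOf L
  set C' := C.subgroupOf L
  haveI : T'.Normal := Subgroup.normal_subgroupOf_of_le_normalizer (T_normal hG hM s hnil)
  haveI : C'.Normal := Subgroup.normal_subgroupOf_of_le_normalizer (cent_normal hG hM s hnil)
  have hodd : Odd (Nat.card L) := hG.1.of_dvd_nat L.card_subgroup_dvd_card
  refine ⟨s.prime, three_le hG hM s, hodd, T.isPGroup'.comap_subtype, ‹_›, ‹_›, cop_index hG hM s, fun h => ?_,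
    ?_, fun x hx c hc => ?_, fun a ha b hb => ?_, ?_, fun u => ?_⟩
  · haveI := h
    refine s.noncomm (.of_setLike_mul_comm fun a ha b hb => ?_)
    exact congrArg (fun z : T' => ((z : L) : G))
      (mul_comm' (⟨⟨a, hTL ha⟩, ha⟩ : T') ⟨⟨b, hTL hb⟩, hb⟩)
  · intro x hx
    have h1 : (x : G) ∈ (commutator L).map L.subtype := by
      rw [commutator_def, Subgroup.map_commutator, ← MonoidHom.range_eq_map, Subgroup.range_subtype]
      exact derived_T hG hM s hx
    obtain ⟨z, hz, he⟩ := h1
    rwa [← Subtype.ext he]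
  · exact Subtype.ext (Subgroup.mem_centralizer_iff.1 hc.2 _ hx)
  · exact Subtype.ext (E_comm hG hM s _ (cent_le hG hM s ha) _ (cent_le hG hM s hb))
  · intro u v
    rw [← Subgroup.subgroupOf_sup hTL inf_le_left]
    exact commutator_mem_product hG hM s hnil u v
  · rw [← Subgroup.subgroupOf_sup hTL inf_le_left]
    exact hexp u u.2

/-- The support condition outside the kernel. -/
theorem supp_fixed {z g : G} (hz : z ∈ L) (hz1 : z ≠ 1) (hg : g ∈ (T : Subgroup G))
    (hgd : g ∉ ⁅(T : Subgroup G), (T : Subgroup G)⁆) (hgz : Commute g (z ^ Nat.card (T : Subgroup G))) :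
    z ∈ DadeT.supp L := by
  haveI := Fact.mk s.prime
  obtain ⟨n, hn⟩ := IsPGroup.iff_card.1 T.isPGroup'
  have hg1 : g ≠ 1 := fun e => hgd (e ▸ one_mem _)
  have key : ∀ w ∈ Subgroup.zpowers z, ¬ t ∣ orderOf w → Commute g w := by
    intro w hw hwt
    obtain ⟨m, hm⟩ := exists_pow_eq_self_of_coprime (x := w) (n := Nat.card (T : Subgroup G))
      (hn ▸ Nat.Coprime.pow_left n (s.prime.coprime_iff_not_dvd.2 hwt))
    obtain ⟨i, rfl⟩ := Subgroup.mem_zpowers_iff.1 hw
    rw [← hm, ← zpow_natCast (z ^ i), ← zpow_mul, mul_comm i, zpow_mul, zpow_natCast]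
    exact (hgz.zpow_right i).pow_right m
  refine ⟨hz, hz1, ?_, fun r hr hd => ?_⟩
  · obtain ⟨u, v, huv, -, huz, hvz, hu, hv⟩ := exists_pi_parts ({t} : Set ℕ) z
    by_cases hu1 : u = 1
    · refine ⟨g, T_sigma hG hM s hg, hg1, ?_⟩
      rw [huv, hu1, one_mul]
      exact (key v hvz fun h => hv t s.prime h rfl).symm.eq
    · obtain ⟨i, hi⟩ : ∃ i, orderOf u = t ^ i := ⟨_, Nat.eq_prime_pow_of_unique_prime_dvd (orderOf_pos u).ne'
        fun {r} hr hd => hu r hr hd⟩
      have huT : u ∈ (T : Subgroup G) := by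
        refine mem_T hG hM s hnil ((Subgroup.zpowers_le.2 hz) huz) (orderOf_dvd_iff_pow_eq_one.1 ?_)
        have h1 : Nat.card (Subgroup.zpowers u) = t ^ i := by rw [Nat.card_zpowers, hi]
        obtain ⟨T', hT'⟩ := (IsPGroup.of_card h1).exists_le_sylow
        rw [hi, ← h1, T.card_eq_multiplicity, ← T'.card_eq_multiplicity]
        exact Subgroup.card_dvd_of_le hT'
      obtain ⟨j, rfl⟩ := Subgroup.mem_zpowers_iff.1 huz
      exact ⟨_, T_sigma hG hM s huT, hu1, ((Commute.refl z).zpow_right j).eq⟩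
  · by_contra hcon
    simp only [Set.mem_union, not_or] at hcon
    have hrt : r ≠ t := fun e => hcon.1 (e ▸ s.sigmaL)
    set k := z ^ (orderOf z / r)
    have hko : orderOf k = r := orderOf_pow_orderOf_div (orderOf_pos z).ne' hd
    have hkL : k ∈ L := L.pow_mem hz _
    have hgk : Commute g k := key k (pow_mem (Subgroup.mem_zpowers z) _) fun h =>
      hrt ((Nat.prime_dvd_prime_iff_eq s.prime hr).1 (hko ▸ h)).symm
    rcases S1432.result hG L s.coatomL g (T_sigma hG hM s hg) hg1 k
        ⟨hkL, Subgroup.mem_centralizer_singleton_iff.2 hgk.symm.eq⟩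
        (fun e => hr.ne_one (by rw [← hko, e, orderOf_one]))
        (fun l hl hld => by rw [(Nat.prime_dvd_prime_iff_eq hl hr).1 (hko ▸ hld)]; exact hcon.1) with
      ⟨hκ, -⟩ | ⟨h, -⟩
    · exact hgd (kappa_fixed hG hM s hnil hkL hr hko (hκ r hr hko.symm.dvd) hg hgk)
    · exact hcon.2 (h r hr hko.symm.dvd)

theorem false_exp
    (hexp : ∀ u ∈ L, u ^ (t - 1) ∈ (T : Subgroup G) ⊔ (L ⊓ Subgroup.centralizer ((T : Subgroup G) : Set G))) :
    False := by
  classical
  haveI : Fintype G := Fintype.ofFinite G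
  haveI : Fintype L := Fintype.ofFinite L
  haveI := Fact.mk s.prime
  have hTL := T_le hG hM s
  set C := L ⊓ Subgroup.centralizer ((T : Subgroup G) : Set G) with hC
  have h := twoAx_data hG hM s hnil hexp
  haveI := h.normalT
  haveI := h.normalC
  haveI : ((T : Subgroup G).subgroupOf L ⊔ C.subgroupOf L).Normal := Subgroup.sup_normal _ _
  have hRe : (T : Subgroup G).subgroupOf L ⊔ C.subgroupOf L = ((T : Subgroup G) ⊔ C).subgroupOf L :=
    (Subgroup.subgroupOf_sup hTL inf_le_left).symm
  have hsuppR : ∀ z ∈ (T : Subgroup G).subgroupOf L ⊔ C.subgroupOf L, z ≠ 1 → (z : G) ∈ DadeT.supp L := by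
    intro z hz hz1
    exact supp_product hG hM s hnil (Subgroup.mem_subgroupOf.1 (hRe ▸ hz)) fun e => hz1 (Subtype.ext e)
  obtain ⟨B, d2, hd, hdt, hidx, hgood⟩ := h.exists_good hG s.coatomL hsuppR (by
    rintro z hz1 ⟨g, hg, hgd, hgz⟩
    refine supp_fixed hG hM s hnil z.2 (fun e => hz1 (Subtype.ext e)) hg (fun hc => hgd ?_) ?_
    · have : (g : G) ∈ (⁅(T : Subgroup G).subgroupOf L, (T : Subgroup G).subgroupOf L⁆).map L.subtype := by
        rw [Subgroup.map_commutator, Subgroup.subgroupOf_map_subtype, inf_eq_left.2 hTL]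
        exact hc
      obtain ⟨w, hw, he⟩ := this
      rwa [← Subtype.ext he]
    · have := hgz.map L.subtype
      rwa [map_pow, Subgroup.coe_subtype, Nat.card_congr (Subgroup.subgroupOfEquivOfLe hTL).toEquiv] at this)
  have hcardR : Nat.card ((T : Subgroup G).subgroupOf L ⊔ C.subgroupOf L : Subgroup L) =
      Nat.card ((T : Subgroup G) ⊔ C : Subgroup G) := by
    rw [hRe]
    exact Nat.card_congr (Subgroup.subgroupOfEquivOfLe (sup_le hTL inf_le_left)).toEquiv
  refine B.false_of_good hsuppR hidx hG s.coatomL hM s.prime s.order s.tau2.2.1 s.sigmaL s.y_sigma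
    (hTL s.y_mem) (Subgroup.mem_sup_left s.y_mem) s.cent_y hd (by omega) ?_ ?_ ?_ hgood
  · rw [hcardR]
    exact (sq_le hG hM s).trans (Nat.le_of_dvd Nat.card_pos (Subgroup.card_dvd_of_le le_sup_left))
  · rw [hcardR, card_M hG hM s, ← mul_assoc, mul_comm]
    exact Nat.mul_le_mul_left _ (three_mul_le hG hM s hnil)
  · have := s.card_le
    have := three_le hG hM s
    omega

end Cfsg.Agent.OddOrder.CNab
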