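/-
An odd group acting on a plane: when a line has its stabilizer in the kernel `R` and some `(t - 1)`-st power lies
outside `R`, all lines have stabilizer `R`, so `2 |Q : R| ≤ t + 1`.
-/
import Cfsg.Agent.Lib.OddOrder.CentralHost

set_option autoImplicit false
set_option linter.style.haveILetI false
set_option linter.unusedSectionVars false
set_option linter.unusedVariables false

namespace Cfsg.Agent.OddOrder.CNab

open scoped commutatorElement IsMulCommutative Pointwise
open Tau3 (line_pgroup line_ne_bot)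

universe u

variable {Q : Type u} [Group Q] [Finite Q] {t : ℕ} [ht : Fact t.Prime]

/-- The `(t - 1)`-st power of any element centralizes a normal subgroup of order `t`. -/
theorem pow_pred_central {X : Subgroup Q} [X.Normal] (hX : Nat.card X = t) (u : Q) {x : Q} (hx : x ∈ X) :
    u ^ (t - 1) * x * (u ^ (t - 1))⁻¹ = x := by
  haveI : IsCyclic X := isCyclic_of_prime_card hX
  let act : Q →* MulAut X := MulAut.conjNormal
  have h1 : act (u ^ (t - 1)) = 1 := by
    rw [map_pow, show t - 1 = Nat.card (MulAut X) by rw [IsCyclic.card_mulAut, hX, Nat.totient_prime ht.out]]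
    exact pow_card_eq_one'
  exact ((MulAut.conjNormal_apply (u ^ (t - 1)) (⟨x, hx⟩ : X)).symm.trans
    (congrArg (fun z : X => (z : Q)) (DFunLike.congr_fun h1 ⟨x, hx⟩)))

variable {A R Y₀ : Subgroup Q} [A.Normal] [R.Normal]

/-- An invariant line forces exponent `t - 1`. -/
theorem pow_mem_of_line (hA : Nat.card A = t ^ 2) (hcop : R.index.Coprime t) (hY₀A : Y₀ ≤ A)
    (hY₀ : Subgroup.normalizer (Y₀ : Set Q) ≤ R) {X : Subgroup Q} [X.Normal] (hXA : X ≤ A) (hX : Nat.card X = t)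
    (u : Q) : u ^ (t - 1) ∈ R := by
  set w := u ^ (t - 1) with hw
  have h1 : ∀ x ∈ X, w * x * w⁻¹ = x := fun x hx => pow_pred_central hX u hx
  set π := QuotientGroup.mk' X
  haveI : (A.map π).Normal := Subgroup.Normal.map inferInstance π (QuotientGroup.mk'_surjective X)
  have hAX : Nat.card (A.map π) = t := by
    rw [← Subgroup.relIndex_ker, QuotientGroup.ker_mk']
    have h := Subgroup.relIndex_mul_relIndex ⊥ X A bot_le hXA
    rw [Subgroup.relIndex_bot_left, Subgroup.relIndex_bot_left, hX, hA, pow_two] at h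
    exact Nat.eq_of_mul_eq_mul_left ht.out.pos h
  have h2 : ∀ a ∈ A, w * a * w⁻¹ * a⁻¹ ∈ X := by
    intro a ha
    rw [← QuotientGroup.eq_one_iff, show ((w * a * w⁻¹ * a⁻¹ : Q) : Q ⧸ X) = π (w * a * w⁻¹ * a⁻¹) from rfl,
      map_mul, map_mul, map_mul, map_inv, map_inv, hw, map_pow, pow_pred_central hAX (π u) ⟨a, ha, rfl⟩,
      mul_inv_cancel]
  have h3 : ∀ a ∈ A, ∀ k : ℕ, w ^ k * a * (w ^ k)⁻¹ = (w * a * w⁻¹ * a⁻¹) ^ k * a := by
    intro a ha k
    induction k with
    | zero => simp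
    | succ k ih =>
      calc w ^ (k + 1) * a * (w ^ (k + 1))⁻¹ = w * (w ^ k * a * (w ^ k)⁻¹) * w⁻¹ := by rw [pow_succ']; group
        _ = (w * (w * a * w⁻¹ * a⁻¹) ^ k * w⁻¹) * (w * a * w⁻¹) := by rw [ih]; group
        _ = (w * a * w⁻¹ * a⁻¹) ^ (k + 1) * a := by
          rw [h1 _ (X.pow_mem (h2 a ha) k), pow_succ]
          simp only [mul_assoc, inv_mul_cancel, mul_one]
  have h4 : w ^ t ∈ R := by
    refine hY₀ (Subgroup.centralizer_le_normalizer _ (Subgroup.mem_centralizer_iff.2 fun a ha => ?_))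
    have h := h3 a (hY₀A ha) t
    rw [show (w * a * w⁻¹ * a⁻¹) ^ t = 1 from orderOf_dvd_iff_pow_eq_one.1
      (hX ▸ Subgroup.orderOf_dvd_natCard _ (h2 a (hY₀A ha))), one_mul] at h
    exact (mul_inv_eq_iff_eq_mul.1 h).symm
  refine (QuotientGroup.eq_one_iff _).1 (orderOf_eq_one_iff.1 (Nat.eq_one_of_dvd_coprimes hcop
    (orderOf_dvd_of_pow_eq_one ?_) (orderOf_dvd_of_pow_eq_one ?_)))
  · rw [← QuotientGroup.mk_pow]; exact (QuotientGroup.eq_one_iff _).2 (Subgroup.pow_index_mem R w)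
  · rw [← QuotientGroup.mk_pow]; exact (QuotientGroup.eq_one_iff _).2 h4

/-- Every line has stabilizer `R`. -/
theorem line_stabilizer (hodd : Odd (Nat.card Q)) (hAe : Cfsg.IsElementaryAbelian t A) (hA : Nat.card A = t ^ 2)
    (hab : ∀ u v : Q, u * v * u⁻¹ * v⁻¹ ∈ R) (hR : R ≤ Subgroup.centralizer (A : Set Q))
    (hcop : R.index.Coprime t) (hY₀A : Y₀ ≤ A)
    (hY₀ : Subgroup.normalizer (Y₀ : Set Q) ≤ R) (hex : ∃ u : Q, u ^ (t - 1) ∉ R)
    {X : Subgroup Q} (hXA : X ≤ A) (hX : Nat.card X = t) : Subgroup.normalizer (X : Set Q) = R := by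
  have hRn : ∀ Y : Subgroup Q, Y ≤ A → R ≤ Subgroup.normalizer (Y : Set Q) := fun Y hY =>
    (hR.trans (Subgroup.centralizer_le hY)).trans (Subgroup.centralizer_le_normalizer _)
  refine le_antisymm (fun u hu => ?_) (hRn X hXA)
  obtain ⟨v, hv⟩ : ∃ v, v ∉ Subgroup.normalizer (X : Set Q) := by
    by_contra h
    push Not at h
    haveI : X.Normal := Subgroup.normalizer_eq_top_iff.1 (eq_top_iff.2 fun q _ => h q)
    obtain ⟨w, hw⟩ := hex
    exact hw (pow_mem_of_line hA hcop hY₀A hY₀ hXA hX w)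
  let c : Q → Subgroup Q := fun g => X.map (MulAut.conj g).toMonoidHom
  have hc1 : c 1 = X := Sigma.map_conj_one _
  have hcA : ∀ g, c g ≤ A := by
    rintro g _ ⟨x, hx, rfl⟩
    exact ‹A.Normal›.conj_mem x (hXA hx) g
  have hcc : ∀ g, Nat.card (c g) = t := fun g => by
    rw [Subgroup.card_map_of_injective (MulAut.conj g).injective, hX]
  have hne : ∀ g h : Q, g⁻¹ * h ∉ Subgroup.normalizer (X : Set Q) → c g ≠ c h := fun g h hgh e => hgh
    (Subgroup.mem_normalizer_iff_map_conj_eq.2 (by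
      show X.map (MulAut.conj (g⁻¹ * h)).toMonoidHom = X
      rw [← Sigma.map_conj_map, show X.map (MulAut.conj h).toMonoidHom = c g from e.symm, Sigma.map_conj_map,
        inv_mul_cancel, Sigma.map_conj_one]))
  have hv2 : v ^ 2 ∉ Subgroup.normalizer (X : Set Q) := fun h => hv (by
    obtain ⟨i, hi⟩ := hodd.of_dvd_nat (orderOf_dvd_natCard v)
    have : v = (v ^ 2) ^ (i + 1) := by
      rw [← pow_mul, show 2 * (i + 1) = orderOf v + 1 by omega, pow_succ, pow_orderOf_eq_one, one_mul]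
    rw [this]
    exact pow_mem h _)
  have hfix : ∀ g, u ∈ Subgroup.normalizer (c g : Set Q) := by
    intro g
    refine Subgroup.mem_normalizer_iff_map_conj_eq.2 ?_
    show (c g).map (MulAut.conj u).toMonoidHom = c g
    have hm : g⁻¹ * u * g ∈ Subgroup.normalizer (X : Set Q) := by
      have h := mul_mem (hRn X hXA (hab g⁻¹ u)) hu
      rwa [inv_inv, show g⁻¹ * u * g * u⁻¹ * u = g⁻¹ * u * g by group] at h
    simp only [c]
    rw [Sigma.map_conj_map, show u * g = g * (g⁻¹ * u * g) by group, ← Sigma.map_conj_map]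
    exact congrArg (Subgroup.map (MulAut.conj g).toMonoidHom) (Subgroup.mem_normalizer_iff_map_conj_eq.1 hm)
  refine hY₀ (TauTwoAb.fix_all_of_three hAe hA (hcc 1) (hcc v) (hcc (v ^ 2)) (hcA 1) (hcA v) (hcA _)
    (hne 1 v (by simpa using hv)) (hne 1 (v ^ 2) (by simpa using hv2)) (hne v (v ^ 2) (by simpa [pow_two] using hv))
    (hfix _) (hfix _) (hfix _) hY₀A)

/-- The bound on the index. -/
theorem two_index_le (hodd : Odd (Nat.card Q)) (hAe : Cfsg.IsElementaryAbelian t A) (hA : Nat.card A = t ^ 2)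
    (hab : ∀ u v : Q, u * v * u⁻¹ * v⁻¹ ∈ R) (hR : R ≤ Subgroup.centralizer (A : Set Q))
    (hcop : R.index.Coprime t) (hY₀A : Y₀ ≤ A) (hY₀ : Subgroup.normalizer (Y₀ : Set Q) ≤ R)
    (hex : ∃ u : Q, u ^ (t - 1) ∉ R) (ht2 : t ≠ 2) : 2 * R.index ≤ t + 1 := by
  classical
  obtain ⟨LS, hLS, hcard⟩ := Central.card_lines hAe hA
  let Ω := {X : Subgroup Q // X ≤ A ∧ Nat.card X = t}
  letI : MulAction Q Ω :=
    { smul := fun g X => ⟨X.1.map (MulAut.conj g).toMonoidHom, by
        rintro _ ⟨x, hx, rfl⟩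
        exact ‹A.Normal›.conj_mem x (X.2.1 hx) g, by
        rw [Subgroup.card_map_of_injective (MulAut.conj g).injective, X.2.2]⟩
      one_smul := fun X => Subtype.ext (Sigma.map_conj_one _)
      mul_smul := fun g h X => Subtype.ext (Sigma.map_conj_map _ _ _).symm }
  have hstab : ∀ X : Ω, MulAction.stabilizer Q X = R := by
    intro X
    rw [← line_stabilizer hodd hAe hA hab hR hcop hY₀A hY₀ hex X.2.1 X.2.2]
    ext g
    rw [MulAction.mem_stabilizer_iff, Subgroup.mem_normalizer_iff_map_conj_eq]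
    exact Subtype.ext_iff
  have hΩ : Nat.card Ω = t + 1 := by
    rw [← hcard, ← Nat.card_eq_finsetCard LS]
    exact Nat.card_congr (Equiv.subtypeEquivRight fun X => (hLS X).symm)
  have hdvd : R.index ∣ t + 1 := by
    rw [← hΩ, Nat.card_congr (MulAction.selfEquivSigmaOrbitsQuotientStabilizer Q Ω)]
    haveI : Finite (Quotient (MulAction.orbitRel Q Ω)) := inferInstance
    letI := Fintype.ofFinite (Quotient (MulAction.orbitRel Q Ω))
    rw [Nat.card_sigma]
    refine Finset.dvd_sum fun ω _ => ?_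
    rw [← Subgroup.index_eq_card, hstab]
  obtain ⟨i, hi⟩ := hdvd
  obtain ⟨j, hj⟩ := hodd.of_dvd_nat R.index_dvd_card
  rcases i with _ | _ | i
  · omega
  · obtain ⟨l, hl⟩ := ht.out.odd_of_ne_two ht2
    omega
  · nlinarith

end Cfsg.Agent.OddOrder.CNab
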