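/-
A central element of order `t ∈ τ₂(M)` with nonabelian Sylow subgroups, nilpotent host with operators not of exponent
dividing `t - 1`: contradiction by the family of the extraspecial part.
-/
import Cfsg.Agent.Lib.OddOrder.CentralNonabA
import Cfsg.Agent.Lib.OddOrder.CentralNonabLines
import Cfsg.Agent.Lib.OddOrder.CentralFamily
import Cfsg.Agent.S1412

set_option autoImplicit false
set_option linter.style.haveILetI false
set_option linter.unusedSectionVars false
set_option linter.unusedSimpArgs false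
set_option linter.unusedVariables false

namespace Cfsg.Agent.OddOrder.CNab

open scoped commutatorElement IsMulCommutative Pointwise
open Exceptional TauOne Kappa Support
open Pairing (exists_pi_parts mem_sigmaCore_of_primes)

universe u

variable {G : Type u} [Group G] [Finite G] {M E L : Subgroup G} {y : G} {t : ℕ} {T : Sylow t G}
variable (hG : Cfsg.IsMinSimpleOddOrder G) (hM : IsCoatom M) (s : Setup M E L y t T)
variable (hnil : Group.IsNilpotent (Cfsg.sigmaCore L))
include hG hM s hnil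

/-- In rank three the exponent divides `t - 1`. -/
theorem rank_two (hexp : ¬ ∀ u ∈ L, u ^ (t - 1) ∈
      (T : Subgroup G) ⊔ (L ⊓ Subgroup.centralizer ((T : Subgroup G) : Set G))) :
    Cfsg.PRankLE t 2 (T : Subgroup G) := by
  haveI := Fact.mk s.prime
  by_contra hr
  refine hexp fun u hu => ?_
  have hTL := T_le hG hM s
  set C := L ⊓ Subgroup.centralizer ((T : Subgroup G) : Set G) with hC
  set T' := (T : Subgroup G).subgroupOf L
  haveI : T'.Normal := Subgroup.normal_subgroupOf_of_le_normalizer (T_normal hG hM s hnil)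
  haveI : (C.subgroupOf L).Normal := Subgroup.normal_subgroupOf_of_le_normalizer (cent_normal hG hM s hnil)
  haveI : (T' ⊔ C.subgroupOf L).Normal := Subgroup.sup_normal _ _
  have hr' : ¬ Cfsg.PRankLE t 2 T' := fun h => hr fun A hA hAp => by
    haveI := hA
    let e : (T : Subgroup G) →* T' := (Subgroup.subgroupOfEquivOfLe hTL).symm.toMonoidHom
    have he : Function.Injective e := (Subgroup.subgroupOfEquivOfLe hTL).symm.injective
    refine (Nat.card_congr (A.equivMapOfInjective e he).toEquiv).trans_le (h _ inferInstance ?_)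
    rintro _ ⟨a, ha, rfl⟩
    rw [← map_pow, hAp a ha, map_one]
  let act : L →* MulAut T' := MulAut.conjNormal
  let x : L := ⟨u, hu⟩
  have hdvd := NarrowGroup.orderOf_dvd (p := t) (R := T') (A := act.range)
    (by have := three_le hG hM s; omega) T.isPGroup'.comap_subtype
    (NarrowSolvable.isNarrow_of_equiv (Subgroup.subgroupOfEquivOfLe hTL).symm (narrow hG hM s)) hr'
    act.range.subtype act.range.subtype_injective (a := act.rangeRestrict (x ^ Nat.card T'))
    (Nat.Coprime.coprime_dvd_left (orderOf_dvd_of_pow_eq_one (show act.rangeRestrict (x ^ Nat.card T') ^ T'.index = 1 by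
      rw [← map_pow, ← pow_mul, T'.card_mul_index, pow_card_eq_one', map_one])) (cop_index hG hM s))
  have h1 : act ((x ^ Nat.card T') ^ (t - 1)) = 1 := by
    rw [map_pow]
    exact congrArg (fun z : act.range => (z : MulAut T')) (orderOf_dvd_iff_pow_eq_one.1 hdvd)
  have h2 : (x ^ (t - 1)) ^ Nat.card T' ∈ T' ⊔ C.subgroupOf L := by
    rw [← pow_mul, mul_comm, pow_mul]
    refine Subgroup.mem_sup_right ⟨((x ^ Nat.card T') ^ (t - 1)).2, Subgroup.mem_centralizer_iff.2 fun a ha => ?_⟩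
    have he := (MulAut.conjNormal_apply ((x ^ Nat.card T') ^ (t - 1)) (⟨⟨a, hTL ha⟩, ha⟩ : T')).symm.trans
      (congrArg (fun z : T' => (z : L)) (DFunLike.congr_fun h1 (⟨⟨a, hTL ha⟩, ha⟩ : T')))
    exact congrArg (fun z : L => (z : G)) (mul_inv_eq_iff_eq_mul.1 he).symm
  have h3 : (x ^ (t - 1)) ^ T'.index ∈ T' ⊔ C.subgroupOf L := Subgroup.mem_sup_left (Subgroup.pow_index_mem T' _)
  have h4 : x ^ (t - 1) ∈ T' ⊔ C.subgroupOf L := by
    refine (QuotientGroup.eq_one_iff _).1 (orderOf_eq_one_iff.1 (Nat.eq_one_of_dvd_coprimes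
      (show (Nat.card T').Coprime T'.index from ?_) (orderOf_dvd_of_pow_eq_one ?_) (orderOf_dvd_of_pow_eq_one ?_)))
    · rw [Nat.card_congr (Subgroup.subgroupOfEquivOfLe hTL).toEquiv]
      exact T_card_cop hG hM s
    · rw [← QuotientGroup.mk_pow]; exact (QuotientGroup.eq_one_iff _).2 h2
    · rw [← QuotientGroup.mk_pow]; exact (QuotientGroup.eq_one_iff _).2 h3
  rw [← Subgroup.subgroupOf_sup hTL inf_le_left] at h4
  exact h4

theorem false_not_exp (hexp : ¬ ∀ u ∈ L, u ^ (t - 1) ∈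
      (T : Subgroup G) ⊔ (L ⊓ Subgroup.centralizer ((T : Subgroup G) : Set G))) : False := by
  classical
  haveI : Fintype G := Fintype.ofFinite G
  haveI := Fact.mk s.prime
  have hTL := T_le hG hM s
  set C := L ⊓ Subgroup.centralizer ((T : Subgroup G) : Set G) with hC
  set R := (T : Subgroup G) ⊔ C with hR
  rcases S1412.result hG t T (rank_two hG hM s hnil hexp) with h | ⟨P₁, P₂, hsup, hc12, hnc, hc1, hexp1, hcyc, hΩ⟩
  · exact s.noncomm h
  have hP₁T : P₁ ≤ T := le_sup_left.trans hsup.le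
  have hP₂T : P₂ ≤ T := le_sup_right.trans hsup.le
  have hpow : ∀ a ∈ P₁, a ^ t = 1 := fun a ha => by
    have := Monoid.pow_exponent_eq_one (⟨a, ha⟩ : P₁)
    rw [hexp1] at this
    exact congrArg (fun z : P₁ => (z : G)) this
  -- the elements of order dividing `t`
  have hmemP : ∀ x ∈ (T : Subgroup G), x ^ t = 1 → x ∈ P₁ := by
    intro x hx hxt
    obtain ⟨a, ha, b, hb, rfl⟩ := (SolvBasic.mem_sup_iff_of_le_normalizer
      (show P₂ ≤ Subgroup.normalizer (P₁ : Set G) from fun b hb => Subgroup.centralizer_le_normalizer _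
        (Subgroup.mem_centralizer_iff.2 fun a ha => hc12 a ha b hb))).1 (hsup.ge hx : x ∈ P₁ ⊔ P₂)
    refine P₁.mul_mem ha ((hΩ.le (Subgroup.subset_closure ⟨hb, ?_⟩)).1)
    rwa [(show Commute a b from hc12 a ha b hb).mul_pow, hpow a ha, one_mul] at hxt
  have hnP : L ≤ Subgroup.normalizer (P₁ : Set G) := fun g hg => by
    refine ComplAbelian.mem_normalizer_of_map_le ?_
    intro x hx
    refine hmemP _ ((Subgroup.mem_normalizer_iff.1 (T_normal hG hM s hnil hg) x).1 (hP₁T hx)) ?_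
    show (g * x * g⁻¹) ^ t = 1
    rw [conj_pow, hpow x hx, mul_one, mul_inv_cancel]
  set O := P₁ ⊓ Subgroup.centralizer (P₁ : Set G) with hO
  have hnO : L ≤ Subgroup.normalizer (O : Set G) := fun g hg => by
    refine ComplAbelian.mem_normalizer_of_map_le ?_
    intro x hx
    have hn := hnP hg
    refine ⟨(Subgroup.mem_normalizer_iff.1 hn x).1 hx.1, Subgroup.mem_centralizer_iff.2 fun a ha => ?_⟩
    have ha' : g⁻¹ * a * g ∈ P₁ := by
      have := (Subgroup.mem_normalizer_iff.1 (hnP (L.inv_mem hg)) a).1 ha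
      rwa [inv_inv] at this
    show a * (g * x * g⁻¹) = g * x * g⁻¹ * a
    calc a * (g * x * g⁻¹) = g * ((g⁻¹ * a * g) * x) * g⁻¹ := by group
      _ = g * (x * (g⁻¹ * a * g)) * g⁻¹ := by rw [Subgroup.mem_centralizer_iff.1 hx.2 _ ha']
      _ = g * x * g⁻¹ * a := by group
  have hyt : y ^ t = 1 := s.order ▸ pow_orderOf_eq_one y
  have hyP : y ∈ P₁ := hmemP y s.y_mem hyt
  have hyO : y ∉ O := fun h => s.not_central (by
    rw [← hsup, ← s.cent_y]
    refine sup_le (fun a ha => ?_) fun b hb => ?_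
    · exact Subgroup.mem_centralizer_singleton_iff.2 (Subgroup.mem_centralizer_iff.1 h.2 a ha)
    · exact Subgroup.mem_centralizer_singleton_iff.2 (hc12 y hyP b hb).symm)
  -- the order of `O`
  have hOc : Nat.card O = t := by
    set K := P₁ ⊓ Subgroup.centralizer ({y} : Set G)
    have hOK : O ≤ K := fun x hx => ⟨hx.1, Subgroup.mem_centralizer_singleton_iff.2
      (Subgroup.mem_centralizer_iff.1 hx.2 y hyP).symm⟩
    have hyK : y ∈ K := ⟨hyP, Subgroup.mem_centralizer_singleton_iff.2 rfl⟩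
    have hlt1 : Nat.card O < Nat.card K := by
      refine lt_of_le_of_ne (Nat.le_of_dvd Nat.card_pos (Subgroup.card_dvd_of_le hOK)) fun e => hyO ?_
      rw [Subgroup.eq_of_le_of_card_ge hOK e.ge]
      exact hyK
    have hlt2 : Nat.card K < Nat.card P₁ := by
      refine lt_of_le_of_ne (Nat.le_of_dvd Nat.card_pos (Subgroup.card_dvd_of_le inf_le_left)) fun e => hyO ?_
      refine ⟨hyP, Subgroup.mem_centralizer_iff.2 fun a ha => ?_⟩
      exact (Subgroup.mem_centralizer_singleton_iff.1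
        ((Subgroup.eq_of_le_of_card_ge (inf_le_left : K ≤ P₁) e.ge).ge ha).2)
    obtain ⟨i, -, hi⟩ := (Nat.dvd_prime_pow s.prime).1 (hc1 ▸ Subgroup.card_dvd_of_le (inf_le_left : O ≤ P₁))
    obtain ⟨j, -, hj⟩ := (Nat.dvd_prime_pow s.prime).1 (hc1 ▸ Subgroup.card_dvd_of_le (inf_le_left : K ≤ P₁))
    have hi0 : i ≠ 0 := by
      intro e
      have hbot : O = ⊥ := Subgroup.card_eq_one.1 (by rw [hi, e, pow_zero])
      haveI : Nontrivial P₁ := Finite.one_lt_card_iff_nontrivial.1 (by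
        rw [hc1]; exact Nat.one_lt_pow (by norm_num) s.prime.one_lt)
      haveI := (IsPGroup.of_card hc1).center_nontrivial
      obtain ⟨x, hx⟩ := exists_ne (1 : Subgroup.center P₁)
      refine hx (Subtype.ext (Subtype.ext (Subgroup.mem_bot.1 (hbot.le ⟨(x : P₁).2, ?_⟩))))
      exact Subgroup.mem_centralizer_iff.2 fun a ha =>
        congrArg (fun z : P₁ => (z : G)) (Subgroup.mem_center_iff.1 x.2 ⟨a, ha⟩)
    rw [hi, hj] at hlt1
    rw [hj, hc1] at hlt2
    have := (Nat.pow_lt_pow_iff_right s.prime.one_lt).1 hlt1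
    have := (Nat.pow_lt_pow_iff_right s.prime.one_lt).1 hlt2
    rw [hi, show i = 1 by omega, pow_one]
  have hOP : O ≤ P₁ := inf_le_left
  have hrelOP : O.relIndex P₁ = t ^ 2 := by
    have h := Subgroup.relIndex_mul_relIndex ⊥ O P₁ bot_le hOP
    rw [Subgroup.relIndex_bot_left, Subgroup.relIndex_bot_left, hOc, hc1, pow_succ'] at h
    exact Nat.eq_of_mul_eq_mul_left s.prime.pos h
  have hRL : R ≤ L := sup_le hTL inf_le_left
  have hnR : L ≤ Subgroup.normalizer (R : Set G) := fun g hg => by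
    refine Subgroup.mem_normalizer_iff_map_conj_eq.2 (show R.map (MulAut.conj g).toMonoidHom = R from ?_)
    rw [hR, Subgroup.map_sup, show (T : Subgroup G).map (MulAut.conj g).toMonoidHom = T from
      Subgroup.mem_normalizer_iff_map_conj_eq.1 (T_normal hG hM s hnil hg), show C.map (MulAut.conj g).toMonoidHom = C from
      Subgroup.mem_normalizer_iff_map_conj_eq.1 (cent_normal hG hM s hnil hg)]
  -- the quotient by `O`
  haveI : (O.subgroupOf L).Normal := Subgroup.normal_subgroupOf_of_le_normalizer hnO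
  haveI : (P₁.subgroupOf L).Normal := Subgroup.normal_subgroupOf_of_le_normalizer hnP
  haveI : (R.subgroupOf L).Normal := Subgroup.normal_subgroupOf_of_le_normalizer hnR
  set π := QuotientGroup.mk' (O.subgroupOf L) with hπdef
  have hπ : ∀ {x : L}, π x = 1 ↔ (x : G) ∈ O := fun {x} => (QuotientGroup.eq_one_iff x).trans Subgroup.mem_subgroupOf
  have hsurj : Function.Surjective π := QuotientGroup.mk'_surjective _
  have hOR : O.subgroupOf L ≤ R.subgroupOf L := Subgroup.comap_mono (hOP.trans (hP₁T.trans le_sup_left))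
  have hker : π.ker ≤ R.subgroupOf L := by rw [hπdef, QuotientGroup.ker_mk']; exact hOR
  set A := (P₁.subgroupOf L).map π with hAdef
  set RQ := (R.subgroupOf L).map π with hRQdef
  haveI : A.Normal := Subgroup.Normal.map inferInstance π hsurj
  haveI : RQ.Normal := Subgroup.Normal.map inferInstance π hsurj
  have hmemR : ∀ {x : L}, π x ∈ RQ ↔ (x : G) ∈ R := fun {x} => by
    constructor
    · intro h
      have h' : x ∈ ((R.subgroupOf L).map π).comap π := h
      rwa [Subgroup.comap_map_eq_self hker] at h'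
    · exact fun h => ⟨x, h, rfl⟩
  have hidx : RQ.index = R.relIndex L := Subgroup.index_map_eq _ hsurj hker
  have hAc : Nat.card A = t ^ 2 := by
    rw [hAdef, ← Subgroup.relIndex_ker, hπdef, QuotientGroup.ker_mk',
      Subgroup.relIndex_subgroupOf (hP₁T.trans hTL), hrelOP]
  have hAcomm : IsMulCommutative A :=
    .of_setLike_mul_comm fun a ha b hb =>
      congrArg Subtype.val (IsPGroup.commutative_of_card_eq_prime_sq hAc ⟨a, ha⟩ ⟨b, hb⟩)
  have hAe : Cfsg.IsElementaryAbelian t A := ⟨hAcomm, by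
    rintro _ ⟨x, hx, rfl⟩
    rw [← map_pow, show x ^ t = 1 from Subtype.ext (hpow _ hx), map_one]⟩
  -- the images of the three parts commute
  set P₂' := (P₂.subgroupOf L).map π
  set C' := (C.subgroupOf L).map π
  have hRQ : RQ = A ⊔ P₂' ⊔ C' := by
    rw [hRQdef, hR, Subgroup.subgroupOf_sup hTL inf_le_left,
      show (T : Subgroup G).subgroupOf L = P₁.subgroupOf L ⊔ P₂.subgroupOf L from by
        rw [← Subgroup.subgroupOf_sup (hP₁T.trans hTL) (hP₂T.trans hTL), hsup],
      Subgroup.map_sup, Subgroup.map_sup]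
  have himg : ∀ {X Y : Subgroup G}, (∀ a ∈ X, ∀ b ∈ Y, a * b = b * a) →
      (X.subgroupOf L).map π ≤ Subgroup.centralizer ((Y.subgroupOf L).map π : Set (L ⧸ O.subgroupOf L)) := by
    rintro X Y h _ ⟨a, ha, rfl⟩
    refine Subgroup.mem_centralizer_iff.2 ?_
    rintro _ ⟨b, hb, rfl⟩
    rw [← map_mul, ← map_mul]
    exact congrArg π (Subtype.ext (h _ ha _ hb).symm)
  have hT : ∀ {Z : Subgroup G}, Z ≤ T → ∀ a ∈ Z, ∀ c ∈ C, a * c = c * a :=
    fun hZ a ha c hc => Subgroup.mem_centralizer_iff.1 hc.2 a (hZ ha)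
  have hRcomm : RQ ≤ Subgroup.centralizer (RQ : Set (L ⧸ O.subgroupOf L)) := by
    have h0 : RQ ≤ Subgroup.centralizer (A : Set (L ⧸ O.subgroupOf L)) := by
      rw [hRQ]
      exact sup_le (sup_le (haveI := hAcomm; Subgroup.le_centralizer A) (himg fun a ha b hb => (hc12 b hb a ha).symm))
        (himg fun a ha b hb => (hT hP₁T b hb a ha).symm)
    have h1 : RQ ≤ Subgroup.centralizer (P₂' : Set (L ⧸ O.subgroupOf L)) := by
      rw [hRQ]
      exact sup_le (sup_le (himg hc12) (himg fun a ha b hb =>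
        congrArg Subtype.val (haveI := hcyc; haveI : IsMulCommutative P₂ := IsCyclic.isMulCommutative
          mul_comm' (⟨a, ha⟩ : P₂) ⟨b, hb⟩)))
        (himg fun a ha b hb => (hT hP₂T b hb a ha).symm)
    have h2 : RQ ≤ Subgroup.centralizer (C' : Set (L ⧸ O.subgroupOf L)) := by
      rw [hRQ]
      exact sup_le (sup_le (himg (hT hP₁T)) (himg (hT hP₂T)))
        (himg fun a ha b hb => E_comm hG hM s _ (cent_le hG hM s ha) _ (cent_le hG hM s hb))
    rw [Subgroup.le_centralizer_iff]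
    nth_rewrite 1 [hRQ]
    exact sup_le (sup_le (Subgroup.le_centralizer_iff.1 h0) (Subgroup.le_centralizer_iff.1 h1))
      (Subgroup.le_centralizer_iff.1 h2)
  have hab : ∀ a ∈ R, ∀ b ∈ R, a * b * a⁻¹ * b⁻¹ ∈ O := fun a ha b hb => by
    refine (hπ (x := ⟨a, hRL ha⟩ * ⟨b, hRL hb⟩ * (⟨a, hRL ha⟩ : L)⁻¹ * (⟨b, hRL hb⟩ : L)⁻¹)).1 ?_
    rw [map_mul, map_mul, map_mul, map_inv, map_inv,
      Subgroup.mem_centralizer_iff.1 (hRcomm ((hmemR (x := ⟨b, hRL hb⟩)).2 hb)) _ ((hmemR (x := ⟨a, hRL ha⟩)).2 ha),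
      mul_inv_cancel_right, mul_inv_cancel]
  have hAR : A ≤ RQ := hRQ ▸ le_sup_left.trans le_sup_left
  have hcentA : RQ ≤ Subgroup.centralizer (A : Set (L ⧸ O.subgroupOf L)) :=
    hRcomm.trans (Subgroup.centralizer_le hAR)
  -- the stabilizer of the line of `y`
  have hyL : y ∈ L := hTL s.y_mem
  set Y₀ := Subgroup.zpowers (π ⟨y, hyL⟩)
  have hY₀A : Y₀ ≤ A := Subgroup.zpowers_le.2 ⟨⟨y, hyL⟩, hyP, rfl⟩
  have hY₀ : Subgroup.normalizer (Y₀ : Set (L ⧸ O.subgroupOf L)) ≤ RQ := by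
    intro q hq
    obtain ⟨x, rfl⟩ := hsurj q
    obtain ⟨i, hi⟩ := Subgroup.mem_zpowers_iff.1 ((Subgroup.mem_normalizer_iff.1 hq _).1 (Subgroup.mem_zpowers _))
    have hyx : (y ^ i)⁻¹ * ((x : G) * y * (x : G)⁻¹) ∈ O := by
      refine (hπ (x := (⟨y, hyL⟩ ^ i)⁻¹ * (x * ⟨y, hyL⟩ * x⁻¹))).1 ?_
      rw [map_mul, map_inv, map_zpow, map_mul, map_mul, map_inv, ← hi, inv_mul_cancel]
    set z := (y ^ i)⁻¹ * ((x : G) * y * (x : G)⁻¹) with hzdef
    set b := y ^ i
    have hbP : b ∈ P₁ := P₁.zpow_mem hyP i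
    have hbO : b ∉ O := fun hb => hyO (by
      have hz : (x : G) * y * (x : G)⁻¹ ∈ O := by
        have := O.mul_mem hb hyx
        rwa [hzdef, mul_inv_cancel_left] at this
      exact (Subgroup.mem_normalizer_iff.1 (hnO x.2) y).2 hz)
    obtain ⟨w₀, hw₀, hw₀b⟩ : ∃ w₀ ∈ P₁, w₀ * b ≠ b * w₀ := by
      by_contra h
      push Not at h
      exact hbO ⟨hbP, Subgroup.mem_centralizer_iff.2 h⟩
    set z₀ := w₀ * b * w₀⁻¹ * b⁻¹ with hz₀
    have hz₀O : z₀ ∈ O := hab w₀ (le_sup_left (a := (T : Subgroup G)) (hP₁T hw₀)) b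
      (le_sup_left (a := (T : Subgroup G)) (hP₁T hbP))
    have hz₀1 : z₀ ≠ 1 := fun e => hw₀b (by
      rw [hz₀, mul_inv_eq_one, mul_inv_eq_iff_eq_mul] at e
      exact e)
    have hzw : ∀ j : ℕ, w₀ ^ j * b * (w₀ ^ j)⁻¹ = z₀ ^ j * b := by
      intro j
      induction j with
      | zero => simp
      | succ j ih =>
        have hc : w₀ * z₀ ^ j = z₀ ^ j * w₀ := Subgroup.mem_centralizer_iff.1 (O.pow_mem hz₀O j).2 w₀ hw₀
        calc w₀ ^ (j + 1) * b * (w₀ ^ (j + 1))⁻¹ = w₀ * (w₀ ^ j * b * (w₀ ^ j)⁻¹) * w₀⁻¹ := by rw [pow_succ']; group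
          _ = w₀ * z₀ ^ j * b * w₀⁻¹ := by rw [ih]; group
          _ = z₀ ^ j * (z₀ * b) := by
            rw [hc, show z₀ * b = w₀ * b * w₀⁻¹ by rw [hz₀, inv_mul_cancel_right]]; group
          _ = z₀ ^ (j + 1) * b := by rw [pow_succ]; exact (mul_assoc _ _ _).symm
    obtain ⟨j, hj⟩ := mem_powers_iff_mem_zpowers.2 ((Plane.zpowers_eq hOc hz₀O hz₀1).ge hyx)
    have hj' : z₀ ^ j = z := hj
    set w := w₀ ^ j
    have hwP : w ∈ P₁ := P₁.pow_mem hw₀ j
    have hxy : (x : G) * y * (x : G)⁻¹ = w * b * w⁻¹ := by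
      rw [hzw j, hj', ← Subgroup.mem_centralizer_iff.1 hyx.2 b hbP, hzdef, mul_inv_cancel_left]
    have hxw : (w⁻¹ * (x : G)) * y * (w⁻¹ * (x : G))⁻¹ = b := by
      calc (w⁻¹ * (x : G)) * y * (w⁻¹ * (x : G))⁻¹ = w⁻¹ * ((x : G) * y * (x : G)⁻¹) * w := by group
        _ = b := by rw [hxy]; group
    have hN : w⁻¹ * (x : G) ∈ M := by
      rw [← s.normalizer_y]
      refine ComplAbelian.mem_normalizer_of_map_le ?_
      intro a ha
      obtain ⟨k, rfl⟩ := Subgroup.mem_zpowers_iff.1 ha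
      show (w⁻¹ * (x : G)) * y ^ k * (w⁻¹ * (x : G))⁻¹ ∈ Subgroup.zpowers y
      rw [← conj_zpow, hxw]
      exact zpow_mem (zpow_mem (Subgroup.mem_zpowers y) i) k
    have hwT : w ∈ (T : Subgroup G) := hP₁T hwP
    have hE : w⁻¹ * (x : G) ∈ E := s.inter.le ⟨L.mul_mem (L.inv_mem (hTL hwT)) x.2, hN⟩
    refine hmemR.2 ?_
    rw [show (x : G) = w * (w⁻¹ * (x : G)) by group]
    exact R.mul_mem (le_sup_left (a := (T : Subgroup G)) hwT) (E_le_product hG hM s hnil hE)
  have hex : ∃ q : L ⧸ O.subgroupOf L, q ^ (t - 1) ∉ RQ := by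
    push Not at hexp
    obtain ⟨u, hu, hu'⟩ := hexp
    refine ⟨π ⟨u, hu⟩, fun h => hu' ?_⟩
    rw [← map_pow, hmemR] at h
    exact h
  have habQ : ∀ u v : L ⧸ O.subgroupOf L, u * v * u⁻¹ * v⁻¹ ∈ RQ := by
    intro q r
    obtain ⟨u, rfl⟩ := hsurj q
    obtain ⟨v, rfl⟩ := hsurj r
    rw [← map_inv, ← map_inv, ← map_mul, ← map_mul, ← map_mul, hmemR]
    exact commutator_mem_product hG hM s hnil u v
  have hoddQ : Odd (Nat.card (L ⧸ O.subgroupOf L)) :=
    (hG.1.of_dvd_nat L.card_subgroup_dvd_card).of_dvd_nat (Subgroup.card_quotient_dvd_card _)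
  have hcop : RQ.index.Coprime t := by
    rw [hidx]
    exact (cop_index hG hM s).coprime_dvd_left (Subgroup.relIndex_dvd_of_le_left L le_sup_left)
  have ht3 := three_le hG hM s
  have h2d := two_index_le hoddQ hAe hAc habQ hcentA hcop hY₀A hY₀ hex (by omega)
  rw [hidx] at h2d
  have hd3 : 3 ≤ R.relIndex L := by
    have hodd : Odd (R.relIndex L) :=
      hidx ▸ hoddQ.of_dvd_nat RQ.index_dvd_card
    obtain ⟨i, hi⟩ := hodd
    have hne : R.relIndex L ≠ 1 := fun e => hexp fun u hu => Subgroup.relIndex_eq_one.1 e (L.pow_mem hu _)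
    omega
  have hfree : ∀ u ∈ L, u ∉ R → ∀ b ∈ P₁, b ∉ O → u * b * u⁻¹ * b⁻¹ ∉ O := by
    intro u hu huR b hb hbO hcon
    refine huR ((hmemR (x := ⟨u, hu⟩)).1 ?_)
    have hbL : b ∈ L := hTL (hP₁T hb)
    have hb1 : π ⟨b, hbL⟩ ≠ 1 := fun e => hbO ((hπ (x := ⟨b, hbL⟩)).1 e)
    have hbA : π ⟨b, hbL⟩ ∈ A := ⟨⟨b, hbL⟩, hb, rfl⟩
    have hcm : Commute (π ⟨u, hu⟩) (π ⟨b, hbL⟩) := by
      rw [← commutatorElement_eq_one_iff_commute, ← map_commutatorElement, hπ]
      exact hcon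
    rw [← line_stabilizer hoddQ hAe hAc habQ hcentA hcop hY₀A hY₀ hex (Subgroup.zpowers_le.2 hbA)
      (Plane.zpowers_card hAe hbA hb1)]
    refine Subgroup.centralizer_le_normalizer _ (Subgroup.mem_centralizer_iff.2 fun a ha => ?_)
    obtain ⟨k, rfl⟩ := Subgroup.mem_zpowers_iff.1 ha
    exact (hcm.zpow_right k).symm.eq
  have hMcard : Nat.card M ≤ Nat.card (Cfsg.sigmaCore M) * O.relIndex R := by
    rw [card_M hG hM s, mul_comm]
    refine Nat.mul_le_mul_left _ ?_
    have hER : E ≤ R := E_le_product hG hM s hnil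
    have hne : E.relIndex (T : Subgroup G) ≠ 1 := fun h =>
      s.not_central ((Subgroup.relIndex_eq_one.1 h).trans s.compl.1)
    obtain ⟨n, hn⟩ := IsPGroup.iff_card.1 T.isPGroup'
    obtain ⟨k, -, hk⟩ := (Nat.dvd_prime_pow s.prime).1 (hn ▸ E.relIndex_dvd_card (T : Subgroup G))
    have hk0 : k ≠ 0 := fun e => hne (by rw [hk, e, pow_zero])
    have ht_le : t ≤ E.relIndex R :=
      (Nat.le_self_pow hk0 t).trans (hk ▸ Subgroup.relIndex_le_of_le_right le_sup_left Subgroup.index_ne_zero_of_finite)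
    have hcard : E.relIndex R * Nat.card E = t * O.relIndex R := by
      have h1 := Subgroup.relIndex_mul_relIndex ⊥ E R bot_le hER
      have h2 := Subgroup.relIndex_mul_relIndex ⊥ O R bot_le (hOP.trans (hP₁T.trans le_sup_left))
      simp only [Subgroup.relIndex_bot_left] at h1 h2
      rw [mul_comm, h1, ← h2, hOc]
    refine Nat.le_of_mul_le_mul_left ?_ s.prime.pos
    rw [← hcard]
    exact Nat.mul_le_mul_right _ ht_le
  have hcl := s.card_le
  exact CFam.false_of_family hG hM s.coatomL s.prime s.order s.tau2 s.sigmaL s.y_sigma s.cent_y (V := O) (T := P₁)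
    hOP (hP₁T.trans le_sup_left) hRL hnR hnO hnP hyP hyO hab hfree
    (fun z hz hzO => supp_product hG hM s hnil hz fun e => hzO (e ▸ one_mem _))
    hd3 h2d hrelOP.ge hMcard (by omega)

end Cfsg.Agent.OddOrder.CNab
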