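/-
A central element of order `t ∈ τ₂(M)` with nonabelian Sylow subgroups, nonnilpotent host: its structure.
-/
import Cfsg.Agent.Lib.OddOrder.CentralNonabNil
import Cfsg.Agent.Lib.OddOrder.NonNil

set_option autoImplicit false
set_option linter.style.haveILetI false
set_option linter.unusedSectionVars false
set_option linter.unusedSimpArgs false
set_option linter.unusedVariables false

namespace Cfsg.Agent.OddOrder.CNab

open scoped commutatorElement IsMulCommutative Pointwise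
open Exceptional TauOne Kappa Support
open Pairing (exists_pi_parts mem_sigmaCore_of_primes)
open Tau3 (line_pgroup line_ne_bot)

universe u

variable {G : Type u} [Group G] [Finite G]

/-- The structure of a nonnilpotent host `L = K Q D` with `T ≤ D`. -/
structure Host (L K Q D : Subgroup G) (p q t : ℕ) (T : Sylow t G) : Prop where
  prime_p : p.Prime
  cardK : Nat.card K = p
  complK : Cfsg.IsComplIn K (Cfsg.sigmaCore L) L
  prime_q : q.Prime
  ne : t ≠ q
  pgroupQ : IsPGroup q Q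
  normalQ : L ≤ Subgroup.normalizer (Q : Set G)
  complD : Cfsg.IsComplIn Q D (Cfsg.sigmaCore L)
  T_le : (T : Subgroup G) ≤ D
  nilD : Group.IsNilpotent D
  coprime : (Nat.card D).Coprime (Nat.card Q)
  abQ : ∀ a ∈ Q, ∀ b ∈ Q, a * b = b * a
  fixed : ∀ k ∈ K, k ≠ 1 → Cfsg.sigmaCore L ⊓ Subgroup.centralizer ({k} : Set G) ≤ Q
  derived_cent : ⁅D, D⁆ ≤ Subgroup.centralizer (Q : Set G)

variable {M E L : Subgroup G} {y : G} {t : ℕ} {T : Sylow t G}
variable (hG : Cfsg.IsMinSimpleOddOrder G) (hM : IsCoatom M) (s : Setup M E L y t T)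
include hG hM s

theorem exists_host (hnn : ¬ Group.IsNilpotent (Cfsg.sigmaCore L)) :
    ∃ (K Q D : Subgroup G) (p q : ℕ), Host L K Q D p q t T ∧ E ≤ Cfsg.sigmaCore L := by
  haveI := Fintype.ofFinite G
  haveI ht := Fact.mk s.prime
  have hy1 := y_ne hG hM s
  have hEL := E_le hG hM s
  have hTL := T_le hG hM s
  have hTX := T_sigma hG hM s
  obtain ⟨K, U, hKU⟩ := FStruct.exists_decomp hG s.coatomL
  obtain ⟨q, Q, D₀, dd⟩ := NonNil.exists_data hG s.coatomL hKU hnn
  haveI hq := Fact.mk dd.prime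
  have hKc := NonNil.compl_K hG s.coatomL hKU hnn
  have hKp := NonNil.K_prime hG s.coatomL hKU hnn dd
  have hβ := NonNil.mem_beta hG s.coatomL hKU hnn dd
  have htq : t ≠ q := fun e => s.not_beta (e ▸ hβ)
  set X := Cfsg.sigmaCore L with hX
  have hXL : X ≤ L := sigmaCore_le L
  have hQL : Q ≤ L := dd.Q_le.trans hXL
  have hcop₀ : (Nat.card D₀).Coprime (Nat.card Q) := Twist.coprime_of_not_dvd dd.prime dd.pgroup dd.not_dvd
  -- the complement containing `T`
  obtain ⟨D, c, hc, hD, hTD, hmap⟩ : ∃ (D : Subgroup G) (c : G), c ∈ X ∧ Cfsg.IsComplIn Q D X ∧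
      (T : Subgroup G) ≤ D ∧ D = D₀.map (MulAut.conj c⁻¹).toMonoidHom := by
    haveI := MinSimple.isSolvable hG (ne_top_of_le_ne_top s.coatomL.1 hXL)
    obtain ⟨⟨c, hc⟩, hle⟩ := HallSolv.hall_conj_le (G := X) (m := Nat.card D₀) (n := Nat.card Q)
      (by rw [← dd.card_mul, mul_comm]) hcop₀
      (H := D₀.subgroupOf X) (K := (T : Subgroup G).subgroupOf X)
      (Nat.card_congr (Subgroup.subgroupOfEquivOfLe dd.compl.2.1).toEquiv)
      (by
        rw [Nat.card_congr (Subgroup.subgroupOfEquivOfLe hTX).toEquiv]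
        refine Nat.coprime_of_dvd fun r hr h1 h2 => ?_
        obtain ⟨n, hn⟩ := IsPGroup.iff_card.1 T.isPGroup'
        obtain ⟨n', hn'⟩ := IsPGroup.iff_card.1 dd.pgroup
        exact htq (((Nat.prime_dvd_prime_iff_eq hr s.prime).1 (hr.dvd_of_dvd_pow (hn ▸ h1))).symm.trans
          ((Nat.prime_dvd_prime_iff_eq hr dd.prime).1 (hr.dvd_of_dvd_pow (hn' ▸ h2)))))
    refine ⟨D₀.map (MulAut.conj c⁻¹).toMonoidHom, c, hc, ⟨dd.Q_le, ?_, ?_, fun x hx => ?_⟩, fun a ha => ?_, rfl⟩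
    · rintro _ ⟨a, ha, rfl⟩
      exact X.mul_mem (X.mul_mem (X.inv_mem hc) (dd.compl.2.1 ha)) (X.inv_mem (X.inv_mem hc))
    · rw [Subgroup.eq_bot_iff_forall]
      rintro _ ⟨hQ, a, ha, rfl⟩
      have haQ : a ∈ Q := (Subgroup.mem_normalizer_iff.1 (dd.normal (hXL (X.inv_mem hc))) a).2 hQ
      rw [Subgroup.mem_bot.1 (dd.compl.2.2.1.le ⟨haQ, ha⟩), map_one]
    · obtain ⟨a, ha, b, hb, he⟩ := dd.compl.2.2.2 (c * x * c⁻¹) (X.mul_mem (X.mul_mem hc hx) (X.inv_mem hc))
      refine ⟨c⁻¹ * a * c, ?_, c⁻¹ * b * c, ⟨b, hb, by simp⟩, ?_⟩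
      · simpa using (Subgroup.mem_normalizer_iff.1 (dd.normal (hXL (X.inv_mem hc))) a).1 ha
      · calc x = c⁻¹ * (c * x * c⁻¹) * c := by group
          _ = c⁻¹ * a * c * (c⁻¹ * b * c) := by rw [he]; group
    · exact ⟨c * a * c⁻¹, hle (Subgroup.smul_mem_pointwise_smul (⟨a, hTX ha⟩ : X) (MulAut.conj (⟨c, hc⟩ : X))
        ((T : Subgroup G).subgroupOf X) ha), by simp [mul_assoc]⟩
  obtain ⟨-, -, -, hDnil, hfixeq⟩ := NonNil.compl_conj hG s.coatomL hKU hnn dd hD
  have hcop : (Nat.card D).Coprime (Nat.card Q) := by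
    rw [hmap, Subgroup.card_map_of_injective (MulAut.conj c⁻¹).injective]
    exact hcop₀
  have hEX : E ≤ X := by
    intro e he
    obtain ⟨a, b, hab, -, haz, hbz, ha, hb⟩ := exists_pi_parts (Cfsg.sigma L) e
    have hbE : b ∈ E := (Subgroup.zpowers_le.2 he) hbz
    by_cases hb1 : b = 1
    · rw [hab, hb1, mul_one]
      exact mem_sigmaCore_of_primes hG s.coatomL (hEL ((Subgroup.zpowers_le.2 he) haz)) ha
    exfalso
    rcases S1432.result hG L s.coatomL y s.y_sigma hy1 b ⟨hEL hbE, Subgroup.mem_centralizer_singleton_iff.2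
        (E_comm hG hM s b hbE y (y_mem_E hG hM s))⟩ hb1 hb with ⟨-, hle⟩ | ⟨hτ, -⟩
    · exact s.not_le hle
    obtain ⟨r, hr, hrd⟩ := Nat.exists_prime_and_dvd fun e => hb1 (orderOf_eq_one_iff.1 e)
    haveI := Fact.mk hr
    have hrL : r ∣ Nat.card L := hrd.trans (Subgroup.orderOf_dvd_natCard _ (hEL hbE))
    rw [Compl.card_eq hKc] at hrL
    rcases hr.dvd_mul.1 hrL with h | h
    · exact (hτ r hr hrd).2.2.2 (rank_one_of_kappa (hKU.hall.2.1 r hr h))
    · exact (hτ r hr hrd).2.1 (mem_sigma_of_dvd hr h)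
  set Q₀ := Q ⊓ Subgroup.centralizer (D : Set G) with hQ₀
  have hQ₀E : Q₀ ≤ E := fun x hx => s.inter.le ⟨hQL hx.1, s.cent_y.le (Subgroup.mem_centralizer_singleton_iff.2
    (Subgroup.mem_centralizer_iff.1 hx.2 y (hTD s.y_mem)).symm)⟩
  -- `Q₀` is cyclic and central in `X`
  have hQ₀p : IsPGroup q Q₀ := dd.pgroup.to_le inf_le_left
  haveI hQ₀c : IsCyclic Q₀ := by
    refine CyclicSylow.isCyclic_of_isPGroup (hG.1.of_dvd_nat Q₀.card_subgroup_dvd_card) hQ₀p fun B hB hBp => ?_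
    haveI := hB
    by_contra hlt
    set B' := B.map Q₀.subtype with hB'
    have hB'e : Cfsg.IsElementaryAbelian q B' := ⟨inferInstance, by
      rintro _ ⟨b, hb, rfl⟩; rw [← map_pow, hBp b hb, map_one]⟩
    have hB'E : B' ≤ E := (Subgroup.map_subtype_le _).trans hQ₀E
    have hB'c : Nat.card B' = Nat.card B := Subgroup.card_map_of_injective Q₀.subtype_injective
    have hqE : q ∣ Nat.card E := by
      refine (dvd_trans ?_ (Subgroup.card_dvd_of_le hB'E))
      refine ((UniqProp.isPGroup_of_elementary hB'e).card_eq_or_dvd).resolve_left fun e => ?_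
      rw [hB'c] at e
      exact hlt (by rw [e, pow_one]; exact hq.out.one_le)
    have hqσ := not_dvd_complement hG hM s.compl hq.out hqE
    have hr2 : Cfsg.PRankLE q 2 M := by
      by_contra h
      exact hqσ (Sigma.alpha_subset_sigma hG hM ⟨hq.out, h⟩)
    have hr1 : ¬ Cfsg.PRankLE q 1 M := UniqProp.not_rankLE (hB'E.trans s.compl.1) hB'e (k := 1)
      (hB'c ▸ not_le.1 hlt)
    obtain ⟨B₂, hB₂E, hB₂e, hB₂⟩ := TauTwo.exists_plane (p := q) hG hM s.compl ⟨hq.out, hqσ, hr2, hr1⟩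
    exact Central.not_beta_of_plane hG hM hqσ (hB₂E.trans s.compl.1) hB₂e hB₂ L hβ
  have hnQ₀ : L ≤ Subgroup.normalizer (Q₀ : Set G) := by
    rw [hfixeq]
    exact NonNil.fixed_normal hG s.coatomL hKU hnn dd
  have hQ₀Z : ∀ a ∈ Q₀, ∀ x ∈ X, a * x = x * a := by
    obtain ⟨⟨c, hc⟩, hgen⟩ := hQ₀c.exists_generator
    have hconj : ∀ n ∈ L, ∃ i : ℤ, n * c * n⁻¹ = c ^ i := fun n hn => by
      obtain ⟨i, hi⟩ := Subgroup.mem_zpowers_iff.1 (hgen ⟨_, (Subgroup.mem_normalizer_iff.1 (hnQ₀ hn) c).1 hc⟩)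
      exact ⟨i, by simpa using (congrArg Subtype.val hi).symm⟩
    have hle : X ≤ Subgroup.centralizer ({c} : Set G) := by
      refine (Pairing.sigmaCore_le_derived hG s.coatomL hKU).trans (Subgroup.commutator_le.2 fun g hg h hh => ?_)
      obtain ⟨a, ha⟩ := hconj g hg
      obtain ⟨b, hb⟩ := hconj h hh
      have e1 : g * h * c * (g * h)⁻¹ = h * g * c * (h * g)⁻¹ := by
        rw [show g * h * c * (g * h)⁻¹ = g * (h * c * h⁻¹) * g⁻¹ by group,
          show h * g * c * (h * g)⁻¹ = h * (g * c * g⁻¹) * h⁻¹ by group, hb, ← conj_zpow, ha,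
          ← zpow_mul, ← conj_zpow, hb, ← zpow_mul, mul_comm]
      obtain ⟨m, hm⟩ := hconj _ (L.inv_mem (L.mul_mem hh hg))
      have e4 : (g * h) * c ^ m * (g * h)⁻¹ = (h * g) * c ^ m * (h * g)⁻¹ := by
        rw [← conj_zpow, ← conj_zpow, e1]
      rw [← hm] at e4
      refine Subgroup.mem_centralizer_singleton_iff.2 (mul_inv_eq_iff_eq_mul.1 ?_)
      calc ⁅g, h⁆ * c * ⁅g, h⁆⁻¹ = (g * h) * ((h * g)⁻¹ * c * ((h * g)⁻¹)⁻¹) * (g * h)⁻¹ := by
            simp only [commutatorElement_def]; group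
        _ = (h * g) * ((h * g)⁻¹ * c * ((h * g)⁻¹)⁻¹) * (h * g)⁻¹ := e4
        _ = c := by group
    intro a ha x hx
    obtain ⟨i, hi⟩ := Subgroup.mem_zpowers_iff.1 (hgen ⟨a, ha⟩)
    have ha' : c ^ i = a := by simpa using congrArg Subtype.val hi
    rw [← ha']
    exact ((show Commute x c from Subgroup.mem_centralizer_singleton_iff.1 (hle hx)).zpow_right i).symm.eq
  -- `Q` is abelian
  have hQab : ∀ a ∈ Q, ∀ b ∈ Q, a * b = b * a := by
    by_contra hcon
    push Not at hcon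
    obtain ⟨a₁, ha₁, b₁, hb₁, hne⟩ := hcon
    have hpc : ∀ {a b : G}, a ∈ Q → b ∈ Q → a ^ q ∈ Q₀ ∧ a * b * a⁻¹ * b⁻¹ ∈ Q₀ := fun ha hb => by
      rw [hfixeq]; exact NonNil.pow_comm hG s.coatomL hKU hnn dd ha hb
    have hQ₀le : Q₀ ≤ Q := inf_le_left
    have hcq : ∀ {a b : G}, a ∈ Q → b ∈ Q → (a * b * a⁻¹ * b⁻¹) ^ q = 1 := by
      intro a b ha hb
      set e := a * b * a⁻¹ * b⁻¹ with he
      have hce : ∀ x ∈ Q, Commute e x := fun x hx => hQ₀Z e (hpc ha hb).2 x (dd.Q_le hx)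
      have hpw : ∀ i : ℕ, a ^ i * b * (a ^ i)⁻¹ = e ^ i * b := by
        intro i
        induction i with
        | zero => simp
        | succ i ih =>
          calc a ^ (i + 1) * b * (a ^ (i + 1))⁻¹ = a * (a ^ i * b * (a ^ i)⁻¹) * a⁻¹ := by
                rw [pow_succ']; group
            _ = a * e ^ i * b * a⁻¹ := by rw [ih]; group
            _ = e ^ i * (e * b) := by rw [((hce a ha).pow_left i).symm.eq, he]; group
            _ = e ^ (i + 1) * b := by rw [← mul_assoc, ← pow_succ]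
      have h := hpw q
      rw [hQ₀Z _ (hpc ha hb).1 b (dd.Q_le hb), mul_inv_cancel_right] at h
      exact mul_eq_right.1 h.symm
    let C : Subgroup Q :=
      { carrier := {x | (x : G) ∈ Q₀ ∧ (x : G) ^ q = 1}
        one_mem' := ⟨one_mem _, one_pow _⟩
        mul_mem' := fun {u v} hu hv => ⟨mul_mem hu.1 hv.1, by
          rw [Subgroup.coe_mul, (show Commute (u : G) v from hQ₀Z _ hu.1 _ (dd.Q_le v.2)).mul_pow, hu.2, hv.2, one_mul]⟩
        inv_mem' := fun {u} hu => ⟨inv_mem hu.1, by rw [Subgroup.coe_inv, inv_pow, hu.2, inv_one]⟩ }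
    have hCc : Nat.card C = q := by
      have hle : Nat.card C ≤ q := by
        classical
        let f : C → {x : Q₀ // x ^ q = 1} := fun x => ⟨⟨((x : Q) : G), x.2.1⟩, Subtype.ext (by simpa using x.2.2)⟩
        have hinj : Function.Injective f := fun x z h =>
          Subtype.ext (Subtype.ext (congrArg (fun w : {x : Q₀ // x ^ q = 1} => ((w : Q₀) : G)) h))
        haveI := Fintype.ofFinite Q₀
        refine (Nat.card_le_card_of_injective f hinj).trans ?_
        rw [Nat.card_eq_fintype_card, Fintype.card_subtype]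
        exact IsCyclic.card_pow_eq_one_le hq.out.pos
      have hne1 : Nat.card C ≠ 1 := fun e => by
        have hm : (⟨a₁ * b₁ * a₁⁻¹ * b₁⁻¹, hQ₀le (hpc ha₁ hb₁).2⟩ : Q) ∈ C := ⟨(hpc ha₁ hb₁).2, hcq ha₁ hb₁⟩
        rw [Subgroup.card_eq_one.1 e, Subgroup.mem_bot, Subtype.ext_iff] at hm
        exact hne (by simpa [mul_inv_eq_one, mul_inv_eq_iff_eq_mul] using hm)
      obtain ⟨n, hn⟩ := IsPGroup.iff_card.1 (dd.pgroup.to_subgroup C)
      have hn1 : n = 1 := by
        rcases n with _ | _ | n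
        · exact absurd (by simpa using hn) hne1
        · rfl
        · exfalso
          rw [hn] at hle
          have := Nat.le_self_pow (show n + 1 ≠ 0 by omega) q
          have h2 := hq.out.two_le
          rw [pow_succ] at hle
          nlinarith
      rw [hn, hn1, pow_one]
    obtain ⟨k, hk⟩ := Central.index_center_sq hq.out _ Q C le_rfl (fun x hx => Subgroup.mem_center_iff.2 fun g =>
      Subtype.ext (hQ₀Z _ hx.1 _ (dd.Q_le g.2)).symm) hCc
      fun a b => ⟨by simpa using (hpc a.2 b.2).2, by simpa using hcq a.2 b.2⟩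
    set Z := (Subgroup.center Q).map Q.subtype with hZ
    have hZQ : Z ≤ Q := Subgroup.map_subtype_le _
    have hZ₀ : Q₀ ≤ Z := fun x hx => ⟨⟨x, hQ₀le hx⟩, Subgroup.mem_center_iff.2 fun g =>
      Subtype.ext (hQ₀Z x hx _ (dd.Q_le g.2)).symm, rfl⟩
    have hnZ : L ≤ Subgroup.normalizer (Z : Set G) :=
      dd.normal.trans (NTI.normalizer_le_normalizer_char Subgroup.centerCharacteristic)
    have hZeq : Z = Q₀ := by
      by_contra h
      have hlt : Q₀ < Z := lt_of_le_of_ne hZ₀ (Ne.symm h)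
      have hlt' : Z < Q := lt_of_le_of_ne hZQ fun e => hne (by
        obtain ⟨⟨a', ha'⟩, hac, rfl⟩ := (e.ge ha₁ : a₁ ∈ Z)
        exact congrArg Subtype.val (Subgroup.mem_center_iff.1 hac ⟨b₁, hb₁⟩).symm)
      exact NonNil.chief hG s.coatomL hKU hnn dd (hfixeq ▸ hlt) hlt' hnZ
    have hcard := NonNil.fixed_card hG s.coatomL hKU hnn dd
    rw [← hfixeq, ← hZeq, hZ, Subgroup.card_map_of_injective Q.subtype_injective,
      ← Subgroup.card_mul_index (Subgroup.center Q), hk] at hcard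
    have h2 := Nat.pow_right_injective hq.out.two_le (Nat.eq_of_mul_eq_mul_left Nat.card_pos hcard)
    obtain ⟨j, hj⟩ := (hG.1.of_dvd_nat K.card_subgroup_dvd_card : Odd (Nat.card K))
    omega
  -- the derived group of the complement
  have hder : ⁅D, D⁆ ≤ Subgroup.centralizer (Q : Set G) := by
    have hD₀L : D₀ ≤ L := dd.compl.2.1.trans hXL
    have h0 : ∀ z ∈ ⁅D₀, D₀⁆, ∀ a ∈ Q, a * z = z * a := by
      intro z hz a ha
      rw [← Subgroup.map_subgroupOf_eq_of_le hD₀L, ← Subgroup.map_commutator] at hz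
      obtain ⟨z', hz', rfl⟩ := hz
      exact congrArg Subtype.val (Subgroup.mem_centralizer_iff.1
        ((NonNil.setup hG s.coatomL hKU hnn dd).derived_le hz') ⟨a, hQL ha⟩ ha)
    intro z hz
    rw [hmap, ← Subgroup.map_commutator] at hz
    obtain ⟨z₀, hz₀, rfl⟩ := hz
    refine Subgroup.mem_centralizer_iff.2 fun a ha => ?_
    have ha' : c * a * c⁻¹ ∈ Q := (Subgroup.mem_normalizer_iff.1 (dd.normal (hXL hc)) a).1 ha
    have h := (show Commute (c * a * c⁻¹) z₀ from h0 z₀ hz₀ _ ha').map (MulAut.conj c⁻¹).toMonoidHom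
    simpa [MulAut.conj_apply, mul_assoc] using h.eq
  refine ⟨K, Q, D, Nat.card K, q, ⟨hKp, rfl, hKc, dd.prime, htq, dd.pgroup, dd.normal, hD, hTD, hDnil, hcop, hQab,
    fun k hk hk1 => ?_, hder⟩, hEX⟩
  rw [NonNil.prime_fix hG s.coatomL hKU hnn hk hk1]
  exact dd.D_le

end Cfsg.Agent.OddOrder.CNab
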