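/-
A central element of order `t ∈ τ₂(M)` with nonabelian Sylow subgroups, nonnilpotent host: `|K|` divides `t - 1`
and the sections of `L_σ / Q`.
-/
import Cfsg.Agent.Lib.OddOrder.CentralNonabX
import Cfsg.Agent.Lib.OddOrder.CentralNonabA
import Cfsg.Agent.Lib.Solvable.NilpotentFrattini

set_option autoImplicit false
set_option linter.style.haveILetI false
set_option linter.unusedSectionVars false
set_option linter.unusedSimpArgs false
set_option linter.unusedVariables false

namespace Cfsg.Agent.OddOrder.CNab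

open scoped commutatorElement IsMulCommutative Pointwise
open Exceptional TauOne Kappa Support
open Pairing (exists_pi_parts mem_sigmaCore_of_primes)

universe u

/-- The abelian quotient of a noncyclic `t`-group has order divisible by `t ^ 2`. -/
theorem sq_dvd_commutator_index {P : Type u} [Group P] [Finite P] {t : ℕ} [ht : Fact t.Prime] (hP : IsPGroup t P)
    (hnc : ¬ IsCyclic P) : t ^ 2 ∣ (commutator P).index := by
  obtain ⟨k, hk⟩ := hP.index (commutator P)
  rw [hk]
  refine Nat.pow_dvd_pow t ?_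
  by_contra hlt
  haveI := hP.isNilpotent
  refine hnc ?_
  obtain ⟨a, ha⟩ : ∃ a : P, Subgroup.zpowers a ⊔ commutator P = ⊤ := by
    by_cases hk0 : k = 0
    · exact ⟨1, by rw [show commutator P = ⊤ from Subgroup.index_eq_one.1 (by rw [hk, hk0, pow_zero]), sup_top_eq]⟩
    obtain ⟨a, ha⟩ : ∃ a, a ∉ commutator P := by
      by_contra h
      push Not at h
      rw [Subgroup.index_eq_one.2 (eq_top_iff.2 fun x _ => h x), show k = 1 by omega, pow_one] at hk
      exact ht.out.ne_one hk.symm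
    refine ⟨a, Subgroup.index_eq_one.1 ?_⟩
    have h1 := Subgroup.index_dvd_of_le (le_sup_right : commutator P ≤ Subgroup.zpowers a ⊔ commutator P)
    rw [hk, show k = 1 by omega, pow_one] at h1
    refine ((Nat.dvd_prime ht.out).1 h1).resolve_right fun e => ha ?_
    have h2 := Subgroup.relIndex_mul_index (le_sup_right : commutator P ≤ Subgroup.zpowers a ⊔ commutator P)
    rw [e, hk, show k = 1 by omega, pow_one] at h2
    exact Subgroup.relIndex_eq_one.1 (Nat.eq_of_mul_eq_mul_right ht.out.pos (by rw [h2, one_mul]))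
      (Subgroup.mem_sup_left (Subgroup.mem_zpowers a))
  have htop : Subgroup.zpowers a = ⊤ := frattini_nongenerating (eq_top_iff.2
    (ha.ge.trans (sup_le_sup_left (SolvStruct.commutator_le_frattini P) _)))
  exact isCyclic_iff_exists_zpowers_eq_top.2 ⟨a, htop⟩

/-- A nontrivial normal subgroup of a `t`-group meets the centre. -/
theorem meets_center {H : Type u} [Group H] [Finite H] {t : ℕ} [Fact t.Prime] (hH : IsPGroup t H)
    {N : Subgroup H} [hNn : N.Normal] (hN : N ≠ ⊥) : N ⊓ Subgroup.center H ≠ ⊥ := by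
  haveI : Group.IsNilpotent H := hH.isNilpotent
  obtain ⟨n, hn⟩ := Group.IsNilpotent.nilpotent' (G := H)
  intro hbot
  refine hN ?_
  have : ∀ i, N ⊓ Subgroup.upperCentralSeries H i = ⊥ := by
    intro i
    induction i with
    | zero => simp
    | succ i ih =>
      rw [eq_bot_iff]
      intro x hx
      obtain ⟨hxN, hxU⟩ := Subgroup.mem_inf.1 hx
      refine hbot ▸ Subgroup.mem_inf.2 ⟨hxN, Subgroup.mem_center_iff.2 fun y => ?_⟩
      have h1 : x * y * x⁻¹ * y⁻¹ ∈ N ⊓ Subgroup.upperCentralSeries H i :=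
        Subgroup.mem_inf.2 ⟨by
          have := mul_mem hxN (hNn.conj_mem x⁻¹ (inv_mem hxN) y)
          simpa [mul_assoc] using this,
          (Subgroup.mem_upperCentralSeries_succ_iff.1 hxU) y⟩
      rw [ih, Subgroup.mem_bot] at h1
      exact (commutatorElement_eq_one_iff_mul_comm.1 h1).symm
  have := this n
  rwa [hn, inf_top_eq] at this

variable {G : Type u} [Group G] [Finite G] {M E L K Q D : Subgroup G} {y : G} {p q t : ℕ} {T : Sylow t G}
variable (hG : Cfsg.IsMinSimpleOddOrder G) (hM : IsCoatom M) (s : Setup M E L y t T) (d : Host L K Q D p q t T)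
include hG hM s d

theorem D_le_L : D ≤ L := d.complD.2.1.trans (sigmaCore_le L)

/-- Elements of `D` of order prime to `t` are central in `D`. -/
theorem prime_central {v : G} (hv : v ∈ D) (hvt : ¬ t ∣ orderOf v) : ∀ b ∈ D, Commute v b := by
  haveI := Fact.mk s.prime
  have hcT : ∀ {w : G}, w ∈ D → ¬ t ∣ orderOf w → ∀ a ∈ (T : Subgroup G), Commute w a := by
    intro w hw hwt a ha
    refine CN.commute_of_coprime d.nilD hw (d.T_le ha) ?_
    obtain ⟨n, hn⟩ := IsPGroup.iff_card.1 T.isPGroup'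
    exact ((s.prime.coprime_iff_not_dvd.2 hwt).pow_left n).symm.coprime_dvd_right
      (hn ▸ Subgroup.orderOf_dvd_natCard _ ha)
  have hvE : ∀ {w : G}, w ∈ D → ¬ t ∣ orderOf w → w ∈ E := fun hw hwt => s.inter.le ⟨D_le_L hG hM s d hw,
    s.cent_y.le (Subgroup.mem_centralizer_singleton_iff.2 (hcT hw hwt y s.y_mem).eq)⟩
  intro b hb
  obtain ⟨u, w, huw, -, huz, hwz, hu, hw⟩ := exists_pi_parts ({t} : Set ℕ) b
  have huD : u ∈ D := (Subgroup.zpowers_le.2 hb) huz
  have hwD : w ∈ D := (Subgroup.zpowers_le.2 hb) hwz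
  rw [huw]
  refine Commute.mul_right ?_ (E_comm hG hM s v (hvE hv hvt) w (hvE hwD fun h => hw t s.prime h rfl))
  obtain ⟨i, hi⟩ : ∃ i, orderOf u = t ^ i := ⟨_, Nat.eq_prime_pow_of_unique_prime_dvd (orderOf_pos u).ne'
    fun {r} hr hd => hu r hr hd⟩
  refine CN.commute_of_coprime d.nilD hv huD ?_
  rw [hi]
  exact ((s.prime.coprime_iff_not_dvd.2 hvt).pow_left i).symm

/-- Each element of `D` is a product of an element of `T` and a central one. -/
theorem D_decomp {b : G} (hb : b ∈ D) : ∃ u ∈ (T : Subgroup G), ∃ v ∈ D, ¬ t ∣ orderOf v ∧ b = u * v := by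
  haveI := Fact.mk s.prime
  obtain ⟨u, v, huv, -, huz, hvz, hu, hv⟩ := exists_pi_parts ({t} : Set ℕ) b
  have huD : u ∈ D := (Subgroup.zpowers_le.2 hb) huz
  refine ⟨u, ?_, v, (Subgroup.zpowers_le.2 hb) hvz, fun h => hv t s.prime h rfl, huv⟩
  obtain ⟨i, hi⟩ : ∃ i, orderOf u = t ^ i := ⟨_, Nat.eq_prime_pow_of_unique_prime_dvd (orderOf_pos u).ne'
    fun {r} hr hd => hu r hr hd⟩
  let TS : Sylow t D := T.subtype d.T_le
  haveI : (TS : Subgroup D).Normal :=
    (Group.isNilpotent_of_finite_tfae (G := D)).out 0 3 rfl rfl |>.1 d.nilD t ⟨s.prime⟩ TS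
  have hp : IsPGroup t (Subgroup.zpowers (⟨u, huD⟩ : D)) :=
    IsPGroup.of_card (n := i) (by rw [Nat.card_zpowers, Subgroup.orderOf_mk, hi])
  obtain ⟨T', hT'⟩ := hp.exists_le_sylow
  obtain ⟨g, hg⟩ := MulAction.exists_smul_eq D TS T'
  have e : TS = T' := by rw [← hg, Sylow.smul_eq_of_normal]
  have := e.symm ▸ hT' (Subgroup.mem_zpowers _)
  rw [Sylow.coe_subtype] at this
  exact Subgroup.mem_subgroupOf.1 this

theorem derived_D : ⁅D, D⁆ ≤ ⁅(T : Subgroup G), (T : Subgroup G)⁆ := by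
  refine Subgroup.commutator_le.2 fun a ha b hb => ?_
  obtain ⟨u, hu, v, hv, hvt, rfl⟩ := D_decomp hG hM s d ha
  obtain ⟨u', hu', v', hv', hvt', rfl⟩ := D_decomp hG hM s d hb
  have h1 := prime_central hG hM s d hv hvt
  have h2 := prime_central hG hM s d hv' hvt'
  have e : ⁅u * v, u' * v'⁆ = ⁅u, u'⁆ := by
    calc ⁅u * v, u' * v'⁆ = u * (v * (u' * v') * v⁻¹) * u⁻¹ * (u' * v')⁻¹ := by
          rw [commutatorElement_def]; group
      _ = u * u' * (v' * u⁻¹) * (v'⁻¹ * u'⁻¹) := by
          rw [(h1 _ hb).eq, mul_inv_cancel_right]; group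
      _ = u * u' * (u⁻¹ * v') * (v'⁻¹ * u'⁻¹) := by rw [(h2 u (d.T_le hu)).inv_right.eq]
      _ = ⁅u, u'⁆ := by rw [commutatorElement_def]; group
  rw [e]
  exact Subgroup.commutator_mem_commutator hu hu'

/-- `T` meets `L_σ' Q` in `T'`. -/
theorem inter_derived {x : G} (hx : x ∈ (T : Subgroup G)) (hx' : x ∈ ⁅Cfsg.sigmaCore L, Cfsg.sigmaCore L⁆ ⊔ Q) :
    x ∈ ⁅(T : Subgroup G), (T : Subgroup G)⁆ := by
  have hXn : Cfsg.sigmaCore L ≤ Subgroup.normalizer (Q : Set G) := (sigmaCore_le L).trans d.normalQ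
  have hQX : Q ≤ Cfsg.sigmaCore L := d.complD.1
  set X := Cfsg.sigmaCore L
  haveI : (Q.subgroupOf X).Normal := Subgroup.normal_subgroupOf_of_le_normalizer hXn
  let π := QuotientGroup.mk' (Q.subgroupOf X)
  have hD : (D.subgroupOf X).map π = (⊤ : Subgroup X).map π := by
    refine le_antisymm (Subgroup.map_mono le_top) ?_
    rintro _ ⟨z, -, rfl⟩
    obtain ⟨a, ha, b, hb, e⟩ := d.complD.2.2.2 z z.2
    refine ⟨⟨b, d.complD.2.1 hb⟩, hb, ?_⟩
    rw [show z = ⟨a, hQX ha⟩ * ⟨b, d.complD.2.1 hb⟩ from Subtype.ext e, map_mul,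
      show π ⟨a, hQX ha⟩ = 1 from (QuotientGroup.eq_one_iff _).2 ha, one_mul]
  have hle : (⁅X, X⁆ ⊔ Q).subgroupOf X ≤ (⁅D, D⁆.subgroupOf X ⊔ Q.subgroupOf X) := by
    have hcX : ⁅X, X⁆ ≤ X := (Subgroup.le_normalizer_iff_commutator_le_left).1 Subgroup.le_normalizer
    rw [Subgroup.subgroupOf_sup hcX hQX]
    refine sup_le ?_ le_sup_right
    intro z hz
    have hz' : z ∈ ⁅(⊤ : Subgroup X), (⊤ : Subgroup X)⁆ := by
      have h1 : (z : G) ∈ (⁅(⊤ : Subgroup X), (⊤ : Subgroup X)⁆).map X.subtype := by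
        rw [Subgroup.map_commutator, ← MonoidHom.range_eq_map, Subgroup.range_subtype]
        exact hz
      obtain ⟨w, hw, he⟩ := h1
      rwa [← Subtype.ext he]
    have h2 : π z ∈ (⁅D.subgroupOf X, D.subgroupOf X⁆).map π := by
      rw [Subgroup.map_commutator, hD, ← Subgroup.map_commutator]
      exact ⟨z, hz', rfl⟩
    obtain ⟨w, hw, he⟩ := h2
    have hwD : w ∈ ⁅D, D⁆.subgroupOf X := by
      have h3 : (w : G) ∈ (⁅D.subgroupOf X, D.subgroupOf X⁆).map X.subtype := ⟨w, hw, rfl⟩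
      rw [Subgroup.map_commutator, Subgroup.map_subgroupOf_eq_of_le d.complD.2.1] at h3
      exact h3
    have hq : w⁻¹ * z ∈ Q.subgroupOf X := (QuotientGroup.eq_one_iff (w⁻¹ * z)).1 (by
      show π (w⁻¹ * z) = 1
      rw [map_mul, map_inv, he, inv_mul_cancel])
    rw [show z = w * (w⁻¹ * z) by group]
    exact mul_mem (Subgroup.mem_sup_left hwD) (Subgroup.mem_sup_right hq)
  obtain ⟨w, hw, a, ha, e⟩ := Subgroup.mem_sup_of_normal_right.1
    (hle (show (⟨x, d.complD.2.1 (d.T_le hx)⟩ : X) ∈ (⁅X, X⁆ ⊔ Q).subgroupOf X from hx'))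
  have e' : (w : G) * a = x := congrArg Subtype.val e
  have haD : (a : G) ∈ D := by
    have hwD : (w : G) ∈ D := (Subgroup.le_normalizer_iff_commutator_le_left.1 Subgroup.le_normalizer) hw
    rw [show (a : G) = (w : G)⁻¹ * x by rw [← e', inv_mul_cancel_left]]
    exact D.mul_mem (D.inv_mem hwD) (d.T_le hx)
  have ha1 : (a : G) = 1 := Subgroup.mem_bot.1 (d.complD.2.2.1.le ⟨ha, haD⟩)
  rw [← e', ha1, mul_one]
  exact derived_D hG hM s d hw

theorem sq_dvd : t ^ 2 ∣ (⁅Cfsg.sigmaCore L, Cfsg.sigmaCore L⁆ ⊔ Q).relIndex (T : Subgroup G) := by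
  haveI := Fact.mk s.prime
  have h := sq_dvd_commutator_index (P := (T : Subgroup G)) T.isPGroup'
    fun hc => s.noncomm (haveI := hc; IsCyclic.isMulCommutative)
  refine h.trans (Subgroup.index_dvd_of_le fun x hx => ?_)
  obtain ⟨w, hw, he⟩ := (Subgroup.map_subtype_commutator (T : Subgroup G)).ge (inter_derived hG hM s d x.2 hx)
  rwa [← Subtype.ext he]

/-- A normal subgroup of `L` of order `t`, central in `L_σ`. -/
theorem exists_central : ∃ W : Subgroup G, W ≤ (T : Subgroup G) ∧ Nat.card W = t ∧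
    L ≤ Subgroup.normalizer (W : Set G) ∧ (∀ z ∈ W, ∀ x ∈ Cfsg.sigmaCore L, z * x = x * z) := by
  haveI := Fact.mk s.prime
  set X := Cfsg.sigmaCore L with hX
  have hTX := T_sigma hG hM s
  let W : Subgroup G :=
    { carrier := {z | z ∈ X ∧ (∀ x ∈ X, z * x = x * z) ∧ z ^ t = 1}
      one_mem' := ⟨one_mem _, fun x _ => by simp, one_pow _⟩
      mul_mem' := fun {a b} ha hb => ⟨mul_mem ha.1 hb.1, fun x hx => ((show Commute a x from ha.2.1 x hx).mul_left (hb.2.1 x hx)).eq,
        by rw [(show Commute a b from ha.2.1 b hb.1).mul_pow, ha.2.2, hb.2.2, one_mul]⟩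
      inv_mem' := fun {a} ha => ⟨inv_mem ha.1, fun x hx => ((show Commute a x from ha.2.1 x hx).inv_left).eq,
        by rw [inv_pow, ha.2.2, inv_one]⟩ }
  have hWT : W ≤ (T : Subgroup G) := by
    intro z hz
    have hzp : IsPGroup t (Subgroup.zpowers z) := by
      by_cases h1 : z = 1
      · exact IsPGroup.of_card (n := 0) (by rw [Nat.card_zpowers, h1, orderOf_one, pow_zero])
      · exact IsPGroup.of_card (n := 1) (by rw [Nat.card_zpowers, orderOf_eq_prime hz.2.2 h1, pow_one])
    have hn : Subgroup.zpowers z ≤ Subgroup.normalizer ((T : Subgroup G) : Set G) := by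
      refine (Subgroup.zpowers_le.2 (Subgroup.mem_centralizer_iff.2 fun a ha => (hz.2.1 a (hTX ha)).symm)).trans
        (Subgroup.centralizer_le_normalizer _)
    have hsup := hzp.to_sup_of_normal_right' T.isPGroup' hn
    exact (T.is_maximal' hsup le_sup_right).le (Subgroup.mem_sup_left (Subgroup.mem_zpowers z))
  have hyW : y ∉ W := fun h => s.not_central (by
    rw [← s.cent_y]
    exact fun a ha => Subgroup.mem_centralizer_singleton_iff.2 (h.2.1 a (hTX ha)).symm)
  have hWM : W ≤ M := fun z hz => s.cent_y.le (Subgroup.mem_centralizer_singleton_iff.2 (hz.2.1 y (hTX s.y_mem)))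
  have hyt : y ^ t = 1 := s.order ▸ pow_orderOf_eq_one y
  have hWle : Nat.card W ≤ t := by
    set Y := Subgroup.zpowers y
    have hYW : Disjoint W Y := by
      rw [Subgroup.disjoint_def]
      intro z hzW hzY
      by_contra hz1
      refine hyW ?_
      have hY : Nat.card Y = t := by rw [Nat.card_zpowers, s.order]
      have h1 : Y ≤ W := Plane.zpowers_eq hY hzY hz1 ▸ Subgroup.zpowers_le.2 hzW
      exact h1 (Subgroup.mem_zpowers y)
    have hcm : ∀ a : W, ∀ b : Y, Commute (W.subtype a) (Y.subtype b) := fun a b => by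
      obtain ⟨i, hi⟩ := Subgroup.mem_zpowers_iff.1 b.2
      show Commute (a : G) (b : G)
      rw [← hi]
      exact (show Commute (a : G) y from a.2.2.1 y (hTX s.y_mem)).zpow_right i
    let φ := MonoidHom.noncommCoprod W.subtype Y.subtype hcm
    have hinj : Function.Injective φ := (injective_iff_map_eq_one _).2 fun ⟨a, b⟩ h => by
      have h' : (a : G) * b = 1 := h
      have ha : (a : G) ∈ Y := by rw [eq_inv_of_mul_eq_one_left h']; exact Y.inv_mem b.2
      have ha1 : (a : G) = 1 := Subgroup.disjoint_def.1 hYW a.2 ha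
      rw [ha1, one_mul] at h'
      exact Prod.ext (Subtype.ext ha1) (Subtype.ext h')
    have hrange : φ.range ≤ M := by
      rw [MonoidHom.noncommCoprod_range, Subgroup.range_subtype, Subgroup.range_subtype]
      exact sup_le hWM (Subgroup.zpowers_le.2 (s.cent_y.le (Subgroup.mem_centralizer_singleton_iff.2 rfl)))
    have hrank := s.tau2.2.2.1 (φ.range.subgroupOf M) (.of_setLike_mul_comm (by
        rintro a ⟨⟨w, b⟩, ha⟩ c ⟨⟨w', b'⟩, hc⟩
        refine Subtype.ext ?_
        show (a : G) * c = c * a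
        rw [show (a : G) = φ (w, b) from ha.symm, show (c : G) = φ (w', b') from hc.symm, ← map_mul, ← map_mul]
        haveI : IsMulCommutative Y := inferInstance
        congr 1
        refine Prod.ext (Subtype.ext (w.2.2.1 _ w'.2.1)) (mul_comm' b b'))) (by
        rintro a ⟨⟨w, b⟩, ha⟩
        refine Subtype.ext ?_
        show (a : G) ^ t = 1
        rw [show (a : G) = φ (w, b) from ha.symm, ← map_pow]
        have : ((w, b) : W × Y) ^ t = 1 := Prod.ext (Subtype.ext w.2.2.2) (Subtype.ext (by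
          obtain ⟨i, hi⟩ := Subgroup.mem_zpowers_iff.1 b.2
          show (b : G) ^ t = 1
          rw [← hi, ← zpow_natCast, ← zpow_mul, mul_comm, zpow_mul, zpow_natCast, hyt, one_zpow]))
        rw [this, map_one])
    rw [Nat.card_congr (Subgroup.subgroupOfEquivOfLe hrange).toEquiv,
      ← Nat.card_congr (MonoidHom.ofInjective hinj).toEquiv, Nat.card_prod, Nat.card_zpowers, s.order, pow_two] at hrank
    exact Nat.le_of_mul_le_mul_right hrank s.prime.pos
  -- a central commutator of order `t`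
  have hTbot : (⁅(T : Subgroup G), (T : Subgroup G)⁆).subgroupOf T ≠ ⊥ := by
    intro e
    refine s.noncomm (.of_setLike_mul_comm fun a ha b hb => commutatorElement_eq_one_iff_mul_comm.1 ?_)
    have hm := Subgroup.commutator_mem_commutator ha hb
    exact congrArg Subtype.val (Subgroup.mem_bot.1 (e.le
      (show (⟨⁅a, b⁆, (Subgroup.le_normalizer_iff_commutator_le_left.1 Subgroup.le_normalizer) hm⟩ : (T : Subgroup G)) ∈
        (⁅(T : Subgroup G), (T : Subgroup G)⁆).subgroupOf T from hm)))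
  haveI : ((⁅(T : Subgroup G), (T : Subgroup G)⁆).subgroupOf T).Normal := by
    rw [show (⁅(T : Subgroup G), (T : Subgroup G)⁆).subgroupOf T = commutator (T : Subgroup G) by
      rw [← Subgroup.map_subtype_commutator]
      exact Subgroup.comap_map_eq_self_of_injective (T : Subgroup G).subtype_injective _]
    infer_instance
  obtain ⟨z, hz, hz1, hzC, hzt⟩ : ∃ z, z ∈ ⁅(T : Subgroup G), (T : Subgroup G)⁆ ∧ z ≠ 1 ∧
      (∀ a ∈ (T : Subgroup G), z * a = a * z) ∧ z ^ t = 1 := by
    set N := (⁅(T : Subgroup G), (T : Subgroup G)⁆).subgroupOf T ⊓ Subgroup.center (T : Subgroup G) with hN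
    haveI hnt : Nontrivial N :=
      (Subgroup.nontrivial_iff_ne_bot _).2 (meets_center T.isPGroup' hTbot)
    obtain ⟨n, hn⟩ := IsPGroup.iff_card.1 (T.isPGroup'.to_subgroup N)
    have hn0 : n ≠ 0 := fun e => by
      rw [e, pow_zero] at hn
      exact absurd Finite.one_lt_card (by rw [hn]; omega)
    obtain ⟨z, hz⟩ := exists_prime_orderOf_dvd_card' (G := N) t (hn ▸ dvd_pow_self t hn0)
    refine ⟨((z : (T : Subgroup G)) : G), z.2.1, fun e => s.prime.ne_one ?_, fun a ha => ?_, ?_⟩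
    · rw [← hz, orderOf_eq_one_iff]; exact Subtype.ext (Subtype.ext e)
    · exact (congrArg Subtype.val (Subgroup.mem_center_iff.1 z.2.2 ⟨a, ha⟩)).symm
    · have := hz ▸ pow_orderOf_eq_one z
      exact congrArg (fun w : N => ((w : (T : Subgroup G)) : G)) this
  have hzT : z ∈ (T : Subgroup G) := (Subgroup.le_normalizer_iff_commutator_le_left.1 Subgroup.le_normalizer) hz
  have hzW : z ∈ W := by
    refine ⟨hTX hzT, fun x hx => ?_, hzt⟩
    obtain ⟨a, ha, b, hb, rfl⟩ := d.complD.2.2.2 x hx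
    refine Commute.mul_right ?_ ?_
    · exact (Subgroup.mem_centralizer_iff.1 (d.derived_cent (Subgroup.commutator_mono d.T_le d.T_le hz)) a ha).symm
    · obtain ⟨u, hu, v, hv, hvt, rfl⟩ := D_decomp hG hM s d hb
      exact Commute.mul_right (hzC u hu) (prime_central hG hM s d hv hvt z (d.T_le hzT)).symm
  refine ⟨W, hWT, le_antisymm hWle ?_, fun g hg => ?_, fun z hz => hz.2.1⟩
  · obtain ⟨n, hn⟩ := IsPGroup.iff_card.1 (T.isPGroup'.to_le hWT)
    rw [hn]
    refine Nat.le_self_pow (fun e => hz1 ?_) t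
    rw [e, pow_zero] at hn
    exact Subgroup.mem_bot.1 ((Subgroup.card_eq_one.1 hn).le hzW)
  · refine ComplAbelian.mem_normalizer_of_map_le fun z hz => ?_
    have hn := le_normalizer_sigmaCore L hg
    refine ⟨(Subgroup.mem_normalizer_iff.1 hn z).1 hz.1, fun x hx => ?_, by rw [conj_pow, hz.2.2, mul_one, mul_inv_cancel]⟩
    have hx' : g⁻¹ * x * g ∈ X := by
      have := (Subgroup.mem_normalizer_iff.1 (le_normalizer_sigmaCore L (L.inv_mem hg)) x).1 hx
      rwa [inv_inv] at this
    calc g * z * g⁻¹ * x = g * (z * (g⁻¹ * x * g)) * g⁻¹ := by group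
      _ = g * ((g⁻¹ * x * g) * z) * g⁻¹ := by rw [hz.2.1 _ hx']
      _ = x * (g * z * g⁻¹) := by group

/-- `2 p + 1 ≤ t`. -/
theorem p_bound : 3 ≤ p ∧ 2 * p + 1 ≤ t := by
  haveI := Fact.mk s.prime
  haveI := Fact.mk d.prime_p
  haveI := Fact.mk d.prime_q
  obtain ⟨W, hWT, hWc, hWn, -⟩ := exists_central hG hM s d
  have hpodd : Odd p := d.cardK ▸ hG.1.of_dvd_nat K.card_subgroup_dvd_card
  have hp2 : p ≠ 2 := fun e => by rw [e] at hpodd; exact absurd hpodd (by decide)
  have hp3 : 3 ≤ p := by have := d.prime_p.two_le; omega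
  refine ⟨hp3, ?_⟩
  have hn : K ≤ Subgroup.normalizer (W : Set G) := d.complK.1.trans hWn
  let φ : K →* MulAut W := (Subgroup.normalizerMonoidHom W).comp (Subgroup.inclusion hn)
  letI : MulAction K W := MulAction.compHom _ φ
  have hmod := (IsPGroup.of_card (n := 1) (p := p) (G := K) (by rw [d.cardK, pow_one])).card_modEq_card_fixedPoints W
  obtain ⟨k, hk, hk1⟩ := Plane.exists_ne_one (p := p) d.cardK
  have hfix : MulAction.fixedPoints K W = {1} := by
    ext h
    simp only [MulAction.mem_fixedPoints, Set.mem_singleton_iff]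
    constructor
    · intro hh
      refine Subtype.ext ?_
      have hc : (h : G) ∈ Cfsg.sigmaCore L ⊓ Subgroup.centralizer ({k} : Set G) := by
        refine ⟨T_sigma hG hM s (hWT h.2), Subgroup.mem_centralizer_singleton_iff.2 ?_⟩
        have he : k * (h : G) * k⁻¹ = h := congrArg Subtype.val (hh ⟨k, hk⟩)
        rw [← mul_inv_eq_iff_eq_mul.1 he]
      refine orderOf_eq_one_iff.1 (Nat.eq_one_of_dvd_coprimes (show t.Coprime q from
        (Nat.coprime_primes s.prime d.prime_q).2 d.ne) (hWc ▸ Subgroup.orderOf_dvd_natCard _ h.2) ?_)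
      obtain ⟨n, hn⟩ := IsPGroup.iff_card.1 d.pgroupQ
      have h1 := hn ▸ Subgroup.orderOf_dvd_natCard _ (d.fixed k hk hk1 hc)
      obtain ⟨i, -, hi⟩ := (Nat.dvd_prime_pow d.prime_q).1 h1
      have hle : i ≤ 1 := by
        by_contra hlt
        have h2 : q ∣ t := (dvd_pow_self q (show i ≠ 0 by omega)).trans (hi ▸ hWc ▸ Subgroup.orderOf_dvd_natCard _ h.2)
        exact d.ne ((Nat.prime_dvd_prime_iff_eq d.prime_q s.prime).1 h2).symm
      rw [hi]
      exact (Nat.pow_dvd_pow q hle).trans (pow_one q).dvd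
    · rintro rfl a
      exact map_one (φ a)
  rw [hfix, show Nat.card ({1} : Set W) = 1 from by simp, hWc] at hmod
  obtain ⟨i, hi⟩ : p ∣ t - 1 := (Nat.modEq_iff_dvd' (by have := three_le hG hM s; omega)).1 hmod.symm
  obtain ⟨j, hj⟩ := hpodd
  obtain ⟨l, hl⟩ := (hG.1.of_dvd_nat (s.order ▸ orderOf_dvd_natCard y) : Odd t)
  rcases i with _ | _ | i
  · have := three_le hG hM s
    omega
  · omega
  · nlinarith [Nat.sub_add_cancel (show 1 ≤ t by omega)]

end Cfsg.Agent.OddOrder.CNab
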