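/-
A central element of order `t ∈ τ₂(M)` with nonabelian Sylow subgroups, nonnilpotent host: all characters of `L_σ`
are good for the linear family, a contradiction.
-/
import Cfsg.Agent.Lib.OddOrder.CentralNonabY
import Cfsg.Agent.Lib.OddOrder.WeightedChain
import Cfsg.Agent.Lib.OddOrder.WeightedCount
import Cfsg.Agent.Lib.Char.TwistFamily
import Cfsg.Agent.Lib.Char.ItoPSolvable
import Cfsg.Agent.Lib.Char.RelGlaubermanBase
import Cfsg.Agent.Lib.Solvable.Coprime
import Cfsg.Agent.Lib.CharP.AxB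

set_option autoImplicit false
set_option linter.style.haveILetI false
set_option linter.unusedSectionVars false
set_option linter.unusedSimpArgs false
set_option linter.unusedVariables false

namespace Cfsg.Agent.OddOrder.CNab

open scoped ComplexConjugate commutatorElement IsMulCommutative
open Cfsg.Agent.Char WFam
open Pairing (exists_pi_parts mem_sigmaCore_of_primes)
open Exceptional (sigmaCore_le le_normalizer_sigmaCore not_dvd_complement)

universe u

section Abstract

variable {X : Type u} [Group X] [Fintype X]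

/-- A character trivial on `N` has degree dividing the index of a normal subgroup containing `N` with abelian
quotient. -/
theorem degree_dvd_of_kernel {N A : Subgroup X} [N.Normal] [A.Normal] (hNA : N ≤ A)
    (hab : ∀ a ∈ A, ∀ b ∈ A, a * b * a⁻¹ * b⁻¹ ∈ N) (θ : Cfsg.IrrCharacter X)
    (hθ : ∀ a ∈ N, (θ : X → ℂ) a = (θ : X → ℂ) 1) : Cfsg.charDegree (θ : X → ℂ) ∣ A.index := by
  classical
  haveI : Fintype (X ⧸ N) := Fintype.ofFinite _
  have hsurj := QuotientGroup.mk'_surjective N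
  obtain ⟨w, hw⟩ := RelGlauberman.exists_factor (QuotientGroup.mk' N) hsurj θ
    fun x hx => hθ x ((QuotientGroup.eq_one_iff x).1 hx)
  haveI : (A.map (QuotientGroup.mk' N)).Normal := Subgroup.Normal.map inferInstance _ hsurj
  have hA : IsMulCommutative (A.map (QuotientGroup.mk' N)) := .of_setLike_mul_comm (by
    rintro _ ⟨a, ha, rfl⟩ _ ⟨b, hb, rfl⟩
    rw [← commutatorElement_eq_one_iff_mul_comm, ← map_commutatorElement]
    exact (QuotientGroup.eq_one_iff _).2 (hab a ha b hb))
  have h := Ito.degree_dvd_index (A.map (QuotientGroup.mk' N)) hA w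
  rw [Subgroup.index_map_eq _ hsurj (by rwa [QuotientGroup.ker_mk'])] at h
  have e : Cfsg.charDegree (w : X ⧸ N → ℂ) = Cfsg.charDegree (θ : X → ℂ) := by
    have h1 := hw 1
    rw [map_one, CharX.irr_deg, CharX.irr_deg] at h1
    exact_mod_cast h1
  exact e ▸ h

end Abstract

variable {G : Type u} [Group G] [Finite G] {M E L K Q D : Subgroup G} {y : G} {p q t : ℕ} {T : Sylow t G}
variable (hG : Cfsg.IsMinSimpleOddOrder G) (hM : IsCoatom M) (s : Setup M E L y t T) (d : Host L K Q D p q t T)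
include hG hM s d

theorem false_host (hEX : E ≤ Cfsg.sigmaCore L) : False := by
  classical
  haveI : Fintype G := Fintype.ofFinite G
  haveI : Fintype L := Fintype.ofFinite L
  haveI := Fact.mk s.prime
  obtain ⟨hp3, hpt⟩ := p_bound hG hM s d
  have ht3 := three_le hG hM s
  have hTL := T_le hG hM s
  have hTX := T_sigma hG hM s
  obtain ⟨W, hWT, hWc, hWn, hWcen⟩ := exists_central hG hM s d
  set X := Cfsg.sigmaCore L with hX
  have hXL : X ≤ L := sigmaCore_le L
  have hQX : Q ≤ X := d.complD.1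
  have hQL : Q ≤ L := hQX.trans hXL
  have hDX : D ≤ X := d.complD.2.1
  have hDL : D ≤ L := hDX.trans hXL
  haveI : (X.subgroupOf L).Normal := Subgroup.normal_subgroupOf_of_le_normalizer (le_normalizer_sigmaCore L)
  haveI hQn : (Q.subgroupOf L).Normal := Subgroup.normal_subgroupOf_of_le_normalizer d.normalQ
  set R := X.subgroupOf L with hRdef
  set Q' := Q.subgroupOf L with hQ'def
  set N1 := ⁅R, R⁆ ⊔ Q' with hN1def
  haveI : N1.Normal := Subgroup.sup_normal _ _
  have hQR : Q' ≤ R := Subgroup.comap_mono hQX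
  have hN1R : N1 ≤ R := sup_le (Subgroup.le_normalizer_iff_commutator_le_left.1 Subgroup.le_normalizer) hQR
  have hN1G : N1.map L.subtype = ⁅X, X⁆ ⊔ Q := by
    rw [hN1def, Subgroup.map_sup, Subgroup.map_commutator, hRdef, hQ'def, Subgroup.map_subgroupOf_eq_of_le hXL,
      Subgroup.map_subgroupOf_eq_of_le hQL]
  have hmemN1 : ∀ z : L, z ∈ N1 ↔ (z : G) ∈ ⁅X, X⁆ ⊔ Q := fun z => by
    rw [← hN1G]
    exact (Subgroup.mem_map_iff_mem L.subtype_injective).symm
  have habR : ∀ a ∈ R, ∀ b ∈ R, a * b * a⁻¹ * b⁻¹ ∈ N1 := fun a ha b hb =>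
    Subgroup.mem_sup_left (Subgroup.commutator_mem_commutator ha hb)
  -- the size of the abelian section
  have hsize : t ^ 2 ∣ N1.relIndex R := by
    refine (sq_dvd hG hM s d).trans ?_
    rw [← hN1G, ← Subgroup.map_subgroupOf_eq_of_le hTL,
      Subgroup.relIndex_map_map_of_injective _ _ L.subtype_injective]
    rw [← Subgroup.relIndex_subgroupOf (show (T : Subgroup G).subgroupOf L ≤ R from Subgroup.comap_mono hTX)]
    exact Subgroup.relIndex_dvd_index_of_normal _ _
  have hidx : R.index = p := by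
    rw [← d.cardK]
    exact Compl.relIndex_right d.complK
  have hcopK : (Nat.card K).Coprime (Nat.card X) := Nat.coprime_of_dvd fun r hr h1 h2 =>
    not_dvd_complement hG s.coatomL d.complK hr h1 (Exceptional.mem_sigma_of_dvd hr h2)
  -- `K` is fixed-point-free on `R / N1`
  have hfree : ∀ u : L, u ∉ R → ∀ b ∈ R, b ∉ N1 → u * b * u⁻¹ * b⁻¹ ∉ N1 := by
    intro u hu b hb hbN hcon
    set V := ⁅X, X⁆ ⊔ Q with hV
    have hVX : V ≤ X := sup_le (Subgroup.le_normalizer_iff_commutator_le_left.1 Subgroup.le_normalizer) hQX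
    have hnV : L ≤ Subgroup.normalizer (V : Set G) := fun g hg => by
      refine Subgroup.mem_normalizer_iff_map_conj_eq.2 (show V.map (MulAut.conj g).toMonoidHom = V from ?_)
      rw [hV, Subgroup.map_sup, Subgroup.map_commutator,
        show X.map (MulAut.conj g).toMonoidHom = X from Subgroup.mem_normalizer_iff_map_conj_eq.1 (le_normalizer_sigmaCore L hg),
        show Q.map (MulAut.conj g).toMonoidHom = Q from Subgroup.mem_normalizer_iff_map_conj_eq.1 (d.normalQ hg)]
    have hconG : (u : G) * b * (u : G)⁻¹ * (b : G)⁻¹ ∈ V := (hmemN1 _).1 hcon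
    obtain ⟨k, hk, x, hx, hkx⟩ := d.complK.2.2.2 u u.2
    have hkL : k ∈ L := d.complK.1 hk
    have hk1 : k ≠ 1 := by
      rintro rfl
      exact hu (show (u : G) ∈ X by rw [hkx, one_mul]; exact hx)
    rw [hkx] at hconG
    have hxb : x * b * x⁻¹ * (b : G)⁻¹ ∈ V := Subgroup.mem_sup_left (Subgroup.commutator_mem_commutator hx hb)
    have hkb : k * b * k⁻¹ * (b : G)⁻¹ ∈ V := by
      have h1 := (Subgroup.mem_normalizer_iff.1 (hnV hkL) _).1 hxb
      have h2 : k * b * k⁻¹ * (b : G)⁻¹ =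
          (k * (x * b * x⁻¹ * (b : G)⁻¹) * k⁻¹)⁻¹ * (k * x * b * (k * x)⁻¹ * (b : G)⁻¹) := by group
      rw [h2]
      exact mul_mem (inv_mem h1) hconG
    haveI : Group.IsSolvable X := MinSimple.isSolvable hG (ne_top_of_le_ne_top s.coatomL.1 hXL)
    haveI := Fact.mk d.prime_p
    have hz : Subgroup.zpowers k = K := Plane.zpowers_eq (p := p) d.cardK hk hk1
    have hzn : Subgroup.zpowers k ≤ L := Subgroup.zpowers_le.2 hkL
    have hall : ∀ a ∈ Subgroup.zpowers k, a * b * a⁻¹ * (b : G)⁻¹ ∈ V := by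
      let S : Subgroup G :=
        { carrier := {a | a ∈ L ∧ a * b * a⁻¹ * (b : G)⁻¹ ∈ V}
          one_mem' := ⟨L.one_mem, by simp⟩
          mul_mem' := fun {a c} ha hc => ⟨L.mul_mem ha.1 hc.1, by
            rw [show a * c * b * (a * c)⁻¹ * (b : G)⁻¹ =
              a * (c * b * c⁻¹ * (b : G)⁻¹) * a⁻¹ * (a * b * a⁻¹ * (b : G)⁻¹) by group]
            exact mul_mem ((Subgroup.mem_normalizer_iff.1 (hnV ha.1) _).1 hc.2) ha.2⟩
          inv_mem' := fun {a} ha => ⟨L.inv_mem ha.1, by
            have h := (Subgroup.mem_normalizer_iff.1 (hnV (L.inv_mem ha.1)) _).1 (V.inv_mem ha.2)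
            simpa [mul_assoc] using h⟩ }
      exact fun a ha => ((Subgroup.zpowers_le.2 (show k ∈ S from ⟨hkL, hkb⟩)) ha).2
    obtain ⟨c, hc, hcb⟩ := CoprimeAct.exists_mem_centralizer (A := Subgroup.zpowers k) (K := X)
      (hzn.trans (le_normalizer_sigmaCore L)) (hz ▸ hcopK) (Or.inr inferInstance)
      hVX (hXL.trans hnV) (hzn.trans hnV) (show (b : G) ∈ X from hb) hall
    refine hbN ((hmemN1 b).2 ?_)
    have hcV : c ∈ V := Subgroup.mem_sup_right (d.fixed k hk hk1 ⟨hc.1, by
      rw [← Plane.centralizer_zpowers]; exact hc.2⟩)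
    have := V.mul_mem hcV (V.inv_mem hcb)
    simpa using this
  -- the reference family
  haveI := TwistFam.finite_ann R N1 habR
  letI : Fintype (TwistFam.Fam R N1 R) := Fintype.ofFinite _
  let Φ : TwistFam.Fam R N1 R → L → ℂ := fun f => TwistFam.phi f
  have hne : Nonempty (TwistFam.Fam R N1 R) := by
    obtain ⟨r, hr, hrN⟩ : ∃ r ∈ R, r ∉ N1 := SetLike.not_le_iff_exists.1 fun hle => by
      rw [Subgroup.relIndex_eq_one.2 hle, Nat.dvd_one] at hsize
      nlinarith
    obtain ⟨f, hf, hf1⟩ := TwistFam.exists_ne_one R N1 habR (r := ⟨r, hr⟩) hrN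
    exact ⟨⟨⟨f, hf⟩, fun h => hf1 (h ⟨r, hr⟩ hr)⟩⟩
  obtain ⟨f₀⟩ := hne
  have hsuppR : ∀ z ∈ R, z ≠ 1 → (z : G) ∈ DadeT.supp L := fun z hz hz1 =>
    DadeT.sigma_mem_supp hG s.coatomL hz fun e => hz1 (Subtype.ext e)
  obtain ⟨B, hBd, hBgood⟩ := Base.exists_base (L := L) hG s.coatomL (⟨Φ f₀, f₀, rfl⟩ : Set.range Φ) (fun i => i.1)
    (d := p) d.prime_p.pos
    (fun i => by
      obtain ⟨_, f, rfl⟩ := i
      exact IsGeneralizedCharacter.of_isCharacter (TwistFam.isCharacter_phi f))
    (fun i x hx hxA => by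
      obtain ⟨_, f, rfl⟩ := i
      exact TwistFam.phi_not_mem f fun hxR => hxA (hsuppR x hxR hx))
    (fun i => by
      obtain ⟨_, f, rfl⟩ := i
      rw [← hidx]
      exact TwistFam.phi_one hN1R f)
    (fun i j => by
      obtain ⟨_, f, rfl⟩ := i
      obtain ⟨_, g, rfl⟩ := j
      show (_ → Cfsg.classInner (TwistFam.phi f) (TwistFam.phi g) = 1) ∧
        (_ → Cfsg.classInner (TwistFam.phi f) (TwistFam.phi g) = 0)
      rw [TwistFam.gram habR hN1R le_rfl hfree f g]
      exact ⟨fun e => if_pos (congrArg Subtype.val e), fun e => if_neg fun h => e (Subtype.ext h)⟩)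
  have hidxB : R.index = B.d1 * 1 := by rw [mul_one, hBd, hidx]
  -- the linear characters
  have hbase : ∀ θ ∈ IndSet.over R N1, B.bval (Cfsg.indFun R (θ : R → ℂ)) = 0 := by
    intro θ hθ
    obtain ⟨hθne, hθN⟩ := (IndSet.mem_over R).1 hθ
    have h1 : (θ : R → ℂ) 1 = 1 := by
      have h := IndSet.degree_sq_le R (B := N1) (C := R) (D := R) le_rfl habR θ.2 hθN (CharX.irr_deg θ)
      rw [Subgroup.relIndex_self] at h
      have := CharX.irr_deg_pos θ
      rw [CharX.irr_deg, show Cfsg.charDegree (θ : R → ℂ) = 1 by nlinarith, Nat.cast_one]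
    obtain ⟨f, hf⟩ := exists_hom_of_degree_one (IsIrrCharacter.isCharacter θ.2) h1
    have hfN : f ∈ TwistFam.ann R N1 := fun r hr => by
      have h := hθN r hr
      rw [hf] at h
      exact Units.ext (by simpa using h)
    let g : TwistFam.Fam R N1 R := ⟨⟨f, hfN⟩, fun h => hθne (by
      rw [hf]
      funext r
      rw [h r r.2, Units.val_one])⟩
    have e : Cfsg.indFun R (θ : R → ℂ) = Φ g := by
      show _ = Cfsg.indFun R _
      rw [hf]
    rw [e]
    exact hBgood ⟨Φ g, g, rfl⟩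
  -- the nilpotent quotient
  have hser : ∀ N : Subgroup L, N.Normal → Q' ≤ N → N ≤ R → ⁅N, R⁆ ⊔ Q' = N → N = Q' := by
    intro N hN hQN hNR he
    refine le_antisymm ?_ hQN
    set π := QuotientGroup.mk' Q'
    have hQbot : Q'.map π = ⊥ := (Subgroup.map_eq_bot_iff Q').2 (by rw [QuotientGroup.ker_mk'])
    have hnil : Group.IsNilpotent (R.map π) := by
      haveI := d.nilD
      let f : D →* R.map π :=
        { toFun := fun x => ⟨π ⟨x, hDL x.2⟩, ⟨x, hDL x.2⟩, hDX x.2, rfl⟩
          map_one' := Subtype.ext (map_one π)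
          map_mul' := fun a b => Subtype.ext (map_mul π ⟨a, hDL a.2⟩ ⟨b, hDL b.2⟩) }
      refine Group.nilpotent_of_surjective f fun ⟨_, z, hz, rfl⟩ => ?_
      obtain ⟨a, ha, b, hb, e⟩ := d.complD.2.2.2 z hz
      refine ⟨⟨b, hb⟩, Subtype.ext ?_⟩
      show π _ = π z
      rw [show z = ⟨a, hQL ha⟩ * ⟨b, hDL hb⟩ from Subtype.ext e, map_mul,
        show π ⟨a, hQL ha⟩ = 1 from (QuotientGroup.eq_one_iff _).2 ha, one_mul]
    have h : ⁅N.map π, R.map π⁆ = N.map π := by
      rw [← Subgroup.map_commutator, ← sup_bot_eq ((⁅N, R⁆).map π), ← hQbot, ← Subgroup.map_sup, he]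
    have hbot := AxB.eq_bot_of_commutator_eq (Q := R.map π) (Subgroup.map_mono hNR) le_rfl h
    intro z hz
    exact (QuotientGroup.eq_one_iff z).1 (Subgroup.mem_bot.1 (hbot.le ⟨z, hz, rfl⟩))
  -- degrees over `Q`
  have hdecR : ∀ a : R, ∃ u ∈ (T : Subgroup G), ∃ v ∈ D, ¬ t ∣ orderOf v ∧ ∃ w ∈ Q, ((a : L) : G) = w * (u * v) := by
    intro a
    obtain ⟨w, hw, b, hb, e⟩ := d.complD.2.2.2 _ a.2
    obtain ⟨u, hu, v, hv, hvt, rfl⟩ := D_decomp hG hM s d hb
    exact ⟨u, hu, v, hv, hvt, w, hw, e⟩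
  have hdeg : ∀ θ ∈ IndSet.over R Q', ∃ j, Cfsg.charDegree (θ : R → ℂ) = t ^ j := by
    intro θ hθ
    obtain ⟨-, hθQ⟩ := (IndSet.mem_over R).1 hθ
    haveI : Fintype (Q'.subgroupOf R) := Fintype.ofFinite _
    set Qr := Q'.subgroupOf R with hQr
    set π := QuotientGroup.mk' Qr with hπ
    set A := (Subgroup.center (R ⧸ Qr)).comap π with hA
    have hle : Qr ≤ A := fun x hx => by
      rw [hA, Subgroup.mem_comap, hπ, QuotientGroup.mk'_apply, (QuotientGroup.eq_one_iff x).2 hx]
      exact one_mem _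
    have h := degree_dvd_of_kernel (N := Qr) (A := A) hle (fun a ha b hb => (QuotientGroup.eq_one_iff _).1 (by
      show π (a * b * a⁻¹ * b⁻¹) = 1
      rw [map_mul, map_mul, map_mul, map_inv, map_inv, (Subgroup.mem_center_iff.1 hb (π a)),
        mul_inv_cancel_right, mul_inv_cancel])) θ fun a ha => hθQ a ha
    have hidxA : ∃ n, A.index ∣ t ^ n := by
      obtain ⟨n, hn⟩ := IsPGroup.iff_card.1 T.isPGroup'
      rw [hA, Subgroup.index_comap_of_surjective _ (QuotientGroup.mk'_surjective Qr)]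
      have hp : IsPGroup t ((R ⧸ Qr) ⧸ Subgroup.center (R ⧸ Qr)) := by
        intro c
        obtain ⟨b, rfl⟩ := QuotientGroup.mk'_surjective _ c
        obtain ⟨a, rfl⟩ := QuotientGroup.mk'_surjective Qr b
        refine ⟨n, ?_⟩
        rw [← map_pow, ← map_pow]
        refine (QuotientGroup.eq_one_iff _).2 ?_
        obtain ⟨u, hu, v, hv, hvt, w, hw, e⟩ := hdecR a
        let wR : R := ⟨⟨w, hQL hw⟩, hQX hw⟩
        let uR : R := ⟨⟨u, hTL hu⟩, hTX hu⟩
        let vR : R := ⟨⟨v, hDL hv⟩, hDX hv⟩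
        have hea : a = wR * (uR * vR) := Subtype.ext (Subtype.ext e)
        have hwR : π wR = 1 := (QuotientGroup.eq_one_iff _).2 hw
        have hvc : π vR ∈ Subgroup.center (R ⧸ Qr) := by
          refine Subgroup.mem_center_iff.2 fun g => ?_
          obtain ⟨z, rfl⟩ := QuotientGroup.mk'_surjective Qr g
          obtain ⟨u', hu', v', hv', hvt', w', hw', e'⟩ := hdecR z
          have hez : z = (⟨⟨w', hQL hw'⟩, hQX hw'⟩ : R) * ⟨⟨u' * v', L.mul_mem (hTL hu') (hDL hv')⟩,
              X.mul_mem (hTX hu') (hDX hv')⟩ := Subtype.ext (Subtype.ext e')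
          rw [hez, map_mul, show π (⟨⟨w', hQL hw'⟩, hQX hw'⟩ : R) = 1 from (QuotientGroup.eq_one_iff _).2 hw', one_mul,
            ← map_mul, ← map_mul]
          exact congrArg π (Subtype.ext (Subtype.ext
            (prime_central hG hM s d hv hvt _ (D.mul_mem (d.T_le hu') hv')).symm.eq))
        have hut : uR ^ t ^ n = 1 := Subtype.ext (Subtype.ext (show u ^ t ^ n = 1 from
          orderOf_dvd_iff_pow_eq_one.1 (hn ▸ Subgroup.orderOf_dvd_natCard _ hu)))
        show π (a ^ t ^ n) ∈ _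
        rw [hea, map_pow, map_mul, hwR, one_mul, map_mul,
          (show Commute (π uR) (π vR) from Subgroup.mem_center_iff.1 hvc (π uR)).mul_pow, ← map_pow π uR, hut,
          map_one, one_mul]
        exact pow_mem hvc _
      obtain ⟨m, hm⟩ := IsPGroup.iff_card.1 hp
      exact ⟨m, hm.dvd⟩
    obtain ⟨n, hn⟩ := hidxA
    obtain ⟨j, -, hj⟩ := (Nat.dvd_prime_pow s.prime).1 (h.trans hn)
    exact ⟨j, hj⟩
  have hodd : Odd (Nat.card L) := hG.1.of_dvd_nat L.card_subgroup_dvd_card
  have hchain := B.chain_good hsuppR hidxB hG s.coatomL s.prime (by omega) hodd (Q := Q') (N1 := N1) hN1R rfl hser hsize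
    hdeg hbase
  -- the orders
  have hmassQ : Base.mass (IndSet.over R Q') + 1 = Q'.relIndex R := IndSet.sum_over_sq R Q'
  have hrelQ : Q'.relIndex R = Nat.card D := by
    rw [hQ'def, hRdef, Subgroup.relIndex_subgroupOf hXL]
    exact Compl.relIndex_left d.complD
  have hTc := Nat.le_of_dvd Nat.card_pos (Subgroup.card_dvd_of_le d.T_le)
  have hT3 : t ^ 3 ≤ Nat.card (T : Subgroup G) := by
    obtain ⟨n, hn⟩ := IsPGroup.iff_card.1 T.isPGroup'
    rw [hn]
    refine Nat.pow_le_pow_right s.prime.pos ?_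
    by_contra h
    refine s.noncomm ?_
    have h2 : n = 2 := by
      have h22 : t ^ 2 ≤ t ^ n := hn ▸ sq_le hG hM s
      have := (Nat.pow_le_pow_iff_right s.prime.one_lt).1 h22
      omega
    exact .of_setLike_mul_comm fun a ha b hb =>
      congrArg Subtype.val (IsPGroup.commutative_of_card_eq_prime_sq (h2 ▸ hn) ⟨a, ha⟩ ⟨b, hb⟩)
  obtain ⟨k, hk⟩ : t ∣ Nat.card D := hWc ▸ Subgroup.card_dvd_of_le (hWT.trans d.T_le)
  have hk2 : t ^ 2 ≤ k := by
    have : t * t ^ 2 ≤ t * k := by rw [← pow_succ', ← hk]; exact hT3.trans hTc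
    exact Nat.le_of_mul_le_mul_left this s.prime.pos
  -- characters nontrivial on `Q`
  have hgood : ∀ θ ∈ IndSet.over R (⊥ : Subgroup L), B.bval (Cfsg.indFun R (θ : R → ℂ)) = 0 := by
    intro θ _
    have hQWn : ∀ g : L, (g : G) ∈ Subgroup.normalizer ((Q ⊔ W : Subgroup G) : Set G) := fun g => by
      refine Subgroup.mem_normalizer_iff_map_conj_eq.2 (show (Q ⊔ W).map (MulAut.conj (g : G)).toMonoidHom = _ from ?_)
      rw [Subgroup.map_sup,
        show Q.map (MulAut.conj (g : G)).toMonoidHom = Q from Subgroup.mem_normalizer_iff_map_conj_eq.1 (d.normalQ g.2),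
        show W.map (MulAut.conj (g : G)).toMonoidHom = W from Subgroup.mem_normalizer_iff_map_conj_eq.1 (hWn g.2)]
    have hWX : W ≤ X := hWT.trans hTX
    have hQWX : Q ⊔ W ≤ X := sup_le hQX hWX
    set A := ((Q ⊔ W).subgroupOf L).subgroupOf R with hA
    haveI : ((Q ⊔ W).subgroupOf L).Normal :=
      Subgroup.normal_subgroupOf_of_le_normalizer fun g hg => hQWn ⟨g, hg⟩
    haveI : A.Normal := Subgroup.Normal.subgroupOf inferInstance R
    have hAc : IsMulCommutative A := by
      have hc : Q ⊔ W ≤ Subgroup.centralizer ((Q ⊔ W : Subgroup G) : Set G) := by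
        have hQc : Q ⊔ W ≤ Subgroup.centralizer (Q : Set G) :=
          sup_le (fun a ha => Subgroup.mem_centralizer_iff.2 fun b hb => d.abQ b hb a ha)
            fun a ha => Subgroup.mem_centralizer_iff.2 fun b hb => (hWcen a ha b (hQX hb)).symm
        have hWcc : Q ⊔ W ≤ Subgroup.centralizer (W : Set G) :=
          fun a ha => Subgroup.mem_centralizer_iff.2 fun b hb => hWcen b hb a (hQWX ha)
        rw [Subgroup.le_centralizer_iff]
        exact sup_le (Subgroup.le_centralizer_iff.1 hQc) (Subgroup.le_centralizer_iff.1 hWcc)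
      exact .of_setLike_mul_comm fun a ha b hb => Subtype.ext (Subtype.ext
        (Subgroup.mem_centralizer_iff.1 (hc hb) _ ha))
    have hAidx : A.index = k := by
      rw [hA]
      show ((Q ⊔ W).subgroupOf L).relIndex R = k
      rw [hRdef, Subgroup.relIndex_subgroupOf hXL]
      have h1 := Subgroup.relIndex_mul_relIndex Q (Q ⊔ W) X le_sup_left hQWX
      have h2 := SolvBasic.card_sup_mul_card_inf ((hWX.trans hXL).trans d.normalQ)
      rw [show Q ⊓ W = ⊥ from le_bot_iff.1 ((inf_le_inf_left Q (hWT.trans d.T_le)).trans d.complD.2.2.1.le),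
        Subgroup.card_bot, mul_one, hWc, ← Subgroup.relIndex_bot_left (Q ⊔ W),
        ← Subgroup.relIndex_mul_relIndex ⊥ Q (Q ⊔ W) bot_le le_sup_left, Subgroup.relIndex_bot_left] at h2
      rw [Compl.relIndex_left d.complD, Nat.eq_of_mul_eq_mul_left Nat.card_pos h2, hk] at h1
      exact Nat.eq_of_mul_eq_mul_left s.prime.pos h1
    have hdvd := Ito.degree_dvd_index A hAc θ
    rw [hAidx] at hdvd
    have ha : Cfsg.charDegree (θ : R → ℂ) ≤ k := Nat.le_of_dvd (by nlinarith) hdvd
    have hm : Base.mass (IndSet.over R Q') + 1 = t * k := by rw [hmassQ, hrelQ, hk]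
    refine B.good_single hsuppR hidxB hG s.coatomL _ (Base.stable_over Q') hchain θ ?_ ?_
    · rw [hBd]
      nlinarith
    · rw [hBd]
      nlinarith
  refine B.false_of_good hsuppR hidxB hG s.coatomL hM s.prime s.order s.tau2.2.1 s.sigmaL s.y_sigma
    (hTL s.y_mem) (hTX s.y_mem) s.cent_y (by omega) (by omega) ?_ ?_ ?_ hgood
  · rw [hRdef, Nat.card_congr (Subgroup.subgroupOfEquivOfLe hXL).toEquiv]
    exact (sq_le hG hM s).trans (Nat.le_of_dvd Nat.card_pos (Subgroup.card_dvd_of_le hTX))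
  · rw [hRdef, Nat.card_congr (Subgroup.subgroupOfEquivOfLe hXL).toEquiv, card_M hG hM s, ← mul_assoc, mul_comm]
    refine Nat.mul_le_mul_left _ ?_
    have hcard : E.relIndex X * Nat.card E = Nat.card X := by
      rw [mul_comm, ← Subgroup.relIndex_bot_left, ← Subgroup.relIndex_bot_left,
        Subgroup.relIndex_mul_relIndex ⊥ E X bot_le hEX]
    have hne : E.relIndex X ≠ 1 := fun h =>
      s.not_central ((hTX.trans (Subgroup.relIndex_eq_one.1 h)).trans s.compl.1)
    obtain ⟨i, hi⟩ : Odd (E.relIndex X) :=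
      (hG.1.of_dvd_nat X.card_subgroup_dvd_card).of_dvd_nat ⟨Nat.card E, hcard.symm⟩
    rw [← hcard]
    exact Nat.mul_le_mul_right _ (by omega)
  · have := s.card_le
    omega

omit d in
theorem false_nonnil (hnn : ¬ Group.IsNilpotent (Cfsg.sigmaCore L)) : False := by
  obtain ⟨K, Q, D, p, q, d, hEX⟩ := exists_host hG hM s hnn
  exact false_host hG hM s d hEX

end Cfsg.Agent.OddOrder.CNab
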