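/-
No element of order `t ∈ τ₂(M)` in an abelian complement centralizes `M_σ` when the Sylow `t`-subgroups are
nonabelian.
-/
import Cfsg.Agent.Lib.OddOrder.CentralNonabB
import Cfsg.Agent.Lib.OddOrder.CentralNonabNonNil

set_option autoImplicit false

namespace Cfsg.Agent.OddOrder.CNab

universe u

theorem nonab_false {G : Type u} [Group G] [Finite G] (hG : Cfsg.IsMinSimpleOddOrder G) {M : Subgroup G}
    (hM : IsCoatom M) {E : Subgroup G} (hE : Cfsg.IsComplIn E (Cfsg.sigmaCore M) M) (hEc : IsMulCommutative E)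
    {t : ℕ} [ht : Fact t.Prime] (htτ : t ∈ Cfsg.tau2 M)
    (hS : ∀ S : Sylow t G, ¬ IsMulCommutative (S : Subgroup G)) {y : G} (hyE : y ∈ E) (hy : orderOf y = t)
    (hyH : ∀ h ∈ Cfsg.sigmaCore M, h * y = y * h) : False := by
  obtain ⟨E', L, T, s⟩ := exists_setup hG hM hE hEc htτ hS hyE hy hyH
  by_cases hnil : Group.IsNilpotent (Cfsg.sigmaCore L)
  · by_cases hexp : ∀ u ∈ L, u ^ (t - 1) ∈
        (T : Subgroup G) ⊔ (L ⊓ Subgroup.centralizer ((T : Subgroup G) : Set G))
    · exact false_exp hG hM s hnil hexp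
    · exact false_not_exp hG hM s hnil hexp
  · exact false_nonnil hG hM s hnil

end Cfsg.Agent.OddOrder.CNab
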