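import Cfsg.Agent.Lib.OddOrder.ComplAction

/-!
A `q`-group on which an extension `P ⋊ ⟨s⟩` acts irreducibly modulo a central subgroup of index
`q ^ r` is abelian, `r` being the odd prime order of `s`.
-/

set_option autoImplicit false
open scoped Pointwise commutatorElement

namespace Cfsg.Agent.OddOrder.ComplAbelian

variable {G : Type*} [Group G] [Finite G]

lemma mem_normalizer_of_map_le {g : G} {H : Subgroup G} (h : ∀ x ∈ H, g * x * g⁻¹ ∈ H) :
    g ∈ Subgroup.normalizer (H : Set G) := by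
  refine SolvBasic.mem_normalizer_iff_conjSmul.2 (Subgroup.eq_of_le_of_card_ge (fun x hx => ?_)
    (SolvBasic.card_conjSmul g H).ge)
  have := h _ (SolvBasic.mem_conjSmul.1 hx)
  simpa [mul_assoc] using this

lemma relIndex_mul_card {Z X : Subgroup G} (h : Z ≤ X) :
    Nat.card Z * Z.relIndex X = Nat.card X := by
  rw [← Nat.card_congr (Subgroup.subgroupOfEquivOfLe h).toEquiv, Subgroup.relIndex]
  exact Subgroup.card_mul_index _

lemma pow_even {d q r k : ℕ} (hq : q.Prime) (h : q ^ r = k ^ 2) (hd : d = r) : Even d := by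
  subst hd
  have hk : k ∣ q ^ d := h ▸ dvd_pow_self k two_ne_zero
  obtain ⟨e, -, rfl⟩ := (Nat.dvd_prime_pow hq).1 hk
  exact ⟨e, by have := Nat.pow_right_injective hq.two_le (h.trans (pow_mul q e 2).symm); omega⟩

theorem isMulCommutative_of_action {p q r : ℕ} (hp : p.Prime) (hq : q.Prime) (hr : r.Prime)
    (hp2 : p ≠ 2) (hr2 : r ≠ 2) (Q Z P : Subgroup G) (s : G)
    (hP : IsPGroup p P) (hs : s ^ r = 1)
    (hPQ : P ≤ Subgroup.normalizer (Q : Set G)) (hsQ : s ∈ Subgroup.normalizer (Q : Set G))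
    (hsP : s ∈ Subgroup.normalizer (P : Set G)) (hsZ : s ∈ Subgroup.normalizer (Z : Set G))
    (hZQ : Z ≤ Q) (hZc : Z ≤ Subgroup.centralizer (Q : Set G))
    (hZP : Z ≤ Subgroup.centralizer (P : Set G))
    (hcomm : ⁅Q, Q⁆ ≤ Z) (hexp : ∀ x ∈ Q, x ^ q ∈ Z) (hcard : Z.relIndex Q = q ^ r)
    (hirr : ∀ U : Subgroup G, Z ≤ U → U ≤ Q → P ≤ Subgroup.normalizer (U : Set G) →
      s ∈ Subgroup.normalizer (U : Set G) → U = Z ∨ U = Q)
    (hfix : ∀ x ∈ Q, (∀ g ∈ P, ⁅g, x⁆ ∈ Z) → x ∈ Z) :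
    ∀ x ∈ Q, ∀ y ∈ Q, x * y = y * x := by
  classical
  haveI := Fact.mk hp
  haveI := Fact.mk hq
  haveI := Fact.mk hr
  have hrodd : ¬ Even r := Nat.not_even_iff_odd.2 (hr.odd_of_ne_two hr2)
  have hpodd : Odd p := hp.odd_of_ne_two hp2
  have hcZ : ∀ z ∈ Z, ∀ x ∈ Q, z * x = x * z := fun z hz x hx =>
    (Subgroup.mem_centralizer_iff.1 (hZc hz) x hx).symm
  have hc : ∀ x ∈ Q, ∀ y ∈ Q, ⁅x, y⁆ ∈ Z := fun x hx y hy =>
    hcomm (Subgroup.commutator_mem_commutator hx hy)
  have hcmul : ∀ x ∈ Q, ∀ y ∈ Q, ∀ w ∈ Q, ⁅x, y * w⁆ = ⁅x, y⁆ * ⁅x, w⁆ := by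
    intro x hx y hy w hw
    have h1 : ⁅x, y * w⁆ = ⁅x, y⁆ * (y * ⁅x, w⁆ * y⁻¹) := by
      simp only [commutatorElement_def]; group
    rw [h1, ← hcZ _ (hc x hx w hw) y hy, mul_inv_cancel_right]
  have hcq : ∀ x ∈ Q, ∀ y ∈ Q, ⁅x, y⁆ ^ q = 1 := by
    intro x hx y hy
    have h1 : ∀ n : ℕ, ⁅x, y ^ n⁆ = ⁅x, y⁆ ^ n := by
      intro n
      induction n with
      | zero => simp
      | succ n ih => rw [pow_succ, hcmul x hx _ (Q.pow_mem hy n) y hy, ih, pow_succ]
    rw [← h1, commutatorElement_eq_one_iff_mul_comm]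
    exact (hcZ _ (hexp y hy) x hx).symm
  by_cases hredu : ∀ U : Subgroup G, Z ≤ U → U ≤ Q → P ≤ Subgroup.normalizer (U : Set G) → U = Z ∨ U = Q
  · -- an alternating form on a space of odd dimension
    by_contra hne
    push Not at hne
    obtain ⟨x₀, hx₀, y₀, hy₀, hxy⟩ := hne
    set c := ⁅x₀, y₀⁆ with hcdef
    have hc1 : c ≠ 1 := fun h => hxy (commutatorElement_eq_one_iff_mul_comm.1 h)
    obtain ⟨L, -, ⟨hLZ, hcL⟩, hLmax⟩ := Finite.exists_le_maximal
      (p := fun L : Subgroup G => L ≤ Z ∧ c ∉ L)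
      (⟨bot_le, fun h => hc1 (Subgroup.mem_bot.1 h)⟩ : (⊥ : Subgroup G) ≤ Z ∧ c ∉ (⊥ : Subgroup G))
    haveI : IsMulCommutative Z := .of_setLike_mul_comm fun a ha b hb => hcZ a ha b (hZQ hb)
    letI : CommGroup Z := { (inferInstance : Group Z) with mul_comm := fun a b => mul_comm' a b }
    set L' : Subgroup Z := L.subgroupOf Z
    set π : Z →* Z ⧸ L' := QuotientGroup.mk' L'
    let β : Q → Q → Z ⧸ L' := fun x y => π ⟨⁅(x : G), (y : G)⁆, hc _ x.2 _ y.2⟩
    have hβone : ∀ (x y : Q), β x y = 1 ↔ ⁅(x : G), (y : G)⁆ ∈ L := fun x y =>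
      (QuotientGroup.eq_one_iff _).trans Subgroup.mem_subgroupOf
    have hmul : ∀ x y z : Q, β x (y * z) = β x y * β x z := fun x y z => by
      simp only [β, ← map_mul]
      exact congrArg π (Subtype.ext (hcmul _ x.2 _ y.2 _ z.2))
    have hsk : ∀ x y : Q, β y x = (β x y)⁻¹ := fun x y => by
      simp only [β, ← map_inv]
      exact congrArg π (Subtype.ext (commutatorElement_inv _ _).symm)
    have halt : ∀ x : Q, β x x = 1 := fun x => (hβone x x).2 (by rw [commutatorElement_self]; exact L.one_mem)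
    set m : Z ⧸ L' := π ⟨c, hc _ hx₀ _ hy₀⟩ with hmdef
    have hm1 : m ≠ 1 := fun h => hcL ((hβone ⟨x₀, hx₀⟩ ⟨y₀, hy₀⟩).1 h)
    have hm : m ^ q = 1 := by
      rw [hmdef, ← map_pow]
      exact (congrArg π (Subtype.ext (hcq _ hx₀ _ hy₀))).trans (map_one π)
    have hval : ∀ x y : Q, β x y ∈ Subgroup.zpowers m := by
      intro x y
      by_cases h1 : β x y = 1
      · rw [h1]; exact one_mem _
      set d : Z := ⟨⁅(x : G), (y : G)⁆, hc _ x.2 _ y.2⟩
      have hd : (d : G) ∉ L := fun h => h1 ((hβone x y).2 h)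
      have hcmem : c ∈ L ⊔ Subgroup.zpowers (d : G) := by
        by_contra h
        exact hd (hLmax ⟨sup_le hLZ (Subgroup.zpowers_le.2 d.2), h⟩ le_sup_left
          (Subgroup.mem_sup_right (Subgroup.mem_zpowers _)))
      have hnorm : Subgroup.zpowers (d : G) ≤ Subgroup.normalizer (L : Set G) := by
        rw [Subgroup.zpowers_le]
        refine mem_normalizer_of_map_le fun l hl => ?_
        rwa [hcZ _ d.2 _ (hZQ (hLZ hl)), mul_inv_cancel_right]
      obtain ⟨l, hl, e, ⟨i, rfl⟩, hle⟩ := (SolvBasic.mem_sup_iff_of_le_normalizer hnorm).1 hcmem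
      have hmi : m = β x y ^ i := by
        have e1 : (⟨c, hc _ hx₀ _ hy₀⟩ : Z) = ⟨l, hLZ hl⟩ * d ^ i :=
          Subtype.ext (by simpa using hle)
        rw [hmdef, e1, map_mul, show π ⟨l, hLZ hl⟩ = 1 from (QuotientGroup.eq_one_iff _).2 hl,
          one_mul, map_zpow]
      have hbq : β x y ^ q = 1 := by
        simp only [β, ← map_pow]
        exact (congrArg π (Subtype.ext (hcq _ x.2 _ y.2))).trans (map_one π)
      have hle' : Subgroup.zpowers m ≤ Subgroup.zpowers (β x y) :=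
        Subgroup.zpowers_le.2 ⟨i, hmi.symm⟩
      rw [Subgroup.eq_of_le_of_card_ge hle' (by
        rw [Nat.card_zpowers, Nat.card_zpowers, orderOf_eq_prime hm hm1, orderOf_eq_prime hbq h1])]
      exact Subgroup.mem_zpowers _
    let φ : Q → Q →* Z ⧸ L' := fun x => MonoidHom.mk' (β x) (hmul x)
    let Rad : Subgroup Q := ⨅ x : Q, (φ x).ker
    have hRad : ∀ x : Q, x ∈ Rad ↔ x ∈ (⊤ : Subgroup Q) ∧ ∀ c ∈ (⊤ : Subgroup Q), β x c = 1 := by
      intro x
      simp only [Rad, Subgroup.mem_iInf, Subgroup.mem_top, true_and, forall_const, MonoidHom.mem_ker]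
      exact ⟨fun h y => by rw [hsk y x, show β y x = 1 from h y, inv_one],
        fun h y => by change β y x = 1; rw [hsk x y, h y, inv_one]⟩
    obtain ⟨k, hk⟩ := ComplAction.exists_sq_radical β hmul halt hsk hm hval _ ⊤ Rad rfl hRad
    set U : Subgroup G := Rad.map Q.subtype with hU
    have hUmem : ∀ x : Q, (x : G) ∈ U ↔ ∀ y : Q, β x y = 1 := fun x => by
      rw [hU, Subgroup.mem_map]
      refine ⟨fun ⟨z, hz, hzx⟩ y => ?_, fun h => ⟨x, (hRad x).2 ⟨trivial, fun c _ => h c⟩, rfl⟩⟩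
      exact Subtype.ext hzx ▸ ((hRad z).1 hz).2 y trivial
    have hZU : Z ≤ U := fun z hz => (hUmem ⟨z, hZQ hz⟩).2 fun y => (hβone _ _).2 (by
      rw [commutatorElement_eq_one_iff_mul_comm.2 (hcZ z hz y y.2)]
      exact L.one_mem)
    have hUP : P ≤ Subgroup.normalizer (U : Set G) := by
      intro g hg
      refine mem_normalizer_of_map_le fun u hu => ?_
      have huQ : u ∈ Q := Subgroup.map_subtype_le _ hu
      refine (hUmem ⟨g * u * g⁻¹, (Subgroup.mem_normalizer_iff.1 (hPQ hg) u).1 huQ⟩).2 fun y => (hβone _ _).2 ?_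
      have hy' : g⁻¹ * (y : G) * g ∈ Q := (Subgroup.mem_normalizer_iff''.1 (hPQ hg) y).1 y.2
      have h1 := (hβone ⟨u, huQ⟩ ⟨_, hy'⟩).1 ((hUmem ⟨u, huQ⟩).1 hu _)
      have h2 : ⁅g * u * g⁻¹, (y : G)⁆ = g * ⁅u, g⁻¹ * (y : G) * g⁆ * g⁻¹ := by
        simp only [commutatorElement_def]; group
      change ⁅g * u * g⁻¹, (y : G)⁆ ∈ L
      rw [h2, Subgroup.mem_centralizer_iff.1 (hZP (hc u huQ _ hy')) g hg, mul_inv_cancel_right]
      exact h1
    rcases hredu U hZU (Subgroup.map_subtype_le _) hUP with hUZ | hUQ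
    · have h1 : Rad.relIndex ⊤ = Z.relIndex Q := by
        rw [← hUZ, hU, ← Subgroup.relIndex_map_map_of_injective _ _ Q.subtype_injective,
          ← MonoidHom.range_eq_map, Subgroup.range_subtype]
      rw [h1, hcard] at hk
      exact hrodd (pow_even hq hk rfl)
    · exact hm1 ((hUmem ⟨x₀, hx₀⟩).1 (hUQ.symm ▸ hx₀) ⟨y₀, hy₀⟩)
  -- the reducible case
  push Not at hredu
  obtain ⟨U₀, hZU₀, hU₀Q, hPU₀, hU₀Z, hU₀ne⟩ := hredu
  obtain ⟨U, -, ⟨hZU, hUQ, hPU, hUZ, hUne⟩, hUmin⟩ := Finite.exists_le_minimal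
    (p := fun U : Subgroup G => Z ≤ U ∧ U ≤ Q ∧ P ≤ Subgroup.normalizer (U : Set G) ∧ U ≠ Z ∧ U ≠ Q)
    ⟨hZU₀, hU₀Q, hPU₀, hU₀Z, hU₀ne⟩
  have hQnorm : ∀ {A : Subgroup G}, Z ≤ A → A ≤ Q → Q ≤ Subgroup.normalizer (A : Set G) := by
    intro A hZA hAQ x hx
    refine mem_normalizer_of_map_le fun a ha => ?_
    rw [show x * a * x⁻¹ = ⁅x, a⁆ * a by simp only [commutatorElement_def]; group]
    exact mul_mem (hZA (hc x hx a (hAQ ha))) ha
  have hsi : ∀ (A : Subgroup G), s ∈ Subgroup.normalizer (A : Set G) → ∀ (i : ℕ) (x : G),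
      x ∈ A → s ^ i * x * (s ^ i)⁻¹ ∈ A := fun A hA i x hx =>
    (Subgroup.mem_normalizer_iff.1 ((Subgroup.normalizer (A : Set G)).pow_mem hA i) x).1 hx
  have hsPi : ∀ (i : ℕ), ∀ g ∈ P, (s ^ i)⁻¹ * g * s ^ i ∈ P := fun i g hg =>
    (Subgroup.mem_normalizer_iff''.1 ((Subgroup.normalizer (P : Set G)).pow_mem hsP i) g).1 hg
  -- the order of `U` modulo `Z`
  obtain ⟨S, -, ⟨hZS, hSQ, hPS, k, hSk⟩, hSmax⟩ := Finite.exists_le_maximal
    (p := fun S : Subgroup G => Z ≤ S ∧ S ≤ Q ∧ P ≤ Subgroup.normalizer (S : Set G) ∧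
      ∃ k, Z.relIndex S = Z.relIndex U ^ k)
    (⟨le_rfl, hZQ, fun g hg => mem_normalizer_of_map_le (fun z hz => by
      rwa [Subgroup.mem_centralizer_iff.1 (hZP hz) g hg, mul_inv_cancel_right]),
      0, by rw [Subgroup.relIndex_self, pow_zero]⟩ :
      Z ≤ Z ∧ Z ≤ Q ∧ P ≤ Subgroup.normalizer (Z : Set G) ∧ ∃ k, Z.relIndex Z = Z.relIndex U ^ k)
  have hSQ' : S = Q := by
    by_contra hSne
    set K : Subgroup G := ⨆ i : ℕ, MulAut.conj (s ^ i) • U with hK
    have hiQ : ∀ i : ℕ, MulAut.conj (s ^ i) • U ≤ Q := fun i x hx => by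
      have h1 := hsi Q hsQ i _ (hUQ (SolvBasic.mem_conjSmul.1 hx))
      simpa [mul_assoc] using h1
    have hiZ : ∀ i : ℕ, Z ≤ MulAut.conj (s ^ i) • U := fun i z hz =>
      SolvBasic.mem_conjSmul.2 (hZU (by
        simpa using (Subgroup.mem_normalizer_iff''.1
          ((Subgroup.normalizer (Z : Set G)).pow_mem hsZ i) z).1 hz))
    have hiP : ∀ i : ℕ, P ≤ Subgroup.normalizer ((MulAut.conj (s ^ i) • U : Subgroup G) : Set G) := by
      intro i g hg
      refine mem_normalizer_of_map_le fun x hx => SolvBasic.mem_conjSmul.2 ?_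
      have h1 := (Subgroup.mem_normalizer_iff.1 (hPU (hsPi i g hg)) _).1 (SolvBasic.mem_conjSmul.1 hx)
      simpa [mul_assoc] using h1
    have hKQ : K = Q := by
      refine (hirr K ((hiZ 0).trans (le_iSup (fun i : ℕ => MulAut.conj (s ^ i) • U) 0)) (iSup_le hiQ)
        (fun g hg => mem_normalizer_of_map_le fun x hx => ?_)
        (mem_normalizer_of_map_le fun x hx => ?_)).resolve_left fun h => hUZ ?_
      · refine Subgroup.iSup_induction (S := fun i : ℕ => MulAut.conj (s ^ i) • U)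
          (C := fun x => g * x * g⁻¹ ∈ K) hx (fun i x hx => ?_) (by simp) fun a b ha hb => ?_
        · exact le_iSup (fun i : ℕ => MulAut.conj (s ^ i) • U) i
            ((Subgroup.mem_normalizer_iff.1 (hiP i hg) x).1 hx)
        · rw [show g * (a * b) * g⁻¹ = g * a * g⁻¹ * (g * b * g⁻¹) by group]
          exact mul_mem ha hb
      · refine Subgroup.iSup_induction (S := fun i : ℕ => MulAut.conj (s ^ i) • U)
          (C := fun x => s * x * s⁻¹ ∈ K) hx (fun i x hx => ?_) (by simp) fun a b ha hb => ?_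
        · refine le_iSup (fun i : ℕ => MulAut.conj (s ^ i) • U) (i + 1) ?_
          rw [pow_succ', ← SolvBasic.conjSmul_conjSmul, SolvBasic.mem_conjSmul]
          simpa [mul_assoc] using hx
        · rw [show s * (a * b) * s⁻¹ = s * a * s⁻¹ * (s * b * s⁻¹) by group]
          exact mul_mem ha hb
      · refine le_antisymm ?_ hZU
        calc U = MulAut.conj (s ^ 0) • U := by rw [pow_zero, SolvBasic.conjSmul_one]
          _ ≤ K := le_iSup (fun i : ℕ => MulAut.conj (s ^ i) • U) 0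
          _ = Z := h
    obtain ⟨i, hi⟩ : ∃ i : ℕ, ¬ MulAut.conj (s ^ i) • U ≤ S := by
      by_contra h
      push Not at h
      exact hSne (le_antisymm hSQ (hKQ ▸ iSup_le h))
    set Ui := MulAut.conj (s ^ i) • U
    -- `S ⊓ Ui = Z`
    have hinf : S ⊓ Ui = Z := by
      refine le_antisymm ?_ (le_inf hZS (hiZ i))
      set T : Subgroup G := MulAut.conj (s ^ i)⁻¹ • (S ⊓ Ui) with hT
      have hTU : T ≤ U := fun x hx => by
        have h1 := (Subgroup.mem_inf.1 (SolvBasic.mem_conjSmul.1 hx)).2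
        have h2 := SolvBasic.mem_conjSmul.1 h1
        simpa [mul_assoc] using h2
      have hTZ : T ≤ Z := by
        by_contra hTZ
        have hTP : P ≤ Subgroup.normalizer (T : Set G) := fun g hg => by
          refine mem_normalizer_of_map_le fun x hx => SolvBasic.mem_conjSmul.2 ?_
          have hg' : s ^ i * g * (s ^ i)⁻¹ ∈ P :=
            (Subgroup.mem_normalizer_iff.1 ((Subgroup.normalizer (P : Set G)).pow_mem hsP i) g).1 hg
          have hx' := Subgroup.mem_inf.1 (SolvBasic.mem_conjSmul.1 hx)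
          have h1 := (Subgroup.mem_normalizer_iff.1 (hPS hg') _).1 hx'.1
          have h2 := (Subgroup.mem_normalizer_iff.1 (hiP i hg') _).1 hx'.2
          simpa [Ui, mul_assoc] using Subgroup.mem_inf.2 ⟨h1, h2⟩
        have hZT : Z ≤ T := fun z hz => SolvBasic.mem_conjSmul.2 (by
          have := hsi Z hsZ i z hz
          simpa [Ui] using Subgroup.mem_inf.2 ⟨hZS this, hiZ i this⟩)
        have hTU' : T = U := le_antisymm hTU (hUmin ⟨hZT, hTU.trans hUQ, hTP, fun h => hTZ h.le,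
          fun h => hUne (le_antisymm hUQ (h ▸ hTU))⟩ hTU)
        refine hi ?_
        intro x hx
        have : s ^ i * ((s ^ i)⁻¹ * x * s ^ i) * (s ^ i)⁻¹ = x := by group
        have h1 : (s ^ i)⁻¹ * x * s ^ i ∈ T := hTU'.symm ▸ SolvBasic.mem_conjSmul.1 hx
        have h2 := (Subgroup.mem_inf.1 (SolvBasic.mem_conjSmul.1 h1)).1
        simpa [mul_assoc] using h2
      intro x hx
      have h1 : (s ^ i)⁻¹ * x * s ^ i ∈ T := SolvBasic.mem_conjSmul.2 (by simpa [mul_assoc] using hx)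
      have h2 := hsi Z hsZ i _ (hTZ h1)
      simpa [mul_assoc] using h2
    have hc1 := SolvBasic.card_sup_mul_card_inf (N := S) (H := Ui) ((hiQ i).trans (hQnorm hZS hSQ))
    rw [hinf, ← relIndex_mul_card (hZS.trans (le_sup_left : S ≤ S ⊔ Ui)), ← relIndex_mul_card hZS,
      ← relIndex_mul_card (hiZ i)] at hc1
    have hUi : Z.relIndex Ui = Z.relIndex U := by
      refine Nat.eq_of_mul_eq_mul_left (Nat.card_pos (α := Z)) ?_
      rw [relIndex_mul_card (hiZ i), relIndex_mul_card hZU, SolvBasic.card_conjSmul]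
    refine hi (le_sup_right.trans (hSmax ⟨hZS.trans le_sup_left, sup_le hSQ (hiQ i),
      (le_inf hPS (hiP i)).trans (Subgroup.normalizer_inf_normalizer_le_normalizer_sup _ _), k + 1, ?_⟩ le_sup_left))
    rw [pow_succ, ← hSk, ← hUi]
    refine Nat.eq_of_mul_eq_mul_left (Nat.card_pos (α := Z))
      (Nat.eq_of_mul_eq_mul_right (Nat.card_pos (α := Z)) (hc1.trans ?_))
    ring
  subst hSQ'
  have hUdvd : Z.relIndex U ∣ q ^ r := hcard ▸ ⟨U.relIndex S, (Subgroup.relIndex_mul_relIndex Z U S hZU hUQ).symm⟩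
  obtain ⟨d, hdr, hd⟩ := (Nat.dvd_prime_pow hq).1 hUdvd
  rw [hcard, hd, ← pow_mul] at hSk
  have hdk : r = d * k := Nat.pow_right_injective hq.two_le hSk
  have hd1 : d = 1 := by
    refine ((Nat.dvd_prime hr).1 ⟨k, hdk⟩).resolve_right fun h => hUne ?_
    subst h
    refine Subgroup.eq_of_le_of_card_ge hUQ ?_
    rw [← relIndex_mul_card hZU, ← relIndex_mul_card hZQ, hd, hcard]
  subst hd1
  rw [pow_one] at hd
  obtain ⟨u, huU, huZ⟩ := SetLike.exists_of_lt (lt_of_le_of_ne hZU (Ne.symm hUZ))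
  have hun : Subgroup.zpowers u ≤ Subgroup.normalizer (Z : Set G) := by
    refine Subgroup.zpowers_le.2 (mem_normalizer_of_map_le fun z hz => ?_)
    rwa [← hcZ z hz u (hUQ huU), mul_inv_cancel_right]
  have hUeq : Z ⊔ Subgroup.zpowers u = U := by
    have hle : Z ⊔ Subgroup.zpowers u ≤ U := sup_le hZU (Subgroup.zpowers_le.2 huU)
    refine Subgroup.eq_of_le_of_card_ge hle ?_
    rw [← relIndex_mul_card hZU, ← relIndex_mul_card (le_sup_left : Z ≤ Z ⊔ Subgroup.zpowers u), hd]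
    refine Nat.mul_le_mul le_rfl (le_of_eq ?_)
    have hdvd : Z.relIndex (Z ⊔ Subgroup.zpowers u) ∣ q :=
      hd ▸ ⟨_, (Subgroup.relIndex_mul_relIndex Z _ U le_sup_left hle).symm⟩
    refine (((Nat.dvd_prime hq).1 hdvd).resolve_left fun h => huZ ?_).symm
    exact Subgroup.relIndex_eq_one.1 h (Subgroup.mem_sup_right (Subgroup.mem_zpowers u))
  have hact : ∀ g ∈ P, ∃ n : ℤ, ∃ z ∈ Z, g * u * g⁻¹ = z * u ^ n := by
    intro g hg
    obtain ⟨z, hz, e, ⟨n, rfl : u ^ n = e⟩, h⟩ := (SolvBasic.mem_sup_iff_of_le_normalizer hun).1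
      (hUeq.symm ▸ (Subgroup.mem_normalizer_iff.1 (hPU hg) u).1 huU)
    exact ⟨n, z, hz, h⟩
  choose! N hN using hact
  -- conjugation by powers of `s`
  set us : ℕ → G := fun i => s ^ i * u * (s ^ i)⁻¹ with hus
  have husQ : ∀ i, us i ∈ S := fun i => hsi S hsQ i u (hUQ huU)
  have hcomm1 : ∀ k, ⁅u, us k⁆ = 1 := by
    intro k
    by_contra hz1
    set z := ⁅u, us k⁆ with hzdef
    have hzo : orderOf z = q := orderOf_eq_prime (hcq _ (hUQ huU) _ (husQ k)) hz1
    have hpow : ∀ w ∈ Z, ∀ v ∈ Z, ∀ (a b : ℤ), ⁅w * u ^ a, v * us k ^ b⁆ = z ^ (a * b) := by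
      intro w hw v hv a b
      have hu := hUQ huU
      have huk := husQ k
      let ψ : ∀ x ∈ S, S →* G := fun x hx =>
        MonoidHom.mk' (fun y : S => ⁅x, (y : G)⁆) fun y y' => hcmul x hx y y.2 y' y'.2
      have hr1 : ∀ x (hx : x ∈ S) y (hy : y ∈ S) (n : ℤ), ⁅x, y ^ n⁆ = ⁅x, y⁆ ^ n :=
        fun x hx y hy n => map_zpow (ψ x hx) ⟨y, hy⟩ n
      have hl : ∀ x (hx : x ∈ S) y (hy : y ∈ S) (n : ℤ), ⁅x ^ n, y⁆ = ⁅x, y⁆ ^ n := by
        intro x hx y hy n
        rw [← commutatorElement_inv, hr1 y hy x hx n, ← inv_zpow, commutatorElement_inv]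
      have hwS : w * u ^ a ∈ S := mul_mem (hZQ hw) (S.zpow_mem hu a)
      rw [hcmul _ hwS v (hZQ hv) _ (S.zpow_mem huk b),
        commutatorElement_eq_one_iff_mul_comm.2 (hcZ v hv _ hwS).symm, one_mul, hr1 _ hwS _ huk,
        zpow_mul]
      refine congrArg (· ^ b) ?_
      rw [← commutatorElement_inv, hcmul _ huk w (hZQ hw) _ (S.zpow_mem hu a),
        commutatorElement_eq_one_iff_mul_comm.2 (hcZ w hw _ huk).symm, one_mul, commutatorElement_inv,
        hl u hu _ huk]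
    let g' : G → G := fun g => (s ^ k)⁻¹ * g * s ^ k
    let n : G → ZMod q := fun g => (N g : ℤ)
    have hrel : ∀ g ∈ P, n g * n (g' g) = 1 := by
      intro g hg
      obtain ⟨w, hw, e1⟩ := hN g hg
      obtain ⟨v, hv, e2⟩ := hN (g' g) (hsPi k g hg)
      have e3 : g * us k * g⁻¹ = (s ^ k * v * (s ^ k)⁻¹) * us k ^ N (g' g) := by
        have h1 : g * us k * g⁻¹ = s ^ k * (g' g * u * (g' g)⁻¹) * (s ^ k)⁻¹ := by
          simp only [hus, g']; group
        rw [h1, e2, hus]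
        simp only [conj_zpow]
        group
      have e4 := hpow w hw _ (hsi Z hsZ k v hv) (N g) (N (g' g))
      rw [← e1, ← e3] at e4
      have e5 : ⁅g * u * g⁻¹, g * us k * g⁻¹⁆ = g * z * g⁻¹ := by
        simp only [hzdef, commutatorElement_def]; group
      have hzc : z ∈ Z := hc _ (hUQ huU) _ (husQ k)
      rw [e5, Subgroup.mem_centralizer_iff.1 (hZP hzc) g hg, mul_inv_cancel_right] at e4
      have e6 : z ^ (N g * N (g' g) - 1) = 1 := by rw [zpow_sub, ← e4, zpow_one, mul_inv_cancel]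
      rw [← orderOf_dvd_iff_zpow_eq_one, hzo, ← ZMod.intCast_zmod_eq_zero_iff_dvd] at e6
      push_cast at e6
      exact sub_eq_zero.1 e6
    have hit : ∀ g ∈ P, ∀ j, g'^[j] g ∈ P ∧ n (g'^[j] g) = (if Even j then n g else n (g' g)) ∧
        g'^[j] g = (s ^ (k * j))⁻¹ * g * s ^ (k * j) := by
      intro g hg j
      induction j with
      | zero => exact ⟨hg, by simp, by simp⟩
      | succ j ih =>
        obtain ⟨h1, h2, h3⟩ := ih
        rw [Function.iterate_succ_apply']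
        refine ⟨hsPi k _ h1, ?_, ?_⟩
        · have hj := hrel _ h1
          have hg0 := hrel g hg
          by_cases hj2 : Even j
          · rw [if_pos hj2] at h2
            rw [if_neg (by simp [Nat.even_add_one, hj2])]
            rw [h2] at hj
            exact (left_inv_eq_right_inv (by rwa [mul_comm] at hg0) hj).symm
          · rw [if_neg hj2] at h2
            rw [if_pos (Nat.even_add_one.2 hj2)]
            rw [h2] at hj
            rw [mul_comm] at hg0
            exact (left_inv_eq_right_inv (by rwa [mul_comm] at hg0) hj).symm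
        · rw [h3, Nat.mul_succ, pow_add]
          simp only [g']; group
    have hsq : ∀ g ∈ P, n g * n g = 1 := by
      intro g hg
      obtain ⟨-, h2, h3⟩ := hit g hg r
      rw [if_neg hrodd] at h2
      rw [mul_comm k r, pow_mul, hs, one_pow, inv_one, one_mul, mul_one] at h3
      rw [h3] at h2
      nth_rw 2 [h2]
      exact hrel g hg
    refine huZ (hfix u (hUQ huU) fun g hg => ?_)
    -- the square of `g` fixes `u` modulo `Z`
    set C : Subgroup G := Subgroup.normalizer (Z : Set G) with hC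
    have hPC : P ≤ C := fun g hg => mem_normalizer_of_map_le fun z hz => by
      rwa [Subgroup.mem_centralizer_iff.1 (hZP hz) g hg, mul_inv_cancel_right]
    have hsq2 : ⁅g ^ 2, u⁆ ∈ Z := by
      obtain ⟨w, hw, e1⟩ := hN g hg
      have e2 : g ^ 2 * u * (g ^ 2)⁻¹ = w * (w * u ^ N g) ^ N g := by
        rw [show g ^ 2 * u * (g ^ 2)⁻¹ = g * (g * u * g⁻¹) * g⁻¹ by rw [pow_two]; group, e1,
          show g * (w * u ^ N g) * g⁻¹ = (g * w * g⁻¹) * (g * u ^ N g * g⁻¹) by group, ← conj_zpow, e1,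
          Subgroup.mem_centralizer_iff.1 (hZP hw) g hg, mul_inv_cancel_right]
      have hwu : Commute w (u ^ N g) := hcZ w hw _ (S.zpow_mem (hUQ huU) _)
      rw [hwu.mul_zpow, ← zpow_mul] at e2
      have hn1 : (q : ℤ) ∣ N g * N g - 1 := by
        rw [← ZMod.intCast_zmod_eq_zero_iff_dvd]
        push_cast
        exact sub_eq_zero.2 (hsq g hg)
      obtain ⟨t, ht⟩ := hn1
      rw [commutatorElement_def, e2, show N g * N g = q * t + 1 by omega, zpow_add, zpow_mul,
        zpow_natCast, zpow_one]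
      rw [show w * (w ^ N g * ((u ^ q) ^ t * u)) * u⁻¹ = w * w ^ N g * (u ^ q) ^ t by group]
      exact mul_mem (mul_mem hw (Z.zpow_mem hw _)) (Z.zpow_mem (hexp u (hUQ huU)) _)
    obtain ⟨e, he⟩ := hP.exists_card_eq
    have hpe : Odd (p ^ e) := hpodd.pow
    obtain ⟨m, hm⟩ := hpe
    have hg1 : g ^ (p ^ e) = 1 := by
      rw [← he]; exact congrArg Subtype.val (pow_card_eq_one' (x := (⟨g, hg⟩ : P)))
    have hgm : (g ^ 2) ^ (m + 1) = g := by
      rw [← pow_mul, show 2 * (m + 1) = p ^ e + 1 by omega, pow_succ, hg1, one_mul]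
    have key : ∀ j : ℕ, ⁅(g ^ 2) ^ j, u⁆ ∈ Z := by
      intro j
      induction j with
      | zero => simp
      | succ j ih =>
        rw [pow_succ, show ⁅(g ^ 2) ^ j * g ^ 2, u⁆ =
          (g ^ 2) ^ j * ⁅g ^ 2, u⁆ * ((g ^ 2) ^ j)⁻¹ * ⁅(g ^ 2) ^ j, u⁆ by
            simp only [commutatorElement_def]; group]
        exact mul_mem ((Subgroup.mem_normalizer_iff.1
          (C.pow_mem (C.pow_mem (hPC hg) 2) j) _).1 hsq2) ih
    exact hgm ▸ key (m + 1)
  have hall : ∀ i j, i ≤ j → us i * us j = us j * us i := by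
    intro i j hij
    have h := commutatorElement_eq_one_iff_mul_comm.1 (hcomm1 (j - i))
    have e : us j = s ^ i * us (j - i) * (s ^ i)⁻¹ := by
      simp only [hus]
      rw [show s ^ j = s ^ i * s ^ (j - i) by rw [← pow_add, Nat.add_sub_of_le hij]]
      group
    rw [e]
    calc us i * (s ^ i * us (j - i) * (s ^ i)⁻¹) = s ^ i * (u * us (j - i)) * (s ^ i)⁻¹ := by
          simp only [hus]; group
      _ = s ^ i * (us (j - i) * u) * (s ^ i)⁻¹ := by rw [h]
      _ = _ := by simp only [hus]; group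
  have hZn : ∀ i, Subgroup.zpowers (us i) ≤ Subgroup.normalizer (Z : Set G) := fun i =>
    Subgroup.zpowers_le.2 (mem_normalizer_of_map_le fun z hz => by
      rwa [← hcZ z hz _ (husQ i), mul_inv_cancel_right])
  set T : Set G := (Z : Set G) ∪ Set.range us with hT
  have hTS : Subgroup.closure T = S := by
    have hZle : Z ≤ Subgroup.closure T := fun z hz => Subgroup.subset_closure (Or.inl hz)
    have husle : ∀ i, us i ∈ Subgroup.closure T := fun i => Subgroup.subset_closure (Or.inr ⟨i, rfl⟩)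
    refine (hirr _ hZle ((Subgroup.closure_le S).2 (Set.union_subset hZQ (Set.range_subset_iff.2 husQ)))
      (fun g hg => mem_normalizer_of_map_le fun x hx => ?_)
      (mem_normalizer_of_map_le fun x hx => ?_)).resolve_left fun h => huZ ?_
    · refine Subgroup.closure_induction (p := fun x _ => g * x * g⁻¹ ∈ Subgroup.closure T) ?_ (by simp)
        (fun a b _ _ ha hb => by
          rw [show g * (a * b) * g⁻¹ = g * a * g⁻¹ * (g * b * g⁻¹) by group]; exact mul_mem ha hb)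
        (fun a _ ha => by rw [show g * a⁻¹ * g⁻¹ = (g * a * g⁻¹)⁻¹ by group]; exact inv_mem ha) hx
      rintro y (hy | ⟨i, rfl⟩)
      · rw [Subgroup.mem_centralizer_iff.1 (hZP hy) g hg, mul_inv_cancel_right]
        exact hZle hy
      · obtain ⟨v, hv, e2⟩ := hN _ (hsPi i g hg)
        rw [show g * us i * g⁻¹ = s ^ i * ((s ^ i)⁻¹ * g * s ^ i * u * ((s ^ i)⁻¹ * g * s ^ i)⁻¹) * (s ^ i)⁻¹ by
          simp only [hus]; group, e2,
          show s ^ i * (v * u ^ N ((s ^ i)⁻¹ * g * s ^ i)) * (s ^ i)⁻¹ =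
            (s ^ i * v * (s ^ i)⁻¹) * (us i) ^ N ((s ^ i)⁻¹ * g * s ^ i) by
              simp only [hus, conj_zpow]; group]
        exact mul_mem (hZle (hsi Z hsZ i v hv)) (Subgroup.zpow_mem _ (husle i) _)
    · refine Subgroup.closure_induction (p := fun x _ => s * x * s⁻¹ ∈ Subgroup.closure T) ?_ (by simp)
        (fun a b _ _ ha hb => by
          rw [show s * (a * b) * s⁻¹ = s * a * s⁻¹ * (s * b * s⁻¹) by group]; exact mul_mem ha hb)
        (fun a _ ha => by rw [show s * a⁻¹ * s⁻¹ = (s * a * s⁻¹)⁻¹ by group]; exact inv_mem ha) hx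
      rintro y (hy | ⟨i, rfl⟩)
      · exact hZle ((Subgroup.mem_normalizer_iff.1 hsZ y).1 hy)
      · rw [show s * us i * s⁻¹ = us (i + 1) by simp only [hus, pow_succ']; group]
        exact husle _
    · have h0 : us 0 = u := by simp [hus]
      exact h0 ▸ h ▸ husle 0
  intro x hx y hy
  rw [← hTS] at hx hy
  have hTT : ∀ a ∈ T, ∀ b ∈ T, a * b = b * a := by
    rintro a (ha | ⟨i, rfl⟩) b hb
    · refine hcZ a ha b ?_
      rcases hb with hb | ⟨j, rfl⟩
      · exact hZQ hb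
      · exact husQ j
    · rcases hb with hb | ⟨j, rfl⟩
      · exact (hcZ b hb _ (husQ i)).symm
      · rcases le_total i j with h | h
        · exact hall i j h
        · exact (hall j i h).symm
  haveI := Subgroup.isMulCommutative_closure fun a ha b hb => hTT a ha b hb
  exact setLike_mul_comm hx hy

end Cfsg.Agent.OddOrder.ComplAbelian
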