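import Cfsg.Agent.Lib.OddOrder.ComplReduce

/-!
The critical configuration `H = V Q P` in the theorem on the `p`-length of `⁅H, R⁆`.
-/

set_option autoImplicit false
open scoped Pointwise commutatorElement

universe u

namespace Cfsg.Agent.OddOrder.ComplCore

open ComplAbelian (mem_normalizer_of_map_le relIndex_mul_card)
open ComplReduce

variable {G : Type u} [Group G] [Finite G]

/-- A group centralising `O_{p', p}` modulo `O_{p'}` through `R` and equal to `⁅Y, R⁆` is a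
`p'`-group. -/
theorem coprime_of_sylow_centralized {p : ℕ} [hp : Fact p.Prime] [Group.IsSolvable G]
    (Y R : Subgroup G) [hYn : Y.Normal] (hYR : ⁅Y, R⁆ = Y) (S : Sylow p Y)
    (hSR : ⁅((S : Subgroup Y).map Y.subtype), R⁆ = ⊥) : (Nat.card Y).Coprime p := by
  set N : Subgroup G := (Cfsg.pPrimeCore p Y).map Y.subtype with hN
  haveI hNn : N.Normal :=
    FittingCores.normal_map_of_characteristic hYn (FittingCores.pPrimeCore_characteristic p)
  set π := QuotientGroup.mk' N with hπ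
  have hπs : Function.Surjective π := QuotientGroup.mk'_surjective N
  set Y₂ : Subgroup (G ⧸ N) := Y.map π with hY₂
  haveI hY₂n : Y₂.Normal := hYn.map π hπs
  haveI : Group.IsSolvable (G ⧸ N) := Group.isSolvable_of_surjective hπs
  let f := π.subgroupMap Y
  have hker : f.ker = Cfsg.pPrimeCore p Y := by
    ext x
    rw [MonoidHom.mem_ker]
    constructor
    · intro h
      obtain ⟨y, hy, hyx⟩ := (QuotientGroup.eq_one_iff (x : G)).1 (congrArg Subtype.val h)
      exact Subtype.ext hyx ▸ hy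
    · intro h
      exact Subtype.ext ((QuotientGroup.eq_one_iff (x : G)).2 ⟨x, h, rfl⟩)
  have hO : Cfsg.pPrimeCore p Y₂ = ⊥ := by
    rw [eq_bot_iff]
    intro y hy
    obtain ⟨x, rfl⟩ := π.subgroupMap_surjective Y y
    haveI := FittingCores.pPrimeCore_normal (G := Y) p
    have hK : (Cfsg.pPrimeCore p Y₂).comap f ≤ Cfsg.pPrimeCore p Y := by
      refine FittingCores.le_pPrimeCore ((FittingCores.pPrimeCore_normal p).comap f) ?_
      rw [← Subgroup.relIndex_bot_left, ← Subgroup.relIndex_mul_relIndex ⊥ f.ker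
        ((Cfsg.pPrimeCore p Y₂).comap f) bot_le (MonoidHom.ker_le_comap _ _), Subgroup.relIndex_bot_left,
        Subgroup.relIndex_ker, Subgroup.map_comap_eq_self_of_surjective (π.subgroupMap_surjective Y)]
      exact Nat.Coprime.mul_left (by rw [hker]; exact FittingCores.pPrimeCore_coprime p)
        (FittingCores.pPrimeCore_coprime p)
    refine Subgroup.mem_bot.2 ?_
    have h1 : x ∈ f.ker := hker ▸ hK hy
    exact h1
  -- `O_p` of the quotient is central
  set T : Subgroup (G ⧸ N) := (Cfsg.pCore p Y₂).map Y₂.subtype with hT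
  haveI hTn : T.Normal := FittingCores.normal_map_of_characteristic hY₂n (FittingCores.pCore_characteristic p)
  have hTS : T ≤ ((S : Subgroup Y).map Y.subtype).map π := by
    rintro _ ⟨t, ht, rfl⟩
    obtain ⟨x, hx, hxt⟩ := FittingCores.pCore_le_sylow (S.mapSurjective (π.subgroupMap_surjective Y)) ht
    exact ⟨x, ⟨x, hx, rfl⟩, congrArg Subtype.val hxt⟩
  have hTR : ⁅T, R.map π⁆ = ⊥ := by
    refine le_bot_iff.1 ((Subgroup.commutator_mono hTS le_rfl).trans ?_)
    rw [← Subgroup.map_commutator, hSR, Subgroup.map_bot]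
  have hYR₂ : ⁅Y₂, R.map π⁆ = Y₂ := by rw [hY₂, ← Subgroup.map_commutator, hYR]
  have hcent : ⁅Y₂, T⁆ = ⊥ := by
    conv_lhs => rw [← hYR₂]
    refine Subgroup.commutator_commutator_eq_bot_of_rotate ?_ ?_
    · rw [Subgroup.commutator_comm (R.map π) T, hTR, Subgroup.commutator_bot_left]
    · exact le_bot_iff.1 ((Subgroup.commutator_mono (Subgroup.commutator_le_left T Y₂) le_rfl).trans hTR.le)
  have htop : Cfsg.pCore p Y₂ = ⊤ := by
    refine top_le_iff.1 fun y _ => FittingCores.centralizer_pCore_le hp.out hO ?_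
    refine Subgroup.mem_centralizer_iff.2 fun t ht => Subtype.ext ?_
    exact (Subgroup.mem_centralizer_iff.1 (Subgroup.commutator_eq_bot_iff_le_centralizer.1 hcent y.2)
      _ ⟨t, ht, rfl⟩)
  have hbot : Y₂ = ⊥ := by
    have hTY : T = Y₂ := by rw [hT, htop, ← MonoidHom.range_eq_map, Subgroup.range_subtype]
    rw [← hYR₂, ← hTY, hTR]
  have hle : Y ≤ N := by
    rw [hY₂, Subgroup.map_eq_bot_iff, hπ, QuotientGroup.ker_mk'] at hbot
    exact hbot
  refine Nat.Coprime.coprime_dvd_left ((Subgroup.card_dvd_of_le hle).trans (dvd_of_eq ?_))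
    (FittingCores.pPrimeCore_coprime (G := Y) p)
  rw [hN, Subgroup.card_map_of_injective Y.subtype_injective]

/-- From `p`-length one of `⁅K, R'⁆` to centralisation. -/
theorem absorb {p q : ℕ} [hp : Fact p.Prime] [hq : Fact q.Prime] (hpq : p ≠ q) (V H K R' P₁ Q₁ : Subgroup G)
    (hVp : IsPGroup p V) (hCV : H ⊓ Subgroup.centralizer (V : Set G) ≤ V) (hVn : H ≤ Subgroup.normalizer (V : Set G))
    (hVK : V ≤ K) (hKH : K ≤ H) (hn : R' ≤ Subgroup.normalizer (K : Set G))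
    (hlen : Cfsg.PLengthLE p 1 ↥⁅K, R'⁆)
    (hP₁ : IsPGroup p P₁) (hP₁K : P₁ ≤ K) (hRP₁ : R' ≤ Subgroup.normalizer (P₁ : Set G))
    (hQ₁ : IsPGroup q Q₁) (hQ₁K : Q₁ ≤ K) (hPQ₁ : P₁ ≤ Subgroup.normalizer (Q₁ : Set G)) :
    ⁅P₁, R'⁆ ≤ Subgroup.centralizer (Q₁ : Set G) := by
  set L : Subgroup G := ⁅K, R'⁆ with hL
  have hLK : L ≤ K := CoprimeAct.commutator_le_left hn
  have hKL : K ≤ Subgroup.normalizer (L : Set G) := Subgroup.normalizer_commutator_ge_left K R'
  have hchar : ∀ (C : Subgroup L), C.Characteristic → K ≤ Subgroup.normalizer (C.map L.subtype : Set G) := by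
    intro C hC g hg
    refine mem_normalizer_of_map_le ?_
    rintro _ ⟨x, hx, rfl⟩
    let e : MulAut L := L.normalizerMonoidHom ⟨g, hKL hg⟩
    refine ⟨e x, ?_, rfl⟩
    rw [← Subgroup.characteristic_iff_comap_eq.1 hC e] at hx
    exact hx
  set M : Subgroup G := (Cfsg.pPrimeCore p L).map L.subtype with hM
  have hMc : (Nat.card M).Coprime p := by
    rw [hM, Subgroup.card_map_of_injective L.subtype_injective]
    exact FittingCores.pPrimeCore_coprime p
  have hMK : M ≤ K := (Subgroup.map_subtype_le _).trans hLK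
  have hMV : M ⊓ V = ⊥ := by
    obtain ⟨k, hk⟩ := hVp.exists_card_eq
    exact SchurZ.inf_eq_bot (hk ▸ (hMc.symm.pow_left k) : (Nat.card V).Coprime (Nat.card M))
  have hM1 : M = ⊥ := by
    refine le_bot_iff.1 (hMV ▸ le_inf le_rfl ?_)
    refine le_trans (le_inf (hMK.trans hKH) ?_) hCV
    refine fun m hm => Subgroup.mem_centralizer_iff.2 fun v hv => ?_
    have h1 : v * m * v⁻¹ * m⁻¹ ∈ M ⊓ V := by
      refine ⟨M.mul_mem ((Subgroup.mem_normalizer_iff.1
        (hchar _ (FittingCores.pPrimeCore_characteristic p) (hVK hv)) m).1 hm) (M.inv_mem hm), ?_⟩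
      rw [show v * m * v⁻¹ * m⁻¹ = v * (m * v⁻¹ * m⁻¹) by group]
      exact V.mul_mem hv ((Subgroup.mem_normalizer_iff.1 (hVn (hKH (hMK hm))) _).1 (V.inv_mem hv))
    rw [hMV, Subgroup.mem_bot] at h1
    exact commutatorElement_eq_one_iff_mul_comm.1 h1
  have hO : Cfsg.pPrimeCore p L = ⊥ := by
    rw [hM, Subgroup.map_eq_bot_iff_of_injective _ L.subtype_injective] at hM1
    exact hM1
  have hcop := (plen_iff hO).1 hlen
  set W : Subgroup G := (Cfsg.pCore p L).map L.subtype with hW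
  have hWp : IsPGroup p W := (FittingCores.pCore_isPGroup p).map _
  have hWK : K ≤ Subgroup.normalizer (W : Set G) := hchar _ (FittingCores.pCore_characteristic p)
  intro g hg
  have hgP : g ∈ P₁ := CoprimeAct.commutator_le_left hRP₁ hg
  have hgL : g ∈ L := Subgroup.commutator_mono hP₁K le_rfl hg
  obtain ⟨k, hk⟩ := pow_eq_one_of_mem hP₁ hgP
  have hgW : g ∈ W := ⟨⟨g, hgL⟩, mem_pCore hcop (Subtype.ext (by simpa using hk)), rfl⟩
  refine Subgroup.mem_centralizer_iff.2 fun z hz => ?_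
  have h1 : g * z * g⁻¹ * z⁻¹ ∈ W ⊓ Q₁ := by
    refine ⟨?_, Q₁.mul_mem ((Subgroup.mem_normalizer_iff.1 (hPQ₁ hgP) z).1 hz) (Q₁.inv_mem hz)⟩
    rw [show g * z * g⁻¹ * z⁻¹ = g * (z * g⁻¹ * z⁻¹) by group]
    exact W.mul_mem hgW ((Subgroup.mem_normalizer_iff.1 (hWK (hQ₁K hz)) _).1 (W.inv_mem hgW))
  have hbot : W ⊓ Q₁ = ⊥ := disjoint_iff.1 (IsPGroup.disjoint_of_ne p q hpq W Q₁ hWp hQ₁)
  rw [hbot, Subgroup.mem_bot] at h1
  exact (commutatorElement_eq_one_iff_mul_comm.1 h1).symm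

/-- The critical configuration. -/
structure Crit (p q r : ℕ) (H R R₀ V Q P : Subgroup G) : Prop where
  pp : p.Prime
  qp : q.Prime
  rp : r.Prime
  hpq : p ≠ q
  hpr : p ≠ r
  hqr : q ≠ r
  hp2 : p ≠ 2
  hq2 : q ≠ 2
  hr2 : r ≠ 2
  le : R₀ ≤ R
  card_R₀ : Nat.card R₀ = r
  zgroup : IsZGroup ↥(H ⊓ Subgroup.centralizer (R₀ : Set G))
  cop : (Nat.card R).Coprime (Nat.card H)
  elem : Cfsg.IsElementaryAbelian p V
  isQ : IsPGroup q Q
  isP : IsPGroup p P
  hVH : V ≤ H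
  hQH : Q ≤ H
  hPH : P ≤ H
  hQV : Q ≤ Subgroup.normalizer (V : Set G)
  hPV : P ≤ Subgroup.normalizer (V : Set G)
  hRV : R ≤ Subgroup.normalizer (V : Set G)
  hPQ : P ≤ Subgroup.normalizer (Q : Set G)
  hRQ : R ≤ Subgroup.normalizer (Q : Set G)
  hRP : R ≤ Subgroup.normalizer (P : Set G)
  inf_PV : P ⊓ V = ⊥
  faith : Q ⊓ Subgroup.centralizer (V : Set G) = ⊥
  hCVQ : V ⊓ Subgroup.centralizer (Q : Set G) = ⊥
  hCPQ : P ⊓ Subgroup.centralizer (Q : Set G) = ⊥
  hP1 : P ≠ ⊥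
  hPR : ⁅P, R⁆ = P
  hQP : ⁅Q, P⁆ = Q
  propP : ∀ P₁ : Subgroup G, P₁ ≤ P → P₁ ≠ P → R ≤ Subgroup.normalizer (P₁ : Set G) →
    P₁ ≤ Subgroup.centralizer (R : Set G)
  propQ : ∀ Q₁ : Subgroup G, Q₁ ≤ Q → Q₁ ≠ Q → R ≤ Subgroup.normalizer (Q₁ : Set G) →
    P ≤ Subgroup.normalizer (Q₁ : Set G) → P ≤ Subgroup.centralizer (Q₁ : Set G)
  propR : R₀ ≠ R → P ≤ Subgroup.centralizer (R₀ : Set G)

variable {p q r : ℕ} {H R R₀ V Q P : Subgroup G}

lemma isCyclic_of_le {X : Subgroup G} {s : ℕ} (hZ : IsZGroup ↥(H ⊓ Subgroup.centralizer (R₀ : Set G)))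
    [Fact s.Prime] (hX : IsPGroup s X) (hle : X ≤ H ⊓ Subgroup.centralizer (R₀ : Set G)) : IsCyclic X := by
  haveI := IsZGroup.of_injective (Subgroup.inclusion_injective hle)
  haveI := hX.isNilpotent
  infer_instance

lemma eq_of_prime_card {C A B : Subgroup G} {s : ℕ} [hs : Fact s.Prime] (hC : IsCyclic C) (hA : A ≤ C)
    (hB : B ≤ C) (hAc : Nat.card A = s) (hBc : Nat.card B = s) : A = B := by
  haveI := hC
  obtain ⟨g, hg⟩ := IsCyclic.exists_generator (α := C)
  have hgen : C = Subgroup.zpowers (g : G) := le_antisymm (fun x hx => by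
    obtain ⟨i, hi⟩ := Subgroup.mem_zpowers_iff.1 (hg ⟨x, hx⟩)
    exact ⟨i, by simpa using congrArg Subtype.val hi⟩) (Subgroup.zpowers_le.2 g.2)
  have hcomm : ∀ x ∈ C, ∀ y ∈ C, Commute x y := fun x hx y hy => by
    obtain ⟨i, rfl⟩ := Subgroup.mem_zpowers_iff.1 (hgen ▸ hx)
    obtain ⟨j, rfl⟩ := Subgroup.mem_zpowers_iff.1 (hgen ▸ hy)
    exact (Commute.refl _).zpow_zpow i j
  have hpow : ∀ {D : Subgroup G}, Nat.card D = s → ∀ x ∈ D, x ^ s = 1 := fun hD x hx => by
    have := congrArg Subtype.val (pow_card_eq_one' (x := (⟨x, hx⟩ : _)))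
    rw [hD] at this
    simpa using this
  have hexp : ∀ x ∈ A ⊔ B, x ^ s = 1 := by
    intro x hx
    obtain ⟨a, ha, b, hb, rfl⟩ := (SolvBasic.mem_sup_iff_of_le_normalizer (N := A) (H := B)
      fun b hb => mem_normalizer_of_map_le fun a ha => by
        rwa [(hcomm b (hB hb) a (hA ha)).eq, mul_inv_cancel_right]).1 hx
    rw [(hcomm a (hA ha) b (hB hb)).mul_pow, hpow hAc a ha, hpow hBc b hb, one_mul]
  have hcy : IsCyclic (A ⊔ B : Subgroup G) := by
    haveI : IsCyclic ↥((A ⊔ B : Subgroup G).subgroupOf C) := inferInstance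
    exact isCyclic_of_surjective _ (Subgroup.subgroupOfEquivOfLe (sup_le hA hB)).surjective
  obtain ⟨w, hw⟩ := hcy.exists_generator
  have hle : Nat.card (A ⊔ B : Subgroup G) ≤ s := by
    rw [← orderOf_eq_card_of_forall_mem_zpowers hw]
    exact Nat.le_of_dvd hs.out.pos (orderOf_dvd_of_pow_eq_one (Subtype.ext (by simpa using hexp w w.2)))
  exact (Subgroup.eq_of_le_of_card_ge le_sup_left (hle.trans hAc.ge)).trans
    (Subgroup.eq_of_le_of_card_ge le_sup_right (hle.trans hBc.ge)).symm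

/-- A cyclic group of prime exponent has prime order. -/
theorem card_eq_of_cyclic {M : Type u} [Group M] [Finite M] {X : Subgroup M} {s : ℕ} (hs : s.Prime)
    (hX : IsCyclic X) (hX1 : X ≠ ⊥) (hexp : ∀ x ∈ X, x ^ s = 1) : Nat.card X = s := by
  haveI := Fact.mk hs
  obtain ⟨g, hg⟩ := hX.exists_generator
  rw [← orderOf_eq_card_of_forall_mem_zpowers hg]
  refine orderOf_eq_prime (Subtype.ext (by simpa using hexp g g.2)) fun h => hX1 ?_
  refine (Subgroup.eq_bot_iff_forall X).2 fun x hx => ?_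
  obtain ⟨i, hi⟩ := Subgroup.mem_zpowers_iff.1 (hg ⟨x, hx⟩)
  rw [h, one_zpow] at hi
  exact (congrArg Subtype.val hi).symm

/-- `R₀` fixes a vector. -/
lemma Crit.fixed_ne_bot (c : Crit p q r H R R₀ V Q P) :
    V ⊓ Subgroup.centralizer (R₀ : Set G) ≠ ⊥ := by
  intro h
  haveI := Fact.mk c.qp
  have hle := le_inf (CoprimeAct.commutator_le_left (c.le.trans c.hRQ))
    (ComplAction.commutator_le_centralizer_of_fixed c.pp c.qp c.rp c.hpq c.hpr c.hqr c.hq2 R₀ Q V
      c.card_R₀ c.isQ c.elem (c.le.trans c.hRQ) (c.le.trans c.hRV) c.hQV h)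
  rw [c.faith, le_bot_iff] at hle
  have hQc : IsCyclic Q := isCyclic_of_le c.zgroup c.isQ
    (le_inf c.hQH (Subgroup.commutator_eq_bot_iff_le_centralizer.1 hle))
  exact c.hP1 (le_bot_iff.1 (c.hCPQ ▸ le_inf le_rfl (le_centralizer_of_cyclic hQc c.hPQ c.hRQ c.hPR)))

/-- `R₀` moves `P`. -/
theorem Crit.not_centralized (c : Crit p q r H R R₀ V Q P) :
    ¬ P ≤ Subgroup.centralizer (R₀ : Set G) := by
  intro hcen
  haveI := Fact.mk c.pp
  haveI hPc : IsCyclic P := isCyclic_of_le c.zgroup c.isP (le_inf c.hPH hcen)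
  haveI hPab : IsMulCommutative P := .of_setLike_mul_comm fun a ha b hb => by
    obtain ⟨g, hg⟩ := IsCyclic.exists_generator (α := P)
    obtain ⟨i, hi⟩ := Subgroup.mem_zpowers_iff.1 (hg ⟨a, ha⟩)
    obtain ⟨j, hj⟩ := Subgroup.mem_zpowers_iff.1 (hg ⟨b, hb⟩)
    exact congrArg Subtype.val (show (⟨a, ha⟩ : P) * ⟨b, hb⟩ = ⟨b, hb⟩ * ⟨a, ha⟩ by
      rw [← hi, ← hj, ← zpow_add, ← zpow_add, add_comm])
  have hcopP : (Nat.card R).Coprime (Nat.card P) := c.cop.coprime_dvd_right (Subgroup.card_dvd_of_le c.hPH)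
  have hCPR : P ⊓ Subgroup.centralizer (R : Set G) = ⊥ := by
    have h := CoprimeAct.centralizer_inf_commutator_eq_bot c.hRP hcopP
    rwa [c.hPR, inf_eq_left.2 inf_le_left] at h
  -- the subgroup of `p`-th powers
  set P₁ : Subgroup G := Subgroup.closure {x | ∃ g ∈ P, g ^ p = x} with hP₁
  have hP₁P : P₁ ≤ P := (Subgroup.closure_le P).2 fun x ⟨g, hg, hgx⟩ => hgx ▸ P.pow_mem hg p
  obtain ⟨g, hg⟩ := IsCyclic.exists_generator (α := P)
  have hgp : (g : G) ^ p = 1 := by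
    by_contra hne
    have hmem : (g : G) ^ p ∈ P₁ := Subgroup.subset_closure ⟨g, g.2, rfl⟩
    have hne' : P₁ ≠ P := by
      intro h
      have hsub : P₁ ≤ Subgroup.zpowers ((g : G) ^ p) := by
        refine (Subgroup.closure_le _).2 ?_
        rintro x ⟨y, hy, rfl⟩
        obtain ⟨i, hi⟩ := Subgroup.mem_zpowers_iff.1 (hg ⟨y, hy⟩)
        have hi' : (g : G) ^ i = y := by simpa using congrArg Subtype.val hi
        refine ⟨i, ?_⟩
        simp only
        rw [← hi', ← zpow_natCast, ← zpow_natCast, ← zpow_mul, ← zpow_mul, mul_comm]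
      have h1 := Subgroup.card_le_of_le (h.ge.trans hsub)
      obtain ⟨k, hk⟩ := c.isP.exists_card_eq
      have hord : orderOf (g : G) = p ^ k := by
        rw [Subgroup.orderOf_coe, orderOf_eq_card_of_forall_mem_zpowers hg, hk]
      have hk0 : k ≠ 0 := fun h0 => hne (by
        rw [orderOf_eq_one_iff.1 (by rw [hord, h0, pow_zero] : orderOf (g : G) = 1), one_pow])
      rw [Nat.card_zpowers, hk, orderOf_pow' _ c.pp.ne_zero, hord,
        Nat.gcd_eq_right (dvd_pow_self p hk0)] at h1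
      exact absurd h1 (not_le.2 (Nat.div_lt_self (pow_pos c.pp.pos k) c.pp.one_lt))
    have hRP₁ : R ≤ Subgroup.normalizer (P₁ : Set G) := fun s hs => by
      refine mem_normalizer_of_map_le fun x hx => ?_
      refine Subgroup.closure_induction (p := fun x _ => s * x * s⁻¹ ∈ P₁) ?_ (by simp)
        (fun a b _ _ ha hb => by
          rw [show s * (a * b) * s⁻¹ = s * a * s⁻¹ * (s * b * s⁻¹) by group]; exact mul_mem ha hb)
        (fun a _ ha => by rw [show s * a⁻¹ * s⁻¹ = (s * a * s⁻¹)⁻¹ by group]; exact inv_mem ha) hx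
      rintro _ ⟨y, hy, rfl⟩
      exact Subgroup.subset_closure ⟨_, (Subgroup.mem_normalizer_iff.1 (c.hRP hs) y).1 hy, conj_pow⟩
    exact hne (Subgroup.mem_bot.1 (hCPR ▸
      (⟨hP₁P hmem, c.propP P₁ hP₁P hne' hRP₁ hmem⟩ : (g : G) ^ p ∈ P ⊓ Subgroup.centralizer (R : Set G))))
  have hg1 : (g : G) ≠ 1 := fun h => c.hP1 ((Subgroup.eq_bot_iff_forall P).2 fun x hx => by
    obtain ⟨i, hi⟩ := Subgroup.mem_zpowers_iff.1 (hg ⟨x, hx⟩)
    have := congrArg Subtype.val hi
    simp only [Subgroup.coe_zpow, h, one_zpow] at this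
    exact this.symm)
  have hPcard : Nat.card P = p := by
    rw [← orderOf_eq_card_of_forall_mem_zpowers hg, ← Subgroup.orderOf_coe, orderOf_eq_prime hgp hg1]
  -- a fixed vector of order `p`
  obtain ⟨⟨v, hv⟩, hv1⟩ := Subgroup.ne_bot_iff_exists_ne_one.1 c.fixed_ne_bot
  have hvne : v ≠ 1 := fun h => hv1 (Subtype.ext h)
  set S : Subgroup G := (V ⊓ Subgroup.centralizer (R₀ : Set G)) ⊔ P with hS
  have hnS : P ≤ Subgroup.normalizer ((V ⊓ Subgroup.centralizer (R₀ : Set G) : Subgroup G) : Set G) :=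
    fun x hx => mem_normalizer_of_map_le fun w hw => ⟨(Subgroup.mem_normalizer_iff.1 (c.hPV hx) w).1 hw.1,
      (Subgroup.centralizer (R₀ : Set G)).mul_mem
        ((Subgroup.centralizer (R₀ : Set G)).mul_mem (hcen hx) hw.2)
        ((Subgroup.centralizer (R₀ : Set G)).inv_mem (hcen hx))⟩
  have hVp : IsPGroup p V := fun w => ⟨1, Subtype.ext (by simpa using c.elem.2 w w.2)⟩
  have hSp : IsPGroup p S := IsPGroup.to_sup_of_normal_left' (hVp.to_le inf_le_left) c.isP hnS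
  have hSc : IsCyclic S := isCyclic_of_le c.zgroup hSp
    (sup_le (le_inf (inf_le_left.trans c.hVH) inf_le_right) (le_inf c.hPH hcen))
  have hvz : Nat.card (Subgroup.zpowers v) = p := by
    rw [Nat.card_zpowers]; exact orderOf_eq_prime (c.elem.2 v hv.1) hvne
  have heq := eq_of_prime_card hSc (Subgroup.zpowers_le.2 (Subgroup.mem_sup_left hv)) le_sup_right hvz hPcard
  exact hvne (Subgroup.mem_bot.1 (c.inf_PV ▸
    (⟨heq ▸ Subgroup.mem_zpowers v, hv.1⟩ : v ∈ P ⊓ V)))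

theorem Crit.false (c : Crit p q r H R R₀ V Q P) : False := by
  classical
  haveI := Fact.mk c.pp
  haveI := Fact.mk c.qp
  haveI := Fact.mk c.rp
  -- `R = R₀`
  have hReq : R₀ = R := by
    by_contra h
    exact c.not_centralized (c.propR h)
  have hRc : Nat.card R = r := hReq ▸ c.card_R₀
  have hZ : IsZGroup ↥(H ⊓ Subgroup.centralizer (R : Set G)) := hReq ▸ c.zgroup
  have hfix : V ⊓ Subgroup.centralizer (R : Set G) ≠ ⊥ := hReq ▸ c.fixed_ne_bot
  set C := V ⊓ Subgroup.centralizer (R : Set G) with hC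
  have hVp : IsPGroup p V := fun w => ⟨1, Subtype.ext (by simpa using c.elem.2 w w.2)⟩
  have hCcard : Nat.card C = p := card_eq_of_cyclic c.pp
    (isCyclic_of_le (R₀ := R) hZ (hVp.to_le inf_le_left) (le_inf (inf_le_left.trans c.hVH) inf_le_right)) hfix
    fun x hx => c.elem.2 x hx.1
  -- `P` meets `C(R)` trivially
  have hCPR : P ⊓ Subgroup.centralizer (R : Set G) = ⊥ := by
    by_contra hne
    set D := P ⊓ Subgroup.centralizer (R : Set G) with hD
    have hDp : IsPGroup p D := c.isP.to_le inf_le_left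
    obtain ⟨m, hm⟩ := hDp.exists_card_eq
    have hm0 : m ≠ 0 := fun h => hne (Subgroup.card_eq_one.1 (by rw [hm, h, pow_zero]))
    obtain ⟨⟨g, hgD⟩, hgo⟩ := exists_prime_orderOf_dvd_card' p
      (hm ▸ dvd_pow_self p hm0 : p ∣ Nat.card D)
    have hn : D ≤ Subgroup.normalizer (C : Set G) := fun x hx => mem_normalizer_of_map_le fun w hw =>
      ⟨(Subgroup.mem_normalizer_iff.1 (c.hPV hx.1) w).1 hw.1,
        (Subgroup.centralizer (R : Set G)).mul_mem
          ((Subgroup.centralizer (R : Set G)).mul_mem hx.2 hw.2)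
          ((Subgroup.centralizer (R : Set G)).inv_mem hx.2)⟩
    have hSp : IsPGroup p (C ⊔ D : Subgroup G) :=
      IsPGroup.to_sup_of_normal_left' (hVp.to_le inf_le_left) hDp hn
    have hSc := isCyclic_of_le (R₀ := R) hZ hSp
      (sup_le (le_inf (inf_le_left.trans c.hVH) inf_le_right) (le_inf (inf_le_left.trans c.hPH) inf_le_right))
    have hgz : Nat.card (Subgroup.zpowers g) = p := by
      rw [Nat.card_zpowers, ← hgo, Subgroup.orderOf_mk]
    have heq := eq_of_prime_card hSc (Subgroup.zpowers_le.2 (Subgroup.mem_sup_right hgD)) le_sup_left hgz hCcard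
    have hgV : g ∈ V := ((heq ▸ Subgroup.mem_zpowers g : g ∈ C)).1
    have : g = 1 := Subgroup.mem_bot.1 (c.inf_PV ▸ (⟨hgD.1, hgV⟩ : g ∈ P ⊓ V))
    rw [Subgroup.orderOf_mk, this, orderOf_one] at hgo
    exact c.pp.one_lt.ne hgo
  -- the Frattini subgroup of `Q`
  set Z : Subgroup G := (frattini Q).map Q.subtype with hZdef
  have hZQ : Z ≤ Q := Subgroup.map_subtype_le _
  haveI : Group.IsNilpotent Q := c.isQ.isNilpotent
  have hQ1 : Q ≠ ⊥ := fun h => c.hP1 (le_bot_iff.1 (c.hCPQ ▸ le_inf le_rfl (fun x _ =>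
    Subgroup.mem_centralizer_iff.2 fun y hy => by
      rw [h] at hy
      rw [Subgroup.mem_bot.1 hy, one_mul, mul_one])))
  have hZne : Z ≠ Q := by
    intro h
    have htop : frattini Q = ⊤ := Subgroup.map_injective Q.subtype_injective (by
      rw [← hZdef, h, ← MonoidHom.range_eq_map, Subgroup.range_subtype])
    haveI := (Subgroup.nontrivial_iff_ne_bot Q).2 hQ1
    obtain ⟨K, hK, -⟩ := (eq_top_or_exists_le_coatom (⊥ : Subgroup Q)).resolve_left bot_ne_top
    exact hK.1 (top_le_iff.1 (htop ▸ frattini_le_coatom hK))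
  have hchar := normalizer_le_normalizer_frattini Q
  have hPZn : P ≤ Subgroup.normalizer (Z : Set G) := c.hPQ.trans hchar
  have hRZn : R ≤ Subgroup.normalizer (Z : Set G) := c.hRQ.trans hchar
  have hQZn : Q ≤ Subgroup.normalizer (Z : Set G) := Subgroup.le_normalizer.trans hchar
  have hPZ : P ≤ Subgroup.centralizer (Z : Set G) := c.propQ Z hZQ hZne hRZn hPZn
  have hcomm : ⁅Q, Q⁆ ≤ Z := by
    rw [Subgroup.commutator_le]
    intro a ha b hb
    exact Subgroup.mem_map_of_mem Q.subtype (SolvStruct.commutator_le_frattini _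
      (Subgroup.commutator_mem_commutator (Subgroup.mem_top (⟨a, ha⟩ : Q)) (Subgroup.mem_top ⟨b, hb⟩)))
  have hexp : ∀ x ∈ Q, x ^ q ∈ Z := fun x hx =>
    Subgroup.mem_map_of_mem Q.subtype (PGroupBasics.pow_mem_frattini c.isQ ⟨x, hx⟩)
  have hZQc : Z ≤ Subgroup.centralizer (Q : Set G) := by
    have h1 : ⁅P, Z⁆ = ⊥ := Subgroup.commutator_eq_bot_iff_le_centralizer.2 hPZ
    have h2 : ⁅Z, Q⁆ ≤ Z := CoprimeAct.commutator_le_left hQZn
    have h3 : ⁅⁅Q, P⁆, Z⁆ = ⊥ := Subgroup.commutator_commutator_eq_bot_of_rotate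
      (by rw [h1, Subgroup.commutator_bot_left])
      (le_bot_iff.1 ((Subgroup.commutator_mono h2 le_rfl).trans
        (by rw [Subgroup.commutator_comm, h1])))
    rw [c.hQP] at h3
    rw [Subgroup.le_centralizer_iff]
    exact Subgroup.commutator_eq_bot_iff_le_centralizer.1 h3
  -- the quotient by `Z`
  set L : Subgroup G := Subgroup.normalizer (Z : Set G) with hL
  set Z' : Subgroup L := Z.subgroupOf L
  haveI : Z'.Normal := Subgroup.normal_subgroupOf_of_le_normalizer (le_of_eq hL)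
  set π := QuotientGroup.mk' Z' with hπ
  have hone : ∀ (a : G) (ha : a ∈ L), π ⟨a, ha⟩ = 1 ↔ a ∈ Z := fun a ha =>
    (QuotientGroup.eq_one_iff _).trans Subgroup.mem_subgroupOf
  set Qb := (Q.subgroupOf L).map π with hQb
  set Pb := (P.subgroupOf L).map π with hPb
  set Rb := (R.subgroupOf L).map π with hRb
  have hnorm : ∀ {A B : Subgroup G}, A ≤ L → A ≤ Subgroup.normalizer (B : Set G) →
      A.subgroupOf L ≤ Subgroup.normalizer (B.subgroupOf L : Set L) := fun _ h a ha =>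
    Subgroup.mem_normalizer_iff.2 fun b => Subgroup.mem_normalizer_iff.1 (h ha) b
  have hnormb : ∀ {A B : Subgroup G}, A ≤ L → A ≤ Subgroup.normalizer (B : Set G) →
      (A.subgroupOf L).map π ≤ Subgroup.normalizer ((B.subgroupOf L).map π : Set (L ⧸ Z')) := by
    rintro A B hA h _ ⟨a, ha, rfl⟩
    exact Subgroup.le_normalizer_map π ⟨a, hnorm hA h ha, rfl⟩
  haveI hQbab : IsMulCommutative Qb := .of_setLike_mul_comm (by
    rintro _ ⟨a, ha, rfl⟩ _ ⟨b, hb, rfl⟩
    rw [← commutatorElement_eq_one_iff_mul_comm, ← map_commutatorElement]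
    exact (hone _ (⁅a, b⁆ : L).2).2 (hcomm (Subgroup.commutator_mem_commutator ha hb)))
  have hQPb : ⁅Qb, Pb⁆ = Qb := by
    rw [hQb, hPb, ← Subgroup.map_commutator]
    congr 1
    apply Subgroup.map_injective L.subtype_injective
    rw [Subgroup.map_commutator, Subgroup.map_subgroupOf_eq_of_le hQZn,
      Subgroup.map_subgroupOf_eq_of_le hPZn, c.hQP]
  obtain ⟨eQ, heQ⟩ := c.isQ.exists_card_eq
  obtain ⟨eP, heP⟩ := c.isP.exists_card_eq
  have hdvQ : Nat.card Qb ∣ q ^ eQ :=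
    (Subgroup.card_map_dvd _ π).trans
      (dvd_of_eq ((Nat.card_congr (Subgroup.subgroupOfEquivOfLe hQZn).toEquiv).trans heQ))
  have hdvP : Nat.card Pb ∣ p ^ eP :=
    (Subgroup.card_map_dvd _ π).trans
      (dvd_of_eq ((Nat.card_congr (Subgroup.subgroupOfEquivOfLe hPZn).toEquiv).trans heP))
  have hdvR : Nat.card Rb ∣ r :=
    (Subgroup.card_map_dvd _ π).trans
      (dvd_of_eq ((Nat.card_congr (Subgroup.subgroupOfEquivOfLe hRZn).toEquiv).trans hRc))
  have hPcopQ : (Nat.card Pb).Coprime (Nat.card Qb) :=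
    ((Nat.coprime_pow_primes eP eQ c.pp c.qp c.hpq).coprime_dvd_left hdvP).coprime_dvd_right hdvQ
  have hCQbP : Qb ⊓ Subgroup.centralizer (Pb : Set (L ⧸ Z')) = ⊥ := by
    have h := CoprimeAct.centralizer_inf_commutator_eq_bot (hnormb hPZn c.hPQ) hPcopQ
    rwa [hQPb, inf_eq_left.2 inf_le_left] at h
  have hfixQ : ∀ x ∈ Q, (∀ g ∈ P, ⁅g, x⁆ ∈ Z) → x ∈ Z := by
    intro x hx h
    refine (hone x (hQZn hx)).1 (Subgroup.mem_bot.1 (hCQbP ▸
      Subgroup.mem_inf.2 ⟨Subgroup.mem_map_of_mem π (show (⟨x, hQZn hx⟩ : L) ∈ Q.subgroupOf L from hx),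
        Subgroup.mem_centralizer_iff.2 ?_⟩))
    rintro _ ⟨⟨g, hgL⟩, hg, rfl⟩
    rw [← commutatorElement_eq_one_iff_mul_comm, ← map_commutatorElement]
    exact (hone ⁅g, x⁆ (⁅(⟨g, hgL⟩ : L), (⟨x, hQZn hx⟩ : L)⁆ : L).2).2 (h g hg)
  -- images of fixed points
  have hsub : ∀ {A B : Subgroup G}, A ≤ L → B ≤ L → B ≤ Subgroup.normalizer (A : Set G) →
      (Nat.card B).Coprime (Nat.card A) → (Group.IsSolvable A) →
      ((A ⊓ Subgroup.centralizer (B : Set G)).subgroupOf L).map π =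
        (A.subgroupOf L).map π ⊓ Subgroup.centralizer ((B.subgroupOf L).map π : Set (L ⧸ Z')) := by
    intro A B hA hB hn hcop hs
    rw [← CoprimeAct.map_inf_centralizer π (hnorm hB hn) (by
        rwa [Nat.card_congr (Subgroup.subgroupOfEquivOfLe hA).toEquiv,
          Nat.card_congr (Subgroup.subgroupOfEquivOfLe hB).toEquiv])
      (Or.inr (haveI := hs; Group.isSolvable_of_isSolvable_injective
        (f := (Subgroup.subgroupOfEquivOfLe hA).toMonoidHom) (Subgroup.subgroupOfEquivOfLe hA).injective))]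
    congr 1
    ext x
    simp only [Subgroup.mem_subgroupOf, Subgroup.mem_inf]
    refine and_congr_right fun _ => ⟨fun h => Subgroup.mem_centralizer_iff.2 fun y hy =>
      Subtype.ext (Subgroup.mem_centralizer_iff.1 h y hy), fun h => Subgroup.mem_centralizer_iff.2 fun y hy =>
      congrArg Subtype.val (Subgroup.mem_centralizer_iff.1 h ⟨y, hB hy⟩ hy)⟩
  have hrq : (Nat.card R).Coprime (Nat.card Q) := c.cop.coprime_dvd_right (Subgroup.card_dvd_of_le c.hQH)
  have hrP : (Nat.card R).Coprime (Nat.card P) := c.cop.coprime_dvd_right (Subgroup.card_dvd_of_le c.hPH)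
  have hQsol : Group.IsSolvable Q := inferInstance
  have hPsol : Group.IsSolvable P := haveI := c.isP.isNilpotent; inferInstance
  have hfpf : Pb ⊓ Subgroup.centralizer (Rb : Set (L ⧸ Z')) = ⊥ := by
    rw [hPb, hRb, ← hsub hPZn hRZn c.hRP hrP hPsol, hCPR, Subgroup.bot_subgroupOf, Subgroup.map_bot]
  have hPbcard : Nat.card Pb = Nat.card P := by
    rw [hPb, SolvBasic.card_map_of_inf_ker_eq_bot, Nat.card_congr (Subgroup.subgroupOfEquivOfLe hPZn).toEquiv]
    rw [eq_bot_iff]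
    rintro ⟨a, ha⟩ ⟨haP, hak⟩
    refine Subgroup.mem_bot.2 (Subtype.ext ?_)
    exact Subgroup.mem_bot.1 ((disjoint_iff.1 (IsPGroup.disjoint_of_ne p q c.hpq P Q c.isP c.isQ)) ▸
      (⟨haP, hZQ ((hone a ha).1 hak)⟩ : a ∈ P ⊓ Q))
  have hRbcard : Nat.card Rb = r := by
    refine ((Nat.dvd_prime c.rp).1 hdvR).resolve_left fun h => c.hP1 ?_
    rw [Subgroup.card_eq_one.1 h] at hfpf
    have : Pb = ⊥ := le_bot_iff.1 (hfpf ▸ le_inf le_rfl fun x _ => Subgroup.mem_centralizer_iff.2 fun y hy => by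
      rw [Subgroup.mem_bot.1 hy, one_mul, mul_one])
    rw [this, Subgroup.card_bot] at hPbcard
    exact Subgroup.card_eq_one.1 hPbcard.symm
  have hfrob := ComplAction.card_eq_fixed_pow c.rp Qb Pb Rb hRbcard
    (Nat.Coprime.mul_right hPcopQ.symm
      (((Nat.coprime_primes c.qp c.rp).2 c.hqr).pow_left eQ |>.coprime_dvd_left hdvQ))
    (((Nat.coprime_primes c.pp c.rp).2 c.hpr).pow_left eP |>.coprime_dvd_left hdvP)
    (hnormb hRZn c.hRP) (hnormb hPZn c.hPQ) (hnormb hRZn c.hRQ) hfpf hCQbP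
  -- the order of `Q` modulo `Z`
  have hQbexp : ∀ x ∈ Qb, x ^ q = 1 := by
    rintro _ ⟨a, ha, rfl⟩
    rw [← map_pow]
    exact (hone _ (a ^ q).2).2 (by simpa using hexp _ ha)
  have hQb1 : Qb ≠ ⊥ := fun h => hZne (le_antisymm hZQ fun x hx => (hone x (hQZn hx)).1
    (Subgroup.mem_bot.1 (h ▸ Subgroup.mem_map_of_mem π
      (show (⟨x, hQZn hx⟩ : L) ∈ Q.subgroupOf L from hx))))
  have hCQcyc : IsCyclic (Q ⊓ Subgroup.centralizer (R : Set G) : Subgroup G) :=
    isCyclic_of_le (R₀ := R) hZ (c.isQ.to_le inf_le_left)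
      (le_inf (inf_le_left.trans c.hQH) inf_le_right)
  have hCQbcard : Nat.card ↥(Qb ⊓ Subgroup.centralizer (Rb : Set (L ⧸ Z'))) = q := by
    refine card_eq_of_cyclic c.qp ?_ ?_ ?_
    · rw [hQb, hRb, ← hsub hQZn hRZn c.hRQ hrq hQsol]
      haveI : IsCyclic ↥((Q ⊓ Subgroup.centralizer (R : Set G)).subgroupOf L) :=
        isCyclic_of_surjective _ (Subgroup.subgroupOfEquivOfLe (inf_le_left.trans hQZn)).symm.surjective
      exact isCyclic_of_surjective _ (π.subgroupMap_surjective _)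
    · intro h
      rw [h, Subgroup.card_bot, one_pow] at hfrob
      exact hQb1 (Subgroup.card_eq_one.1 hfrob)
    · exact fun x hx => hQbexp x hx.1
  rw [hCQbcard] at hfrob
  have hrel : Z.relIndex Q = q ^ r := by
    rw [← hfrob, hQb, ← Subgroup.relIndex_ker, hπ, QuotientGroup.ker_mk', Subgroup.relIndex_subgroupOf hQZn]
  obtain ⟨s, hsR, hs1⟩ : ∃ s ∈ R, s ≠ 1 :=
    ((Subgroup.nontrivial_iff_exists_ne_one R).1
      (Finite.one_lt_card_iff_nontrivial.1 (hRc.symm ▸ c.rp.one_lt)))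
  have hRgen : Subgroup.zpowers s = R := by
    haveI : Fact (Nat.card R).Prime := ⟨hRc.symm ▸ c.rp⟩
    refine le_antisymm (Subgroup.zpowers_le.2 hsR) fun y hy => ?_
    obtain ⟨k, hk⟩ := mem_zpowers_of_prime_card (G := R) hRc (g := ⟨s, hsR⟩) (g' := ⟨y, hy⟩)
      (fun h => hs1 (congrArg Subtype.val h))
    exact ⟨k, congrArg Subtype.val hk⟩
  have hab := ComplAbelian.isMulCommutative_of_action c.pp c.qp c.rp c.hp2 c.hr2 Q Z P s c.isP
    (by rw [← hRc, ← hRgen, Nat.card_zpowers]; exact pow_orderOf_eq_one s) c.hPQ (c.hRQ hsR) (c.hRP hsR)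
    (hRZn hsR) hZQ hZQc (Subgroup.le_centralizer_iff.1 hPZ) hcomm hexp hrel
    (fun U hZU hUQ hPU hsU => by
      by_contra h
      push Not at h
      have hcen := c.propQ U hUQ h.2 (hRgen ▸ Subgroup.zpowers_le.2 hsU) hPU
      refine h.1 (le_antisymm (fun x hx => hfixQ x (hUQ hx) fun g hg => ?_) hZU)
      rw [commutatorElement_eq_one_iff_mul_comm.2 (Subgroup.mem_centralizer_iff.1 (hcen hg) x hx).symm]
      exact Z.one_mem)
    hfixQ
  -- `Z` is trivial
  haveI : IsMulCommutative Q := .of_setLike_mul_comm hab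
  have hPcop : (Nat.card P).Coprime (Nat.card Q) := by
    rw [heP, heQ]; exact Nat.coprime_pow_primes eP eQ c.pp c.qp c.hpq
  have hCQP : Q ⊓ Subgroup.centralizer (P : Set G) = ⊥ := by
    have h := CoprimeAct.centralizer_inf_commutator_eq_bot c.hPQ hPcop
    rwa [c.hQP, inf_eq_left.2 inf_le_left] at h
  have hZ1 : Z = ⊥ := le_bot_iff.1 (hCQP ▸ le_inf hZQ (Subgroup.le_centralizer_iff.1 hPZ))
  rw [hZ1, Subgroup.relIndex_bot_left] at hrel
  have hexp1 : ∀ x ∈ Q, x ^ q = 1 := fun x hx => Subgroup.mem_bot.1 (hZ1 ▸ hexp x hx)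
  have hCQ : Nat.card ↥(Q ⊓ Subgroup.centralizer (R : Set G)) = q := card_eq_of_cyclic c.qp hCQcyc (fun h => by
    rw [← hsub hQZn hRZn c.hRQ hrq hQsol, h, Subgroup.bot_subgroupOf, Subgroup.map_bot,
      Subgroup.card_bot] at hCQbcard
    exact c.qp.one_lt.ne hCQbcard) fun x hx => hexp1 x hx.1
  exact ComplModule.false_of_config c.pp c.qp c.rp c.hpq c.hpr c.hqr c.hp2 c.hq2 c.hr2 V Q P R c.elem
    hab hexp1 hrel c.isP hRc c.hQV c.hPV c.hRV c.hPQ c.hRQ c.hRP hCQ hCcard c.faith c.hCVQ c.hQP c.hPR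

end Cfsg.Agent.OddOrder.ComplCore
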