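import Cfsg.Agent.Lib.OddOrder.ComplAbelian

/-!
The module part: an elementary `q`-group `Q` of order `q ^ r` acting on `V`, extended by `P ⋊ R`,
cannot have a centralizer of `R` of order `p` in `V`.
-/

set_option autoImplicit false
open scoped Pointwise commutatorElement

namespace Cfsg.Agent.OddOrder.ComplModule

open ComplAbelian (mem_normalizer_of_map_le relIndex_mul_card)

variable {G : Type*} [Group G] [Finite G]

/-- The part of `V` fixed by `K`. -/
def fixPart (V K : Subgroup G) : Subgroup G := V ⊓ Subgroup.centralizer (K : Set G)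

lemma conj_fixPart {V K : Subgroup G} {g : G} (hg : g ∈ Subgroup.normalizer (V : Set G)) {v : G}
    (hv : v ∈ fixPart V K) : g * v * g⁻¹ ∈ fixPart V (MulAut.conj g • K) := by
  refine ⟨(Subgroup.mem_normalizer_iff.1 hg v).1 hv.1, Subgroup.mem_centralizer_iff.2 fun k hk => ?_⟩
  have h := Subgroup.mem_centralizer_iff.1 hv.2 _ (SolvBasic.mem_conjSmul.1 hk)
  calc k * (g * v * g⁻¹) = g * (g⁻¹ * k * g * v) * g⁻¹ := by group
    _ = g * (v * (g⁻¹ * k * g)) * g⁻¹ := by rw [h]
    _ = g * v * g⁻¹ * k := by group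

/-- The operators of `Q`, `P`, `R` on `V`. -/
theorem false_of_config {p q r : ℕ} (hp : p.Prime) (hq : q.Prime) (hr : r.Prime) (hpq : p ≠ q)
    (hpr : p ≠ r) (hqr : q ≠ r) (hp2 : p ≠ 2) (hq2 : q ≠ 2) (hr2 : r ≠ 2) (V Q P R : Subgroup G)
    (hV : Cfsg.IsElementaryAbelian p V) (hQc : ∀ x ∈ Q, ∀ y ∈ Q, x * y = y * x)
    (hQexp : ∀ x ∈ Q, x ^ q = 1) (hQcard : Nat.card Q = q ^ r) (hP : IsPGroup p P)
    (hR : Nat.card R = r) (hQV : Q ≤ Subgroup.normalizer (V : Set G))
    (hPV : P ≤ Subgroup.normalizer (V : Set G)) (hRV : R ≤ Subgroup.normalizer (V : Set G))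
    (hPQ : P ≤ Subgroup.normalizer (Q : Set G)) (hRQ : R ≤ Subgroup.normalizer (Q : Set G))
    (hRP : R ≤ Subgroup.normalizer (P : Set G))
    (hCQR : Nat.card ↥(Q ⊓ Subgroup.centralizer (R : Set G)) = q)
    (hCVR : Nat.card ↥(V ⊓ Subgroup.centralizer (R : Set G)) = p)
    (hfaith : Q ⊓ Subgroup.centralizer (V : Set G) = ⊥)
    (hCVQ : V ⊓ Subgroup.centralizer (Q : Set G) = ⊥)
    (hQP : ⁅Q, P⁆ = Q) (hPR : ⁅P, R⁆ = P) : False := by
  classical
  haveI := Fact.mk hp
  haveI := Fact.mk hq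
  haveI := Fact.mk hr
  haveI hVc : IsMulCommutative V := hV.1
  haveI hQc' : IsMulCommutative Q := .of_setLike_mul_comm hQc
  obtain ⟨a, hVa⟩ : ∃ a, Nat.card V = p ^ a :=
    IsPGroup.exists_card_eq (p := p) fun v : V => ⟨1, Subtype.ext (by simpa using hV.2 v v.2)⟩
  have hQcopV : ∀ B : Subgroup G, B ≤ Q → (Nat.card B).Coprime (Nat.card V) := fun B hB =>
    hVa ▸ (hQcard ▸ Nat.coprime_pow_primes r a hq hp hpq.symm : (Nat.card Q).Coprime (p ^ a)).coprime_dvd_left
      (Subgroup.card_dvd_of_le hB)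
  set Hyp : Subgroup G → Prop := fun K => K ≤ Q ∧ Nat.card K * q = q ^ r with hHyp
  set VK := fixPart V with hVK
  have hQconj : ∀ {B : Subgroup G}, B ≤ Q → ∀ g ∈ Q, MulAut.conj g • B = B := fun {B} hB g hg =>
    SolvBasic.conjSmul_eq_self_of_mem_normalizer (mem_normalizer_of_map_le fun x hx => by
      rwa [hQc g hg x (hB hx), mul_inv_cancel_right])
  have hQVK : ∀ {B : Subgroup G}, B ≤ Q → Q ≤ Subgroup.normalizer (VK B : Set G) := fun {B} hB g hg =>
    mem_normalizer_of_map_le fun v hv => hQconj hB g hg ▸ conj_fixPart (hQV hg) hv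
  -- subgroups of `Q` of index at most `q`
  have hidx : ∀ {B : Subgroup G}, B ≤ Q → ∀ b ∈ Q, b ∉ B →
      Nat.card (B ⊔ Subgroup.zpowers b : Subgroup G) = Nat.card B * q := by
    intro B hB b hb hbB
    have hzn : Subgroup.zpowers b ≤ Subgroup.normalizer (B : Set G) := Subgroup.zpowers_le.2
      (mem_normalizer_of_map_le fun x hx => by rwa [hQc b hb x (hB hx), mul_inv_cancel_right])
    have hz : Nat.card (Subgroup.zpowers b) = q := by
      rw [Nat.card_zpowers]
      exact orderOf_eq_prime (hQexp b hb) fun h => hbB (h ▸ B.one_mem)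
    have h := SolvBasic.card_sup_of_inf_eq_bot hzn (by
      haveI : Fact (Nat.card (Subgroup.zpowers b)).Prime := ⟨hz.symm ▸ hq⟩
      refine ((B.subgroupOf (Subgroup.zpowers b)).eq_bot_or_eq_top_of_prime_card).elim (fun h => ?_)
        fun h => absurd (Subgroup.subgroupOf_eq_top.1 h (Subgroup.mem_zpowers b)) hbB
      first
        | exact disjoint_iff.1 (Subgroup.subgroupOf_eq_bot.1 h)
        | exact inf_comm (Subgroup.zpowers b) B ▸ disjoint_iff.1 (Subgroup.subgroupOf_eq_bot.1 h))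
    rw [h, hz]
  -- `V` is generated by the fixed parts of hyperplanes
  have hgen : ∀ (n : ℕ) (B : Subgroup G), B ≤ Q → n = q ^ r - Nat.card B →
      VK B ≤ ⨆ (K) (_ : Hyp K ∧ B ≤ K), VK K := by
    intro n
    induction n using Nat.strong_induction_on with
    | _ n ih =>
    intro B hB hn
    by_cases hBQ : B = Q
    · rw [hBQ, hVK, fixPart, hCVQ]; exact bot_le
    by_cases hBH : Hyp B
    · exact le_iSup₂ (f := fun K (_ : Hyp K ∧ B ≤ K) => VK K) B ⟨hBH, le_rfl⟩
    obtain ⟨a, haQ, haB⟩ := SetLike.exists_of_lt (lt_of_le_of_ne hB hBQ)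
    obtain ⟨b, hbQ, hbB⟩ : ∃ b ∈ Q, b ∉ B ⊔ Subgroup.zpowers a := by
      by_contra h
      push Not at h
      refine hBH ⟨hB, ?_⟩
      rw [← hidx hB a haQ haB, ← hQcard,
        le_antisymm (sup_le hB (Subgroup.zpowers_le.2 haQ)) h]
    set A : Subgroup G := Subgroup.zpowers a ⊔ Subgroup.zpowers b
    have hAQ : A ≤ Q := sup_le (Subgroup.zpowers_le.2 haQ) (Subgroup.zpowers_le.2 hbQ)
    have hba : b ∉ Subgroup.zpowers a := fun h => hbB (Subgroup.mem_sup_right h)
    have hAc : Nat.card A = q * q := by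
      rw [hidx (Subgroup.zpowers_le.2 haQ) b hbQ hba, Nat.card_zpowers,
        orderOf_eq_prime (hQexp a haQ) fun h => haB (h ▸ B.one_mem)]
    have hAB : ∀ e ∈ A, e ∈ B → e = 1 := by
      intro e heA heB
      by_contra he
      obtain ⟨x, ⟨i, rfl⟩, y, ⟨j, rfl⟩, hxy⟩ := (SolvBasic.mem_sup_iff_of_le_normalizer
        (show Subgroup.zpowers b ≤ Subgroup.normalizer (Subgroup.zpowers a : Set G) from
          Subgroup.zpowers_le.2 (mem_normalizer_of_map_le fun x hx => by
            rwa [hQc b hbQ x (Subgroup.zpowers_le.2 haQ hx), mul_inv_cancel_right]))).1 heA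
      simp only at hxy
      have hbj : b ^ j ∈ B ⊔ Subgroup.zpowers a := by
        rw [show b ^ j = (a ^ i)⁻¹ * e by rw [hxy]; group]
        exact mul_mem (Subgroup.mem_sup_right (inv_mem (Subgroup.zpow_mem _ (Subgroup.mem_zpowers a) i)))
          (Subgroup.mem_sup_left heB)
      have hdisj : ∀ {x : G} {C : Subgroup G}, x ∈ Q → C ≤ Q → x ∉ C → ∀ k : ℤ, x ^ k ∈ C → x ^ k = 1 := by
        intro x C hx hC hxC k hk
        by_contra h1
        refine hxC ((Subgroup.zpowers_le.2 hk) ?_)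
        have hle : Subgroup.zpowers (x ^ k) ≤ Subgroup.zpowers x := Subgroup.zpowers_le.2 ⟨k, rfl⟩
        rw [Subgroup.eq_of_le_of_card_ge hle (by
          rw [Nat.card_zpowers, Nat.card_zpowers,
            orderOf_eq_prime (hQexp x hx) (fun h => h1 (by rw [h, one_zpow])),
            orderOf_eq_prime (hQexp _ (Q.zpow_mem hx k)) h1])]
        exact Subgroup.mem_zpowers x
      have hbj1 := hdisj hbQ (sup_le hB (Subgroup.zpowers_le.2 haQ)) hbB j hbj
      rw [hbj1, mul_one] at hxy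
      exact he (hxy ▸ hdisj haQ hB haB i (hxy ▸ heB))
    haveI : IsMulCommutative A := .of_setLike_mul_comm fun x hx y hy => hQc x (hAQ hx) y (hAQ hy)
    have hAnc : ¬ IsCyclic A := fun hcy => by
      obtain ⟨⟨g, hg⟩, hgg⟩ := IsCyclic.exists_ofOrder_eq_natCard (α := A)
      have hd : orderOf g ∣ q := orderOf_dvd_of_pow_eq_one (hQexp g (hAQ hg))
      rw [← Subgroup.orderOf_coe, hAc] at hgg
      exact absurd (Nat.le_of_dvd hq.pos (hgg ▸ hd))
        (not_le.2 (lt_mul_of_one_lt_left hq.pos hq.one_lt))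
    refine (CoprimeAct.generated_by_centralizers hAnc (hAQ.trans (hQVK hB))
      ((hQcopV A hAQ).coprime_dvd_right (Subgroup.card_dvd_of_le inf_le_left))).ge.trans ?_
    refine iSup₂_le fun e he => ?_
    have hB' : B ⊔ Subgroup.zpowers e ≤ Q := sup_le hB (Subgroup.zpowers_le.2 (hAQ he.1))
    have hcard := hidx hB e (hAQ he.1) fun h => he.2 (hAB e he.1 h)
    have hle : VK B ⊓ Subgroup.centralizer {e} ≤ VK (B ⊔ Subgroup.zpowers e) := by
      rintro v ⟨⟨hvV, hvB⟩, hve⟩
      refine ⟨hvV, ?_⟩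
      have : B ⊔ Subgroup.zpowers e ≤ Subgroup.centralizer ({v} : Set G) := by
        refine sup_le (fun x hx => ?_) (Subgroup.zpowers_le.2 ?_)
        · exact Subgroup.mem_centralizer_singleton_iff.2 (Subgroup.mem_centralizer_iff.1 hvB x hx)
        · exact Subgroup.mem_centralizer_singleton_iff.2 (Subgroup.mem_centralizer_singleton_iff.1 hve).symm
      exact Subgroup.mem_centralizer_iff.2 fun x hx =>
        Subgroup.mem_centralizer_singleton_iff.1 (this hx)
    refine hle.trans ((ih (q ^ r - Nat.card (B ⊔ Subgroup.zpowers e : Subgroup G)) ?_ _ hB' rfl).trans ?_)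
    · have h1 : Nat.card (B ⊔ Subgroup.zpowers e : Subgroup G) ≤ q ^ r :=
        hQcard ▸ Nat.le_of_dvd Nat.card_pos (Subgroup.card_dvd_of_le hB')
      have h2 : Nat.card B < Nat.card B * q := lt_mul_of_one_lt_right Nat.card_pos hq.one_lt
      omega
    · exact iSup₂_le fun K hK => le_iSup₂ (f := fun K (_ : Hyp K ∧ B ≤ K) => VK K) K
        ⟨hK.1, le_sup_left.trans hK.2⟩
  -- hyperplanes with fixed points
  set Om : Subgroup G → Prop := fun K => Hyp K ∧ VK K ≠ ⊥ with hOm
  have hHne : ∀ {K : Subgroup G}, Hyp K → K ≠ Q := fun hK h => by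
    have := hK.2
    rw [h, hQcard] at this
    exact absurd this (lt_mul_of_one_lt_right (pow_pos hq.pos r) hq.one_lt).ne'
  have hHeq : ∀ {K L : Subgroup G}, Hyp K → Hyp L → K ≤ L → K = L := fun hK hL h =>
    Subgroup.eq_of_le_of_card_ge h (Nat.eq_of_mul_eq_mul_right hq.pos (hL.2.trans hK.2.symm)).le
  set W : Subgroup G → Subgroup G := fun K => ⨆ (L) (_ : Hyp L ∧ L ≠ K), VK L with hW
  have hsep : ∀ K, Hyp K → VK K ⊓ W K = ⊥ := by
    intro K hK
    have hWle : W K ≤ ⁅V, K⁆ := by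
      refine iSup₂_le fun L hL => ?_
      have hLV : VK L ≤ V := inf_le_left
      haveI : IsMulCommutative (VK L) :=
        .of_setLike_mul_comm fun x hx y hy => setLike_mul_comm (s := V) (hLV hx) (hLV hy)
      have hn : K ≤ Subgroup.normalizer (VK L : Set G) := hK.1.trans (hQVK hL.1.1)
      have h := CoprimeAct.centralizer_sup_commutator hn
        ((hQcopV K hK.1).coprime_dvd_right (Subgroup.card_dvd_of_le hLV))
      refine (le_of_eq h.symm).trans (sup_le ?_ (Subgroup.commutator_mono hLV le_rfl))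
      refine le_trans ?_ (bot_le (a := ⁅V, K⁆))
      rw [← hCVQ]
      rintro v ⟨⟨hvV, hvL⟩, hvK⟩
      obtain ⟨l, hlL, hlK⟩ := SetLike.not_le_iff_exists.1 fun h => hL.2 (hHeq hL.1 hK h)
      refine ⟨hvV, Subgroup.mem_centralizer_iff.2 fun x hx => ?_⟩
      have hsup : K ⊔ L = Q := by
        refine Subgroup.eq_of_le_of_card_ge (sup_le hK.1 hL.1.1) ?_
        rw [hQcard, ← hK.2, ← hidx hK.1 l (hL.1.1 hlL) hlK]
        exact Nat.le_of_dvd Nat.card_pos
          (Subgroup.card_dvd_of_le (sup_le_sup_left (Subgroup.zpowers_le.2 hlL) K))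
      have : K ⊔ L ≤ Subgroup.centralizer ({v} : Set G) := sup_le
        (fun y hy => Subgroup.mem_centralizer_singleton_iff.2 (Subgroup.mem_centralizer_iff.1 hvK y hy))
        (fun y hy => Subgroup.mem_centralizer_singleton_iff.2 (Subgroup.mem_centralizer_iff.1 hvL y hy))
      exact Subgroup.mem_centralizer_singleton_iff.1 (this (hsup.symm ▸ hx))
    exact le_bot_iff.1 ((inf_le_inf_left _ hWle).trans
      (CoprimeAct.centralizer_inf_commutator_eq_bot (hK.1.trans hQV) (hQcopV K hK.1)).le)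
  -- the subgroup `⁅Q, R⁆`
  set K0 : Subgroup G := ⁅Q, R⁆ with hK0
  have hK0Q : K0 ≤ Q := CoprimeAct.commutator_le_left hRQ
  have hRcopQ : (Nat.card R).Coprime (Nat.card Q) := by
    rw [hR, hQcard]
    exact ((Nat.coprime_primes hr hq).2 hqr.symm).pow_right r
  have hK0H : Hyp K0 := by
    refine ⟨hK0Q, ?_⟩
    have h1 := SolvBasic.card_sup_of_inf_eq_bot (N := K0)
      (H := Q ⊓ Subgroup.centralizer (R : Set G))
      ((inf_le_left : Q ⊓ Subgroup.centralizer (R : Set G) ≤ Q).trans fun g hg =>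
        mem_normalizer_of_map_le fun x hx => by rwa [hQc g hg x (hK0Q hx), mul_inv_cancel_right])
      (by first
        | exact CoprimeAct.centralizer_inf_commutator_eq_bot hRQ hRcopQ
        | (rw [inf_comm]; exact CoprimeAct.centralizer_inf_commutator_eq_bot hRQ hRcopQ))
    rw [sup_comm, CoprimeAct.centralizer_sup_commutator hRQ hRcopQ, hQcard, hCQR] at h1
    exact h1.symm
  have hconjHyp : ∀ g ∈ Subgroup.normalizer (Q : Set G), ∀ K, Hyp K → Hyp (MulAut.conj g • K) :=
    fun g hg K hK => ⟨fun x hx => by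
      simpa [mul_assoc] using (Subgroup.mem_normalizer_iff.1 hg _).1 (hK.1 (SolvBasic.mem_conjSmul.1 hx)),
      by rw [SolvBasic.card_conjSmul]; exact hK.2⟩
  have hconjOm : ∀ g ∈ Subgroup.normalizer (Q : Set G) ⊓ Subgroup.normalizer (V : Set G), ∀ K, Om K →
      Om (MulAut.conj g • K) := by
    intro g hg K hK
    refine ⟨hconjHyp g hg.1 K hK.1, ?_⟩
    obtain ⟨⟨v, hv⟩, hv1⟩ := Subgroup.ne_bot_iff_exists_ne_one.1 hK.2
    refine Subgroup.ne_bot_iff_exists_ne_one.2 ⟨⟨g * v * g⁻¹, conj_fixPart hg.2 hv⟩, fun h => hv1 ?_⟩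
    exact Subtype.ext (conj_eq_one_iff.1 (congrArg Subtype.val h))
  -- orbit sums
  obtain ⟨s, hsR, hs1⟩ : ∃ s ∈ R, s ≠ 1 :=
    ((Subgroup.nontrivial_iff_exists_ne_one R).1
      (Finite.one_lt_card_iff_nontrivial.1 (hR.symm ▸ hr.one_lt)))
  have hRgen : Subgroup.zpowers s = R := Subgroup.eq_of_le_of_card_ge (Subgroup.zpowers_le.2 hsR)
    (by rw [hR, Nat.card_zpowers, ← Subgroup.orderOf_mk s hsR]
        exact (orderOf_eq_prime (by rw [← hR]; exact pow_card_eq_one') fun h =>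
          hs1 (congrArg Subtype.val h)).ge)
  have hsr : s ^ r = 1 := by
    rw [← hR, ← hRgen, Nat.card_zpowers]; exact pow_orderOf_eq_one s
  let cs : V →* V := MonoidHom.mk'
    (fun v => ⟨s * v * s⁻¹, (Subgroup.mem_normalizer_iff.1 (hRV hsR) v).1 v.2⟩)
    fun a b => Subtype.ext (by simp [mul_assoc])
  have hcs : ∀ (i : ℕ) (v : V), (((cs ^[i]) v : V) : G) = s ^ i * v * (s ^ i)⁻¹ := by
    intro i v
    induction i with
    | zero => simp
    | succ i ih =>
      rw [Function.iterate_succ_apply', pow_succ']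
      change s * _ * s⁻¹ = _
      rw [ih]; group
  letI : CommGroup V := { (inferInstance : Group V) with mul_comm := fun a b => mul_comm' a b }
  let Tr : V → V := fun v => ∏ i ∈ Finset.range r, (cs ^[i]) v
  have hTmul : ∀ a b, Tr (a * b) = Tr a * Tr b := fun a b => by
    simp only [Tr, ← Finset.prod_mul_distrib]
    exact Finset.prod_congr rfl fun i _ => iterate_map_mul cs i a b
  have hTfix : ∀ v, ((Tr v : V) : G) ∈ V ⊓ Subgroup.centralizer (R : Set G) := by
    intro v
    refine ⟨(Tr v).2, ?_⟩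
    have h1 : cs (Tr v) = Tr v := by
      simp only [Tr, map_prod, ← Function.iterate_succ_apply']
      have e : (cs ^[r]) v = v := Subtype.ext (by rw [hcs, hsr]; simp)
      rw [← Finset.prod_range_succ' (fun i => (cs ^[i]) v) r |> (fun h => show
        ∏ i ∈ Finset.range (r + 1), (cs ^[i]) v =
          (∏ i ∈ Finset.range r, (cs ^[i + 1]) v) * v from h) |>.symm |> (fun h => show
        (∏ i ∈ Finset.range r, (cs ^[i + 1]) v) * v = ∏ i ∈ Finset.range (r + 1), (cs ^[i]) v from h)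
        |> eq_mul_inv_of_mul_eq |>.symm, Finset.prod_range_succ, e, mul_inv_cancel_right]
    have h2 : (s : G) ∈ Subgroup.centralizer ({((Tr v : V) : G)} : Set G) :=
      Subgroup.mem_centralizer_singleton_iff.2 (mul_inv_eq_iff_eq_mul.1 (congrArg Subtype.val h1))
    refine Subgroup.mem_centralizer_iff.2 fun y hy => ?_
    exact Subgroup.mem_centralizer_singleton_iff.1
      ((Subgroup.zpowers_le.2 h2) (hRgen.symm ▸ hy))
  set C := V ⊓ Subgroup.centralizer (R : Set G) with hC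
  have hCgen : ∀ f ∈ C, f ≠ 1 → ∀ g ∈ C, g ∈ Subgroup.zpowers f := by
    intro f hf hf1 g hg
    haveI : Fact (Nat.card C).Prime := ⟨hCVR.symm ▸ hp⟩
    have := mem_zpowers_of_prime_card (G := C) hCVR (g := ⟨f, hf⟩) (g' := ⟨g, hg⟩)
      (fun h => hf1 (congrArg Subtype.val h))
    obtain ⟨k, hk⟩ := this
    exact ⟨k, congrArg Subtype.val hk⟩
  set Orb : Subgroup G → Subgroup G → Prop := fun K L => ∃ i : ℕ, MulAut.conj (s ^ i) • K = L with hOrb
  have hsN : ∀ i : ℕ, s ^ i ∈ Subgroup.normalizer (Q : Set G) ⊓ Subgroup.normalizer (V : Set G) :=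
    fun i => ⟨pow_mem (hRQ hsR) i, pow_mem (hRV hsR) i⟩
  -- non-regular orbit: fixed
  have hregular : ∀ K : Subgroup G, MulAut.conj s • K ≠ K → ∀ i < r, MulAut.conj (s ^ i) • K = K → i = 0 := by
    intro K hK i hi h
    by_contra hi0
    refine hK (SolvBasic.conjSmul_eq_self_of_mem_normalizer ?_)
    obtain ⟨m, hm⟩ := exists_pow_eq_self_of_coprime (x := s) (n := i) (by
      rw [← Nat.card_zpowers, hRgen, hR]
      exact ((Nat.Prime.coprime_iff_not_dvd hr).2
        (Nat.not_dvd_of_pos_of_lt (Nat.pos_of_ne_zero hi0) hi)).symm)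
    exact hm ▸ pow_mem (SolvBasic.mem_normalizer_iff_conjSmul.2 h) m
  have hK0fix : MulAut.conj s • K0 = K0 :=
    SolvBasic.conjSmul_eq_self_of_mem_normalizer (Subgroup.normalizer_commutator_ge_right Q R hsR)
  -- each hyperplane gives a fixed vector
  have hvec : ∀ K, Om K → K ≠ K0 → ∃ f ∈ C, f ≠ 1 ∧ f ∉ W K ∧
      f ∈ ⨆ (L) (_ : Orb K L), VK L := by
    intro K hK hne
    by_cases hfix : MulAut.conj s • K = K
    · -- fixed hyperplane
      have hRK : R ≤ Subgroup.normalizer (K : Set G) :=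
        hRgen ▸ Subgroup.zpowers_le.2 (SolvBasic.mem_normalizer_iff_conjSmul.2 hfix)
      have hRVK : R ≤ Subgroup.normalizer (VK K : Set G) := fun g hg =>
        mem_normalizer_of_map_le fun v hv =>
          SolvBasic.conjSmul_eq_self_of_mem_normalizer (hRK hg) ▸ conj_fixPart (hRV hg) hv
      have hne' : VK K ⊓ Subgroup.centralizer (R : Set G) ≠ ⊥ := by
        intro h
        have hVKe : Cfsg.IsElementaryAbelian p (VK K) :=
          ⟨.of_setLike_mul_comm fun a ha b hb => setLike_mul_comm (s := V) ha.1 hb.1,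
            fun v hv => hV.2 v hv.1⟩
        have hle := le_inf hK0Q (ComplAction.commutator_le_centralizer_of_fixed hp hq hr hpq hpr hqr hq2
          R Q (VK K) hR (IsPGroup.of_card hQcard) hVKe hRQ hRVK (hQVK hK.1.1) h)
        -- the centralizer of `VK K` in `Q` is `K`
        have hcent : Q ⊓ Subgroup.centralizer (VK K : Set G) = K := by
          refine le_antisymm (fun x hx => ?_) (le_inf hK.1.1 fun x hx =>
            Subgroup.mem_centralizer_iff.2 fun v hv => (Subgroup.mem_centralizer_iff.1 hv.2 x hx).symm)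
          by_contra hxK
          have hQle : Q ≤ Subgroup.centralizer (VK K : Set G) := by
            have he : K ⊔ Subgroup.zpowers x = Q := Subgroup.eq_of_le_of_card_ge
              (sup_le hK.1.1 (Subgroup.zpowers_le.2 hx.1))
              (by rw [hidx hK.1.1 x hx.1 hxK, hK.1.2, hQcard])
            rw [← he]
            exact sup_le (fun y hy => Subgroup.mem_centralizer_iff.2 fun v hv =>
              (Subgroup.mem_centralizer_iff.1 hv.2 y hy).symm) (Subgroup.zpowers_le.2 hx.2)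
          refine hK.2 (le_bot_iff.1 (hCVQ ▸ le_inf inf_le_left ?_))
          exact Subgroup.le_centralizer_iff.1 hQle
        exact hne (hHeq hK0H hK.1 (hle.trans hcent.le)).symm
      obtain ⟨⟨f, hf⟩, hf1⟩ := Subgroup.ne_bot_iff_exists_ne_one.1 hne'
      have hfne : f ≠ 1 := fun h => hf1 (Subtype.ext h)
      refine ⟨f, ⟨hf.1.1, hf.2⟩, hfne, fun hW' => hfne ?_, ?_⟩
      · exact Subgroup.mem_bot.1 (hsep K hK.1 ▸ (⟨hf.1, hW'⟩ : f ∈ VK K ⊓ W K))
      · exact (le_iSup₂ (f := fun L (_ : Orb K L) => VK L) K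
          ⟨0, by rw [pow_zero, SolvBasic.conjSmul_one]⟩) hf.1
    · obtain ⟨⟨v, hv⟩, hv1⟩ := Subgroup.ne_bot_iff_exists_ne_one.1 hK.2
      have hvne : v ≠ 1 := fun h => hv1 (Subtype.ext h)
      set v' : V := ⟨v, hv.1⟩
      obtain ⟨r', hr'⟩ : ∃ r', r = r' + 1 := ⟨r - 1, by have := hr.one_lt; omega⟩
      have hrest : ∀ i ∈ Finset.range r', ((cs ^[i + 1]) v' : G) ∈ W K := fun i hi => by
        rw [hcs]
        refine (le_iSup₂ (f := fun L (_ : Hyp L ∧ L ≠ K) => VK L) _
          ⟨hconjHyp _ (hsN (i + 1)).1 K hK.1, fun h => ?_⟩) (conj_fixPart (hsN (i + 1)).2 hv)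
        have := hregular K hfix (i + 1) (by have := Finset.mem_range.1 hi; omega) h
        omega
      have hTeq : ((Tr v' : V) : G) = ((∏ i ∈ Finset.range r', (cs ^[i + 1]) v' : V) : G) * v := by
        simp only [Tr, hr', Finset.prod_range_succ', Subgroup.coe_mul, Function.iterate_zero, id, v']
      have hprod : ((∏ i ∈ Finset.range r', (cs ^[i + 1]) v' : V) : G) ∈ W K := by
        have : (∏ i ∈ Finset.range r', (cs ^[i + 1]) v') ∈ (W K).subgroupOf V :=
          prod_mem fun i hi => Subgroup.mem_subgroupOf.2 (hrest i hi)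
        exact this
      have hnot : ((Tr v' : V) : G) ∉ W K := fun h => hvne (Subgroup.mem_bot.1 (hsep K hK.1 ▸
        (⟨hv, by rw [hTeq] at h; exact (Subgroup.mul_mem_cancel_left _ hprod).1 h⟩ : v ∈ VK K ⊓ W K)))
      refine ⟨_, hTfix v', fun h => hnot (h ▸ one_mem _), hnot, ?_⟩
      have : Tr v' ∈ (⨆ (L) (_ : Orb K L), VK L).subgroupOf V := prod_mem fun i _ => by
        rw [Subgroup.mem_subgroupOf, hcs]
        exact (le_iSup₂ (f := fun L (_ : Orb K L) => VK L) _ ⟨i, rfl⟩) (conj_fixPart (hsN i).2 hv)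
      exact this
  have hOrbH : ∀ {K L}, Om K → Orb K L → Om L := by
    rintro K L hK ⟨i, rfl⟩
    exact hconjOm _ (hsN i) K hK
  have huniq : ∀ K L, Om K → Om L → K ≠ K0 → L ≠ K0 → Orb L K := by
    intro K L hK hL hK0' hL0'
    by_contra hno
    obtain ⟨f, hfC, hf1, hfW, -⟩ := hvec K hK hK0'
    obtain ⟨g, hgC, hg1, -, hgO⟩ := hvec L hL hL0'
    refine hfW ?_
    have hgW : g ∈ W K := (iSup₂_le fun M hM =>
      le_iSup₂ (f := fun L (_ : Hyp L ∧ L ≠ K) => VK L) M ⟨(hOrbH hL hM).1, fun h => hno (h ▸ hM)⟩ :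
        (⨆ (M) (_ : Orb L M), VK M) ≤ W K) hgO
    exact (Subgroup.zpowers_le.2 hgW) (hCgen g hgC hg1 f hfC)
  -- two hyperplanes do not suffice
  have hfew : ∀ A B : Subgroup G, Hyp A → Hyp B → (∀ K, Om K → K = A ∨ K = B) → False := by
    intro A B hA hB h
    have hle : A ⊓ B ≤ Q ⊓ Subgroup.centralizer (V : Set G) := by
      refine le_inf (inf_le_left.trans hA.1) ?_
      rw [Subgroup.le_centralizer_iff]
      intro v hv
      have h1 : v ∈ VK ⊥ := ⟨hv, Subgroup.mem_centralizer_iff.2 fun x hx => by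
        rw [Subgroup.mem_bot.1 hx, one_mul, mul_one]⟩
      refine (iSup₂_le fun K hK => ?_ : (⨆ (K) (_ : Hyp K ∧ ⊥ ≤ K), VK K) ≤ _) (hgen _ ⊥ bot_le rfl h1)
      by_cases hK1 : VK K = ⊥
      · rw [hK1]; exact bot_le
      refine inf_le_right.trans (Subgroup.centralizer_le (SetLike.coe_subset_coe.2 ?_))
      rcases h K ⟨hK.1, hK1⟩ with rfl | rfl
      · exact inf_le_left
      · exact inf_le_right
    rw [hfaith, le_bot_iff] at hle
    have hc := SolvBasic.card_sup_of_inf_eq_bot (N := A) (H := B)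
      (fun g hg => mem_normalizer_of_map_le fun x hx => by
        rwa [hQc g (hB.1 hg) x (hA.1 hx), mul_inv_cancel_right]) (by first | exact hle | exact inf_comm A B ▸ hle)
    have hd : Nat.card (A ⊔ B : Subgroup G) ≤ q ^ r :=
      hQcard ▸ Nat.le_of_dvd Nat.card_pos (Subgroup.card_dvd_of_le (sup_le hA.1 hB.1))
    have h1 : q ^ r * q ^ r ≤ q ^ r * q ^ 2 :=
      calc q ^ r * q ^ r = (Nat.card A * q) * (Nat.card B * q) := by rw [hA.2, hB.2]
        _ = Nat.card (A ⊔ B : Subgroup G) * q ^ 2 := by rw [hc]; ring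
        _ ≤ q ^ r * q ^ 2 := Nat.mul_le_mul hd le_rfl
    have := (Nat.pow_le_pow_iff_right hq.one_lt).1 (Nat.le_of_mul_le_mul_left h1 (pow_pos hq.pos r))
    have := hr.two_le
    omega
  obtain ⟨K, hK, hKne⟩ : ∃ K, Om K ∧ K ≠ K0 := by
    by_contra h
    push Not at h
    exact hfew K0 K0 hK0H hK0H fun K hK => Or.inl (h K hK)
  have hnfix : MulAut.conj s • K ≠ K := by
    intro hfix
    refine hfew K K0 hK.1 hK0H fun L hL => ?_
    by_cases hL0 : L = K0
    · exact Or.inr hL0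
    obtain ⟨i, hi⟩ := huniq L K hL hK hL0 hKne
    rw [← hi]
    exact Or.inl (SolvBasic.conjSmul_eq_self_of_mem_normalizer
      (pow_mem (SolvBasic.mem_normalizer_iff_conjSmul.2 hfix) i))
  -- the orbits of `P`
  letI act : MulAction P (Subgroup G) := MulAction.compHom _ (MulAut.conj.comp P.subtype)
  have hact : ∀ (g : P) (L : Subgroup G), g • L = MulAut.conj (g : G) • L := fun _ _ => rfl
  have horb : ∀ L : Subgroup G, ∃ b, (MulAction.orbit P L).ncard = p ^ b := fun L => by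
    obtain ⟨n, hn⟩ := hP.exists_card_eq
    obtain ⟨b, -, hb⟩ := (Nat.dvd_prime_pow hp).1
      (hn ▸ (MulAction.stabilizer P L).index_dvd_card)
    exact ⟨b, by rw [← MulAction.index_stabilizer, hb]⟩
  have horbP : ∀ {L M : Subgroup G}, Om L → M ∈ MulAction.orbit P L → Om M := by
    rintro L M hL ⟨g, rfl⟩
    exact hconjOm _ ⟨hPQ g.2, hPV g.2⟩ L hL
  have horbS : ∀ {L M : Subgroup G} (i : ℕ), M ∈ MulAction.orbit P L →
      MulAut.conj (s ^ i) • M ∈ MulAction.orbit P (MulAut.conj (s ^ i) • L) := by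
    rintro L M i ⟨g, rfl⟩
    refine ⟨⟨s ^ i * g * (s ^ i)⁻¹, (Subgroup.mem_normalizer_iff.1 (pow_mem (hRP hsR) i) _).1 g.2⟩, ?_⟩
    simp only [hact, SolvBasic.conjSmul_conjSmul]
    congr 2
    group
  set Oset : Set (Subgroup G) := (fun i => MulAut.conj (s ^ i) • K) '' (Finset.range r : Finset ℕ) with hOset
  have hOcard : Oset.ncard = r := by
    rw [hOset, Set.ncard_image_of_injOn, Set.ncard_coe_finset, Finset.card_range]
    intro i hi j hj h
    simp only [Finset.coe_range, Set.mem_Iio] at hi hj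
    simp only at h
    have key : ∀ i j, j < r → i ≤ j → MulAut.conj (s ^ i) • K = MulAut.conj (s ^ j) • K → i = j := by
      intro i j hj hij h
      have h' : MulAut.conj (s ^ i) • (MulAut.conj (s ^ (j - i)) • K) = MulAut.conj (s ^ i) • K := by
        rw [SolvBasic.conjSmul_conjSmul, ← pow_add, Nat.add_sub_cancel' hij, h]
      have := hregular K hnfix (j - i) (by omega) ((smul_left_cancel _ h'))
      omega
    rcases le_total i j with hij | hij
    · exact key i j hj hij h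
    · exact (key j i hi hij h.symm).symm
  have hOmem : ∀ i : ℕ, MulAut.conj (s ^ i) • K ∈ Oset := fun i => by
    refine ⟨i % r, by simp [Nat.mod_lt _ hr.pos], ?_⟩
    simp only
    rw [← pow_eq_pow_mod i hsr]
  have hOmO : ∀ L, Om L → L ≠ K0 → L ∈ Oset := fun L hL hne => by
    obtain ⟨i, rfl⟩ := huniq L K hL hK hne hKne
    exact hOmem i
  have hKiOm : ∀ L ∈ Oset, Om L ∧ L ≠ K0 := by
    rintro _ ⟨i, -, rfl⟩
    refine ⟨hconjOm _ (hsN i) K hK, fun h => hKne ?_⟩
    simp only at h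
    rw [← SolvBasic.conjSmul_inv_conjSmul (s ^ i) K, h]
    refine SolvBasic.conjSmul_eq_self_of_mem_normalizer (inv_mem ?_)
    exact pow_mem (SolvBasic.mem_normalizer_iff_conjSmul.2 hK0fix) i
  -- `P` does not fix `K0` unless ...
  have hK0Om : ¬ Om K0 := by
    intro h0
    have hmoves : ¬ MulAction.orbit P K0 ⊆ {K0} := by
      intro hsub
      -- `⁅P, R⁆` is trivial on `Q / K0`
      have hPK0 : P ≤ Subgroup.normalizer (K0 : Set G) := fun g hg =>
        SolvBasic.mem_normalizer_iff_conjSmul.2 (Set.mem_singleton_iff.1 (hsub ⟨⟨g, hg⟩, rfl⟩))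
      have hRK0 : R ≤ Subgroup.normalizer (K0 : Set G) := Subgroup.normalizer_commutator_ge_right Q R
      have hRtriv : ∀ y ∈ R, ∀ x ∈ Q, y * x * y⁻¹ * x⁻¹ ∈ K0 := fun y hy x hx => by
        have := inv_mem (Subgroup.commutator_mem_commutator hx hy : ⁅x, y⁆ ∈ K0)
        rwa [commutatorElement_inv, commutatorElement_def] at this
      have hQK0 : Q ≤ Subgroup.normalizer (K0 : Set G) := fun g hg =>
        mem_normalizer_of_map_le fun x hx => by rwa [hQc g hg x (hK0Q hx), mul_inv_cancel_right]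
      let S : Subgroup G :=
        { carrier := {g | (g ∈ Subgroup.normalizer (K0 : Set G) ∧ g ∈ Subgroup.normalizer (Q : Set G)) ∧
            ∀ x ∈ Q, g * x * g⁻¹ * x⁻¹ ∈ K0}
          one_mem' := ⟨⟨one_mem _, one_mem _⟩, fun x _ => by simp⟩
          mul_mem' := fun {g h} hg hh => ⟨⟨mul_mem hg.1.1 hh.1.1, mul_mem hg.1.2 hh.1.2⟩, fun x hx => by
            rw [show g * h * x * (g * h)⁻¹ * x⁻¹ =
              (g * (h * x * h⁻¹ * x⁻¹) * g⁻¹) * (g * x * g⁻¹ * x⁻¹) by group]
            exact mul_mem ((Subgroup.mem_normalizer_iff.1 hg.1.1 _).1 (hh.2 x hx)) (hg.2 x hx)⟩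
          inv_mem' := fun {g} hg => ⟨⟨inv_mem hg.1.1, inv_mem hg.1.2⟩, fun x hx => by
            rw [show g⁻¹ * x * (g⁻¹)⁻¹ * x⁻¹ = g⁻¹ * (g * x * g⁻¹ * x⁻¹)⁻¹ * (g⁻¹)⁻¹ by group]
            exact (Subgroup.mem_normalizer_iff.1 (inv_mem hg.1.1) _).1 (inv_mem (hg.2 x hx))⟩ }
      have hPS : P ≤ S := by
        rw [← hPR, Subgroup.commutator_le]
        intro g hg y hy
        have hnK : ⁅g, y⁆ ∈ Subgroup.normalizer (K0 : Set G) :=
          mul_mem (mul_mem (mul_mem (hPK0 hg) (hRK0 hy)) (inv_mem (hPK0 hg))) (inv_mem (hRK0 hy))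
        have hnQ : ⁅g, y⁆ ∈ Subgroup.normalizer (Q : Set G) :=
          mul_mem (mul_mem (mul_mem (hPQ hg) (hRQ hy)) (inv_mem (hPQ hg))) (inv_mem (hRQ hy))
        refine ⟨⟨hnK, hnQ⟩, fun x hx => ?_⟩
        have hx1 : y⁻¹ * x * (y⁻¹)⁻¹ * x⁻¹ ∈ K0 := hRtriv _ (inv_mem hy) x hx
        set x' := g⁻¹ * (y⁻¹ * x * y) * g with hx'
        have hx'Q : x' ∈ Q :=
          (Subgroup.mem_normalizer_iff''.1 (hPQ hg) _).1 ((Subgroup.mem_normalizer_iff''.1 (hRQ hy) x).1 hx)
        have h2 := hRtriv y hy x' hx'Q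
        have e : ⁅g, y⁆ * x * ⁅g, y⁆⁻¹ * x⁻¹ =
            (g * (y * x' * y⁻¹ * x'⁻¹) * g⁻¹) * (y⁻¹ * x * (y⁻¹)⁻¹ * x⁻¹) := by
          simp only [hx', commutatorElement_def]; group
        rw [e]
        exact mul_mem ((Subgroup.mem_normalizer_iff.1 (hPK0 hg) _).1 h2) hx1
      refine hHne hK0H (le_antisymm hK0Q ?_)
      rw [← hQP, Subgroup.commutator_le]
      intro x hx g hg
      rw [← commutatorElement_inv]
      exact inv_mem ((hPS hg).2 x hx)
    obtain ⟨b, hb⟩ := horb K0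
    have horbK0 : MulAction.orbit P K0 = insert K0 Oset := by
      refine Set.Subset.antisymm (fun L hL => ?_) ?_
      · by_cases hLK : L = K0
        · exact Or.inl hLK
        · exact Or.inr (hOmO L (horbP h0 hL) hLK)
      · obtain ⟨L, hL, hLne⟩ := Set.not_subset.1 hmoves
        obtain ⟨j, -, rfl⟩ := hOmO L (horbP h0 hL) hLne
        refine Set.insert_subset (MulAction.mem_orbit_self K0) ?_
        rintro _ ⟨i, -, rfl⟩
        simp only
        have hcong : MulAut.conj (s ^ (i + (r - 1) * j + j)) • K = MulAut.conj (s ^ i) • K := by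
          congr 2
          rw [show i + (r - 1) * j + j = i + r * j by
            obtain ⟨r', hr'⟩ : ∃ r', r = r' + 1 := ⟨r - 1, by have := hr.one_lt; omega⟩
            subst hr'
            simp only [Nat.add_sub_cancel]
            ring, pow_add, pow_mul, hsr, one_pow, mul_one]
        have := horbS (i + (r - 1) * j) hL
        simp only [SolvBasic.conjSmul_conjSmul, ← pow_add, hcong] at this
        rwa [SolvBasic.conjSmul_eq_self_of_mem_normalizer
          (pow_mem (SolvBasic.mem_normalizer_iff_conjSmul.2 hK0fix) _)] at this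
    rw [horbK0, Set.ncard_insert_of_notMem (fun h => (hKiOm K0 h).2 rfl), hOcard] at hb
    have : Odd (r + 1) := hb.symm ▸ (hp.odd_of_ne_two hp2).pow
    have := hr.odd_of_ne_two hr2
    rw [Nat.odd_iff] at *
    omega
  have hPfix : ∀ g ∈ P, MulAut.conj g • K = K := by
    intro g hg
    by_contra hne
    have hsub : MulAction.orbit P K ⊆ Oset := fun L hL =>
      hOmO L (horbP hK hL) fun h => hK0Om (h ▸ horbP hK hL)
    obtain ⟨i, hir, hi⟩ := hsub (⟨⟨g, hg⟩, rfl⟩ : MulAut.conj g • K ∈ MulAction.orbit P K)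
    simp only [Finset.coe_range, Set.mem_Iio] at hir
    simp only at hi
    have hi0 : i ≠ 0 := fun h => hne (by rw [← hi, h, pow_zero, SolvBasic.conjSmul_one])
    have hmem : MulAut.conj (s ^ i) • K ∈ MulAction.orbit P K := hi ▸ ⟨⟨g, hg⟩, rfl⟩
    have hstep : ∀ m : ℕ, MulAut.conj (s ^ (i * m)) • K ∈ MulAction.orbit P K := by
      intro m
      induction m with
      | zero => rw [mul_zero, pow_zero, SolvBasic.conjSmul_one]; exact MulAction.mem_orbit_self K
      | succ m ih =>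
        have h1 := horbS i ih
        rw [SolvBasic.conjSmul_conjSmul, ← pow_add] at h1
        rw [MulAction.orbit_eq_iff.2 hmem] at h1
        rwa [Nat.mul_succ, add_comm]
    obtain ⟨m, hm⟩ := exists_pow_eq_self_of_coprime (x := s) (n := i) (by
      rw [← Nat.card_zpowers, hRgen, hR]
      exact ((Nat.Prime.coprime_iff_not_dvd hr).2
        (Nat.not_dvd_of_pos_of_lt (Nat.pos_of_ne_zero hi0) hir)).symm)
    have heq : MulAction.orbit P K = Oset := by
      refine Set.Subset.antisymm hsub ?_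
      rintro _ ⟨j, -, rfl⟩
      have := hstep (m * j)
      simp only
      rwa [show s ^ j = s ^ (i * (m * j)) by rw [← mul_assoc, pow_mul, pow_mul, hm]]
    obtain ⟨b, hb⟩ := horb K
    rw [heq, hOcard] at hb
    exact hpr ((Nat.prime_dvd_prime_iff_eq hp hr).1 (hb ▸ dvd_pow_self p fun h => hr.ne_one (by rw [hb, h, pow_zero])))
  -- every fixed vector in `VK K` spans it
  obtain ⟨⟨v, hv⟩, hv1⟩ := Subgroup.ne_bot_iff_exists_ne_one.1 hK.2
  have hvne : v ≠ 1 := fun h => hv1 (Subtype.ext h)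
  have hspan : ∀ w ∈ VK K, w ∈ Subgroup.zpowers v := by
    obtain ⟨r', hr'⟩ : ∃ r', r = r' + 1 := ⟨r - 1, by have := hr.one_lt; omega⟩
    have hker : ∀ u : V, (u : G) ∈ VK K → Tr u = 1 → (u : G) = 1 := by
      intro u hu hT
      have hrest : (∏ i ∈ Finset.range r', (cs ^[i + 1]) u) ∈ (W K).subgroupOf V :=
        prod_mem fun i hi => by
          rw [Subgroup.mem_subgroupOf, hcs]
          refine (le_iSup₂ (f := fun L (_ : Hyp L ∧ L ≠ K) => VK L) _
            ⟨hconjHyp _ (hsN (i + 1)).1 K hK.1, fun h => ?_⟩) (conj_fixPart (hsN (i + 1)).2 hu)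
          have := hregular K hnfix (i + 1) (by have := Finset.mem_range.1 hi; omega) h
          omega
      have he : u = (∏ i ∈ Finset.range r', (cs ^[i + 1]) u)⁻¹ := by
        refine eq_inv_of_mul_eq_one_right ?_
        rw [← hT]
        simp only [Tr, hr', Finset.prod_range_succ', Function.iterate_zero, id]
      exact Subgroup.mem_bot.1 (hsep K hK.1 ▸ (⟨hu, show (u : G) ∈ W K by rw [he]; exact ((W K).subgroupOf V).inv_mem hrest⟩ : (u : G) ∈ VK K ⊓ W K))
    intro w hw
    have hTv : ((Tr ⟨v, hv.1⟩ : V) : G) ≠ 1 := fun h => hvne (hker ⟨v, hv.1⟩ hv (Subtype.ext h))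
    obtain ⟨k, hk⟩ := hCgen _ (hTfix ⟨v, hv.1⟩) hTv _ (hTfix ⟨w, hw.1⟩)
    simp only at hk
    let Th : V →* V := MonoidHom.mk' Tr hTmul
    have h1 : Tr (⟨w, hw.1⟩ * (⟨v, hv.1⟩ ^ k)⁻¹) = 1 := by
      change Th _ = 1
      rw [map_mul, map_inv, map_zpow]
      refine Subtype.ext ?_
      change (Tr ⟨w, hw.1⟩ : G) * (((Tr ⟨v, hv.1⟩ : V) ^ k : V) : G)⁻¹ = 1
      rw [Subgroup.coe_zpow, hk, mul_inv_cancel]
    have h2 := hker _ (by
      simp only [Subgroup.coe_mul, Subgroup.coe_inv, Subgroup.coe_zpow]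
      exact mul_mem hw (inv_mem (zpow_mem hv k))) h1
    simp only [Subgroup.coe_mul, Subgroup.coe_inv, Subgroup.coe_zpow] at h2
    exact ⟨k, (mul_inv_eq_one.1 h2).symm⟩
  refine hvne (Subgroup.mem_bot.1 (hCVQ ▸ (⟨hv.1, ?_⟩ : v ∈ V ⊓ Subgroup.centralizer (Q : Set G))))
  have hQle : Q ≤ Subgroup.centralizer ({v} : Set G) := by
    rw [← hQP, Subgroup.commutator_le]
    intro x hx g hg
    obtain ⟨a', ha⟩ := hspan _ (hQconj hK.1.1 x hx ▸ conj_fixPart (hQV hx) hv)
    obtain ⟨b', hb⟩ := hspan _ (hPfix g hg ▸ conj_fixPart (hPV hg) hv)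
    simp only at ha hb
    have e1 : x * g * v * (x * g)⁻¹ = v ^ (a' * b') := by
      rw [show x * g * v * (x * g)⁻¹ = x * (g * v * g⁻¹) * x⁻¹ by group, ← hb, ← conj_zpow, ← ha, ← zpow_mul]
    have e2 : g * x * v * (g * x)⁻¹ = v ^ (b' * a') := by
      rw [show g * x * v * (g * x)⁻¹ = g * (x * v * x⁻¹) * g⁻¹ by group, ← ha, ← conj_zpow, ← hb, ← zpow_mul]
    rw [mul_comm b' a', ← e1] at e2
    refine Subgroup.mem_centralizer_singleton_iff.2 ?_
    have h3 : ⁅x, g⁆ * (g * x * v * (g * x)⁻¹) * ⁅x, g⁆⁻¹ = x * g * v * (x * g)⁻¹ := by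
      simp only [commutatorElement_def]; group
    rw [← e2] at h3
    have h4 := mul_inv_eq_iff_eq_mul.1 h3
    -- `⁅x, g⁆` fixes the generator
    have hmem : g * x * v * (g * x)⁻¹ ∈ Subgroup.zpowers v := ⟨a' * b', by
      rw [e2, e1]⟩
    have hcardv : orderOf v = p := orderOf_eq_prime (hV.2 v hv.1) hvne
    have hgen' : Subgroup.zpowers (g * x * v * (g * x)⁻¹) = Subgroup.zpowers v := by
      refine Subgroup.eq_of_le_of_card_ge (Subgroup.zpowers_le.2 hmem) ?_
      rw [Nat.card_zpowers, Nat.card_zpowers, ← MulAut.conj_apply, MulEquiv.orderOf_eq]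
    obtain ⟨c, hc⟩ : v ∈ Subgroup.zpowers (g * x * v * (g * x)⁻¹) :=
      hgen'.symm ▸ Subgroup.mem_zpowers v
    simp only at hc
    rw [← hc]
    exact Commute.zpow_right h4 c
  exact Subgroup.mem_centralizer_iff.2 fun y hy => Subgroup.mem_centralizer_singleton_iff.1 (hQle hy)

end Cfsg.Agent.OddOrder.ComplModule
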