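import Cfsg.Agent.Lib.OddOrder.ComplCore

/-!
If `R` is a complement to a normal Hall subgroup `H` of a group of odd order and the centralizer in `H`
of a subgroup of prime order of `R` has cyclic Sylow subgroups, then `⁅H, R⁆` has `p`-length one.
-/

set_option autoImplicit false
open scoped Pointwise commutatorElement

universe u

namespace Cfsg.Agent.OddOrder.ComplPLength

open ComplAbelian (mem_normalizer_of_map_le)
open ComplReduce ComplCore

set_option maxHeartbeats 1000000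

lemma normalizer_commutator {G : Type u} [Group G] {A B : Subgroup G} :
    Subgroup.normalizer (A : Set G) ⊓ Subgroup.normalizer (B : Set G) ≤
      Subgroup.normalizer ((⁅A, B⁆ : Subgroup G) : Set G) := by
  rintro g ⟨hA, hB⟩
  rw [SolvBasic.mem_normalizer_iff_conjSmul]
  have h1 := SolvBasic.conjSmul_eq_self_of_mem_normalizer hA
  have h2 := SolvBasic.conjSmul_eq_self_of_mem_normalizer hB
  rw [Subgroup.pointwise_smul_def] at h1 h2 ⊢
  exact (Subgroup.map_commutator A B _).trans (congrArg₂ (⁅·, ·⁆) h1 h2)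

/-- A Sylow subgroup of `H` centralised by `R` modulo `V` has image of order prime to `p`. -/
theorem coprime_relIndex {p : ℕ} [Fact p.Prime] {G : Type u} [Group G] [Finite G] [Group.IsSolvable G]
    (H R V : Subgroup G) [hH : H.Normal] [V.Normal] (hHR : ⁅H, R⁆ = H) (S₀ : Sylow p H)
    (hle : ⁅(S₀ : Subgroup H).map H.subtype, R⁆ ≤ V) : (V.relIndex H).Coprime p := by
  haveI : (H.map (QuotientGroup.mk' V)).Normal := hH.map _ (QuotientGroup.mk'_surjective V)
  haveI : Group.IsSolvable (G ⧸ V) := Group.isSolvable_of_surjective (QuotientGroup.mk'_surjective V)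
  have hYR : ⁅H.map (QuotientGroup.mk' V), R.map (QuotientGroup.mk' V)⁆ = H.map (QuotientGroup.mk' V) := by
    rw [← Subgroup.map_commutator, hHR]
  have hsur := (QuotientGroup.mk' V).subgroupMap_surjective H
  have hle' : ((S₀.mapSurjective hsur : Subgroup (H.map (QuotientGroup.mk' V))).map
      (H.map (QuotientGroup.mk' V)).subtype) ≤ ((S₀ : Subgroup H).map H.subtype).map (QuotientGroup.mk' V) := by
    rw [Sylow.coe_mapSurjective]
    rintro _ ⟨y, ⟨x, hx, rfl⟩, rfl⟩
    exact ⟨x, ⟨x, hx, rfl⟩, rfl⟩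
  have hbot : ⁅((S₀ : Subgroup H).map H.subtype).map (QuotientGroup.mk' V), R.map (QuotientGroup.mk' V)⁆ = ⊥ := by
    rw [← Subgroup.map_commutator, Subgroup.map_eq_bot_iff, QuotientGroup.ker_mk']
    exact hle
  have hcop := coprime_of_sylow_centralized (H.map (QuotientGroup.mk' V)) (R.map (QuotientGroup.mk' V)) hYR
    (S₀.mapSurjective hsur) (le_bot_iff.1 ((Subgroup.commutator_mono hle' le_rfl).trans hbot.le))
  rwa [← Subgroup.relIndex_ker, QuotientGroup.ker_mk'] at hcop

/-- The theorem, by induction on the order. -/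
theorem main {p : ℕ} [hp : Fact p.Prime] : ∀ (n : ℕ) {G : Type u} [Group G] [Finite G]
    {r : ℕ} (H R R₀ : Subgroup G), Nat.card G = n → Data p r H R R₀ →
    Cfsg.PLengthLE p 1 ↥⁅H, R⁆ := by
  intro n
  induction n using Nat.strong_induction_on with
  | _ n IH =>
  intro G _ _ r H R R₀ hn d
  have ih : ∀ {G' : Type u} [Group G'] [Finite G'] (H' R' R₀' : Subgroup G'),
      Nat.card G' < Nat.card G → Data p r H' R' R₀' → Cfsg.PLengthLE p 1 ↥⁅H', R'⁆ :=
    fun {G'} _ _ H' R' R₀' hlt d' => IH _ (hn ▸ hlt) H' R' R₀' rfl d'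
  haveI := d.solv
  haveI hHn := d.normal
  have hRH : R ≤ Subgroup.normalizer (H : Set G) := d.norm_H R
  by_cases hHR : ⁅H, R⁆ = H
  swap
  · have h := d.sub ih ⁅H, R⁆ R (CoprimeAct.commutator_le_left hRH) le_rfl d.le
      (Subgroup.normalizer_commutator_ge_right H R) (Or.inl hHR)
    rwa [CoprimeAct.commutator_commutator hRH d.cop (Or.inr inferInstance)] at h
  rw [hHR]
  -- the `p'`-core
  by_cases hO : Cfsg.pPrimeCore p H = ⊥
  swap
  · set N : Subgroup G := (Cfsg.pPrimeCore p H).map H.subtype with hN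
    haveI : N.Normal :=
      FittingCores.normal_map_of_characteristic hHn (FittingCores.pPrimeCore_characteristic p)
    refine plen_of_image (QuotientGroup.mk' N) H ?_ (d.quot ih N (Subgroup.map_subtype_le _)
      (fun h => hO ((Subgroup.map_eq_bot_iff_of_injective _ H.subtype_injective).1 h)) hHR)
    rw [QuotientGroup.ker_mk', inf_eq_right.2 (Subgroup.map_subtype_le _),
      Subgroup.card_map_of_injective H.subtype_injective]
    exact FittingCores.pPrimeCore_coprime p
  rw [plen_iff hO]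
  by_contra hidx
  set V : Subgroup G := (Cfsg.pCore p H).map H.subtype with hV
  haveI hVn : V.Normal :=
    FittingCores.normal_map_of_characteristic hHn (FittingCores.pCore_characteristic p)
  have hVH : V ≤ H := Subgroup.map_subtype_le _
  have hVp : IsPGroup p V := (FittingCores.pCore_isPGroup p).map _
  have hVN : ∀ A : Subgroup G, A ≤ Subgroup.normalizer (V : Set G) := fun A =>
    Subgroup.le_normalizer_of_normal
  have hCV : H ⊓ Subgroup.centralizer (V : Set G) ≤ V := by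
    rintro x ⟨hxH, hxC⟩
    refine ⟨⟨x, hxH⟩, FittingCores.centralizer_pCore_le hp.out hO ?_, rfl⟩
    exact Subgroup.mem_centralizer_iff.2 fun v hv =>
      Subtype.ext (Subgroup.mem_centralizer_iff.1 hxC _ ⟨v, hv, rfl⟩)
  -- the largest normal `p`-subgroup
  have hmax : ∀ D : Subgroup G, D ≤ H → H ≤ Subgroup.normalizer (D : Set G) → IsPGroup p D → D ≤ V :=
    fun D hD hn hDp x hx => ⟨⟨x, hD hx⟩, FittingCores.le_pCore
      (Subgroup.normal_subgroupOf_of_le_normalizer hn)
      (hDp.comap_of_injective H.subtype H.subtype_injective) hx, rfl⟩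
  -- `V` is elementary
  haveI : Group.IsNilpotent V := hVp.isNilpotent
  set Φ : Subgroup G := (frattini V).map V.subtype with hΦ
  haveI hΦn : Φ.Normal := FittingCores.normal_map_of_characteristic hVn inferInstance
  have hΦV : Φ ≤ V := Subgroup.map_subtype_le _
  have hΦ1 : Φ = ⊥ := by
    by_contra hne
    have hlen := d.quot ih Φ (hΦV.trans hVH) hne hHR
    set π := QuotientGroup.mk' Φ with hπ
    have hπs : Function.Surjective π := QuotientGroup.mk'_surjective Φ
    set Y := H.map π with hY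
    have hYO : Cfsg.pPrimeCore p Y = ⊥ := by
      set K : Subgroup (G ⧸ Φ) := (Cfsg.pPrimeCore p Y).map Y.subtype with hK
      haveI : K.Normal :=
        FittingCores.normal_map_of_characteristic (hHn.map π hπs) (FittingCores.pPrimeCore_characteristic p)
      have hKc : (Nat.card K).Coprime p := by
        rw [hK, Subgroup.card_map_of_injective Y.subtype_injective]
        exact FittingCores.pPrimeCore_coprime p
      by_contra hne'
      obtain ⟨s, hs, hsd⟩ := Nat.exists_prime_and_dvd (n := Nat.card K) fun h => hne'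
        ((Subgroup.map_eq_bot_iff_of_injective _ Y.subtype_injective).1 (Subgroup.card_eq_one.1 h))
      have hsp : s ≠ p := fun h => hs.one_lt.ne'
        (Nat.eq_one_of_dvd_coprimes hKc hsd (h ▸ dvd_rfl))
      haveI := Fact.mk hs
      set f := π.subgroupComap K
      have hfs : Function.Surjective f := π.subgroupComap_surjective_of_surjective K hπs
      obtain ⟨X⟩ : Nonempty (Sylow s (K.comap π)) := inferInstance
      have hXV : ((X : Subgroup (K.comap π)).map (K.comap π).subtype) = ⊥ := by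
        set A := (X : Subgroup (K.comap π)).map (K.comap π).subtype with hA
        have hAp : IsPGroup s A := X.isPGroup'.map _
        have hAK : A ≤ K.comap π := Subgroup.map_subtype_le _
        have hAH : A ≤ H := hAK.trans (by
          refine (Subgroup.comap_mono (Subgroup.map_subtype_le _)).trans ?_
          rw [hY, Subgroup.comap_map_eq, hπ, QuotientGroup.ker_mk', sup_eq_left.2 (hΦV.trans hVH)])
        have hAV : A ≤ Subgroup.centralizer (V : Set G) := by
          refine CoprimeAct.le_centralizer_of_frattini (hVN A) ?_ fun a ha v hv => ?_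
          · obtain ⟨e, he⟩ := (hVp.to_subgroup (frattini V)).exists_card_eq
            obtain ⟨e', he'⟩ := hAp.exists_card_eq
            rw [he, he']
            exact Nat.coprime_pow_primes e' e hs hp.out hsp
          · rw [← hΦ, ← QuotientGroup.eq_one_iff]
            refine Subgroup.mem_bot.1 (?_ : π (a * v * a⁻¹ * v⁻¹) ∈ (⊥ : Subgroup (G ⧸ Φ)))
            have hVK : K ⊓ V.map π = ⊥ := by
              obtain ⟨e, he⟩ := (hVp.map π).exists_card_eq
              exact SchurZ.inf_eq_bot (he ▸ hKc.symm.pow_left e : (Nat.card (V.map π)).Coprime (Nat.card K))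
            rw [← hVK]
            refine ⟨?_, Subgroup.mem_map_of_mem π (V.mul_mem (hVn.conj_mem v hv a) (V.inv_mem hv))⟩
            simp only [map_mul, map_inv]
            rw [show π a * π v * (π a)⁻¹ * (π v)⁻¹ = π a * (π v * (π a)⁻¹ * (π v)⁻¹) by group]
            exact K.mul_mem (hAK ha) (Subgroup.Normal.conj_mem inferInstance _ (K.inv_mem (hAK ha)) _)
        exact le_bot_iff.1 ((le_inf le_rfl ((le_inf hAH hAV).trans hCV)).trans
          (disjoint_iff.1 (IsPGroup.disjoint_of_ne s p hsp A V hAp hVp)).le)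
      have hX1 : (X : Subgroup (K.comap π)) = ⊥ :=
        (Subgroup.map_eq_bot_iff_of_injective _ (K.comap π).subtype_injective).1 hXV
      have := (X.mapSurjective hfs).dvd_card_of_dvd_card hsd
      rw [Sylow.coe_mapSurjective, hX1, Subgroup.map_bot, Subgroup.card_bot] at this
      exact hs.not_dvd_one this
    have hcop := (plen_iff hYO).1 hlen
    refine hidx ?_
    refine hcop.coprime_dvd_left ?_
    rw [← Subgroup.index_comap_of_surjective _ (π.subgroupMap_surjective H)]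
    refine Subgroup.index_dvd_of_le (FittingCores.le_pCore ((FittingCores.pCore_normal p).comap _) ?_)
    refine (FittingCores.pCore_isPGroup p).comap_of_ker_isPGroup _ ?_
    intro ⟨x, hx⟩
    have hxΦ : (x : G) ∈ Φ := (QuotientGroup.eq_one_iff _).1 (congrArg Subtype.val hx)
    obtain ⟨k, hk⟩ := pow_eq_one_of_mem hVp (hΦV hxΦ)
    exact ⟨k, Subtype.ext (Subtype.ext (by simpa using hk))⟩
  have hfr : frattini V = ⊥ := (Subgroup.map_eq_bot_iff_of_injective _ V.subtype_injective).1 hΦ1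
  have helem : Cfsg.IsElementaryAbelian p V := by
    refine ⟨.of_setLike_mul_comm fun a ha b hb => ?_, fun v hv => ?_⟩
    · rw [← commutatorElement_eq_one_iff_mul_comm]
      have h := SolvStruct.commutator_le_frattini V (Subgroup.commutator_mem_commutator
        (Subgroup.mem_top (⟨a, ha⟩ : V)) (Subgroup.mem_top ⟨b, hb⟩))
      rw [hfr, Subgroup.mem_bot] at h
      exact congrArg Subtype.val h
    · have h := PGroupBasics.pow_mem_frattini hVp ⟨v, hv⟩
      rw [hfr, Subgroup.mem_bot] at h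
      simpa [Subtype.ext_iff] using h
  haveI hVab : IsMulCommutative V := helem.1
  -- a unique minimal normal subgroup
  have huniq : ∀ N₁ N₂ : Subgroup G, N₁.Normal → N₂.Normal → N₁ ≤ V → N₂ ≤ V → N₁ ⊓ N₂ = ⊥ →
      N₁ = ⊥ ∨ N₂ = ⊥ := by
    intro N₁ N₂ hn₁ hn₂ h₁ h₂ hinf
    by_contra hne
    push Not at hne
    have key : ∀ (N : Subgroup G) [N.Normal], N ≤ V → N ≠ ⊥ → Cfsg.PLengthLE p 1 (H ⧸ N.subgroupOf H) := by
      intro N _ hN hN1
      refine PSeries.pLengthLE_of_ker_coprime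
        (QuotientGroup.lift (N.subgroupOf H) ((QuotientGroup.mk' N).subgroupMap H) fun x hx => ?_) ?_
        (d.quot ih N (hN.trans hVH) hN1 hHR)
      · exact Subtype.ext ((QuotientGroup.eq_one_iff _).2 hx)
      · rw [(MonoidHom.ker_eq_bot_iff _).2, Subgroup.card_bot]
        · exact Nat.coprime_one_left p
        · rw [injective_iff_map_eq_one]
          intro y hy
          obtain ⟨x, rfl⟩ := QuotientGroup.mk'_surjective _ y
          exact (QuotientGroup.eq_one_iff _).2 ((QuotientGroup.eq_one_iff (x : G)).1 (congrArg Subtype.val hy))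
    haveI := hn₁
    haveI := hn₂
    haveI : (N₁.subgroupOf H ⊓ N₂.subgroupOf H).Normal := Subgroup.normal_inf_normal _ _
    have h := PSeries.pLengthLE_inf (N₁.subgroupOf H) (N₂.subgroupOf H) (key N₁ h₁ hne.1) (key N₂ h₂ hne.2)
    have hbot : N₁.subgroupOf H ⊓ N₂.subgroupOf H = ⊥ := by
      rw [eq_bot_iff]
      rintro x ⟨hx1, hx2⟩
      exact Subgroup.mem_bot.2 (Subtype.ext (Subgroup.mem_bot.1 (hinf ▸ (⟨hx1, hx2⟩ : (x : G) ∈ N₁ ⊓ N₂))))
    refine hidx ((plen_iff hO).1 (PSeries.pLengthLE_of_ker_coprime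
      (QuotientGroup.mk' (N₁.subgroupOf H ⊓ N₂.subgroupOf H)) ?_ h))
    rw [QuotientGroup.ker_mk', hbot, Subgroup.card_bot]
    exact Nat.coprime_one_left p
  -- an invariant Sylow subgroup
  obtain ⟨S₀, hRS⟩ := CoprimeAct.exists_invariant_sylow hRH d.cop (Or.inr inferInstance) p
  set S : Subgroup G := (S₀ : Subgroup H).map H.subtype with hS
  have hSH : S ≤ H := Subgroup.map_subtype_le _
  have hSp : IsPGroup p S := S₀.isPGroup'.map _
  have hVS : V ≤ S := Subgroup.map_mono (FittingCores.pCore_le_sylow S₀)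
  -- modulo `V`
  set π := QuotientGroup.mk' V with hπ
  have hπs : Function.Surjective π := QuotientGroup.mk'_surjective V
  set Y := H.map π with hY
  haveI hYn : Y.Normal := hHn.map π hπs
  haveI : Group.IsSolvable (G ⧸ V) := Group.isSolvable_of_surjective hπs
  have hYO : Cfsg.pCore p Y = ⊥ := by
    set D : Subgroup G := ((Cfsg.pCore p Y).map Y.subtype).comap π with hD
    haveI : ((Cfsg.pCore p Y).map Y.subtype).Normal :=
      FittingCores.normal_map_of_characteristic hYn (FittingCores.pCore_characteristic p)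
    have hDp : IsPGroup p D := ((FittingCores.pCore_isPGroup p).map _).comap_of_ker_isPGroup _
      (by rw [hπ, QuotientGroup.ker_mk']; exact hVp)
    have hDH : D ≤ H := by
      refine (Subgroup.comap_mono (Subgroup.map_subtype_le _)).trans ?_
      rw [hY, Subgroup.comap_map_eq, hπ, QuotientGroup.ker_mk', sup_eq_left.2 hVH]
    have hDV := hmax D hDH Subgroup.le_normalizer_of_normal hDp
    rw [eq_bot_iff]
    intro y hy
    obtain ⟨x, hxy⟩ := hπs (y : G ⧸ V)
    refine Subgroup.mem_bot.2 (Subtype.ext ?_)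
    rw [← hxy]
    refine (QuotientGroup.eq_one_iff x).2 (hDV ?_)
    show π x ∈ (Cfsg.pCore p Y).map Y.subtype
    rw [hxy]
    exact ⟨y, hy, rfl⟩
  have hSV : ¬ ⁅S, R⁆ ≤ V := by
    intro hle
    refine hidx ?_
    refine (coprime_relIndex H R V hHR S₀ hle).coprime_dvd_left (dvd_of_eq ?_)
    rw [hV, Subgroup.relIndex, Subgroup.subgroupOf,
      Subgroup.comap_map_eq_self_of_injective H.subtype_injective]
  obtain ⟨x, hxSR, hxV⟩ := SetLike.not_le_iff_exists.1 hSV
  have hxS : x ∈ S := CoprimeAct.commutator_le_left hRS hxSR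
  set xb : Y := ⟨π x, Subgroup.mem_map_of_mem π (hSH hxS)⟩ with hxb
  obtain ⟨q, hq, hqp, hqne⟩ : ∃ q, q.Prime ∧ q ≠ p ∧ ∃ z ∈ Cfsg.pCore q Y, xb * z ≠ z * xb := by
    by_contra hno
    push Not at hno
    have hcen : xb ∈ Subgroup.centralizer (Cfsg.fittingSubgroup Y : Set Y) := by
      have hle : Cfsg.fittingSubgroup Y ≤ Subgroup.centralizer ({xb} : Set Y) := by
        rw [FittingCores.fitting_eq_iSup_pCore]
        refine iSup_le fun q z hz => Subgroup.mem_centralizer_singleton_iff.2 ?_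
        by_cases hqp : (q : ℕ) = p
        · rw [hqp, hYO, Subgroup.mem_bot] at hz
          rw [hz, one_mul, mul_one]
        · exact (hno q q.2 hqp z hz).symm
      exact Subgroup.mem_centralizer_iff.2 fun z hz => Subgroup.mem_centralizer_singleton_iff.1 (hle hz)
    have hF := (FittingCores.fitting_le_pCore_sup_pPrimeCore (G := Y) hp.out)
      (FittingCores.centralizer_fitting_le hcen)
    rw [hYO, bot_sup_eq] at hF
    obtain ⟨k, hk⟩ := pow_eq_one_of_mem hSp hxS
    have h1 : xb = 1 := by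
      rw [← orderOf_eq_one_iff]
      refine Nat.eq_one_of_dvd_coprimes ((FittingCores.pPrimeCore_coprime (G := Y) p).pow_right k)
        (Subgroup.orderOf_dvd_natCard _ hF) (orderOf_dvd_of_pow_eq_one (Subtype.ext ?_))
      simp only [hxb, Subgroup.coe_pow, Subgroup.coe_one, ← map_pow, hk, map_one]
    exact hxV ((QuotientGroup.eq_one_iff x).1 (congrArg Subtype.val h1))
  haveI := Fact.mk hq
  set Qb : Subgroup (G ⧸ V) := (Cfsg.pCore q Y).map Y.subtype with hQb
  haveI hQbn : Qb.Normal := FittingCores.normal_map_of_characteristic hYn (FittingCores.pCore_characteristic q)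
  have hQbq : IsPGroup q Qb := (FittingCores.pCore_isPGroup q).map _
  set Q₀ : Subgroup G := Qb.comap π with hQ₀
  haveI hQ₀n : Q₀.Normal := Subgroup.Normal.comap hQbn π
  have hQ₀H : Q₀ ≤ H := by
    refine (Subgroup.comap_mono (Subgroup.map_subtype_le _)).trans ?_
    rw [hY, Subgroup.comap_map_eq, hπ, QuotientGroup.ker_mk', sup_eq_left.2 hVH]
  have hVQ₀ : V ≤ Q₀ := fun v hv => by
    show π v ∈ Qb
    rw [show π v = 1 from (QuotientGroup.eq_one_iff v).2 hv]
    exact one_mem _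
  obtain ⟨Q₁, hRQ⟩ := CoprimeAct.exists_invariant_sylow (A := R) (K := Q₀) Subgroup.le_normalizer_of_normal
    (d.cop.coprime_dvd_right (Subgroup.card_dvd_of_le hQ₀H)) (Or.inr inferInstance) q
  set Q : Subgroup G := (Q₁ : Subgroup Q₀).map Q₀.subtype with hQ
  have hQQ₀ : Q ≤ Q₀ := Subgroup.map_subtype_le _
  have hQH : Q ≤ H := hQQ₀.trans hQ₀H
  have hQq : IsPGroup q Q := Q₁.isPGroup'.map _
  have hQmap : Q.map π = Qb := by
    refine le_antisymm (Subgroup.map_le_iff_le_comap.2 hQQ₀) fun y hy => ?_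
    have htop : (Q₁.mapSurjective (π.subgroupComap_surjective_of_surjective Qb hπs) : Subgroup Qb) = ⊤ :=
      ((Q₁.mapSurjective (π.subgroupComap_surjective_of_surjective Qb hπs)).is_maximal'
        (hQbq.to_subgroup ⊤) le_top).symm
    have hm : (⟨y, hy⟩ : Qb) ∈ (Q₁.mapSurjective (π.subgroupComap_surjective_of_surjective Qb hπs) : Subgroup Qb) :=
      htop ▸ Subgroup.mem_top _
    obtain ⟨a, ha, hay⟩ := hm
    exact ⟨a, ⟨a, ha, rfl⟩, congrArg Subtype.val hay⟩
  have hQ₀eq : V ⊔ Q = Q₀ := by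
    refine le_antisymm (sup_le hVQ₀ hQQ₀) fun g hg => ?_
    obtain ⟨z, hz, hzg⟩ := hQmap.ge (show π g ∈ Qb from hg)
    have : g = g * z⁻¹ * z := by group
    rw [this]
    refine mul_mem (Subgroup.mem_sup_left ((QuotientGroup.eq_one_iff _).1 ?_)) (Subgroup.mem_sup_right hz)
    change π (g * z⁻¹) = 1
    rw [map_mul, map_inv, hzg, mul_inv_cancel]
  have hQV : Q ⊓ V = ⊥ := disjoint_iff.1 (IsPGroup.disjoint_of_ne q p hqp Q V hQq hVp)
  have hfaith : Q ⊓ Subgroup.centralizer (V : Set G) = ⊥ :=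
    le_bot_iff.1 ((le_inf inf_le_left ((inf_le_inf_right _ hQH).trans hCV)).trans hQV.le)
  have hQ1 : Q ≠ ⊥ := fun h => by
    obtain ⟨z, hz, hzne⟩ := hqne
    have hzb : (z : G ⧸ V) ∈ Q.map π := hQmap.symm ▸ ⟨z, hz, rfl⟩
    rw [h, Subgroup.map_bot, Subgroup.mem_bot] at hzb
    exact hzne (by rw [show z = 1 from Subtype.ext hzb, mul_one, one_mul])
  have hQcop : (Nat.card Q).Coprime (Nat.card V) := by
    obtain ⟨a, ha⟩ := hQq.exists_card_eq
    obtain ⟨b, hb⟩ := hVp.exists_card_eq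
    rw [ha, hb]
    exact Nat.coprime_pow_primes a b hq hp.out hqp
  -- `C_V(Q) = ⊥`
  have hCVQ : V ⊓ Subgroup.centralizer (Q : Set G) = ⊥ := by
    have hC0 : V ⊓ Subgroup.centralizer (Q₀ : Set G) = V ⊓ Subgroup.centralizer (Q : Set G) := by
      refine le_antisymm (inf_le_inf_left _ (Subgroup.centralizer_le (SetLike.coe_subset_coe.2 hQQ₀))) ?_
      rintro v ⟨hv, hvQ⟩
      refine ⟨hv, Subgroup.mem_centralizer_iff.2 fun g hg => ?_⟩
      obtain ⟨a, ha, b, hb, rfl⟩ :=
        (SolvBasic.mem_sup_iff_of_le_normalizer (hVN Q)).1 (hQ₀eq.symm ▸ hg)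
      exact (Commute.mul_left (setLike_mul_comm (s := V) ha hv) (Subgroup.mem_centralizer_iff.1 hvQ b hb)).eq
    have hC0' : ⁅V, Q₀⁆ = ⁅V, Q⁆ := by
      refine le_antisymm ?_ (Subgroup.commutator_mono le_rfl hQQ₀)
      rw [Subgroup.commutator_le]
      intro v hv g hg
      obtain ⟨a, ha, b, hb, rfl⟩ :=
        (SolvBasic.mem_sup_iff_of_le_normalizer (hVN Q)).1 (hQ₀eq.symm ▸ hg)
      have hvb : ⁅v, b⁆ ∈ ⁅V, Q⁆ := Subgroup.commutator_mem_commutator hv hb
      have hvbV : ⁅v, b⁆ ∈ V := CoprimeAct.commutator_le_left (hVN Q) hvb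
      have : ⁅v, a * b⁆ = ⁅v, b⁆ := by
        rw [show ⁅v, a * b⁆ = ⁅v, a⁆ * (a * ⁅v, b⁆ * a⁻¹) by simp only [commutatorElement_def]; group,
          commutatorElement_eq_one_iff_mul_comm.2 (setLike_mul_comm (s := V) hv ha), one_mul,
          setLike_mul_comm (s := V) ha hvbV, mul_inv_cancel_right]
      rw [this]
      exact hvb
    refine (huniq (V ⊓ Subgroup.centralizer (Q : Set G)) ⁅V, Q⁆ (hC0 ▸ inferInstance) (hC0' ▸ inferInstance)
      inf_le_left (CoprimeAct.commutator_le_left (hVN Q))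
      (CoprimeAct.centralizer_inf_commutator_eq_bot (hVN Q) hQcop)).resolve_right fun h => hQ1 ?_
    rw [← le_bot_iff, ← hfaith]
    refine le_inf le_rfl ?_
    rw [Subgroup.le_centralizer_iff]
    exact Subgroup.commutator_eq_bot_iff_le_centralizer.1 h
  -- the complement `P`
  set P : Subgroup G := S ⊓ Subgroup.normalizer (Q : Set G) with hP
  have hPp : IsPGroup p P := hSp.to_le inf_le_left
  have hPH : P ≤ H := inf_le_left.trans hSH
  have hPQ : P ≤ Subgroup.normalizer (Q : Set G) := inf_le_right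
  have hRP : R ≤ Subgroup.normalizer (P : Set G) := fun y hy =>
    Subgroup.inf_normalizer_le_normalizer_inf
      ⟨hRS hy, Subgroup.le_normalizer (H := Subgroup.normalizer (Q : Set G)) (hRQ hy)⟩
  have hSdec : ∀ s ∈ S, ∃ v ∈ V, ∃ m ∈ P, s = v * m := by
    intro s hs
    have htop := Sylow.normalizer_sup_eq_top Q₁
    obtain ⟨a, ha, b, hb, hab⟩ := Subgroup.mem_sup_of_normal_right.1 (htop.symm ▸ Subgroup.mem_top s)
    obtain ⟨v, hv, z, hz, rfl⟩ :=
      (SolvBasic.mem_sup_iff_of_le_normalizer (hVN Q)).1 (hQ₀eq.symm ▸ hb)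
    have hv' : a * v * a⁻¹ ∈ V := hVn.conj_mem v hv a
    refine ⟨a * v * a⁻¹, hv', (a * v * a⁻¹)⁻¹ * s, ⟨S.mul_mem (S.inv_mem (hVS hv')) hs, ?_⟩, by group⟩
    rw [← hab, show (a * v * a⁻¹)⁻¹ * (a * (v * z)) = a * z by group]
    exact mul_mem ha (Subgroup.le_normalizer hz)
  have hSR' : ⁅S, R⁆ ≤ V ⊔ ⁅P, R⁆ := by
    rw [Subgroup.commutator_le]
    intro s hs y hy
    obtain ⟨v, hv, m, hm, rfl⟩ := hSdec s hs
    rw [show ⁅v * m, y⁆ = v * ⁅m, y⁆ * v⁻¹ * ⁅v, y⁆ by simp only [commutatorElement_def]; group]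
    exact mul_mem (mul_mem (mul_mem (Subgroup.mem_sup_left hv)
      (Subgroup.mem_sup_right (Subgroup.commutator_mem_commutator hm hy))) (inv_mem (Subgroup.mem_sup_left hv)))
      (Subgroup.mem_sup_left (CoprimeAct.commutator_le_left (hVN R) (Subgroup.commutator_mem_commutator hv hy)))
  obtain ⟨v₀, hv₀, y, hy, hxy⟩ := (SolvBasic.mem_sup_iff_of_le_normalizer (hVN _)).1 (hSR' hxSR)
  have hyQ : ¬ y ∈ Subgroup.centralizer (Q : Set G) := by
    intro hyc
    obtain ⟨z, hz, hzne⟩ := hqne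
    obtain ⟨z', hz', hzz⟩ := hQmap.ge (⟨z, hz, rfl⟩ : (z : G ⧸ V) ∈ Qb)
    refine hzne (Subtype.ext ?_)
    simp only [hxb, Subgroup.coe_mul, ← hzz]
    rw [hxy, map_mul, show π v₀ = 1 from (QuotientGroup.eq_one_iff v₀).2 hv₀, one_mul, ← map_mul,
      ← map_mul, Subgroup.mem_centralizer_iff.1 hyc z' hz']
  have hcopV : ∀ {Z : Subgroup G}, Z ≤ Q → Z ⊓ V = ⊥ := fun hZ =>
    le_bot_iff.1 ((inf_le_inf_right _ hZ).trans hQV.le)
  -- induction inside `H`
  have habs : ∀ (P₁ Q' R' : Subgroup G), P₁ ≤ P → Q' ≤ Q → P₁ ≤ Subgroup.normalizer (Q' : Set G) →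
      R' ≤ R → R₀ ≤ R' → R' ≤ Subgroup.normalizer (P₁ : Set G) → R' ≤ Subgroup.normalizer (Q' : Set G) →
      (V ⊔ Q' ⊔ P₁ ≠ H ∨ R' ≠ R) → ⁅P₁, R'⁆ ≤ Subgroup.centralizer (Q' : Set G) := by
    intro P₁ Q' R' hP₁ hQ' hPQ' hR' hR₀ hRP₁ hRQ' hne
    have hKH : V ⊔ Q' ⊔ P₁ ≤ H := sup_le (sup_le hVH (hQ'.trans hQH)) (hP₁.trans hPH)
    have hKn : R' ≤ Subgroup.normalizer ((V ⊔ Q' ⊔ P₁ : Subgroup G) : Set G) := fun g hg =>
      Subgroup.normalizer_inf_normalizer_le_normalizer_sup _ _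
        ⟨Subgroup.normalizer_inf_normalizer_le_normalizer_sup _ _ ⟨hVN R' hg, hRQ' hg⟩, hRP₁ hg⟩
    exact absorb hqp.symm V H _ R' P₁ Q' hVp hCV (hVN H) (le_sup_left.trans le_sup_left) hKH hKn
      (d.sub ih _ R' hKH hR' hR₀ hKn hne) (hPp.to_le hP₁) le_sup_right hRP₁ (hQq.to_le hQ')
      (le_sup_right.trans le_sup_left) hPQ'
  have hHeq : V ⊔ Q ⊔ P = H := by
    by_contra hne
    exact hyQ (habs P Q R le_rfl le_rfl hPQ le_rfl d.le hRP hRQ (Or.inl hne) hy)
  have hPV : P ⊓ V = ⊥ := by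
    rw [eq_bot_iff]
    rintro w ⟨hwP, hwV⟩
    rw [← hCVQ]
    refine ⟨hwV, Subgroup.mem_centralizer_iff.2 fun z hz => ?_⟩
    refine commutatorElement_eq_one_iff_mul_comm.1 (Subgroup.mem_bot.1 (hQV ▸ Subgroup.mem_inf.2 ⟨?_, ?_⟩))
    · rw [show ⁅z, w⁆ = z * (w * z⁻¹ * w⁻¹) by simp only [commutatorElement_def]; group]
      exact mul_mem hz ((Subgroup.mem_normalizer_iff.1 (hPQ hwP) _).1 (inv_mem hz))
    · exact mul_mem (hVn.conj_mem w hwV z) (inv_mem hwV)
  have hCPQ : P ⊓ Subgroup.centralizer (Q : Set G) = ⊥ := by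
    set C := P ⊓ Subgroup.centralizer (Q : Set G)
    have hD : H ≤ Subgroup.normalizer ((V ⊔ C : Subgroup G) : Set G) := by
      rw [← hHeq]
      refine sup_le (sup_le (le_sup_left.trans Subgroup.le_normalizer) fun z hz => ?_) fun g hg => ?_
      · exact Subgroup.normalizer_inf_normalizer_le_normalizer_sup _ _
          ⟨hVN Q hz, mem_normalizer_of_map_le fun c hc => by
            rwa [Subgroup.mem_centralizer_iff.1 hc.2 z hz, mul_inv_cancel_right]⟩
      · refine Subgroup.normalizer_inf_normalizer_le_normalizer_sup _ _ ⟨hVN P hg,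
          mem_normalizer_of_map_le fun c hc => ⟨P.mul_mem (P.mul_mem hg hc.1) (P.inv_mem hg),
            Subgroup.mem_centralizer_iff.2 fun z hz => ?_⟩⟩
        have h := Subgroup.mem_centralizer_iff.1 hc.2 _ ((Subgroup.mem_normalizer_iff''.1 (hPQ hg) z).1 hz)
        calc z * (g * c * g⁻¹) = g * ((g⁻¹ * z * g) * c) * g⁻¹ := by group
          _ = g * (c * (g⁻¹ * z * g)) * g⁻¹ := by rw [h]
          _ = g * c * g⁻¹ * z := by group
    have hDp : IsPGroup p (V ⊔ C : Subgroup G) :=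
      IsPGroup.to_sup_of_normal_left' hVp (hPp.to_le inf_le_left) (hVN C)
    exact le_bot_iff.1 ((le_inf inf_le_left (le_sup_right.trans
      (hmax _ (sup_le hVH (inf_le_left.trans hPH)) hD hDp))).trans hPV.le)
  -- orders
  have hQ₀P : P ⊓ Q₀ = ⊥ := by
    refine le_bot_iff.1 ((le_inf inf_le_left fun w hw => ?_).trans hPV.le)
    refine (QuotientGroup.eq_one_iff w).1 (Subgroup.mem_bot.1 (disjoint_iff.1
      (IsPGroup.disjoint_of_ne p q hqp.symm (P.map π) Qb (hPp.map π) hQbq) ▸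
        (⟨Subgroup.mem_map_of_mem π hw.1, hw.2⟩ : π w ∈ P.map π ⊓ Qb)))
  have hPnQ₀ : ∀ A : Subgroup G, A ≤ Subgroup.normalizer (Q₀ : Set G) := fun A =>
    Subgroup.le_normalizer_of_normal
  have hcardH : Nat.card H = Nat.card V * Nat.card Q * Nat.card P := by
    rw [← hHeq, hQ₀eq, SolvBasic.card_sup_of_inf_eq_bot (hPnQ₀ P) (by rw [inf_comm]; exact hQ₀P), ← hQ₀eq,
      SolvBasic.card_sup_of_inf_eq_bot (hVN Q) (by rw [inf_comm]; exact hQV)]
  have hne : ∀ P₁ Q' : Subgroup G, P₁ ≤ P → Q' ≤ Q → P₁ ≤ Subgroup.normalizer (Q' : Set G) →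
      (P₁ ≠ P ∨ Q' ≠ Q) → V ⊔ Q' ⊔ P₁ ≠ H := by
    intro P₁ Q' hP₁ hQ' hPQ' hne heq
    have h1 := SolvBasic.card_sup_mul_card_inf (N := V ⊔ Q') (H := P₁)
      fun g hg => Subgroup.normalizer_inf_normalizer_le_normalizer_sup _ _ ⟨hVN P₁ hg, hPQ' hg⟩
    have h2 : Nat.card (V ⊔ Q' ⊔ P₁ : Subgroup G) ≤ Nat.card V * Nat.card Q' * Nat.card P₁ := by
      rw [← SolvBasic.card_sup_of_inf_eq_bot (hVN Q') (by rw [inf_comm]; exact hcopV hQ')]
      exact le_of_le_of_eq (Nat.le_mul_of_pos_right _ Nat.card_pos) h1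
    rw [heq, hcardH] at h2
    refine not_lt.2 h2 ?_
    rcases hne with h | h
    · exact Nat.mul_lt_mul_of_le_of_lt (Nat.mul_le_mul le_rfl (Subgroup.card_le_of_le hQ'))
        (lt_of_le_of_ne (Subgroup.card_le_of_le hP₁) fun e => h (Subgroup.eq_of_le_of_card_ge hP₁ e.ge))
        (Nat.mul_pos Nat.card_pos Nat.card_pos)
    · exact Nat.mul_lt_mul_of_lt_of_le (Nat.mul_lt_mul_of_pos_left
        (lt_of_le_of_ne (Subgroup.card_le_of_le hQ') fun e => h (Subgroup.eq_of_le_of_card_ge hQ' e.ge))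
        Nat.card_pos) (Subgroup.card_le_of_le hP₁) Nat.card_pos
  have hPsol : Group.IsSolvable P := inferInstance
  have hcopP : (Nat.card R).Coprime (Nat.card P) := d.cop.coprime_dvd_right (Subgroup.card_dvd_of_le hPH)
  have hPR : ⁅P, R⁆ = P := by
    by_contra h
    refine hyQ (?_ : y ∈ _)
    have hle := CoprimeAct.commutator_le_left hRP
    have h' := habs ⁅P, R⁆ Q R hle le_rfl (hle.trans hPQ) le_rfl d.le
      (Subgroup.normalizer_commutator_ge_right P R) hRQ (Or.inl (hne _ _ hle le_rfl (hle.trans hPQ) (Or.inl h)))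
    rw [CoprimeAct.commutator_commutator hRP hcopP (Or.inr hPsol)] at h'
    exact h' hy
  have hP1 : P ≠ ⊥ := fun h => hyQ (by
    rw [hPR, h, Subgroup.mem_bot] at hy
    rw [hy]
    exact one_mem _)
  have hQP : ⁅Q, P⁆ = Q := by
    by_contra h
    have hle := CoprimeAct.commutator_le_left (K := Q) hPQ
    have hPn : P ≤ Subgroup.normalizer ((⁅Q, P⁆ : Subgroup G) : Set G) := Subgroup.normalizer_commutator_ge_right Q P
    have h' := habs P ⁅Q, P⁆ R le_rfl hle hPn le_rfl d.le hRP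
      ((le_inf hRQ hRP).trans normalizer_commutator) (Or.inl (hne _ _ le_rfl hle hPn (Or.inr h)))
    rw [hPR] at h'
    have hQPP : ⁅⁅Q, P⁆, P⁆ = ⁅Q, P⁆ := CoprimeAct.commutator_commutator hPQ
      (by obtain ⟨a, ha⟩ := hPp.exists_card_eq; obtain ⟨b, hb⟩ := hQq.exists_card_eq
          rw [ha, hb]; exact Nat.coprime_pow_primes a b hp.out hq hqp.symm) (Or.inl hPsol)
    rw [Subgroup.commutator_eq_bot_iff_le_centralizer.2 (Subgroup.le_centralizer_iff.1 h')] at hQPP
    exact hP1 (le_bot_iff.1 (hCPQ ▸ le_inf le_rfl (Subgroup.le_centralizer_iff.1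
      (Subgroup.commutator_eq_bot_iff_le_centralizer.1 hQPP.symm))))
  have hdvdH : ∀ {s : ℕ} {A : Subgroup G}, [Fact s.Prime] → IsPGroup s A → A ≠ ⊥ → A ≤ H →
      s ∣ Nat.card H := by
    intro s A _ hA hA1 hAH
    obtain ⟨k, hk⟩ := hA.exists_card_eq
    exact (dvd_pow_self s fun h0 => hA1 (Subgroup.card_eq_one.1 (by rw [hk, h0, pow_zero]))).trans
      (hk ▸ Subgroup.card_dvd_of_le hAH)
  have hqH := hdvdH hQq hQ1 hQH
  have hpH := hdvdH hPp hP1 hPH
  have hrR : r ∣ Nat.card R := d.card_R₀ ▸ Subgroup.card_dvd_of_le d.le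
  have hr2 : r ≠ 2 := fun h => Nat.not_even_iff_odd.2 d.odd (even_iff_two_dvd.2
    (h ▸ hrR.trans (Subgroup.card_subgroup_dvd_card R)))
  have hodd2 : ∀ {s : ℕ}, s ∣ Nat.card H → s ≠ 2 := fun hs h => Nat.not_even_iff_odd.2 d.odd
    (even_iff_two_dvd.2 (h ▸ hs.trans (Subgroup.card_subgroup_dvd_card H)))
  have hner : ∀ {s : ℕ}, s.Prime → s ∣ Nat.card H → s ≠ r := fun hs hsH h =>
    hs.one_lt.ne' (Nat.eq_one_of_dvd_coprimes d.cop (h ▸ hrR) hsH)
  refine (Crit.false (p := p) (q := q) (r := r) (H := H) (R := R) (R₀ := R₀) (V := V) (Q := Q) (P := P)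
    ⟨hp.out, hq, d.prime, hqp.symm, hner hp.out hpH, hner hq hqH, hodd2 hpH, hodd2 hqH, hr2, d.le,
      d.card_R₀, d.zgroup, d.cop, helem, hQq, hPp, hVH, hQH, hPH, hVN Q, hVN P, hVN R, hPQ, hRQ, hRP,
      hPV, hfaith, hCVQ, hCPQ, hP1, hPR, hQP, ?_, ?_, ?_⟩ : False)
  · intro P₁ hP₁ hP₁ne hRP₁
    have h' := habs P₁ Q R hP₁ le_rfl (hP₁.trans hPQ) le_rfl d.le hRP₁ hRQ
      (Or.inl (hne _ _ hP₁ le_rfl (hP₁.trans hPQ) (Or.inl hP₁ne)))
    exact Subgroup.commutator_eq_bot_iff_le_centralizer.1 (le_bot_iff.1 (hCPQ ▸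
      le_inf ((CoprimeAct.commutator_le_left hRP₁).trans hP₁) h'))
  · intro Q' hQ' hQ'ne hRQ' hPQ'
    have h' := habs P Q' R le_rfl hQ' hPQ' le_rfl d.le hRP hRQ'
      (Or.inl (hne _ _ le_rfl hQ' hPQ' (Or.inr hQ'ne)))
    rwa [hPR] at h'
  · intro hne0
    have h' := habs P Q R₀ le_rfl le_rfl hPQ d.le le_rfl (d.le.trans hRP) (d.le.trans hRQ) (Or.inr hne0)
    exact Subgroup.commutator_eq_bot_iff_le_centralizer.1 (le_bot_iff.1 (hCPQ ▸
      le_inf (CoprimeAct.commutator_le_left (d.le.trans hRP)) h'))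

end Cfsg.Agent.OddOrder.ComplPLength
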