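/-
Factorisations `G = K U` with `K` normal and a subgroup `H ≤ U` of order coprime to that of `K`.
-/
import Cfsg.Agent.Lib.Solvable.Coprime

set_option autoImplicit false

namespace Cfsg.Agent.OddOrder.Factor

open scoped commutatorElement Pointwise

variable {G : Type*} [Group G] [Finite G] [Group.IsSolvable G]

theorem conj_factor (K U H : Subgroup G) [K.Normal] (hKU : K ⊔ U = ⊤) (hH : H ≤ U)
    (hcop : (Nat.card H).Coprime (Nat.card K)) (g : G) (hg : H.map (MulAut.conj g).toMonoidHom ≤ U) :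
    ∃ u ∈ U, ∃ c ∈ K ⊓ Subgroup.centralizer (H : Set G), g = u * c := by
  have hgm : g ∈ ((U ⊔ K : Subgroup G) : Set G) := by rw [sup_comm, hKU]; trivial
  rw [Subgroup.mul_normal] at hgm
  obtain ⟨u, hu, k, hk, rfl⟩ := hgm
  have hB : MulAut.conj k • H ≤ (K ⊓ U) ⊔ H := by
    rintro _ ⟨h, hh, rfl⟩
    have h1 : (u * k) * h * (u * k)⁻¹ ∈ U := hg ⟨h, hh, rfl⟩
    have h2 : k * h * k⁻¹ ∈ U := by
      simpa [mul_assoc] using mul_mem (mul_mem (inv_mem hu) h1) hu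
    show k * h * k⁻¹ ∈ _
    have e : k * h * k⁻¹ = (k * h * k⁻¹ * h⁻¹) * h := by group
    rw [e]
    refine mul_mem (Subgroup.mem_sup_left (Subgroup.mem_inf.2 ⟨?_, mul_mem h2 (inv_mem (hH hh))⟩))
      (Subgroup.mem_sup_right hh)
    rw [mul_assoc, mul_assoc]
    refine mul_mem hk ?_
    rw [← mul_assoc]
    exact (inferInstance : K.Normal).conj_mem _ (inv_mem hk) h
  have hHN : H ≤ Subgroup.normalizer ((K ⊓ U : Subgroup G) : Set G) :=
    (le_inf Subgroup.le_normalizer_of_normal (hH.trans Subgroup.le_normalizer)).trans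
      Subgroup.inf_normalizer_le_normalizer_inf
  obtain ⟨w, hw, hwH⟩ := SchurZ.conj_in hHN
    (hcop.coprime_dvd_right (Subgroup.card_dvd_of_le inf_le_left))
    (Or.inl inferInstance) hB (SolvBasic.card_conjSmul _ _)
  have hc : w⁻¹ * k ∈ K := mul_mem (inv_mem (Subgroup.mem_inf.1 hw).1) hk
  refine ⟨u * w, mul_mem hu (Subgroup.mem_inf.1 hw).2, w⁻¹ * k, Subgroup.mem_inf.2 ⟨hc, ?_⟩, by group⟩
  refine SchurZ.mem_centralizer_of_mem_normalizer Subgroup.le_normalizer_of_normal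
    (SchurZ.inf_eq_bot hcop) hc ?_
  rw [SolvBasic.mem_normalizer_iff_conjSmul, ← SolvBasic.conjSmul_conjSmul, ← hwH,
    SolvBasic.conjSmul_inv_conjSmul]

theorem inf_commutator_eq (K U H : Subgroup G) [K.Normal] (hKU : K ⊔ U = ⊤) (hH : H ≤ U)
    (hcop : (Nat.card H).Coprime (Nat.card K)) : H ⊓ commutator G = H ⊓ ⁅U, U⁆ := by
  refine le_antisymm (fun x hx => ?_) (inf_le_inf_left H (by
    rw [commutator_def]; exact Subgroup.commutator_mono le_top le_top))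
  obtain ⟨hxH, hxG⟩ := Subgroup.mem_inf.1 hx
  refine Subgroup.mem_inf.2 ⟨hxH, ?_⟩
  set f := QuotientGroup.mk' K with hf
  have hmap : U.map f = (⊤ : Subgroup G).map f := by
    rw [Subgroup.map_eq_map_iff, QuotientGroup.ker_mk', sup_comm, hKU]; simp
  have hx' : f x ∈ ⁅U, U⁆.map f := by
    rw [Subgroup.map_commutator, hmap, ← Subgroup.map_commutator]
    exact ⟨x, by rwa [← commutator_def], rfl⟩
  obtain ⟨y, hy, hyx⟩ := hx'
  have hyU : y ∈ U := Subgroup.le_normalizer_iff_commutator_le_left.1 Subgroup.le_normalizer hy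
  have hk : y⁻¹ * x ∈ K ⊓ U := Subgroup.mem_inf.2
    ⟨QuotientGroup.eq.1 hyx, mul_mem (inv_mem hyU) (hH hxH)⟩
  haveI : (⁅U, U⁆.subgroupOf U).Normal := Subgroup.normal_subgroupOf_of_le_normalizer
    (Subgroup.le_normalizer_iff_commutator_le_left.2 (Subgroup.commutator_mono
      (Subgroup.le_normalizer_iff_commutator_le_left.1 Subgroup.le_normalizer) le_rfl))
  set g := QuotientGroup.mk' (⁅U, U⁆.subgroupOf U) with hg
  have e : g ⟨x, hH hxH⟩ = g ⟨y⁻¹ * x, (Subgroup.mem_inf.1 hk).2⟩ := by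
    have : g ⟨y, hyU⟩ = 1 := (QuotientGroup.eq_one_iff _).2 hy
    rw [show (⟨x, hH hxH⟩ : U) = ⟨y, hyU⟩ * ⟨y⁻¹ * x, (Subgroup.mem_inf.1 hk).2⟩ from
      Subtype.ext (by simp), map_mul, this, one_mul]
  have h1 : g ⟨x, hH hxH⟩ = 1 := by
    rw [← orderOf_eq_one_iff]
    have d1 : orderOf (g ⟨x, hH hxH⟩) ∣ Nat.card H := (orderOf_map_dvd g _).trans
      (by rw [Subgroup.orderOf_mk]; exact Subgroup.orderOf_dvd_natCard H hxH)
    have d2 : orderOf (g ⟨x, hH hxH⟩) ∣ Nat.card K := e ▸ (orderOf_map_dvd g _).trans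
      (by rw [Subgroup.orderOf_mk]; exact Subgroup.orderOf_dvd_natCard K (Subgroup.mem_inf.1 hk).1)
    exact Nat.eq_one_of_dvd_coprimes hcop d1 d2
  have h2 : (⟨x, hH hxH⟩ : U) ∈ ⁅U, U⁆.subgroupOf U := (QuotientGroup.eq_one_iff _).1 h1
  exact h2

end Cfsg.Agent.OddOrder.Factor
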