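/-
Invariant subgroups for a maximal local subgroup whose Fitting subgroup involves at least two primes.
-/
import Cfsg.Prelude.Def_CaseTheorems
import Cfsg.Agent.Lib.OddOrder.MinSimple
import Cfsg.Agent.Lib.OddOrder.FittingOf
import Cfsg.Agent.Lib.OddOrder.TauTwoAbelian
import Cfsg.Agent.Lib.Solvable.Coprime
import Cfsg.Agent.Lib.PLocal.FixedPointFree
import Cfsg.Agent.Lib.Components.Fitting

set_option autoImplicit false

namespace Cfsg.Agent.OddOrder.LocalFit

open Cfsg (fittingOf pCoreOf)
open MinSimple (IsPi isPi_of_dvd coprime_of_isPi)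
open scoped commutatorElement Pointwise

variable {G : Type*} [Group G] [Finite G]

/-- The data: a maximal local subgroup `H`, a self-centralising `M ≤ F(H)`, an invariant solvable `R`. -/
structure Data (H M R : Subgroup G) : Prop where
  max : ∀ L : Subgroup G, Cfsg.IsLocalSubgroup L → H ≤ L → L = H
  two : 2 ≤ (Nat.card (fittingOf H)).primeFactors.card
  le : M ≤ fittingOf H
  self : fittingOf H ⊓ Subgroup.centralizer (M : Set G) ≤ M
  solvable : Group.IsSolvable R
  norm : M ≤ Subgroup.normalizer (R : Set G)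
  normX : H ⊓ Subgroup.centralizer (fittingOf H : Set G) ≤ Subgroup.normalizer (R : Set G)

/-- `π(F(H))'`. -/
abbrev piP (H : Subgroup G) : Set ℕ := Cfsg.primesNotDvd (Nat.card (fittingOf H))

variable {H M R : Subgroup G}

namespace Data

variable (d : Data H M R) {p : ℕ}
include d

theorem exists_prime : ∃ p : ℕ, p.Prime ∧ p ∣ Nat.card (fittingOf H) := by
  obtain ⟨p, hp⟩ := Finset.card_pos.1 (lt_of_lt_of_le (by norm_num) d.two)
  exact ⟨p, Nat.prime_of_mem_primeFactors hp, Nat.dvd_of_mem_primeFactors hp⟩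

theorem exists_other (p : ℕ) : ∃ r : ℕ, r.Prime ∧ r ∣ Nat.card (fittingOf H) ∧ r ≠ p := by
  obtain ⟨r, hr, hne⟩ := Finset.exists_mem_ne (lt_of_lt_of_le one_lt_two d.two) p
  exact ⟨r, Nat.prime_of_mem_primeFactors hr, Nat.dvd_of_mem_primeFactors hr, hne⟩

theorem centreCore_le_centre (hp : p.Prime) : FitOf.centreCore p H ≤
    fittingOf H ⊓ Subgroup.centralizer (fittingOf H : Set G) := FitOf.centreCore_le hp H

theorem centreCore_le (hp : p.Prime) : FitOf.centreCore p H ≤ M :=
  ((d.centreCore_le_centre hp).trans (inf_le_inf_left _ (Subgroup.centralizer_le d.le))).trans d.self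

theorem le_centralizer_centreCore (hp : p.Prime) :
    M ≤ Subgroup.centralizer (FitOf.centreCore p H : Set G) :=
  d.le.trans (Subgroup.le_centralizer_iff.1 ((d.centreCore_le_centre hp).trans inf_le_right))

theorem centralizer_centreCore_le (hp : p.Prime) (hpF : p ∣ Nat.card (fittingOf H)) :
    Subgroup.centralizer (FitOf.centreCore p H : Set G) ≤ H := by
  have hloc : Cfsg.IsLocalSubgroup (Subgroup.normalizer (FitOf.centreCore p H : Set G)) :=
    ⟨p, FitOf.centreCore p H, hp, (FitOf.isPGroup_pCoreOf p H).to_le inf_le_left,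
      FitOf.centreCore_ne_bot hp (FitOf.pCoreOf_ne_bot_of_dvd hp hpF), rfl⟩
  exact (Subgroup.centralizer_le_normalizer _).trans
    (d.max _ hloc (FitOf.le_normalizer_centreCore p H)).le

omit d in
theorem coprime_of_le_fitting {W N : Subgroup G} (hW : IsPi (piP H) (Nat.card W))
    (hN : N ≤ fittingOf H) : (Nat.card N).Coprime (Nat.card W) :=
  (coprime_of_isPi hW).coprime_dvd_left (Subgroup.card_dvd_of_le hN)

omit d in
/-- A coprime element of `H` fixing a self-centralising subgroup of `F(H)` fixes `F(H)`. -/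
theorem fixes_fitting {w : G} (hw : w ∈ H) (hco : (Nat.card (fittingOf H)).Coprime (orderOf w))
    (N : Subgroup G) (hN : N ≤ fittingOf H)
    (hC : fittingOf H ⊓ Subgroup.centralizer (N : Set G) ≤ N)
    (hfix : ∀ n ∈ N, w * n = n * w) : ∀ y ∈ fittingOf H, w * y = y * w := by
  obtain ⟨k, hk⟩ : ∃ k, Nat.card G ≤ k + Nat.card N := ⟨Nat.card G, Nat.le_add_right _ _⟩
  induction k generalizing N with
  | zero =>
    have hN' : N = ⊤ := Subgroup.eq_top_of_le_card N (by omega)
    exact fun y _ => hfix y (hN' ▸ Subgroup.mem_top y)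
  | succ k ih =>
    by_cases heq : N = fittingOf H
    · exact fun y hy => hfix y (heq ▸ hy)
    set N' := fittingOf H ⊓ Subgroup.normalizer (N : Set G) with hN'
    have hNN' : N ≤ N' := le_inf hN Subgroup.le_normalizer
    have hlt : N < N' := by
      refine lt_of_le_of_ne hNN' fun he => ?_
      haveI := FitOf.fittingOf_nilpotent H
      have h1 : N.subgroupOf (fittingOf H) < ⊤ :=
        lt_top_iff_ne_top.2 fun h => heq (le_antisymm hN (Subgroup.subgroupOf_eq_top.1 h))
      obtain ⟨x, hx, hxN⟩ :=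
        SetLike.exists_of_lt (Group.normalizerCondition_of_isNilpotent _ h1)
      have hxn : (x : G) ∈ Subgroup.normalizer (N : Set G) := by
        rw [Subgroup.mem_normalizer_iff]
        intro n
        constructor
        · intro hn
          exact (Subgroup.mem_normalizer_iff.1 hx ⟨n, hN hn⟩).1 hn
        · intro hn
          have hnF : n ∈ fittingOf H := by
            simpa [mul_assoc] using mul_mem (mul_mem (inv_mem x.2) (hN hn)) x.2
          exact (Subgroup.mem_normalizer_iff.1 hx ⟨n, hnF⟩).2 hn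
      exact hxN (Subgroup.mem_subgroupOf.2 (he.symm.le ⟨x.2, hxn⟩))
    have hcard : Nat.card N < Nat.card N' := lt_of_le_of_ne (Subgroup.card_le_of_le hNN')
      fun h => hlt.ne (Subgroup.eq_of_le_of_card_ge hNN' h.ge)
    refine ih N' inf_le_left ((inf_le_inf_left _ (Subgroup.centralizer_le hNN')).trans
      (hC.trans hNN')) ?_ (by omega)
    rintro n ⟨hnF, hnN⟩
    set e := n⁻¹ * (w * n * w⁻¹) with he
    have heF : e ∈ fittingOf H := mul_mem (inv_mem hnF)
      ((Subgroup.mem_normalizer_iff.1 (FitOf.le_normalizer_fittingOf H hw) n).1 hnF)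
    have heN : e ∈ N := by
      refine hC ⟨heF, Subgroup.mem_centralizer_iff.2 fun m hm => ?_⟩
      have h1 : n * m * n⁻¹ ∈ N := (Subgroup.mem_normalizer_iff.1 hnN m).1 hm
      have h2 : w * m * w⁻¹ = m := by rw [hfix m hm, mul_inv_cancel_right]
      have h3 : w * (n * m * n⁻¹) * w⁻¹ = n * m * n⁻¹ := by rw [hfix _ h1, mul_inv_cancel_right]
      have h4 : e * m * e⁻¹ = m := by
        calc e * m * e⁻¹ = n⁻¹ * (w * n * (w⁻¹ * (w * m * w⁻¹) * w) * n⁻¹ * w⁻¹) * n := by
              rw [h2, he]; group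
          _ = n⁻¹ * (w * (n * m * n⁻¹) * w⁻¹) * n := by group
          _ = m := by rw [h3]; group
      calc m * e = e * m * e⁻¹ * e := by rw [h4]
        _ = e * m := by group
    have h5 := AxB.fixed_of_conj_eq_mul (q := n) (x := w) (d := e) (n := orderOf w) (hfix e heN)
      (by rw [he]; group) (pow_orderOf_eq_one w)
      (hco.coprime_dvd_left (Subgroup.orderOf_dvd_natCard _ heF))
    calc w * n = n * e * w := by rw [he]; group
      _ = n * w := by rw [h5, mul_one]

/-- `R ∩ C_H(F(H)) ≤ F(H)`. -/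
theorem inf_centralizer_le :
    R ⊓ (H ⊓ Subgroup.centralizer (fittingOf H : Set G)) ≤ fittingOf H := by
  set X := H ⊓ Subgroup.centralizer (fittingOf H : Set G) with hX
  have hHX : H ≤ Subgroup.normalizer (X : Set G) := FitOf.le_normalizer_inf Subgroup.le_normalizer
    ((FitOf.le_normalizer_fittingOf H).trans (FitOf.normalizer_le_normalizer_centralizer _))
  haveI := FitOf.fittingOf_nilpotent X
  have hFX : fittingOf X ≤ fittingOf H :=
    FitOf.le_fittingOf ((FitOf.fittingOf_le X).trans inf_le_left)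
      (hHX.trans (TauTwoAb.normalizer_le_fittingOf X))
  set S := R ⊓ X with hS
  have hXS : X ≤ Subgroup.normalizer (S : Set G) :=
    FitOf.le_normalizer_inf d.normX Subgroup.le_normalizer
  haveI := FitOf.fittingOf_nilpotent S
  have hFS : fittingOf S ≤ fittingOf H := (FitOf.le_fittingOf
    ((FitOf.fittingOf_le S).trans inf_le_right)
    (hXS.trans (TauTwoAb.normalizer_le_fittingOf S))).trans hFX
  haveI := d.solvable
  haveI : Group.IsSolvable S := Components.isSolvable_mono inf_le_left
  refine fun s hs => hFS (FitOf.inf_centralizer_fittingOf_le S ⟨hs, ?_⟩)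
  exact Subgroup.centralizer_le (s := (fittingOf S : Set G)) hFS hs.2.2

/-- No nontrivial coprime subgroup of `R` centralises `M`. -/
theorem fixed_bot {W : Subgroup G} (hWR : W ≤ R) (hWM : W ≤ Subgroup.centralizer (M : Set G))
    (hW : IsPi (piP H) (Nat.card W)) : W = ⊥ := by
  obtain ⟨p, hp, hpF⟩ := d.exists_prime
  have hWH : W ≤ H := hWM.trans
    ((Subgroup.centralizer_le (d.centreCore_le hp)).trans (d.centralizer_centreCore_le hp hpF))
  have hWF : W ≤ fittingOf H := fun w hw => d.inf_centralizer_le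
    ⟨hWR hw, hWH hw, Subgroup.mem_centralizer_iff.2 fun y hy => (fixes_fitting (hWH hw)
      ((coprime_of_isPi hW).coprime_dvd_right (Subgroup.orderOf_dvd_natCard _ hw)) M d.le d.self
      (fun n hn => (Subgroup.mem_centralizer_iff.1 (hWM hw) n hn).symm) y hy).symm⟩
  exact Subgroup.card_eq_one.1 (Nat.Coprime.eq_one_of_dvd
    (coprime_of_le_fitting hW hWF) dvd_rfl)

/-- No nontrivial coprime invariant subgroup of `R` centralises `Z(O_p(H))`. -/
theorem fixed_centreCore_bot (hp : p.Prime) (hpF : p ∣ Nat.card (fittingOf H)) {W : Subgroup G}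
    (hWR : W ≤ R) (hMW : M ≤ Subgroup.normalizer (W : Set G)) (hW : IsPi (piP H) (Nat.card W))
    (hWZ : W ≤ Subgroup.centralizer (FitOf.centreCore p H : Set G)) : W = ⊥ := by
  refine d.fixed_bot hWR (fun w hw => Subgroup.mem_centralizer_iff.2 fun m hm => ?_) hW
  have hwH := d.centralizer_centreCore_le hp hpF (hWZ hw)
  have h1 : m * w * m⁻¹ * w⁻¹ ∈ W :=
    mul_mem ((Subgroup.mem_normalizer_iff.1 (hMW hm) w).1 hw) (inv_mem hw)
  have h2 : m * w * m⁻¹ * w⁻¹ ∈ fittingOf H := by
    have := mul_mem (d.le hm)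
      ((Subgroup.mem_normalizer_iff.1 (FitOf.le_normalizer_fittingOf H hwH) m⁻¹).1
        (inv_mem (d.le hm)))
    simpa [mul_assoc] using this
  have h3 := (Subgroup.eq_bot_iff_forall _).1
    (Subgroup.disjoint_of_coprime_natCard (coprime_of_isPi hW)).eq_bot _ ⟨h2, h1⟩
  calc m * w = m * w * m⁻¹ * w⁻¹ * (w * m) := by group
    _ = w * m := by rw [h3, one_mul]

theorem mem_of_coprime {y : G} (hy : y ∈ R ⊔ M) (hco : (Nat.card M).Coprime (orderOf y)) :
    y ∈ R := by
  set Y := R ⊔ M with hY
  have hRY : R ≤ Y := le_sup_left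
  have hMY : M ≤ Y := le_sup_right
  haveI : (R.subgroupOf Y).Normal :=
    Subgroup.normal_subgroupOf_of_le_normalizer (sup_le Subgroup.le_normalizer d.norm)
  have h1 := Components.card_dvd_of_sup_eq_top (R.subgroupOf Y) (M.subgroupOf Y)
    (by rw [← Subgroup.subgroupOf_sup hRY hMY, Subgroup.subgroupOf_self])
  rw [← Subgroup.card_mul_index (R.subgroupOf Y),
    Nat.card_congr (Subgroup.subgroupOfEquivOfLe hMY).toEquiv] at h1
  have h2 : (R.subgroupOf Y).index ∣ Nat.card M := Nat.dvd_of_mul_dvd_mul_left Nat.card_pos h1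
  have h3 := Subgroup.pow_index_mem (R.subgroupOf Y) (⟨y, hy⟩ : Y)
  obtain ⟨k, hk⟩ := exists_pow_eq_self_of_coprime (x := (⟨y, hy⟩ : Y))
    (n := (R.subgroupOf Y).index) (by rw [Subgroup.orderOf_mk]; exact hco.coprime_dvd_left h2)
  have h4 := pow_mem h3 k
  rw [hk] at h4
  exact h4

/-- Invariant coprime subgroups of `R` lie in `O_{π'}(R)`. -/
theorem le_core {Q : Subgroup G} (hQR : Q ≤ R) (hQ : IsPi (piP H) (Nat.card Q))
    (hMQ : M ≤ Subgroup.normalizer (Q : Set G)) : Q ≤ Cfsg.piCoreOf (piP H) R := by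
  set π := piP H with hπ
  set Y := R ⊔ M with hY
  have hRY : R ≤ Y := le_sup_left
  have hMY : M ≤ Y := le_sup_right
  set K := Cfsg.piCoreOf π Y with hK
  have hKpi : IsPi π (Nat.card K) := MinSimple.isPi_piCoreOf
  have hYK : Y ≤ Subgroup.normalizer (K : Set G) :=
    Subgroup.le_normalizer.trans MinSimple.normalizer_le
  have hKR : K ≤ R := fun y hy => d.mem_of_coprime (MinSimple.piCoreOf_le hy)
    ((coprime_of_le_fitting hKpi d.le).coprime_dvd_right (Subgroup.orderOf_dvd_natCard _ hy))
  refine le_trans ?_ (MinSimple.le_piCoreOf hKR (hRY.trans hYK) hKpi)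
  -- it suffices to work modulo `K`
  haveI := d.solvable
  haveI : Group.IsNilpotent M :=
    haveI := FitOf.fittingOf_nilpotent H
    Group.nilpotent_of_mulEquiv (Subgroup.subgroupOfEquivOfLe d.le)
  haveI : Group.IsSolvable (Y : Subgroup G) := Components.isSolvable_sup R M d.norm
  set f : Y →* Y ⧸ Cfsg.piCore π Y := QuotientGroup.mk' (Cfsg.piCore π Y) with hf
  have hfs : Function.Surjective f := QuotientGroup.mk'_surjective _
  haveI : Group.IsSolvable (Y ⧸ Cfsg.piCore π Y) := Group.isSolvable_of_surjective hfs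
  have hker : ∀ y : Y, f y = 1 ↔ (y : G) ∈ K := fun y => by
    rw [hf, QuotientGroup.mk'_apply, QuotientGroup.eq_one_iff, hK, Cfsg.piCoreOf]
    exact (Subgroup.mem_map_iff_mem Y.subtype_injective).symm
  -- primes of the Fitting subgroup of the quotient
  have hprimes : ∀ p : ℕ, p.Prime → ¬ p ∣ Nat.card (fittingOf H) →
      Cfsg.pCore p (Y ⧸ Cfsg.piCore π Y) = ⊥ := by
    intro p hp hpF
    haveI := Fact.mk hp
    have hle : (Cfsg.pCore p (Y ⧸ Cfsg.piCore π Y)).comap f ≤ Cfsg.piCore π Y := by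
      refine le_sSup ⟨(FittingCores.pCore_normal p).comap f, fun s hs hsd => ?_⟩
      haveI := Fact.mk hs
      refine ⟨hs, fun hsF => ?_⟩
      obtain ⟨y, hy⟩ := exists_prime_orderOf_dvd_card' s hsd
      rw [← Subgroup.orderOf_coe] at hy
      have h1 : f y = 1 := by
        obtain ⟨j, hj⟩ := IsPGroup.iff_orderOf.1 (FittingCores.pCore_isPGroup p)
          (⟨f y, y.2⟩ : Cfsg.pCore p (Y ⧸ Cfsg.piCore π Y))
        rw [← Subgroup.orderOf_coe] at hj
        dsimp only at hj
        have hdvd : orderOf (f (y : Y)) ∣ s := hy ▸ orderOf_map_dvd f (y : Y)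
        rw [← orderOf_eq_one_iff]
        rcases (Nat.dvd_prime hs).1 hdvd with h | h
        · exact h
        · exfalso
          rw [hj] at h
          have := (Nat.prime_dvd_prime_iff_eq hs hp).1 (hs.dvd_of_dvd_pow (dvd_of_eq h.symm))
          exact hpF (this ▸ hsF)
      have h2 : orderOf ((y : Y) : G) = s := by rw [Subgroup.orderOf_coe, hy]
      exact (hKpi s hs (h2 ▸ Subgroup.orderOf_dvd_natCard _ ((hker _).1 h1))).2 hsF
    rw [← Subgroup.map_comap_eq_self_of_surjective hfs (Cfsg.pCore p _), Subgroup.map_eq_bot_iff,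
      hf, QuotientGroup.ker_mk']
    exact hle
  -- the centraliser of each core
  have hcent : ∀ p : ℕ, p.Prime → ∀ y : Y, (y : G) ∈ Q →
      f y ∈ Subgroup.centralizer (Cfsg.pCore p (Y ⧸ Cfsg.piCore π Y) : Set _) := by
    intro p hp y hyQ
    by_cases hpF : p ∣ Nat.card (fittingOf H)
    swap
    · rw [hprimes p hp hpF, Subgroup.mem_centralizer_iff]
      intro z hz
      rw [Subgroup.coe_bot, Set.mem_singleton_iff] at hz
      rw [hz, mul_one, one_mul]
    haveI := Fact.mk hp
    set P := Cfsg.pCore p (Y ⧸ Cfsg.piCore π Y) with hP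
    haveI hPn : P.Normal := FittingCores.pCore_normal p
    have hPp : IsPGroup p P := FittingCores.pCore_isPGroup p
    obtain ⟨r, hr, hrF, hrp⟩ := d.exists_other p
    haveI := Fact.mk hr
    set Z := FitOf.centreCore p H with hZ
    set Mr := M ⊓ pCoreOf r H with hMr
    have hZM : Z ≤ M := d.centreCore_le hp
    have hZY : Z ≤ Y := hZM.trans hMY
    have hZp : IsPGroup p Z := (FitOf.isPGroup_pCoreOf p H).to_le inf_le_left
    have hMC : M ≤ Subgroup.centralizer (Z : Set G) := d.le_centralizer_centreCore hp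
    -- `M_r` centralises `P`
    have hx : ∀ x : Y, (x : G) ∈ Mr → f x ∈ Subgroup.centralizer (P : Set _) := by
      intro x hxr
      obtain ⟨k, hk⟩ := IsPGroup.iff_orderOf.1 (FitOf.isPGroup_pCoreOf r H) ⟨x, hxr.2⟩
      rw [Subgroup.orderOf_mk, Subgroup.orderOf_coe] at hk
      have hco : p.Coprime (r ^ k) := ((Nat.coprime_primes hp hr).2 hrp.symm).pow_right k
      refine Subgroup.mem_centralizer_iff.2 fun z hz => ?_
      symm
      refine AxB.thompson (n := r ^ k) (A := (Z.subgroupOf Y).map f) hPp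
        ((hZp.of_equiv (Subgroup.subgroupOfEquivOfLe hZY).symm).map f)
        Subgroup.le_normalizer_of_normal (fun y hy => hPn.conj_mem y hy _) ?_
        (by rw [← map_pow, ← hk, pow_orderOf_eq_one, map_one]) hco ?_ z hz
      · rintro _ ⟨a, ha, rfl⟩
        rw [← map_mul, ← map_mul]
        congr 1
        exact Subtype.ext (Subgroup.mem_centralizer_iff.1 (hMC hxr.1) _ ha)
      intro z hzP hzA
      obtain ⟨y, rfl⟩ := hfs z
      -- lift `y` to the centraliser of `Z`
      have hcoZ : (Nat.card Z).Coprime (Nat.card K) :=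
        coprime_of_le_fitting hKpi (inf_le_left.trans (FitOf.pCoreOf_le_fittingOf hp H))
      have hZK : Z ≤ Subgroup.normalizer (K : Set G) := hZY.trans hYK
      have hfix : ∀ a ∈ Z, a * (y : G) * a⁻¹ * (y : G)⁻¹ ∈ K := by
        intro a ha
        refine (hker (⟨a, hZY ha⟩ * y * ⟨a, hZY ha⟩⁻¹ * y⁻¹)).1 ?_
        rw [map_mul, map_mul, map_mul, map_inv, map_inv,
          hzA _ ⟨⟨a, hZY ha⟩, ha, rfl⟩]
        group
      have hB : MulAut.conj (y : G) • Z ≤ K ⊔ Z := by
        intro b hb
        rw [SolvBasic.mem_conjSmul] at hb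
        set a := (y : G)⁻¹ * b * y with ha
        have hba : b = (a * y * a⁻¹ * (y : G)⁻¹)⁻¹ * a := by rw [ha]; group
        rw [hba]
        exact mul_mem (Subgroup.mem_sup_left (inv_mem (hfix a hb))) (Subgroup.mem_sup_right hb)
      obtain ⟨k', hk', hkZ⟩ := SchurZ.conj_in hZK hcoZ
        (Or.inl (haveI := hZp.isNilpotent; inferInstance)) hB (SolvBasic.card_conjSmul _ _)
      set c := k'⁻¹ * (y : G) with hc
      have hcN : c ∈ Subgroup.normalizer (Z : Set G) := by
        rw [SolvBasic.mem_normalizer_iff_conjSmul, hc, ← SolvBasic.conjSmul_conjSmul, ← hkZ,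
          SolvBasic.conjSmul_inv_conjSmul]
      have hcY : c ∈ Y := mul_mem (inv_mem (MinSimple.piCoreOf_le hk')) y.2
      have hcC : c ∈ Subgroup.centralizer (Z : Set G) := by
        refine Subgroup.mem_centralizer_iff.2 fun a ha => ?_
        have h1 : a * c * a⁻¹ * c⁻¹ ∈ Z := by
          have := mul_mem ha ((Subgroup.mem_normalizer_iff.1 hcN a⁻¹).1 (inv_mem ha))
          simpa [mul_assoc] using this
        have h2 : a * c * a⁻¹ * c⁻¹ ∈ K := by
          have h0 : a * c * a⁻¹ * c⁻¹ =
              (a * k'⁻¹ * a⁻¹) * (a * y * a⁻¹ * (y : G)⁻¹) * k' := by rw [hc]; group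
          rw [h0]
          exact mul_mem (mul_mem ((Subgroup.mem_normalizer_iff.1 (hZK ha) _).1 (inv_mem hk'))
            (hfix a ha)) hk'
        have h3 := (Subgroup.eq_bot_iff_forall _).1
          (Subgroup.disjoint_of_coprime_natCard hcoZ).eq_bot _ ⟨h1, h2⟩
        calc a * c = a * c * a⁻¹ * c⁻¹ * (c * a) := by group
          _ = c * a := by rw [h3, one_mul]
      have hfc : f ⟨c, hcY⟩ = f y := by
        have h0 : f (⟨c, hcY⟩ * y⁻¹) = 1 := (hker _).2 (by simpa [hc] using inv_mem hk')
        rwa [map_mul, map_inv, mul_inv_eq_one] at h0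
      -- the preimage of `P` inside the centraliser of `Z`
      set D := (P.comap f).map Y.subtype ⊓ Subgroup.centralizer (Z : Set G) with hD
      have hDY : (P.comap f).map Y.subtype ≤ Y := Subgroup.map_subtype_le _
      have hMD : M ≤ Subgroup.normalizer (D : Set G) :=
        FitOf.le_normalizer_inf (hMY.trans (AxB.le_normalizer_map_subtype (hPn.comap f)))
          (hMC.trans Subgroup.le_normalizer)
      have hDK : D ⊓ K = ⊥ := d.fixed_centreCore_bot hp hpF (inf_le_right.trans hKR)
        (FitOf.le_normalizer_inf hMD (hMY.trans hYK))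
        (isPi_of_dvd (Subgroup.card_dvd_of_le inf_le_right) hKpi)
        (inf_le_left.trans inf_le_right)
      have hDp : IsPGroup p D := by
        intro e
        obtain ⟨e', he', hee⟩ := (e.2 : (e : G) ∈ D).1
        obtain ⟨j, hj⟩ := hPp ⟨f e', he'⟩
        refine ⟨j, Subtype.ext ((Subgroup.eq_bot_iff_forall _).1 hDK _ ⟨pow_mem e.2 _, ?_⟩)⟩
        have h0 : f (e' ^ p ^ j) = 1 := by
          rw [map_pow]; exact congrArg Subtype.val hj
        have h1 := (hker _).1 h0
        rw [Subgroup.coe_pow] at h1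
        show ((e ^ p ^ j : D) : G) ∈ K
        rw [Subgroup.coe_pow, ← hee]
        exact h1
      have hcD : c ∈ D := ⟨⟨⟨c, hcY⟩, (by rw [SetLike.mem_coe, Subgroup.mem_comap, hfc]; exact hzP), rfl⟩, hcC⟩
      have he : c⁻¹ * ((x : G) * c * (x : G)⁻¹) ∈ D :=
        mul_mem (inv_mem hcD) ((Subgroup.mem_normalizer_iff.1 (hMD hxr.1) c).1 hcD)
      have hxF : (x : G) ∈ fittingOf H := d.le hxr.1
      have heF : c⁻¹ * ((x : G) * c * (x : G)⁻¹) ∈ fittingOf H := by
        have := mul_mem ((Subgroup.mem_normalizer_iff''.1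
          (FitOf.le_normalizer_fittingOf H (d.centralizer_centreCore_le hp hpF hcC)) (x : G)).1 hxF)
          (inv_mem hxF)
        simpa [mul_assoc] using this
      have hxe : (x : G) * (c⁻¹ * ((x : G) * c * (x : G)⁻¹)) =
          c⁻¹ * ((x : G) * c * (x : G)⁻¹) * x := by
        obtain ⟨j, hj⟩ := IsPGroup.iff_orderOf.1 hDp ⟨_, he⟩
        rw [Subgroup.orderOf_mk] at hj
        haveI := FitOf.fittingOf_nilpotent H
        exact congrArg Subtype.val (FixedPointFreeThompson.commute_of_nilpotent (p := p)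
          (x := (⟨_, heF⟩ : fittingOf H)) (g := ⟨_, hxF⟩) (by rwa [Subgroup.orderOf_mk])
          (by rw [Subgroup.orderOf_mk, Subgroup.orderOf_coe, hk]; exact hco.symm))
      have hxc := AxB.commute_of_conj_mem hDp he hxe
        (by rw [← Subgroup.coe_pow, ← hk, pow_orderOf_eq_one, Subgroup.coe_one]) hco
      rw [← hfc, ← map_mul, ← map_mul]
      exact congrArg f (Subtype.ext hxc)
    -- `Q = ⁅Q, M_r⁆`
    have hMrQ : Mr ≤ Subgroup.normalizer (Q : Set G) := inf_le_left.trans hMQ
    have hsplit := CoprimeAct.commutator_sup_centralizer hMrQ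
      (coprime_of_le_fitting hQ (inf_le_left.trans d.le))
      (Or.inl (haveI := ((FitOf.isPGroup_pCoreOf r H).to_le (inf_le_right : Mr ≤ _)).isNilpotent;
        inferInstance))
    have hC0 : Q ⊓ Subgroup.centralizer (Mr : Set G) = ⊥ := by
      set Zr := FitOf.centreCore r H with hZr
      have h1 : Zr ≤ Mr := le_inf (d.centreCore_le hr) inf_le_left
      refine le_bot_iff.1 (le_of_le_of_eq (inf_le_inf_left Q (Subgroup.centralizer_le h1)) ?_)
      exact d.fixed_centreCore_bot hr hrF (inf_le_left.trans hQR)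
        (FitOf.le_normalizer_inf hMQ ((d.le_centralizer_centreCore hr).trans
          ((Subgroup.centralizer_le_normalizer _).trans
            (FitOf.normalizer_le_normalizer_centralizer _))))
        (isPi_of_dvd (Subgroup.card_dvd_of_le inf_le_left) hQ) inf_le_right
    rw [hC0, sup_bot_eq] at hsplit
    set N := ((Subgroup.centralizer (P : Set _)).comap f).map Y.subtype with hN
    have hQN : Q ≤ N := by
      rw [← hsplit, Subgroup.commutator_le]
      intro q hq m hm
      have hqY : q ∈ Y := hRY (hQR hq)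
      have hmY : m ∈ Y := hMY hm.1
      refine ⟨⁅(⟨q, hqY⟩ : Y), ⟨m, hmY⟩⁆, ?_, rfl⟩
      rw [SetLike.mem_coe, Subgroup.mem_comap, map_commutatorElement, commutatorElement_def]
      have hm' := hx ⟨m, hmY⟩ hm
      exact mul_mem ((inferInstance : (Subgroup.centralizer (P : Set _)).Normal).conj_mem (f ⟨m, hmY⟩) hm' (f ⟨q, hqY⟩))
        (inv_mem hm')
    obtain ⟨y', hy', he⟩ := hQN hyQ
    obtain rfl : y' = y := Subtype.ext he
    exact hy'
  intro q hq
  have hqY : q ∈ Y := hRY (hQR hq)
  rw [← hker ⟨q, hqY⟩]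
  have hqF : f ⟨q, hqY⟩ ∈ Cfsg.fittingSubgroup (Y ⧸ Cfsg.piCore π Y) := by
    refine FittingCores.centralizer_fitting_le (Subgroup.mem_centralizer_iff.2 fun z hz => ?_)
    have h : Cfsg.fittingSubgroup (Y ⧸ Cfsg.piCore π Y) ≤
        Subgroup.centralizer ({f ⟨q, hqY⟩} : Set _) := by
      rw [FittingCores.fitting_eq_iSup_pCore]
      refine iSup_le fun p z hz => Subgroup.mem_centralizer_singleton_iff.2 ?_
      exact Subgroup.mem_centralizer_iff.1 (hcent p p.2 ⟨q, hqY⟩ hq) z hz
    exact Subgroup.mem_centralizer_singleton_iff.1 (h hz)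
  by_contra hne
  obtain ⟨s, hs, hsd⟩ := Nat.exists_prime_and_dvd (mt orderOf_eq_one_iff.1 hne)
  haveI := Fact.mk hs
  have hsQ : s ∣ Nat.card Q := hsd.trans ((orderOf_map_dvd f _).trans
    (by rw [Subgroup.orderOf_mk]; exact Subgroup.orderOf_dvd_natCard _ hq))
  have hsF : ¬ s ∣ Nat.card (fittingOf H) := (hQ s hs hsQ).2
  have hsFit : s ∣ Nat.card (Cfsg.fittingSubgroup (Y ⧸ Cfsg.piCore π Y)) :=
    hsd.trans (Subgroup.orderOf_dvd_natCard _ hqF)
  haveI := FittingCores.fitting_nilpotent (G := Y ⧸ Cfsg.piCore π Y)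
  obtain ⟨P⟩ : Nonempty (Sylow s (Cfsg.fittingSubgroup (Y ⧸ Cfsg.piCore π Y))) := inferInstance
  have hle := FittingCores.sylow_le_pCore_of_nilpotent FittingCores.fitting_normal s P
  rw [hprimes s hs hsF, le_bot_iff,
    Subgroup.map_eq_bot_iff_of_injective _ (Subgroup.subtype_injective _)] at hle
  exact P.ne_bot_of_dvd_card hsFit hle

end Data

end Cfsg.Agent.OddOrder.LocalFit
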