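/-
`F(M)` and `F(M) ∩ F(M)ᵍ` when `F(M)` is not a TI-subset (BG 15.8).
-/
import Cfsg.Agent.Lib.OddOrder.NonTI
import Cfsg.Agent.Lib.OddOrder.CentralFalse
import Cfsg.Agent.Lib.OddOrder.CentralNonabFalse
import Cfsg.Agent.S1356

set_option autoImplicit false
set_option linter.style.haveILetI false
set_option linter.unusedSectionVars false
set_option linter.unusedVariables false
set_option linter.unusedSimpArgs false

namespace Cfsg.Agent.OddOrder.NTI

open scoped commutatorElement IsMulCommutative Pointwise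
open Exceptional TauOne Kappa Support Pairing
open Tau3 (line_pgroup line_ne_bot)

universe u

variable {G : Type u} [Group G] [Finite G] {M K U E : Subgroup G} {g : G}

/-- `O_q` of a nilpotent subgroup contains its `q`-elements. -/
theorem mem_core {S : Subgroup G} (hnil : Group.IsNilpotent S) {q : ℕ} [hq : Fact q.Prime] {z : G} (hz : z ∈ S)
    (hzq : IsPGroup q (Subgroup.zpowers z)) : z ∈ (Cfsg.pCore q ↥S).map S.subtype := by
  refine ⟨⟨z, hz⟩, NonNil.mem_pCore_of_nilpotent (F := (⊤ : Subgroup ↥S)) inferInstance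
    (Group.nilpotent_of_mulEquiv Subgroup.topEquiv.symm) (Subgroup.mem_top _) (IsPGroup.of_equiv hzq ?_), rfl⟩
  refine (MulEquiv.subgroupCongr ?_).trans
    ((Subgroup.zpowers (⟨z, hz⟩ : S)).equivMapOfInjective S.subtype S.subtype_injective).symm
  rw [MonoidHom.map_zpowers]
  rfl

/-- An element of order prime to `p` of a nilpotent subgroup lies in its `p'`-core. -/
theorem mem_coreCompl {S : Subgroup G} (hnil : Group.IsNilpotent S) {p q : ℕ} [hp : Fact p.Prime] [hq : Fact q.Prime]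
    (hne : q ≠ p) {z : G} (hz : z ∈ S) (hzq : IsPGroup q (Subgroup.zpowers z)) :
    z ∈ (Cfsg.pPrimeCore p ↥S).map S.subtype := by
  obtain ⟨z', hz', rfl⟩ := mem_core hnil hz hzq
  refine ⟨z', FittingCores.le_pPrimeCore (FittingCores.pCore_normal q) ?_ hz', rfl⟩
  obtain ⟨n, hn⟩ := IsPGroup.iff_card.1 (FittingCores.pCore_isPGroup (G := S) q)
  rw [hn]
  exact Nat.Coprime.pow_left n ((Nat.coprime_primes hq.out hp.out).2 hne)

variable (hG : Cfsg.IsMinSimpleOddOrder G) (hM : IsCoatom M)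
include hG hM

/-- A prime of an element of `F(M) ∩ F(M)ᵍ` lies in `σ(M)`. -/
theorem prime_sigma (hg : g ∉ M) {z : G} (hz : z ∈ Cfsg.fittingOf M) (hgz : g * z * g⁻¹ ∈ Cfsg.fittingOf M)
    {r : ℕ} (hr : r.Prime) (hd : r ∣ orderOf z) : r ∈ Cfsg.sigma M := by
  by_contra hrσ
  obtain ⟨hYc, -, -⟩ := S1439.result hG M hM
  set Y := Cfsg.piCoreOf {q | q.Prime ∧ q ∉ Cfsg.sigma M} (Cfsg.fittingOf M)
  set y := z ^ (orderOf z / r) with hy
  have hyo : orderOf y = r := orderOf_pow_orderOf_div (orderOf_pos z).ne' hd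
  have hy1 : y ∈ Cfsg.fittingOf M := Subgroup.pow_mem _ hz _
  have hy2 : g * y * g⁻¹ ∈ Cfsg.fittingOf M := by rw [hy, ← conj_pow]; exact Subgroup.pow_mem _ hgz _
  have hgyo : orderOf (g * y * g⁻¹) = r := by rw [← MulAut.conj_apply, MulEquiv.orderOf_eq, hyo]
  have hne : y ≠ 1 := fun e => hr.ne_one (by rw [← hyo, e, orderOf_one])
  have hprimes : ∀ w : G, orderOf w = r → ∀ t : ℕ, t.Prime → t ∣ orderOf w → t ∉ Cfsg.sigma M := fun w hw t ht htd => by
    rw [hw] at htd
    exact (Nat.prime_dvd_prime_iff_eq ht hr).1 htd ▸ hrσ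
  have ha := FTI.mem_Y hG hM hy1 (hprimes y hyo)
  have hb := FTI.mem_Y hG hM hy2 (hprimes _ hgyo)
  have hn : M ≤ Subgroup.normalizer (Subgroup.zpowers y : Set G) := fun m hm => by
    have hc : m * y * m⁻¹ ∈ Y := FTI.mem_Y hG hM ((Subgroup.mem_normalizer_iff.1 (FitOf.le_normalizer_fittingOf M hm) y).1 hy1)
      (hprimes _ (by rw [← MulAut.conj_apply, MulEquiv.orderOf_eq, hyo]))
    rw [Subgroup.mem_normalizer_iff_map_conj_eq, MonoidHom.map_zpowers]
    exact FTI.line_conj_eq hYc hc ha (MulEquiv.orderOf_eq (MulAut.conj m) y)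
  have hgn : g ∈ Subgroup.normalizer (Subgroup.zpowers y : Set G) := by
    rw [Subgroup.mem_normalizer_iff_map_conj_eq, MonoidHom.map_zpowers]
    exact FTI.line_conj_eq hYc hb ha (hgyo.trans hyo.symm)
  exact hg (FTI.normalizer_of_normal hG hM (Subgroup.zpowers_le.2 (FitOf.fittingOf_le M hy1))
    (fun e => hne (Subgroup.zpowers_eq_bot.1 e)) hn ▸ hgn)

/-- An element of `F(M) ∩ F(M)ᵍ` and its preimage lie in `M_σ`. -/
theorem inter_sigma (hg : g ∉ M) {z : G} (hz : z ∈ Cfsg.fittingOf M) (hgz : g * z * g⁻¹ ∈ Cfsg.fittingOf M) :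
    z ∈ Cfsg.sigmaCore M ∧ g * z * g⁻¹ ∈ Cfsg.sigmaCore M := by
  refine ⟨mem_sigmaCore_of_primes hG hM (FitOf.fittingOf_le M hz) fun r hr hd => prime_sigma hG hM hg hz hgz hr hd,
    mem_sigmaCore_of_primes hG hM (FitOf.fittingOf_le M hgz) fun r hr hd => prime_sigma hG hM hg hz hgz hr ?_⟩
  rwa [← MulAut.conj_apply, MulEquiv.orderOf_eq] at hd

/-- An element of `M_σ` moved inside `M_σ` by `g ∉ M` has its centralizer outside `M`. -/
theorem cent_not_le (hg : g ∉ M) {z : G} (hz : z ∈ Cfsg.sigmaCore M) (hgz : g * z * g⁻¹ ∈ Cfsg.sigmaCore M) :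
    ¬ Subgroup.centralizer ({z} : Set G) ≤ M := by
  obtain ⟨-, hfus⟩ := S1438.result hG M hM _ le_rfl (Kappa.sigmaCore_ne_bot hG hM)
    (by rw [Subgroup.relIndex_self]; exact Nat.coprime_one_right _)
  obtain ⟨n, hn, hne⟩ := hfus z hz g hgz
  intro hC
  refine hg ?_
  have hc : n⁻¹ * g ∈ Subgroup.centralizer ({z} : Set G) := by
    rw [Subgroup.mem_centralizer_singleton_iff]
    calc n⁻¹ * g * z = n⁻¹ * (g * z * g⁻¹) * g := by group
      _ = n⁻¹ * (n * z * n⁻¹) * g := by rw [hne]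
      _ = z * (n⁻¹ * g) := by group
  simpa using M.mul_mem hn.1 (hC hc)

/-- `g` does not fuse into an invariant cyclic subgroup. -/
theorem line_moved (hg : g ∉ M) {W : Subgroup G} (hWc : IsCyclic W) (hWn : M ≤ Subgroup.normalizer (W : Set G))
    (hWM : W ≤ M) {a : G} (ha : a ∈ W) (hga : g * a * g⁻¹ ∈ W) (ha1 : a ≠ 1) : False := by
  have hn : M ≤ Subgroup.normalizer (Subgroup.zpowers a : Set G) := fun m hm => by
    rw [Subgroup.mem_normalizer_iff_map_conj_eq, MonoidHom.map_zpowers]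
    exact FTI.line_conj_eq hWc ((Subgroup.mem_normalizer_iff.1 (hWn hm) a).1 ha) ha
      (MulEquiv.orderOf_eq (MulAut.conj m) a)
  have hgn : g ∈ Subgroup.normalizer (Subgroup.zpowers a : Set G) := by
    rw [Subgroup.mem_normalizer_iff_map_conj_eq, MonoidHom.map_zpowers]
    exact FTI.line_conj_eq hWc hga ha (MulEquiv.orderOf_eq (MulAut.conj g) a)
  exact hg (FTI.normalizer_of_normal hG hM ((Subgroup.zpowers_le.2 ha).trans hWM)
    (fun e => ha1 (Subgroup.zpowers_eq_bot.1 e)) hn ▸ hgn)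

variable (hnil : Group.IsNilpotent (Cfsg.sigmaCore M))
include hnil

theorem fittingOf_sigma :
    Cfsg.fittingOf M = Cfsg.sigmaCore M ⊔ Cfsg.piCoreOf {q | q.Prime ∧ q ∉ Cfsg.sigma M} (Cfsg.fittingOf M) := by
  obtain ⟨-, -, h⟩ := S1439.result hG M hM
  have e : Cfsg.fittingOf (Cfsg.sigmaCore M) = Cfsg.sigmaCore M :=
    haveI := hnil
    le_antisymm (FitOf.fittingOf_le _) (FitOf.le_fittingOf le_rfl Subgroup.le_normalizer)
  rwa [e] at h

/-- `O_q(M_σ)` is a Sylow subgroup of `M`. -/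
theorem exists_sylow_core {q : ℕ} [hq : Fact q.Prime] (hqd : q ∣ Nat.card (Cfsg.sigmaCore M)) :
    ∃ T : Sylow q M,
      (T : Subgroup M).map M.subtype = (Cfsg.pCore q ↥(Cfsg.sigmaCore M)).map (Cfsg.sigmaCore M).subtype := by
  obtain ⟨T⟩ : Nonempty (Sylow q M) := inferInstance
  set S := Cfsg.sigmaCore M with hS
  set Pm := (Cfsg.pCore q ↥S).map S.subtype with hPm
  have hPS : Pm ≤ S := Subgroup.map_subtype_le _
  have hPn : M ≤ Subgroup.normalizer (Pm : Set G) :=
    (le_normalizer_sigmaCore M).trans (normalizer_le_normalizer_char (FittingCores.pCore_characteristic q))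
  have hPp : IsPGroup q Pm := (FittingCores.pCore_isPGroup q).map _
  refine ⟨T, ?_⟩
  have hPM : Pm ≤ M := hPS.trans (sigmaCore_le M)
  haveI : (Pm.subgroupOf M).Normal := Subgroup.normal_subgroupOf_of_le_normalizer hPn
  have hle : Pm.subgroupOf M ≤ (T : Subgroup M) :=
    (hPp.of_equiv (Subgroup.subgroupOfEquivOfLe hPM).symm).le_sylow_of_normal T
  have heq : Pm.subgroupOf M = (T : Subgroup M) := by
    refine le_antisymm hle (Exceptional.le_of_coprime_index ?_)
    obtain ⟨j, hj⟩ := IsPGroup.iff_card.1 T.isPGroup'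
    rw [hj]
    refine Nat.Coprime.pow_left j (hq.out.coprime_iff_not_dvd.2 fun h => ?_)
    have h' : q ∣ Pm.relIndex M := h
    rw [← Subgroup.relIndex_mul_relIndex Pm S M hPS (sigmaCore_le M)] at h'
    rcases hq.out.dvd_mul.1 h' with h1 | h1
    · obtain ⟨TS⟩ : Nonempty (Sylow q S) := inferInstance
      rw [Subgroup.relIndex, Subgroup.subgroupOf, hPm,
        Subgroup.comap_map_eq_self_of_injective S.subtype_injective, ← sylow_eq_pCore hnil q TS] at h1
      exact TS.not_dvd_index h1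
    · exact (S1350.result hG M hM).1.2.2 q hq.out (mem_sigma_of_dvd hq.out hqd) h1
  rw [← heq, Subgroup.map_subgroupOf_eq_of_le hPM]

/-- The primary components are narrow. -/
theorem core_narrow (hcases : Cfsg.RankLE 2 (Cfsg.sigmaCore M) ∨ ∃ p, Nonab p M) {q : ℕ} [hq : Fact q.Prime]
    (hqd : q ∣ Nat.card (Cfsg.sigmaCore M)) :
    Cfsg.IsNarrow q ↥((Cfsg.pCore q ↥(Cfsg.sigmaCore M)).map (Cfsg.sigmaCore M).subtype) := by
  set S := Cfsg.sigmaCore M with hS
  set Pm := (Cfsg.pCore q ↥S).map S.subtype with hPm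
  have hPS : Pm ≤ S := Subgroup.map_subtype_le _
  rcases hcases with hr | ⟨p, n⟩
  · refine Or.inl fun A hA hAq => ?_
    haveI := hA
    rw [← Subgroup.card_map_of_injective (Subgroup.inclusion_injective hPS) (K := A)]
    refine hr q hq.out _ inferInstance ?_
    rintro _ ⟨a, ha, rfl⟩
    rw [← map_pow, hAq a ha, map_one]
  haveI := Fact.mk n.prime
  rcases eq_or_ne q p with rfl | hne
  · obtain ⟨T, hT⟩ := exists_sylow_core hG hM hnil hqd
    exact NarrowSolvable.isNarrow_of_equiv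
      (((T : Subgroup M).equivMapOfInjective M.subtype M.subtype_injective).trans (MulEquiv.subgroupCongr hT))
      (BetaCore.isNarrow_sylow hG hM (Uniq.ne_two_of_dvd hG (hqd.trans S.card_subgroup_dvd_card)) n.not_beta T)
  · refine Or.inl fun A hA hAq => ?_
    haveI := n.cyclic
    have hle : Cfsg.pCore q ↥S ≤ Cfsg.pPrimeCore p ↥S := by
      refine FittingCores.le_pPrimeCore (FittingCores.pCore_normal q) ?_
      obtain ⟨m, hm⟩ := IsPGroup.iff_card.1 (FittingCores.pCore_isPGroup (G := S) q)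
      rw [hm]
      exact Nat.Coprime.pow_left m ((Nat.coprime_primes hq.out n.prime).2 hne)
    haveI hc1 : IsCyclic (Cfsg.pCore q ↥S) := isCyclic_of_injective (Subgroup.inclusion hle) (Subgroup.inclusion_injective hle)
    haveI hc2 : IsCyclic Pm := ((Cfsg.pCore q ↥S).equivMapOfInjective S.subtype S.subtype_injective).isCyclic.1 hc1
    classical
    haveI := Fintype.ofFinite Pm
    refine le_trans ?_ (Nat.le_self_pow two_ne_zero q)
    refine le_trans ?_ (IsCyclic.card_pow_eq_one_le (α := Pm) hq.out.pos)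
    rw [← Fintype.card_subtype, ← Nat.card_eq_fintype_card]
    exact Nat.card_le_card_of_injective (fun a : A => (⟨a.1, hAq a.1 a.2⟩ : {x : Pm // x ^ q = 1}))
      fun a b e => Subtype.ext (congrArg (fun z : {x : Pm // x ^ q = 1} => (z : Pm)) e)

/-- `E'` centralizes `M_σ`. -/
theorem derived_cent (hcases : Cfsg.RankLE 2 (Cfsg.sigmaCore M) ∨ ∃ p, Nonab p M)
    (hE : Cfsg.IsComplIn E (Cfsg.sigmaCore M) M) :
    ⁅E, E⁆ ≤ Subgroup.centralizer (Cfsg.sigmaCore M : Set G) := by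
  set S := Cfsg.sigmaCore M with hS
  suffices h : (⊤ : Subgroup S) ≤ (Subgroup.centralizer ((⁅E, E⁆ : Subgroup G) : Set G)).subgroupOf S by
    exact Subgroup.le_centralizer_iff.1 fun a ha => h (Subgroup.mem_top ⟨a, ha⟩)
  refine (FittingCores.eq_top_of_forall_sylow_le fun q hq => ?_).ge
  haveI := Fact.mk hq
  obtain ⟨TS⟩ : Nonempty (Sylow q S) := inferInstance
  refine ⟨TS, ?_⟩
  by_cases hqd : q ∣ Nat.card S
  swap
  · intro x hx
    obtain ⟨m, hm⟩ := IsPGroup.iff_card.1 TS.isPGroup'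
    rcases m with _ | m
    · rw [pow_zero, Subgroup.card_eq_one] at hm
      rw [hm, Subgroup.mem_bot] at hx
      rw [hx]; exact one_mem _
    · exact absurd ((hm ▸ dvd_pow_self q m.succ_ne_zero).trans (Subgroup.card_subgroup_dvd_card _)) hqd
  rw [sylow_eq_pCore hnil q TS]
  intro x hx
  set R := (Cfsg.pCore q ↥S).map S.subtype with hR
  have hxR : (x : G) ∈ R := ⟨x, hx, rfl⟩
  have hRp : IsPGroup q R := (FittingCores.pCore_isPGroup q).map _
  have hEn : E ≤ Subgroup.normalizer (R : Set G) :=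
    hE.1.trans ((le_normalizer_sigmaCore M).trans (normalizer_le_normalizer_char (FittingCores.pCore_characteristic q)))
  set c := Blackburn.conjAct R E hEn with hc
  haveI := MinSimple.isSolvable hG (ne_top_of_le_ne_top hM.1 hE.1)
  haveI : Group.IsSolvable c.range := solvable_of_surjective c.rangeRestrict_surjective
  have hrA : ¬ q ∣ Nat.card E := fun h => not_dvd_complement hG hM hE hq h (mem_sigma_of_dvd hq hqd)
  have hcard : Nat.card c.range ∣ Nat.card E := Subgroup.card_range_dvd c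
  have hder := NarrowGroup.derived_pgroup (Uniq.ne_two_of_dvd hG (hqd.trans S.card_subgroup_dvd_card)) hRp
    (core_narrow hG hM hnil hcases hqd) ((hG.1.of_dvd_nat E.card_subgroup_dvd_card).of_dvd_nat hcard)
    c.range.subtype Subtype.val_injective
  have hbot : commutator c.range = ⊥ := by
    rw [← Subgroup.card_eq_one]
    obtain ⟨n, hn⟩ := IsPGroup.iff_card.1 hder
    rcases n with _ | n
    · simpa using hn
    · exact absurd (((hn ▸ dvd_pow_self q n.succ_ne_zero) : q ∣ Nat.card (commutator c.range)).trans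
        ((Subgroup.card_subgroup_dvd_card _).trans hcard)) hrA
  refine Subgroup.le_centralizer_iff.1 (Subgroup.commutator_le.2 fun a ha b hb => ?_) hxR
  refine Subgroup.mem_centralizer_iff.2 fun z hz => ?_
  have h2 : ⁅c.rangeRestrict ⟨a, ha⟩, c.rangeRestrict ⟨b, hb⟩⁆ ∈ commutator c.range :=
    Subgroup.commutator_mem_commutator (Subgroup.mem_top _) (Subgroup.mem_top _)
  rw [hbot, Subgroup.mem_bot] at h2
  have h1 : c ⁅(⟨a, ha⟩ : E), ⟨b, hb⟩⁆ = 1 := by
    rw [map_commutatorElement]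
    exact congrArg Subtype.val h2
  have h3 : ⁅a, b⁆ * z * ⁅a, b⁆⁻¹ = z := congrArg (fun φ : MulAut R => ((φ ⟨z, hz⟩ : R) : G)) h1
  exact (mul_inv_eq_iff_eq_mul.1 h3).symm

/-- `M' ≤ F(M)`. -/
theorem derived_le_fitting (hcases : Cfsg.RankLE 2 (Cfsg.sigmaCore M) ∨ ∃ p, Nonab p M) :
    ⁅M, M⁆ ≤ Cfsg.fittingOf M := by
  obtain ⟨E, hE⟩ := exists_complement hG hM
  set S := Cfsg.sigmaCore M with hS
  have hC := derived_cent hG hM hnil hcases hE
  haveI := hnil
  haveI := ComplBasics.derived_abelian hG hM hE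
  have hco : ∀ (a : S) (b : (⁅E, E⁆ : Subgroup G)), Commute (S.subtype a) ((⁅E, E⁆).subtype b) := fun a b =>
    Subgroup.mem_centralizer_iff.1 (hC b.2) a a.2
  set φ := MonoidHom.noncommCoprod S.subtype (⁅E, E⁆).subtype hco with hφ
  have hr : φ.range = S ⊔ ⁅E, E⁆ := by
    rw [hφ, MonoidHom.noncommCoprod_range, Subgroup.range_subtype, Subgroup.range_subtype]
  haveI : Group.IsNilpotent (S ⊔ ⁅E, E⁆ : Subgroup G) :=
    hr ▸ Group.nilpotent_of_surjective φ.rangeRestrict φ.rangeRestrict_surjective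
  have hle : ⁅M, M⁆ ≤ S ⊔ ⁅E, E⁆ := by
    set N := S.subgroupOf M
    haveI : N.Normal := Subgroup.normal_subgroupOf_of_le_normalizer (le_normalizer_sigmaCore M)
    have htop : N ⊔ E.subgroupOf M = ⊤ := by
      refine eq_top_iff.2 fun x _ => ?_
      obtain ⟨e, he, s, hs, hx⟩ := hE.2.2.2 x x.2
      rw [show x = ⟨e, hE.1 he⟩ * ⟨s, sigmaCore_le M hs⟩ from Subtype.ext hx]
      exact mul_mem (Subgroup.mem_sup_right he) (Subgroup.mem_sup_left hs)
    rw [← Subgroup.map_subtype_commutator]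
    rintro _ ⟨x, hx, rfl⟩
    obtain ⟨e, he, hxe⟩ : QuotientGroup.mk' N x ∈ (⁅E.subgroupOf M, E.subgroupOf M⁆).map (QuotientGroup.mk' N) :=
      FStruct.map_commutator_eq htop ▸ Subgroup.mem_map_of_mem _ hx
    have he' : (e : G) ∈ ⁅E, E⁆ := by
      have := Subgroup.mem_map_of_mem M.subtype he
      rwa [Subgroup.map_commutator, Subgroup.map_subgroupOf_eq_of_le hE.1] at this
    have h1 : e⁻¹ * x ∈ N := QuotientGroup.eq.1 hxe
    have : (x : G) = (e : G) * ((e⁻¹ * x : M) : G) := by simp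
    rw [Subgroup.coe_subtype, this]
    exact mul_mem (Subgroup.mem_sup_right he') (Subgroup.mem_sup_left h1)
  have hMM : ⁅M, M⁆ ≤ M := Subgroup.le_normalizer_iff_commutator_le_left.1 Subgroup.le_normalizer
  haveI : Group.IsNilpotent (⁅M, M⁆ : Subgroup G) := PlaneUnique.isNilpotent_of_le inferInstance hle
  refine FitOf.le_fittingOf hMM fun m hm => ?_
  rw [Subgroup.mem_normalizer_iff_map_conj_eq, Subgroup.map_commutator,
    Subgroup.mem_normalizer_iff_map_conj_eq.1 (Subgroup.le_normalizer hm)]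

/-- `M' = F(M)`. -/
theorem derived_eq_fitting (hcases : Cfsg.RankLE 2 (Cfsg.sigmaCore M) ∨ ∃ p, Nonab p M)
    (hKU : Cfsg.IsSigmaDecomposition M K U) (hUK : K ≠ ⊥ → U = ⊥) : ⁅M, M⁆ = Cfsg.fittingOf M := by
  refine le_antisymm (derived_le_fitting hG hM hnil hcases) ?_
  have hSd := sigmaCore_le_derived hG hM hKU
  set S := Cfsg.sigmaCore M with hS
  by_cases hK1 : K = ⊥
  swap
  · refine (S1356.result hG M hM).2.2 ?_
    obtain ⟨r, hr, hrd⟩ := Nat.exists_prime_and_dvd fun e => hK1 (Subgroup.card_eq_one.1 e)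
    exact ⟨r, hKU.hall.2.1 r hr hrd⟩
  have hκ : Cfsg.kappa M = ∅ := Set.eq_empty_iff_forall_notMem.2 fun r hr =>
    hKU.hall.2.2 r hr.1 hr (by rw [hK1, Subgroup.relIndex_bot_left]; exact hr.2.1)
  rw [fittingOf_sigma hG hM hnil]
  refine sup_le hSd ?_
  set Y := Cfsg.piCoreOf {q | q.Prime ∧ q ∉ Cfsg.sigma M} (Cfsg.fittingOf M) with hY
  obtain ⟨hYc, hYτ, -⟩ := S1439.result hG M hM
  by_cases hY1 : Y = ⊥
  · rw [hY1]; exact bot_le
  obtain ⟨t, ht, htd⟩ := Nat.exists_prime_and_dvd fun e => hY1 (Subgroup.card_eq_one.1 e)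
  haveI := Fact.mk ht
  obtain ⟨y, hy⟩ := exists_prime_orderOf_dvd_card' (G := Y) t htd
  have hyo : orderOf (y : G) = t := (Subgroup.orderOf_coe y).trans hy
  have htτ := hYτ t ht htd
  have hYF : Y ≤ Cfsg.fittingOf M := Subgroup.map_subtype_le _
  have hYM : Y ≤ M := hYF.trans (FitOf.fittingOf_le M)
  have hYcop : (Nat.card Y).Coprime (Nat.card S) := Nat.coprime_of_dvd fun r hr h1 h2 =>
    (hYτ r hr h1).2.1 (mem_sigma_of_dvd hr h2)
  obtain ⟨E, hE, hYE⟩ := ComplBasics.exists_complement_containing hG hM hYM hYcop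
  have hSF : S ≤ Cfsg.fittingOf M := by
    haveI := hnil
    exact FitOf.le_fittingOf (sigmaCore_le M) (le_normalizer_sigmaCore M)
  have hYS : ∀ a ∈ Y, ∀ h ∈ S, h * a = a * h := fun a ha h hh =>
    (CN.commute_of_coprime (FitOf.fittingOf_nilpotent M) (hSF hh) (hYF ha)
      ((hYcop.coprime_dvd_left (Subgroup.orderOf_dvd_natCard _ ha)).symm.coprime_dvd_left
        (Subgroup.orderOf_dvd_natCard _ hh))).eq
  have hC := derived_cent hG hM hnil hcases hE
  obtain ⟨z, hz, hz1⟩ := (Subgroup.bot_or_exists_ne_one S).resolve_left (Kappa.sigmaCore_ne_bot hG hM)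
  by_cases hS : ∀ T : Sylow t G, ¬ IsMulCommutative (T : Subgroup G)
  swap
  · exact (Central.central_false hG hM hE hκ hz hz1
      (fun c hc => Subgroup.mem_centralizer_singleton_iff.2 (Subgroup.mem_centralizer_iff.1 (hC hc) z hz).symm)
      htτ hS (hYE y.2) hyo (hYS y y.2)).elim
  by_cases hEc : ⁅E, E⁆ = ⊥
  · exact (CNab.nonab_false hG hM hE (.of_setLike_mul_comm fun a ha b hb =>
      commutatorElement_eq_one_iff_mul_comm.1 (Subgroup.mem_bot.1 (hEc.le (Subgroup.commutator_mem_commutator ha hb))))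
      htτ hS (hYE y.2) hyo (hYS y y.2)).elim
  obtain ⟨A, hAE, hAe, hA⟩ := TauTwo.exists_plane (p := t) hG hM hE htτ
  obtain ⟨-, ⟨hA₀, hFA⟩, -⟩ := S1419.result hG M hM E hE t htτ hS A ⟨hAE, hAe, hA⟩
  have hYc' : Nat.card Y = t := by
    set A₀ := A ⊓ Subgroup.centralizer (S : Set G) with hA₀def
    have h1 := SolvBasic.card_sup_mul_card_inf (hYM.trans (le_normalizer_sigmaCore M))
    have h2 := SolvBasic.card_sup_mul_card_inf ((inf_le_left.trans (hAE.trans hE.1) : A₀ ≤ M).trans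
      (le_normalizer_sigmaCore M))
    rw [show S ⊓ Y = ⊥ from Subgroup.inf_eq_bot_of_coprime hYcop.symm, Subgroup.card_bot, mul_one,
      ← fittingOf_sigma hG hM hnil] at h1
    rw [show S ⊓ A₀ = ⊥ from Subgroup.inf_eq_bot_of_coprime (by
      rw [hA₀]
      exact (ht.coprime_iff_not_dvd.2 fun h => htτ.2.1 (mem_sigma_of_dvd ht h)).symm), Subgroup.card_bot, mul_one,
      ← hFA, hA₀] at h2
    exact Nat.eq_of_mul_eq_mul_left Nat.card_pos (h1.symm.trans h2)
  have hEY : ⁅E, E⁆ ≤ Y := fun e he => FTI.mem_Y hG hM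
    (derived_le_fitting hG hM hnil hcases (Subgroup.commutator_mono hE.1 hE.1 he)) fun r hr hd =>
      not_dvd_complement hG hM hE hr (hd.trans (Subgroup.orderOf_dvd_natCard _
        ((Subgroup.le_normalizer_iff_commutator_le_left.1 Subgroup.le_normalizer) he)))
  rw [← Subgroup.eq_of_le_of_card_ge hEY (by
    rcases (Nat.dvd_prime ht).1 (hYc' ▸ Subgroup.card_dvd_of_le hEY) with h | h
    · exact absurd (Subgroup.card_eq_one.1 h) hEc
    · rw [h, hYc'])]
  exact Subgroup.commutator_mono hE.1 hE.1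

/-- A `p`th power of order `p` in `O_p(M_σ)` with centralizer outside `M` does not exist. -/
theorem no_root {p : ℕ} (n : Nonab p M) {w : G} (hw : w ∈ Cfsg.sigmaCore M) (hwo : orderOf w = p ^ 2)
    (hC : ¬ Subgroup.centralizer ({w ^ p} : Set G) ≤ M) : False := by
  haveI := Fact.mk n.prime
  set S := Cfsg.sigmaCore M with hS
  set Pm := (Cfsg.pCore p ↥S).map S.subtype with hPm
  obtain ⟨O, hOc, hOn, hOP, hOmax⟩ := n.central
  have hPS : Pm ≤ S := Subgroup.map_subtype_le _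
  have hPp : IsPGroup p Pm := (FittingCores.pCore_isPGroup p).map _
  have hwP : w ∈ Pm := mem_core hnil hw (IsPGroup.of_card (n := 2) (by rw [Nat.card_zpowers, hwo]))
  set z := w ^ p with hz
  have hzo : orderOf z = p := by
    rw [hz, orderOf_pow' w n.prime.ne_zero, hwo, pow_two, Nat.gcd_mul_right_left, Nat.mul_div_cancel _ n.prime.pos]
  have hzP : z ∈ Pm := Pm.pow_mem hwP p
  have hzp : z ^ p = 1 := hzo ▸ pow_orderOf_eq_one z
  have hz1 : z ≠ 1 := fun e => n.prime.ne_one (by rw [← hzo, e, orderOf_one])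
  have hzO : z ∉ O := by
    intro h
    refine hC ?_
    rw [← Plane.centralizer_zpowers, Plane.zpowers_eq hOc h hz1]
    exact (Subgroup.centralizer_le_normalizer _).trans (FTI.normalizer_of_normal hG hM
      ((hOP.trans hPS).trans (sigmaCore_le M)) (line_ne_bot hOc) hOn).le
  have hp2 : p ≠ 2 := Uniq.ne_two_of_dvd hG (n.dvd.trans S.card_subgroup_dvd_card)
  by_cases hr : Cfsg.PRankLE p 2 Pm
  · obtain ⟨T, hT⟩ := exists_sylow_core hG hM hnil n.dvd
    obtain ⟨TG, hTG⟩ := Sigma.sigma_sylow n.sigma T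
    have hTe : (TG : Subgroup G) = Pm := hTG.trans hT
    have hPnc : ¬ IsMulCommutative Pm := fun h => n.noncomm (.of_setLike_mul_comm fun a ha b hb => Subtype.ext (by
      haveI := h
      simpa using congrArg (fun y : Pm => (y : G)) (mul_comm' (⟨a, a, ha, rfl⟩ : Pm) ⟨b, b, hb, rfl⟩)))
    obtain ⟨P₁, P₂, hsup, hc12, -, -, hP1e, -, hΩ⟩ := (S1412.result hG p TG (hTe.symm ▸ hr)).resolve_left
      (hTe.symm ▸ hPnc)
    rw [hTe] at hsup
    obtain ⟨a, ha, b, hb, e⟩ := (SolvBasic.mem_sup_iff_of_le_normalizer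
      (show P₂ ≤ Subgroup.normalizer (P₁ : Set G) from fun b hb => Subgroup.centralizer_le_normalizer _
        (Subgroup.mem_centralizer_iff.2 fun a ha => hc12 a ha b hb))).1 (hsup.ge hwP : w ∈ P₁ ⊔ P₂)
    have hap : a ^ p = 1 := by
      have := Monoid.pow_exponent_eq_one (⟨a, ha⟩ : P₁)
      rw [hP1e] at this
      exact congrArg Subtype.val this
    have hzb : z = b ^ p := by rw [hz, e, (show Commute a b from hc12 a ha b hb).mul_pow, hap, one_mul]
    have hzΩ := hΩ.le (Subgroup.subset_closure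
      (show z ∈ {x : G | x ∈ P₂ ∧ x ^ p = 1} from ⟨hzb ▸ P₂.pow_mem hb p, hzp⟩))
    refine hzO (hOmax z hzP hzp fun c hc => ?_)
    obtain ⟨a', ha', b', hb', rfl⟩ := (SolvBasic.mem_sup_iff_of_le_normalizer
      (show P₂ ≤ Subgroup.normalizer (P₁ : Set G) from fun b hb => Subgroup.centralizer_le_normalizer _
        (Subgroup.mem_centralizer_iff.2 fun a ha => hc12 a ha b hb))).1 (hsup.ge hc : c ∈ P₁ ⊔ P₂)
    have h1 : Commute a' z := Subgroup.mem_centralizer_iff.1 hzΩ.2 a' ha'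
    have h2 : Commute z b' := hc12 z hzΩ.1 b' hb'
    exact (h1.mul_left h2.symm).eq
  -- rank at least three
  obtain ⟨L₀, hL₀, hCL₀⟩ := Uniq.exists_maximal_ge (MinSimple.centralizer_singleton_ne_top hG hz1)
  obtain ⟨-, -, -, hcompl, -⟩ := PSupp.support hG hM (hPS hzP) hz1 hC hL₀ hCL₀
  have hsmall : ∀ Y : Subgroup G, Y ≤ S → Y ≤ Subgroup.centralizer ({z} : Set G) → IsMulCommutative Y →
      (∀ a ∈ Y, a ^ p = 1) → Nat.card Y ≤ p ^ 2 := by
    intro Y hYS hYC hYc hYp
    haveI := hYc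
    have hpd : p ∣ Nat.card (M ⊓ L₀ : Subgroup G) := hzo ▸ Subgroup.orderOf_dvd_natCard _
      ⟨sigmaCore_le M (hPS hzP), hCL₀ (Subgroup.mem_centralizer_singleton_iff.2 rfl)⟩
    have hpσ := not_dvd_complement hG hL₀ hcompl n.prime hpd
    have hr2 : Cfsg.PRankLE p 2 L₀ := by
      by_contra h
      exact hpσ (Sigma.alpha_subset_sigma hG hL₀ ⟨n.prime, h⟩)
    have := hr2 ((⊤ : Subgroup Y).map (Subgroup.inclusion (hYC.trans hCL₀))) inferInstance (by
      rintro _ ⟨a, ha, rfl⟩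
      rw [← map_pow, show a ^ p = 1 from Subtype.ext (hYp a a.2), map_one])
    rwa [Subgroup.card_map_of_injective (Subgroup.inclusion_injective _),
      Nat.card_congr (Subgroup.topEquiv.toEquiv)] at this
  let zR : Pm := ⟨z, hzP⟩
  let OR : Subgroup Pm := NarrowBasics.omegaCenter p Pm
  have hORO : ∀ c : Pm, c ∈ OR ↔ (c : G) ∈ O := fun c => by
    refine ⟨fun h => hOmax c c.2 (by simpa using congrArg (fun v : Pm => (v : G)) h.2) fun b hb =>
      congrArg (fun v : Pm => (v : G)) (Subgroup.mem_center_iff.1 h.1 ⟨b, hb⟩), fun h => ⟨?_, Subtype.ext ?_⟩⟩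
    · haveI : (O.subgroupOf Pm).Normal :=
        Subgroup.normal_subgroupOf_of_le_normalizer ((hPS.trans (sigmaCore_le M)).trans hOn)
      exact OmegaCen.le_center_of_prime_card hPp (N := O.subgroupOf Pm)
        (by rw [Nat.card_congr (Subgroup.subgroupOfEquivOfLe hOP).toEquiv, hOc]) h
    · exact orderOf_dvd_iff_pow_eq_one.1 (hOc ▸ Subgroup.orderOf_dvd_natCard _ h)
  set Z := Subgroup.zpowers zR with hZ
  have hZc : Nat.card Z = p := by rw [hZ, Nat.card_zpowers, Subgroup.orderOf_mk, hzo]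
  have hORc : Nat.card OR = p := by
    rw [← hOc]
    exact Nat.card_congr ⟨fun c => ⟨_, (hORO c.1).1 c.2⟩, fun o => ⟨⟨o, hOP o.2⟩, (hORO _).2 o.2⟩,
      fun c => rfl, fun o => rfl⟩
  set F := Z ⊔ OR with hF
  have hORcent : OR ≤ Subgroup.centralizer (Z : Set Pm) := fun c hc =>
    Subgroup.mem_centralizer_iff.2 fun b _ => Subgroup.mem_center_iff.1 hc.1 b
  have hFdec : ∀ a ∈ F, ∃ b ∈ Z, ∃ c ∈ OR, a = b * c := fun a ha =>
    (SolvBasic.mem_sup_iff_of_le_normalizer (hORcent.trans (Subgroup.centralizer_le_normalizer _))).1 ha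
  have hFe : Cfsg.IsElementaryAbelian p F := by
    refine ⟨.of_setLike_mul_comm fun a ha b hb => ?_, fun a ha => ?_⟩
    · obtain ⟨u, hu, c, hc, rfl⟩ := hFdec a ha
      obtain ⟨u', hu', c', hc', rfl⟩ := hFdec b hb
      obtain ⟨i, rfl⟩ := Subgroup.mem_zpowers_iff.1 hu
      obtain ⟨j, rfl⟩ := Subgroup.mem_zpowers_iff.1 hu'
      have k1 : ∀ v : Pm, Commute c v := fun v => (Subgroup.mem_center_iff.1 hc.1 v).symm
      have k2 : ∀ v : Pm, Commute c' v := fun v => (Subgroup.mem_center_iff.1 hc'.1 v).symm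
      exact ((((Commute.refl zR).zpow_zpow i j).mul_right (k2 _).symm).mul_left ((k1 _).mul_right (k1 _))).eq
    · obtain ⟨u, hu, c, hc, rfl⟩ := hFdec a ha
      rw [(show Commute u c from Subgroup.mem_center_iff.1 hc.1 u).mul_pow, hc.2, mul_one]
      exact orderOf_dvd_iff_pow_eq_one.1 (hZc ▸ Subgroup.orderOf_dvd_natCard _ hu)
  have hFc : Nat.card F = p ^ 2 := by
    have h := SolvBasic.card_sup_mul_card_inf (hORcent.trans (Subgroup.centralizer_le_normalizer _))
    rw [show Z ⊓ OR = ⊥ from (Subgroup.eq_bot_iff_forall _).2 fun c hc => by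
      by_contra hc1
      refine hzO ((hORO zR).1 ?_)
      have h1 : Subgroup.zpowers c ≤ OR := Subgroup.zpowers_le.2 hc.2
      rw [Plane.zpowers_eq hZc hc.1 hc1] at h1
      exact h1 (Subgroup.mem_zpowers zR), Subgroup.card_bot, mul_one, hZc, hORc, ← pow_two] at h
    exact h
  have hFmax : ∀ B : Subgroup Pm, Cfsg.IsElementaryAbelian p B → F ≤ B → B = F := by
    intro B hB hFB
    haveI := hB.1
    refine (Subgroup.eq_of_le_of_card_ge hFB ?_).symm
    rw [hFc, ← Subgroup.card_map_of_injective Pm.subtype_injective (K := B)]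
    refine hsmall _ ((Subgroup.map_subtype_le _).trans hPS) ?_ inferInstance ?_
    · rintro _ ⟨b, hb, rfl⟩
      exact Subgroup.mem_centralizer_singleton_iff.2 (congrArg (fun v : Pm => (v : G))
        (congrArg Subtype.val (mul_comm' (⟨b, hb⟩ : B) ⟨zR, hFB (Subgroup.mem_sup_left (Subgroup.mem_zpowers zR))⟩)))
    · rintro _ ⟨b, hb, rfl⟩
      rw [← map_pow, hB.2 b hb, map_one]
  obtain ⟨hnot, -, -, -, hidx, -, -⟩ := NarrowBasics.structure_three hp2 hPp hr hFe hFc hFmax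
  set W := Subgroup.centralizer (NarrowBasics.omegaSecond hp2 hPp : Set Pm) with hW
  haveI := NarrowBasics.omegaSecond_characteristic hp2 hPp
  haveI : W.Normal := Subgroup.normal_centralizer
  refine hnot (sup_le (Subgroup.zpowers_le.2 ?_) fun c hc => Subgroup.mem_centralizer_iff.2 fun b _ =>
    Subgroup.mem_center_iff.1 hc.1 b)
  have h := Subgroup.pow_index_mem W (⟨w, hwP⟩ : Pm)
  rw [hidx] at h
  exact h

/-- `F(M) ∩ F(M)ᵍ` has order `p`. -/
theorem card_inter {p : ℕ} (n : Nonab p M) (hg : g ∉ M)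
    (hX : Cfsg.fittingOf M ⊓ (Cfsg.fittingOf M).map (MulAut.conj g).toMonoidHom ≠ ⊥)
    (hXc : IsCyclic ↥(Cfsg.fittingOf M ⊓ (Cfsg.fittingOf M).map (MulAut.conj g).toMonoidHom)) :
    Nat.card ↥(Cfsg.fittingOf M ⊓ (Cfsg.fittingOf M).map (MulAut.conj g).toMonoidHom) = p := by
  haveI := Fact.mk n.prime
  set X := Cfsg.fittingOf M ⊓ (Cfsg.fittingOf M).map (MulAut.conj g).toMonoidHom with hXdef
  haveI := hXc
  have hmem : ∀ a ∈ X, ∃ z, g * z * g⁻¹ = a ∧ z ∈ Cfsg.sigmaCore M ∧ a ∈ Cfsg.sigmaCore M := fun a ha => by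
    obtain ⟨z, hz, rfl⟩ := ha.2
    have hza : g * z * g⁻¹ ∈ Cfsg.fittingOf M := ha.1
    exact ⟨z, rfl, (inter_sigma hG hM hg hz hza).1, (inter_sigma hG hM hg hz hza).2⟩
  obtain ⟨c, hc⟩ := IsCyclic.exists_generator (α := X)
  have hcard : Nat.card X = orderOf (c : G) := by
    rw [Subgroup.orderOf_coe, orderOf_eq_card_of_forall_mem_zpowers hc]
  have honly : ∀ q : ℕ, q.Prime → q ∣ orderOf (c : G) → q = p := by
    intro q hq hd
    by_contra hne
    haveI := Fact.mk hq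
    set a := (c : G) ^ (orderOf (c : G) / q) with ha
    have hao : orderOf a = q := orderOf_pow_orderOf_div (orderOf_pos _).ne' hd
    obtain ⟨z, hz, hzS, haS⟩ := hmem a (X.pow_mem c.2 _)
    have hzo : orderOf z = q := by rw [← hao, ← hz, ← MulAut.conj_apply, MulEquiv.orderOf_eq]
    have hq1 : ∀ {v : G}, orderOf v = q → IsPGroup q (Subgroup.zpowers v) := fun hv =>
      IsPGroup.of_card (n := 1) (by rw [Nat.card_zpowers, hv, pow_one])
    refine line_moved hG hM hg (W := (Cfsg.pPrimeCore p ↥(Cfsg.sigmaCore M)).map (Cfsg.sigmaCore M).subtype)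
      (((Cfsg.pPrimeCore p ↥(Cfsg.sigmaCore M)).equivMapOfInjective _ (Cfsg.sigmaCore M).subtype_injective).isCyclic.1 n.cyclic)
      ((le_normalizer_sigmaCore M).trans (normalizer_le_normalizer_char (FittingCores.pPrimeCore_characteristic p)))
      ((Subgroup.map_subtype_le _).trans (sigmaCore_le M)) (mem_coreCompl hnil hne hzS (hq1 hzo))
      (hz ▸ mem_coreCompl hnil hne haS (hq1 hao)) fun e => hq.ne_one (by rw [← hzo, e, orderOf_one])
  have hc1 : orderOf (c : G) ≠ 1 := fun e => hX (Subgroup.card_eq_one.1 (hcard.trans e))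
  obtain ⟨i, hi⟩ : ∃ i, orderOf (c : G) = p ^ i :=
    ⟨_, Nat.eq_prime_pow_of_unique_prime_dvd (orderOf_pos _).ne' fun {r} hr hd => honly r hr hd⟩
  rw [hcard, hi]
  rcases i with _ | _ | i
  · exact absurd (by rw [hi, pow_zero]) hc1
  · exact pow_one p
  · exfalso
    set w := (c : G) ^ (p ^ i) with hw
    have hwo : orderOf w = p ^ 2 := by
      rw [hw, orderOf_pow' _ (pow_ne_zero _ n.prime.ne_zero), hi,
        Nat.gcd_eq_right (pow_dvd_pow p (by omega)), Nat.pow_div (by omega) n.prime.pos,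
        show i + 1 + 1 - i = 2 by omega]
    obtain ⟨z, hz, hzS, hwS⟩ := hmem w (X.pow_mem c.2 _)
    have hzo : orderOf z = p ^ 2 := by rw [← hwo, ← hz, ← MulAut.conj_apply, MulEquiv.orderOf_eq]
    refine no_root hG hM hnil n hzS hzo (cent_not_le hG hM hg ((Cfsg.sigmaCore M).pow_mem hzS p) ?_)
    rw [← conj_pow, hz]
    exact (Cfsg.sigmaCore M).pow_mem hwS p

/-- For `κ(M) ≠ ∅` the exponent of `M / M_F` divides `q - 1` as soon as `|K|` divides `p - 1`. -/
theorem exponent_kappa (hKU : Cfsg.IsSigmaDecomposition M K U) (hK1 : K ≠ ⊥) (hU : U = ⊥) {p : ℕ} (n : Nonab p M)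
    (hKp : Nat.card K ∣ p - 1) {q : ℕ} (hq : q.Prime) (hqd : q ∣ Nat.card (Cfsg.fittingHallOf M)) :
    Monoid.exponent (↥M ⧸ Cfsg.fittingHall ↥M) ∣ q - 1 := by
  haveI := Fact.mk hq
  haveI := Fact.mk n.prime
  rw [Support.fittingHall_eq hG hM hnil] at hqd
  set S := Cfsg.sigmaCore M with hS
  have hc := decomp_compl hKU
  rw [hU, bot_sup_eq] at hc
  have hKpow : ∀ k ∈ K, k ^ (q - 1) = 1 := by
    intro k hk
    by_cases hqp : q = p
    · subst hqp
      exact orderOf_dvd_iff_pow_eq_one.1 ((Subgroup.orderOf_dvd_natCard K hk).trans hKp)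
    by_contra hk1
    obtain ⟨L, hLS, hL, hLn⟩ := n.lines q hq hqd
    obtain ⟨a, ha, ha1⟩ := Plane.exists_ne_one hL
    haveI := (decomp_factor hG hM hKU hK1).comm
    haveI := hKU.cyclic
    have haD : a ∈ S ⊓ Subgroup.centralizer (K : Set G) := by
      rw [← (decomp_factor hG hM hKU hK1).prime _ (K.pow_mem hk (q - 1)) hk1]
      exact ⟨hLS ha, Subgroup.mem_centralizer_singleton_iff.2
        (Subgroup.mem_centralizer_iff.1 (pow_centralizes hL (hLn (hKU.hall.1 hk))) a ha)⟩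
    obtain ⟨hMd, hD2⟩ := S1365.result hG M hM K U hKU hK1
    rw [hU, bot_sup_eq] at hMd
    rw [hMd] at hD2
    set Pm := (Cfsg.pCore p ↥S).map S.subtype with hPm
    set Wm := (Cfsg.pPrimeCore p ↥S).map S.subtype with hWm
    have hPW : Pm ⊔ Wm = S := by
      rw [hPm, hWm, ← Subgroup.map_sup, pCore_sup_pPrimeCore hnil p, ← MonoidHom.range_eq_map, Subgroup.range_subtype]
    have hPn : S ≤ Subgroup.normalizer (Pm : Set G) :=
      Subgroup.le_normalizer.trans (normalizer_le_normalizer_char (FittingCores.pCore_characteristic p))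
    have hle : ⁅S, S⁆ ≤ Pm := by
      haveI : (Pm.subgroupOf S).Normal := Subgroup.normal_subgroupOf_of_le_normalizer hPn
      set f := QuotientGroup.mk' (Pm.subgroupOf S)
      haveI := n.cyclic
      haveI : IsMulCommutative (Cfsg.pPrimeCore p ↥S) := IsCyclic.isMulCommutative
      have hcov : ∀ x : S, ∃ v ∈ Cfsg.pPrimeCore p ↥S, f x = f v := fun x => by
        have hx : x ∈ Cfsg.pCore p ↥S ⊔ Cfsg.pPrimeCore p ↥S := (pCore_sup_pPrimeCore hnil p).ge (Subgroup.mem_top x)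
        haveI := FittingCores.pCore_normal (G := S) p
        obtain ⟨u, hu, v, hv, rfl⟩ := Subgroup.mem_sup_of_normal_left.1 hx
        refine ⟨v, hv, ?_⟩
        rw [map_mul, show f u = 1 from (QuotientGroup.eq_one_iff u).2 ⟨u, hu, rfl⟩, one_mul]
      refine Subgroup.commutator_le.2 fun x hx y hy => ?_
      obtain ⟨v, hv, e1⟩ := hcov ⟨x, hx⟩
      obtain ⟨v', hv', e2⟩ := hcov ⟨y, hy⟩
      have : f ⁅(⟨x, hx⟩ : S), ⟨y, hy⟩⁆ = 1 := by
        rw [map_commutatorElement, e1, e2, ← map_commutatorElement,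
          show ⁅v, v'⁆ = 1 from commutatorElement_eq_one_iff_mul_comm.2 (congrArg Subtype.val
            (mul_comm' (⟨v, hv⟩ : Cfsg.pPrimeCore p ↥S) ⟨v', hv'⟩)), map_one]
      exact Subgroup.mem_subgroupOf.1
        ((QuotientGroup.eq_one_iff (N := Pm.subgroupOf S) ⁅(⟨x, hx⟩ : S), ⟨y, hy⟩⁆).1 this)
    refine ha1 (orderOf_eq_one_iff.1 ?_)
    obtain ⟨j, hj⟩ := IsPGroup.iff_card.1 ((FittingCores.pCore_isPGroup (G := S) p).map S.subtype)
    exact Nat.eq_one_of_dvd_coprimes (Nat.Coprime.pow_right j ((Nat.coprime_primes hq n.prime).2 hqp))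
      (hL ▸ Subgroup.orderOf_dvd_natCard L ha) (hj ▸ Subgroup.orderOf_dvd_natCard _ (hle (hD2 haD)))
  refine Monoid.exponent_dvd_of_forall_pow_eq_one fun t => ?_
  obtain ⟨⟨m, hm⟩, rfl⟩ := QuotientGroup.mk'_surjective _ t
  obtain ⟨a, ha, s, hs, rfl⟩ := hc.2.2.2 m hm
  have he : (⟨a * s, hm⟩ : M) = ⟨a, hc.1 ha⟩ * ⟨s, sigmaCore_le M hs⟩ := rfl
  have hs' : (⟨s, sigmaCore_le M hs⟩ : M) ∈ Cfsg.fittingHall M := FStruct.fittingHall_mem.2 (by
    rw [Support.fittingHall_eq hG hM hnil]; exact hs)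
  rw [QuotientGroup.mk'_apply, he, QuotientGroup.mk_mul, (QuotientGroup.eq_one_iff _).2 hs', mul_one,
    ← QuotientGroup.mk_pow, show (⟨a, hc.1 ha⟩ : M) ^ (q - 1) = 1 from Subtype.ext (hKpow a ha), QuotientGroup.mk_one]

end Cfsg.Agent.OddOrder.NTI
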