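/-
The Puig subgroups of the two cores of a primitive pair of characteristic `p` with `p`-stable members
coincide.
-/
import Cfsg.Agent.Lib.OddOrder.PuigIn
import Cfsg.Agent.Lib.PLocal.ZJ
import Cfsg.Agent.Lib.PStable.Involved
import Cfsg.Agent.Lib.Transfer.Basic
import Cfsg.Agent.Lib.Components.Basic

set_option autoImplicit false
set_option linter.style.haveILetI false

open scoped commutatorElement

namespace Cfsg.Agent.OddOrder.PrimPuig

open Subgroup

section inside

variable {M : Type*} [Group M] [Finite M] {p : ℕ} [hp : Fact p.Prime]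

/-- A normal subgroup of `O_p` containing its centralizer there has a `p`-group as centralizer. -/
theorem isPGroup_centralizer (hC : centralizer (Cfsg.pCore p M : Set M) ≤ Cfsg.pCore p M)
    (P : Subgroup M) [P.Normal] (hCP : Cfsg.pCore p M ⊓ centralizer (P : Set M) ≤ P) :
    IsPGroup p (centralizer (P : Set M)) := by
  haveI := Cfsg.pCore_normal p M
  obtain ⟨s, hs⟩ := IsPGroup.iff_card.1 (PBasic.pCore_isPGroup p M)
  have key : ∀ x ∈ centralizer (P : Set M), x ^ p ^ s ∈ Cfsg.pCore p M := by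
    intro x hx
    refine hC (mem_centralizer_iff.2 fun q hq => ?_)
    set u := q⁻¹ * (x * q * x⁻¹) with hu
    have huQ : u ∈ Cfsg.pCore p M :=
      mul_mem (inv_mem hq) (‹(Cfsg.pCore p M).Normal›.conj_mem q hq x)
    have huC : u ∈ centralizer (P : Set M) := by
      have h1 : q⁻¹ * x * q ∈ centralizer (P : Set M) := by
        simpa using (inferInstance : (centralizer (P : Set M)).Normal).conj_mem x hx q⁻¹
      have : u = q⁻¹ * x * q * x⁻¹ := by rw [hu]; group
      rw [this]
      exact mul_mem h1 (inv_mem hx)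
    have hxu : Commute x u :=
      (mem_centralizer_iff.1 hx u (hCP (mem_inf.2 ⟨huQ, huC⟩))).symm
    have e : ∀ j : ℕ, x ^ j * q * (x ^ j)⁻¹ = q * u ^ j := by
      intro j
      induction j with
      | zero => simp
      | succ j ihj =>
        calc x ^ (j + 1) * q * (x ^ (j + 1))⁻¹ = x * (x ^ j * q * (x ^ j)⁻¹) * x⁻¹ := by
              rw [pow_succ']; group
          _ = x * q * (u ^ j * x⁻¹) := by rw [ihj]; group
          _ = x * q * (x⁻¹ * u ^ j) := by rw [((hxu.pow_right j).inv_left).eq]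
          _ = q * u * u ^ j := by rw [hu]; group
          _ = q * u ^ (j + 1) := by rw [pow_succ']; group
    have hun : u ^ p ^ s = 1 := by
      rw [← hs]
      exact congrArg Subtype.val (pow_card_eq_one' (x := (⟨u, huQ⟩ : Cfsg.pCore p M)))
    have h := e (p ^ s)
    rw [hun, mul_one] at h
    exact (mul_inv_eq_iff_eq_mul.1 h).symm
  intro x
  obtain ⟨k, hk⟩ := PBasic.pCore_isPGroup p M ⟨_, key x x.2⟩
  refine ⟨s + k, Subtype.ext ?_⟩
  rw [SubmonoidClass.coe_pow, pow_add, pow_mul]
  simpa using congrArg Subtype.val hk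

/-- An abelian `p`-subgroup normalized by such a subgroup lies in `O_p`. -/
theorem le_pCore_of_normalized (hq : ZJ.IsQuad p M)
    (hC : centralizer (Cfsg.pCore p M : Set M) ≤ Cfsg.pCore p M)
    (P : Subgroup M) [P.Normal] (hPQ : P ≤ Cfsg.pCore p M)
    (hCP : Cfsg.pCore p M ⊓ centralizer (P : Set M) ≤ P) (A : Subgroup M) (hA : IsPGroup p A)
    (hAc : ∀ x ∈ A, ∀ y ∈ A, x * y = y * x) (hPA : P ≤ normalizer (A : Set M)) :
    A ≤ Cfsg.pCore p M := by
  refine (ZJ.mem_stab hq ((PBasic.pCore_isPGroup p M).to_le hPQ) hA hAc hPA).trans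
    (PBasic.le_pCore inferInstance ?_)
  refine IsPGroup.comap_of_ker_isPGroup (PBasic.pCore_isPGroup p _) _ ?_
  rw [QuotientGroup.ker_mk']
  exact isPGroup_centralizer hC P hCP

/-- A normal abelian subgroup centralized by every quadratically acting abelian `p`-subgroup. -/
theorem exists_reduced (hq : ZJ.IsQuad p M) (hQ : Cfsg.pCore p M ≠ ⊥) :
    ∃ Y : Subgroup M, Y.Normal ∧ Y ≤ Cfsg.pCore p M ∧ Y ≠ ⊥ ∧ (∀ x ∈ Y, ∀ y ∈ Y, x * y = y * x) ∧
      ∀ A : Subgroup M, IsPGroup p A → (∀ x ∈ A, ∀ y ∈ A, x * y = y * x) →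
        Y ≤ normalizer (A : Set M) → A ≤ centralizer (Y : Set M) := by
  haveI := Cfsg.pCore_normal p M
  set Q := Cfsg.pCore p M with hQdef
  set Z := Q ⊓ centralizer (Q : Set M) with hZdef
  haveI : Z.Normal := Subgroup.normal_inf_normal _ _
  have hZne : Z ≠ ⊥ := by
    haveI := (nontrivial_iff_ne_bot Q).2 hQ
    haveI := (PBasic.pCore_isPGroup p M).center_nontrivial
    obtain ⟨⟨z, hz⟩, hz1⟩ := exists_ne (1 : center ↥Q)
    intro h
    refine hz1 (Subtype.ext (Subtype.ext ?_))
    have hmem : (z : M) ∈ Z := mem_inf.2 ⟨z.2, mem_centralizer_iff.2 fun q hq =>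
      congrArg Subtype.val (mem_center_iff.1 hz ⟨q, hq⟩)⟩
    rw [h, mem_bot] at hmem
    simpa using hmem
  obtain ⟨Y, hYZ, hY⟩ := Finite.exists_le_minimal
    (p := fun N : Subgroup M => N.Normal ∧ N ≠ ⊥) (a := Z) ⟨inferInstance, hZne⟩
  obtain ⟨⟨hYn, hYne⟩, hYmin⟩ := hY
  haveI := hYn
  have hYQ : Y ≤ Q := hYZ.trans inf_le_left
  have hYp : IsPGroup p Y := (PBasic.pCore_isPGroup p M).to_le hYQ
  refine ⟨Y, hYn, hYQ, hYne, fun x hx y hy => mem_centralizer_iff.1 (mem_inf.1 (hYZ hy)).2 x (hYQ hx),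
    fun A hA hAc hYA => (ZJ.mem_stab hq hYp hA hAc hYA).trans ?_⟩
  set D := ZJ.stab p Y with hD
  let φ : M →* MulAut Y := MulAut.conjNormal
  set P := D.map φ with hP
  have hker : ∀ c ∈ centralizer (Y : Set M), φ c = 1 := by
    intro c hc
    refine MulEquiv.ext fun v => Subtype.ext ?_
    show c * (v : M) * c⁻¹ = v
    rw [← mem_centralizer_iff.1 hc (v : M) v.2, mul_inv_cancel_right]
  have hPp : IsPGroup p P := by
    rintro ⟨_, x, hx, rfl⟩
    obtain ⟨k, hk⟩ := PBasic.pCore_isPGroup p _ ⟨_, hx⟩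
    refine ⟨k, Subtype.ext ?_⟩
    rw [SubmonoidClass.coe_pow, OneMemClass.coe_one]
    show φ x ^ p ^ k = 1
    rw [← map_pow]
    refine hker _ ((QuotientGroup.eq_one_iff _).1 ?_)
    have h := congrArg Subtype.val hk
    simpa using h
  haveI := (nontrivial_iff_ne_bot Y).2 hYne
  obtain ⟨k, hk, hk'⟩ := hYp.nontrivial_iff_card.1 inferInstance
  obtain ⟨v, hv, hv1⟩ := hPp.exists_fixed_point_of_prime_dvd_card_of_fixed_point Y
    (hk' ▸ dvd_pow_self p hk.ne') (a := 1) (fun g => map_one (g : MulAut Y))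
  have hfix : Y ⊓ centralizer (D : Set M) ≠ ⊥ := by
    intro h
    refine hv1 (Subtype.ext (Eq.symm ?_))
    rw [OneMemClass.coe_one, ← mem_bot, ← h]
    refine mem_inf.2 ⟨v.2, mem_centralizer_iff.2 fun g hg => ?_⟩
    have hgv : (φ g) v = v := hv ⟨φ g, g, hg, rfl⟩
    exact mul_inv_eq_iff_eq_mul.1 (congrArg Subtype.val hgv)
  haveI : (Y ⊓ centralizer (D : Set M)).Normal := Subgroup.normal_inf_normal _ _
  have hall : Y ≤ Y ⊓ centralizer (D : Set M) := hYmin ⟨inferInstance, hfix⟩ inf_le_left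
  exact le_centralizer_iff.1 (hall.trans inf_le_right)

/-- The key step: the part of `R` acting as a `p`-group on `B` lies in `O_p(M)`. -/
theorem inf_stab_le (H R B : Subgroup M) [B.Normal] (hR : IsPGroup p R) (hRH : R ≤ H)
    (hHR : H ≤ normalizer (R : Set M)) (hQH : Cfsg.pCore p M ≤ H)
    (hBH : centralizer (B : Set M) ≤ H) : R ⊓ ZJ.stab p B ≤ Cfsg.pCore p M := by
  haveI := Cfsg.pCore_normal p M
  set Q := Cfsg.pCore p M with hQdef
  set C := centralizer (B : Set M) with hCdef
  set K := H.normalCore with hKdef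
  have hQK : Q ≤ K := normal_le_normalCore.2 hQH
  have hCK : C ≤ K := normal_le_normalCore.2 hBH
  have hKH : K ≤ H := normalCore_le H
  set π := QuotientGroup.mk' Q with hπ
  haveI : (K.map π).Normal := Subgroup.Normal.map inferInstance π (QuotientGroup.mk'_surjective Q)
  set E := (centralizer ((K.map π : Subgroup _) : Set (M ⧸ Q))).comap π with hEdef
  set F := ZJ.stab p B ⊓ E with hFdef
  haveI : F.Normal := Subgroup.normal_inf_normal _ _
  have hRK : R ⊓ K ≤ Q := by
    haveI : ((R ⊓ K).subgroupOf K).Normal := ⟨fun x hx g => by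
      rw [mem_subgroupOf] at hx ⊢
      exact mem_inf.2 ⟨(mem_normalizer_iff.1 (hHR (hKH g.2)) _).1 (mem_inf.1 hx).1,
        (g * x * g⁻¹).2⟩⟩
    have h1 : (R ⊓ K).subgroupOf K ≤ Cfsg.pCore p K :=
      PBasic.le_pCore inferInstance
        ((hR.to_le inf_le_left).comap_of_injective _ K.subtype_injective)
    intro x hx
    exact PBasic.map_pCore_le_of_normal K ⟨⟨x, (mem_inf.1 hx).2⟩, h1 hx, rfl⟩
  have hRE : R ≤ E := by
    intro r hr
    rw [hEdef, mem_comap, mem_centralizer_iff]
    rintro _ ⟨k, hk, rfl⟩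
    have h1 : ⁅r, k⁆ ∈ Q := by
      refine hRK (Components.commutator_le_inf_of_normalizer (hKH.trans hHR)
        ?_ (Subgroup.commutator_mem_commutator hr hk))
      rw [Subgroup.normalizer_eq_top]
      exact le_top
    rw [← QuotientGroup.eq_one_iff, ← QuotientGroup.mk'_apply, map_commutatorElement,
      commutatorElement_eq_one_iff_mul_comm] at h1
    exact h1.symm
  obtain ⟨S⟩ : Nonempty (Sylow p F) := inferInstance
  set N := normalizer ((S : Subgroup F) : Set F) with hNdef
  have hCN : C.subgroupOf F ≤ N := by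
    intro c hc
    rw [hNdef]
    refine mem_normalizer_fintype fun s hs => ?_
    have hQS : Q.subgroupOf F ≤ (S : Subgroup F) := by
      haveI : (Q.subgroupOf F).Normal := Subgroup.normal_subgroupOf
      exact (PBasic.le_pCore inferInstance
        ((PBasic.pCore_isPGroup p M).comap_of_injective _ F.subtype_injective)).trans
        (PBasic.pCore_le_sylow S)
    have h1 : ⁅(c : M), (s : M)⁆ ∈ Q := by
      have hsE : (s : M) ∈ E := (mem_inf.1 s.2).2
      rw [hEdef, mem_comap, mem_centralizer_iff] at hsE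
      rw [← QuotientGroup.eq_one_iff, ← QuotientGroup.mk'_apply, map_commutatorElement,
        commutatorElement_eq_one_iff_mul_comm]
      exact hsE _ ⟨c, hCK hc, rfl⟩
    have h2 : ⁅c, s⁆ ∈ (S : Subgroup F) := hQS (by rw [mem_subgroupOf]; exact h1)
    have h3 := mul_mem h2 hs
    rwa [show ⁅c, s⁆ * s = c * s * c⁻¹ by rw [commutatorElement_def]; group] at h3
  obtain ⟨j, hj⟩ : ∃ j, (C.subgroupOf F).index = p ^ j := by
    haveI : (C.subgroupOf F).Normal := Subgroup.normal_subgroupOf
    rw [index_eq_card]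
    refine IsPGroup.iff_card.1 fun x => ?_
    obtain ⟨x, rfl⟩ := QuotientGroup.mk'_surjective _ x
    obtain ⟨k, hk⟩ := PBasic.pCore_isPGroup p _ ⟨_, (mem_inf.1 x.2).1⟩
    refine ⟨k, ?_⟩
    rw [← map_pow, QuotientGroup.mk'_apply, QuotientGroup.eq_one_iff, mem_subgroupOf,
      SubmonoidClass.coe_pow, ← QuotientGroup.eq_one_iff]
    simpa using congrArg Subtype.val hk
  have hN1 : N = ⊤ := by
    rw [← index_eq_one]
    have h1 : N.index ∣ p ^ j := hj ▸ index_dvd_of_le hCN
    obtain ⟨i, -, hi⟩ := (Nat.dvd_prime_pow hp.out).1 h1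
    rcases Nat.eq_zero_or_pos i with rfl | hi0
    · rw [hi, pow_zero]
    · exfalso
      refine not_dvd_card_sylow p F ?_
      rw [S.card_eq_index_normalizer, show (normalizer (S : Set F)).index = N.index from rfl, hi]
      exact dvd_pow_self p hi0.ne'
  haveI : (S : Subgroup F).Normal := normalizer_eq_top_iff.1 hN1
  have hSQ : (Cfsg.pCore p F).map F.subtype ≤ Q := PBasic.map_pCore_le_of_normal F
  intro x hx
  have hxF : x ∈ F := mem_inf.2 ⟨(mem_inf.1 hx).2, hRE (mem_inf.1 hx).1⟩
  obtain ⟨S', hS'⟩ := IsPGroup.exists_le_sylow (p := p) ((hR.comap_of_injective _ F.subtype_injective :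
    IsPGroup p (R.subgroupOf F)))
  haveI := Sylow.unique_of_normal S inferInstance
  have hSS : (S : Subgroup F) ≤ Cfsg.pCore p F := PBasic.le_pCore inferInstance S.isPGroup'
  refine hSQ ⟨⟨x, hxF⟩, hSS ?_, rfl⟩
  rw [Subsingleton.elim S S']
  exact hS' (mem_subgroupOf.2 (mem_inf.1 hx).1)

end inside

section outside

variable {G : Type*} [Group G] [Finite G] {p : ℕ} [hp : Fact p.Prime]

theorem le_normalizer_term (Q : Subgroup G) (n : ℕ) :
    normalizer (Q : Set G) ≤ normalizer (PuigIn.term Q n : Set G) := by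
  intro g hg
  rw [mem_normalizer_iff_map_conj_eq] at hg ⊢
  rw [PuigIn.term_map _ _ _ (MulAut.conj g).injective.injOn, hg]

theorem inf_centralizer_term_le {T : Subgroup G} (hT : IsPGroup p T) (n : ℕ) :
    T ⊓ centralizer (PuigIn.term T (n + 1) : Set G) ≤ PuigIn.term T (n + 1) := by
  haveI : Group.IsNilpotent T := hT.isNilpotent
  intro x hx
  obtain ⟨hxT, hxC⟩ := mem_inf.1 hx
  refine ⟨⟨x, hxT⟩, Puig.centralizer_puigStep_le _ ?_, rfl⟩
  refine mem_centralizer_iff.2 fun l hl => Subtype.ext ?_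
  exact mem_centralizer_iff.1 hxC (l : G) ⟨l, hl, rfl⟩

theorem normalizer_le_centralizer_normalizer (L : Subgroup G) :
    normalizer (L : Set G) ≤ normalizer (centralizer (L : Set G) : Set G) := by
  intro g hg
  refine mem_normalizer_fintype fun c hc => mem_centralizer_iff.2 fun h hh => ?_
  have h' := mem_centralizer_iff.1 hc _ ((mem_normalizer_iff''.1 hg h).1 hh)
  calc h * (g * c * g⁻¹) = g * ((g⁻¹ * h * g) * c) * g⁻¹ := by group
    _ = g * (c * (g⁻¹ * h * g)) * g⁻¹ := by rw [h']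
    _ = _ := by group

/-- The core of `M`, inside `G`. -/
def core (p : ℕ) (M : Subgroup G) : Subgroup G := (Cfsg.pCore p ↥M).map M.subtype

theorem core_le (p : ℕ) (M : Subgroup G) : core p M ≤ M := map_subtype_le _

theorem core_isPGroup (M : Subgroup G) : IsPGroup p (core p M) := (PBasic.pCore_isPGroup p ↥M).map _

theorem core_normalized (M : Subgroup G) : M ≤ normalizer (core p M : Set G) := by
  haveI := Cfsg.pCore_normal p ↥M
  exact le_normalizer_map M.subtype |>.trans' (by
    rw [Subgroup.normalizer_eq_top, ← MonoidHom.range_eq_map, range_subtype])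

theorem core_subgroupOf (M : Subgroup G) : (core p M).subgroupOf M = Cfsg.pCore p ↥M :=
  comap_map_eq_self_of_injective M.subtype_injective _

theorem core_ne_bot (M : Subgroup G) (hM : M ≠ ⊥)
    (hC : centralizer (Cfsg.pCore p ↥M : Set ↥M) ≤ Cfsg.pCore p ↥M) : core p M ≠ ⊥ := by
  intro h
  rw [core, map_eq_bot_iff_of_injective _ M.subtype_injective] at h
  rw [h] at hC
  haveI := (nontrivial_iff_ne_bot M).2 hM
  obtain ⟨x, hx⟩ := exists_ne (1 : M)
  exact hx (mem_bot.1 (hC (mem_centralizer_iff.2 fun y hy => by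
    rw [SetLike.mem_coe, mem_bot] at hy
    rw [hy, one_mul, mul_one])))

theorem comm_subgroupOf {A M : Subgroup G} (hAc : IsMulCommutative A) :
    ∀ x ∈ A.subgroupOf M, ∀ y ∈ A.subgroupOf M, x * y = y * x := fun x hx y hy =>
  Subtype.ext (congrArg Subtype.val (hAc.is_comm.comm (⟨_, hx⟩ : A) ⟨_, hy⟩) :)

theorem normalizer_subgroupOf_le {A P M : Subgroup G} (h : P ≤ normalizer (A : Set G)) :
    P.subgroupOf M ≤ normalizer (A.subgroupOf M : Set M) := fun x hx =>
  mem_normalizer_fintype fun y hy => (mem_normalizer_iff.1 (h hx) (y : G)).1 hy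

/-- `L_*(T) ≤ L_*(Q)` and `L(Q) ≤ L(T)` for `Q = O_p(M)` and any `p`-subgroup `T` of `M` above it. -/
theorem chain {M : Subgroup G} (hq : ZJ.IsQuad p ↥M)
    (hC : centralizer (Cfsg.pCore p ↥M : Set ↥M) ≤ Cfsg.pCore p ↥M) {T : Subgroup G}
    (hT : IsPGroup p T) (hTM : T ≤ M) (hQT : core p M ≤ T) :
    PuigIn.lower T ≤ PuigIn.lower (core p M) ∧ PuigIn.upper (core p M) ≤ PuigIn.upper T := by
  set Q := core p M with hQ
  have step : ∀ n, PuigIn.term T (2 * n) ≤ PuigIn.term Q (2 * n) →
      PuigIn.term Q (2 * n + 1) ≤ PuigIn.term T (2 * n + 1) := fun n h =>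
    PuigIn.term_succ_le fun A hA hAc _ hn => PuigIn.le_term_succ (hA.trans hQT) hAc (h.trans hn)
  have key : ∀ n, PuigIn.term T (2 * n) ≤ PuigIn.term Q (2 * n) ∧
      PuigIn.term Q (2 * n + 1) ≤ PuigIn.term T (2 * n + 1) := by
    intro n
    induction n with
    | zero =>
      have h0 : PuigIn.term T (2 * 0) ≤ PuigIn.term Q (2 * 0) := by
        rw [Nat.mul_zero, PuigIn.term_zero]; exact bot_le
      exact ⟨h0, step 0 h0⟩
    | succ n ih =>
      have h0 : PuigIn.term T (2 * (n + 1)) ≤ PuigIn.term Q (2 * (n + 1)) := by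
        rw [Nat.mul_succ]
        refine PuigIn.term_succ_le fun A hA hAc _ hn => ?_
        set P := PuigIn.term Q (2 * n + 1) with hP
        have hPn : P ≤ normalizer (A : Set G) := ih.2.trans hn
        refine PuigIn.le_term_succ ?_ hAc hPn
        haveI : (P.subgroupOf M).Normal := normal_subgroupOf_of_le_normalizer
          ((core_normalized M).trans (le_normalizer_term Q _))
        have hPQ : P.subgroupOf M ≤ Cfsg.pCore p ↥M := by
          rw [← core_subgroupOf]
          exact comap_mono (PuigIn.term_le _ _)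
        have hCP : Cfsg.pCore p ↥M ⊓ centralizer (P.subgroupOf M : Set M) ≤ P.subgroupOf M := by
          intro x hx
          obtain ⟨hx1, hx2⟩ := mem_inf.1 hx
          rw [← core_subgroupOf] at hx1
          refine inf_centralizer_term_le (core_isPGroup M) (2 * n) (mem_inf.2 ⟨hx1, ?_⟩)
          exact mem_centralizer_iff.2 fun y hy => congrArg Subtype.val
            (mem_centralizer_iff.1 hx2 ⟨y, core_le p M (PuigIn.term_le _ _ hy)⟩ hy)
        have h := le_pCore_of_normalized hq hC (P.subgroupOf M) hPQ hCP (A.subgroupOf M)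
          ((hT.to_le hA).comap_of_injective _ M.subtype_injective) (comm_subgroupOf hAc)
          (normalizer_subgroupOf_le hPn)
        intro a ha
        exact ⟨⟨a, hTM (hA ha)⟩, h ha, rfl⟩
      exact ⟨h0, step _ h0⟩
  obtain ⟨k, -, hk⟩ := PuigIn.exists_stable T
  obtain ⟨j, -, hj⟩ := PuigIn.exists_stable Q
  have h := key (max k j)
  rwa [(hk _ (le_max_left k j)).1, (hk _ (le_max_left k j)).2, (hj _ (le_max_right k j)).1,
    (hj _ (le_max_right k j)).2] at h

/-- With `T` the product of the two cores, `L(O_p(N)) ≤ O_p(M)`. -/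
theorem upper_le_core {M N : Subgroup G} (hqM : ZJ.IsQuad p ↥M) (hqN : ZJ.IsQuad p ↥N)
    (hCM : centralizer (Cfsg.pCore p ↥M : Set ↥M) ≤ Cfsg.pCore p ↥M)
    (hCN : centralizer (Cfsg.pCore p ↥N : Set ↥N) ≤ Cfsg.pCore p ↥N) (hNbot : N ≠ ⊥)
    (hMN : core p M ≤ N) (hNM : core p N ≤ M)
    (hprim : ∀ A : Subgroup G, A ≠ ⊥ → A ≤ M ⊓ N → N ≤ normalizer (A : Set G) →
      M ⊓ normalizer (A : Set G) = M ⊓ N) :
    PuigIn.upper (core p N) ≤ core p M := by
  set QM := core p M with hQM
  set QN := core p N with hQN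
  set T := QM ⊔ QN with hTdef
  have hT : IsPGroup p T := (core_isPGroup M).to_sup_of_normal_right' (core_isPGroup N)
    (hMN.trans (core_normalized N))
  have hTM : T ≤ M := sup_le (core_le p M) hNM
  have hTN : T ≤ N := sup_le hMN (core_le p N)
  obtain ⟨hlowM, hupM⟩ := chain hqM hCM hT hTM le_sup_left
  obtain ⟨-, hupN⟩ := chain hqN hCN hT hTN le_sup_right
  set L := PuigIn.upper T with hL
  -- a reduced normal subgroup of `N`
  have hQN' : Cfsg.pCore p ↥N ≠ ⊥ := fun h => core_ne_bot N hNbot hCN (by rw [core, h, Subgroup.map_bot])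
  obtain ⟨Y', hY'n, hY'Q, hY'ne, hY'c, hY'A⟩ := exists_reduced hqN hQN'
  set Y := Y'.map N.subtype with hY
  have hYQ : Y ≤ QN := map_mono hY'Q
  have hNY : N ≤ normalizer (Y : Set G) := by
    haveI := hY'n
    exact le_normalizer_map N.subtype |>.trans' (by
      rw [Subgroup.normalizer_eq_top, ← MonoidHom.range_eq_map, range_subtype])
  have hYc : IsMulCommutative Y := ⟨⟨fun ⟨_, a, ha, rfl⟩ ⟨_, b, hb, rfl⟩ => Subtype.ext
    (congrArg Subtype.val (hY'c a ha b hb) :)⟩⟩
  have hYT : Y ≤ T := hYQ.trans le_sup_right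
  have hYlow : Y ≤ PuigIn.lower T :=
    PuigIn.le_lower hYT hYc ((PuigIn.upper_le T).trans (hTN.trans hNY))
  have hLY : L ≤ centralizer (Y : Set G) := by
    refine PuigIn.upper_le_of_forall fun A hA hAc _ hn => ?_
    have h := hY'A (A.subgroupOf N) ((hT.to_le hA).comap_of_injective _ N.subtype_injective)
      (comm_subgroupOf hAc) (by
        refine le_trans ?_ (normalizer_subgroupOf_le (hYlow.trans hn))
        intro y hy
        exact mem_subgroupOf.2 ⟨y, hy, rfl⟩)
    intro a ha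
    refine mem_centralizer_iff.2 ?_
    rintro _ ⟨y, hy, rfl⟩
    exact congrArg Subtype.val (mem_centralizer_iff.1 (h (show (⟨a, hTN (hA ha)⟩ : N) ∈ _ from ha)) y hy)
  -- the centre of `L(O_p(M))`
  set LQ := PuigIn.upper QM with hLQ
  have hMLQ : M ≤ normalizer (LQ : Set G) := (core_normalized M).trans (PuigIn.normalizer_le QM)
  set B := LQ ⊓ centralizer (LQ : Set G) with hB
  have hYB : Y ≤ B :=
    le_inf (hYlow.trans (hlowM.trans (PuigIn.lower_le_upper QM)))
      (le_centralizer_iff.1 (hupM.trans hLY))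
  have hBM : M ≤ normalizer (B : Set G) := by
    intro g hg
    have hg' := hMLQ hg
    refine Subgroup.inf_normalizer_le_normalizer_inf (mem_inf.2 ⟨hg', ?_⟩)
    exact normalizer_le_centralizer_normalizer _ hg'
  have hBc : IsMulCommutative B := ⟨⟨fun a b => Subtype.ext
    (mem_centralizer_iff.1 (mem_inf.1 b.2).2 a (mem_inf.1 a.2).1)⟩⟩
  have hBT : B ≤ T := (inf_le_left.trans (PuigIn.upper_le QM)).trans le_sup_left
  have hBlow : B ≤ PuigIn.lower T :=
    PuigIn.le_lower hBT hBc ((PuigIn.upper_le T).trans (hTM.trans hBM))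
  haveI hBn : (B.subgroupOf M).Normal := normal_subgroupOf_of_le_normalizer hBM
  have hBp : IsPGroup p (B.subgroupOf M) :=
    (hT.to_le hBT).comap_of_injective _ M.subtype_injective
  have hLD : L ≤ (ZJ.stab p (B.subgroupOf M)).map M.subtype := by
    refine PuigIn.upper_le_of_forall fun A hA hAc _ hn => ?_
    have h := ZJ.mem_stab hqM hBp ((hT.to_le hA).comap_of_injective _ M.subtype_injective)
      (comm_subgroupOf hAc) (normalizer_subgroupOf_le (hBlow.trans hn))
    intro a ha
    exact ⟨⟨a, hTM (hA ha)⟩, h ha, rfl⟩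
  have hBH : centralizer (B.subgroupOf M : Set M) ≤ N.subgroupOf M := by
    intro x hx
    have hxY : (x : G) ∈ normalizer (Y : Set G) := by
      refine centralizer_le_normalizer _ (mem_centralizer_iff.2 fun y hy => ?_)
      exact congrArg Subtype.val
        (mem_centralizer_iff.1 hx ⟨y, hTM (hYT hy)⟩ (hYB hy))
    have hYne : Y ≠ ⊥ := fun h => hY'ne ((map_eq_bot_iff_of_injective _ N.subtype_injective).1 h)
    exact ((hprim Y hYne (le_inf (hYT.trans hTM) (hYT.trans hTN)) hNY).le ⟨x.2, hxY⟩).2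
  have hkey := inf_stab_le (p := p) (N.subgroupOf M) (QN.subgroupOf M) (B.subgroupOf M)
    ((core_isPGroup N).comap_of_injective _ M.subtype_injective) (comap_mono (core_le p N))
    (normalizer_subgroupOf_le (core_normalized N))
    (by rw [← core_subgroupOf]; exact comap_mono hMN) hBH
  intro x hx
  obtain ⟨d, hd, hdx⟩ := hLD (hupN hx)
  have hx' : d ∈ QN.subgroupOf M := by
    rw [mem_subgroupOf]
    have := PuigIn.upper_le _ hx
    rw [← hdx] at this
    exact this
  exact ⟨d, hkey (mem_inf.2 ⟨hx', hd⟩), hdx⟩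

/-- A primitive pair of characteristic `p` cannot have both members `p`-stable. -/
theorem false_of_isQuad {M N : Subgroup G} (hne : M ≠ N) (hqM : ZJ.IsQuad p ↥M) (hqN : ZJ.IsQuad p ↥N)
    (hCM : centralizer (Cfsg.pCore p ↥M : Set ↥M) ≤ Cfsg.pCore p ↥M)
    (hCN : centralizer (Cfsg.pCore p ↥N : Set ↥N) ≤ Cfsg.pCore p ↥N)
    (hMbot : M ≠ ⊥) (hNbot : N ≠ ⊥) (hMN : core p M ≤ N) (hNM : core p N ≤ M)
    (h1 : ∀ A : Subgroup G, A ≠ ⊥ → A ≤ M ⊓ N → M ≤ normalizer (A : Set G) →
      N ⊓ normalizer (A : Set G) = M ⊓ N)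
    (h2 : ∀ A : Subgroup G, A ≠ ⊥ → A ≤ M ⊓ N → N ≤ normalizer (A : Set G) →
      M ⊓ normalizer (A : Set G) = M ⊓ N) : False := by
  have e1 := upper_le_core hqM hqN hCM hCN hNbot hMN hNM h2
  have e2 := upper_le_core hqN hqM hCN hCM hMbot hNM hMN (fun A a b c => by
    rw [inf_comm] at b; rw [inf_comm N M]; exact h1 A a b c)
  set D := core p M ⊓ core p N
  have f1 : PuigIn.upper D = PuigIn.upper (core p M) :=
    PuigIn.upper_eq (le_inf (PuigIn.upper_le _) e2) inf_le_left
  have f2 : PuigIn.upper D = PuigIn.upper (core p N) :=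
    PuigIn.upper_eq (le_inf e1 (PuigIn.upper_le _)) inf_le_right
  set U := PuigIn.upper (core p M) with hU
  have hUM : M ≤ normalizer (U : Set G) := (core_normalized M).trans (PuigIn.normalizer_le _)
  have hUN : N ≤ normalizer (U : Set G) := by
    rw [← f1, f2]
    exact (core_normalized N).trans (PuigIn.normalizer_le _)
  have hUle : U ≤ M ⊓ N :=
    le_inf ((PuigIn.upper_le _).trans (core_le p M)) ((PuigIn.upper_le _).trans hMN)
  have hUne : U ≠ ⊥ := by
    intro h
    haveI := (nontrivial_iff_ne_bot _).2 (core_ne_bot (p := p) M hMbot hCM)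
    obtain ⟨j, -, hj⟩ := PuigIn.exists_stable (core p M)
    have hle := inf_centralizer_term_le (core_isPGroup (p := p) M) (2 * j)
    rw [(hj j le_rfl).2, ← hU, h, le_bot_iff, show centralizer ((⊥ : Subgroup G) : Set G) = ⊤ from eq_top_iff.2 fun x _ =>
      mem_centralizer_iff.2 fun y hy => by rw [SetLike.mem_coe, mem_bot] at hy; rw [hy, one_mul, mul_one],
      inf_top_eq] at hle
    exact core_ne_bot (p := p) M hMbot hCM hle
  have g1 := h1 U hUne hUle hUM
  have g2 := h2 U hUne hUle hUN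
  rw [inf_eq_left.2 hUN] at g1
  rw [inf_eq_left.2 hUM] at g2
  exact hne (le_antisymm (g2.le.trans inf_le_right) (g1.le.trans inf_le_left))

end outside

end Cfsg.Agent.OddOrder.PrimPuig
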