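/-
Invariant p'-subgroups of p-constrained groups (the key step of the transitivity theorem).
-/
import Cfsg.Agent.Lib.Classification.Transitivity
import Cfsg.Agent.Lib.Techniques.PConstrained

set_option autoImplicit false

namespace Cfsg.Agent.OddOrder.Transitive

open scoped commutatorElement

variable {G : Type*} [Group G] [Finite G] {p : ℕ} [hp : Fact p.Prime]

/-- Variant of `le_centralizer_of_fixed` for all primes, when the commutators of `R` with `A`
centralize `A`. -/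
theorem le_centralizer_of_fixed_central {D A R : Subgroup G} (hD : (Nat.card D).Coprime p)
    (hAD : A ≤ Subgroup.normalizer (D : Set G)) (hR : IsPGroup p R)
    (hDR : D ≤ Subgroup.normalizer (R : Set G)) (hAR : A ≤ Subgroup.normalizer (R : Set G))
    (hfix : R ⊓ Subgroup.centralizer (A : Set G) ≤ Subgroup.centralizer (D : Set G))
    (hcl : ∀ r ∈ R, ∀ a ∈ A, ⁅a, r⁆ ∈ Subgroup.centralizer (A : Set G)) :
    R ≤ Subgroup.centralizer (D : Set G) := by
  have hconj : ∀ g ∈ Subgroup.normalizer (R : Set G), ∀ r ∈ R, g * r * g⁻¹ ∈ R := fun g hg r hr =>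
    (Subgroup.mem_normalizer_iff.1 hg r).1 hr
  have hcD : ∀ r ∈ R, ∀ a ∈ A, ∀ d ∈ D, d * ⁅a, r⁆ = ⁅a, r⁆ * d := fun r hr a ha d hd =>
    Subgroup.mem_centralizer_iff.1 (hfix (Subgroup.mem_inf.2 ⟨by
      rw [commutatorElement_def]
      exact mul_mem (hconj a (hAR ha) r hr) (inv_mem hr), hcl r hr a ha⟩)) d hd
  have hcop : ∀ d ∈ D, ∀ u ∈ R, (orderOf u).Coprime (orderOf d) := fun d hd u hu => by
    obtain ⟨k, hk⟩ := IsPGroup.iff_orderOf.1 hR ⟨u, hu⟩
    rw [Subgroup.orderOf_mk] at hk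
    rw [hk]
    exact Nat.Coprime.pow_left k
      (Nat.Coprime.coprime_dvd_left (Subgroup.orderOf_dvd_natCard D hd) hD).symm
  have hstab : ∀ d ∈ D, ∀ r ∈ R, ∀ u ∈ R, d * u = u * d → d * r * d⁻¹ = r * u →
      d * r * d⁻¹ = r := by
    intro d hd r hr u hu hdu he
    have h := AxB.fixed_of_conj_eq_mul (q := r) (x := d) (d := u) (n := orderOf d) hdu he
      (pow_orderOf_eq_one d) (hcop d hd u hu)
    rw [he, h, mul_one]
  have hk : ∀ d ∈ D, ∀ r ∈ R, ∀ a ∈ A,
      (d⁻¹ * (a * d * a⁻¹)) * r * (d⁻¹ * (a * d * a⁻¹))⁻¹ = r := by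
    intro d hd r hr a ha
    have hd' : a * d * a⁻¹ ∈ D := (Subgroup.mem_normalizer_iff.1 (hAD ha) d).1 hd
    have hkD : d⁻¹ * (a * d * a⁻¹) ∈ D := mul_mem (inv_mem hd) hd'
    have hr' : r⁻¹ ∈ R := inv_mem hr
    have hs : d * r⁻¹ * d⁻¹ ∈ R := hconj d (hDR hd) _ hr'
    set c := ⁅a, r⁻¹⁆ with hc
    set c' := ⁅a, d * r⁻¹ * d⁻¹⁆ with hc'
    have h1 : a * (d * r⁻¹ * d⁻¹) * a⁻¹ = c * ((a * d * a⁻¹) * r⁻¹ * (a * d * a⁻¹)⁻¹) := by
      calc a * (d * r⁻¹ * d⁻¹) * a⁻¹
          = (a * d * a⁻¹) * (c * r⁻¹) * (a * d * a⁻¹)⁻¹ := by rw [hc, commutatorElement_def]; group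
        _ = ((a * d * a⁻¹) * c) * r⁻¹ * (a * d * a⁻¹)⁻¹ := by group
        _ = (c * (a * d * a⁻¹)) * r⁻¹ * (a * d * a⁻¹)⁻¹ := by rw [hc, hcD _ hr' a ha _ hd']
        _ = c * ((a * d * a⁻¹) * r⁻¹ * (a * d * a⁻¹)⁻¹) := by group
    have h2 : a * (d * r⁻¹ * d⁻¹) * a⁻¹ = c' * (d * r⁻¹ * d⁻¹) := by
      rw [hc', commutatorElement_def]; group
    have hcomm : ∀ e ∈ D, e * (c⁻¹ * c') = (c⁻¹ * c') * e := fun e he => by
      exact ((show Commute e c from hcD _ hr' a ha e he).inv_right.mul_right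
        (show Commute e c' from hcD _ hs a ha e he)).eq
    have h3 : (d⁻¹ * (a * d * a⁻¹)) * r⁻¹ * (d⁻¹ * (a * d * a⁻¹))⁻¹ = c⁻¹ * c' * r⁻¹ := by
      have h4 := h1.symm.trans h2
      calc _ = d⁻¹ * (c⁻¹ * (c * ((a * d * a⁻¹) * r⁻¹ * (a * d * a⁻¹)⁻¹))) * d := by group
        _ = d⁻¹ * (c⁻¹ * c') * d * r⁻¹ := by rw [h4]; group
        _ = c⁻¹ * c' * r⁻¹ := by rw [hcomm d⁻¹ (inv_mem hd)]; group
    have hmem : c⁻¹ * c' ∈ R := by
      rw [hc, hc', commutatorElement_def, commutatorElement_def]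
      exact mul_mem (inv_mem (mul_mem (hconj a (hAR ha) _ hr') (inv_mem hr')))
        (mul_mem (hconj a (hAR ha) _ hs) (inv_mem hs))
    set k := d⁻¹ * (a * d * a⁻¹) with hkdef
    have h5 : k * r * k⁻¹ = r * (c⁻¹ * c')⁻¹ := by
      calc k * r * k⁻¹ = (k * r⁻¹ * k⁻¹)⁻¹ := by group
        _ = _ := by rw [h3]; group
    exact hstab k hkD r hr _ (inv_mem hmem)
      ((show Commute k (c⁻¹ * c') from hcomm k hkD).inv_right).eq h5
  intro r hr
  rw [Subgroup.mem_centralizer_iff]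
  intro d hd
  set u := r⁻¹ * (d * r * d⁻¹) with hu
  have huR : u ∈ R := mul_mem (inv_mem hr) (hconj d (hDR hd) r hr)
  have hufix : u ∈ Subgroup.centralizer (A : Set G) := by
    refine Subgroup.mem_centralizer_iff.2 fun a ha => ?_
    have h1 : a * (d * r * d⁻¹) * a⁻¹ = ⁅a, r⁆ * (d * r * d⁻¹) := by
      have hk' := hk d hd (a * r * a⁻¹) (hconj a (hAR ha) r hr) a ha
      calc a * (d * r * d⁻¹) * a⁻¹
          = d * ((d⁻¹ * (a * d * a⁻¹)) * (a * r * a⁻¹) * (d⁻¹ * (a * d * a⁻¹))⁻¹) * d⁻¹ := by group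
        _ = d * ⁅a, r⁆ * (r * d⁻¹) := by rw [hk', commutatorElement_def]; group
        _ = ⁅a, r⁆ * (d * r * d⁻¹) := by rw [hcD r hr a ha d hd]; group
    have h2 : a * u * a⁻¹ = u := by
      calc a * u * a⁻¹ = (a * r * a⁻¹)⁻¹ * (a * (d * r * d⁻¹) * a⁻¹) := by rw [hu]; group
        _ = u := by rw [h1, hu, commutatorElement_def]; group
    exact mul_inv_eq_iff_eq_mul.1 h2
  have hd1 := hstab d hd r hr u huR
    (Subgroup.mem_centralizer_iff.1 (hfix (Subgroup.mem_inf.2 ⟨huR, hufix⟩)) d hd) (by rw [hu]; group)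
  exact mul_inv_eq_iff_eq_mul.1 hd1

theorem le_pPrimeCore_of_constrained (hcon : Cfsg.IsPConstrained p G) {A D : Subgroup G}
    (hA : IsPGroup p A)
    (hclass : p ≠ 2 ∨ ∀ R : Subgroup (G ⧸ Cfsg.pPrimeCore p G), IsPGroup p R → ∀ a ∈ R, ∀ b ∈ R,
      ∀ c ∈ R, ⁅a, b⁆ * c = c * ⁅a, b⁆)
    (hcent : ∀ y ∈ Subgroup.centralizer (A : Set G), (∃ k, orderOf y = p ^ k) → y ∈ A)
    (hD : (Nat.card D).Coprime p) (hAD : A ≤ Subgroup.normalizer (D : Set G)) :
    D ≤ Cfsg.pPrimeCore p G := by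
  haveI hKn : (Cfsg.pPrimeCore p G).Normal := FittingCores.pPrimeCore_normal p
  set f := QuotientGroup.mk' (Cfsg.pPrimeCore p G) with hf
  set R := Cfsg.pCore p (G ⧸ Cfsg.pPrimeCore p G) with hR
  haveI hRn : R.Normal := FittingCores.pCore_normal p
  have hfx : ∀ g : G, f g = 1 ↔ g ∈ Cfsg.pPrimeCore p G := fun g => QuotientGroup.eq_one_iff g
  have hfix : R ⊓ Subgroup.centralizer ((A.map f : Subgroup _) : Set _) ≤
      Subgroup.centralizer ((D.map f : Subgroup _) : Set _) := by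
    rintro q ⟨hqR, hqA⟩
    let S := {y : G // f y = q}
    letI act : MulAction A S :=
      { smul := fun a y => ⟨(a : G) * y * (a : G)⁻¹, by
          rw [map_mul, map_mul, map_inv, y.2, Subgroup.mem_centralizer_iff.1 hqA (f a) ⟨a, a.2, rfl⟩,
            mul_inv_cancel_right]⟩
        one_smul := fun y => Subtype.ext (by
          show ((1 : A) : G) * (y : G) * ((1 : A) : G)⁻¹ = y
          simp)
        mul_smul := fun a b y => Subtype.ext (by
          show ((a * b : A) : G) * (y : G) * ((a * b : A) : G)⁻¹ =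
            (a : G) * ((b : G) * y * (b : G)⁻¹) * (a : G)⁻¹
          simp [mul_assoc]) }
    obtain ⟨y₀, hy₀⟩ := QuotientGroup.mk'_surjective (Cfsg.pPrimeCore p G) q
    have hScard : Nat.card S = Nat.card (Cfsg.pPrimeCore p G) :=
      Nat.card_congr (Equiv.subtypeEquiv (Equiv.mulLeft y₀⁻¹) fun y => by
        rw [Equiv.coe_mulLeft, ← hfx, map_mul, map_inv, inv_mul_eq_one, eq_comm]
        rw [hf, hy₀])
    obtain ⟨y, hy⟩ := hA.nonempty_fixed_point_of_prime_not_dvd_card S (by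
      rw [hScard]
      exact (Nat.Prime.coprime_iff_not_dvd hp.out).1 (FittingCores.pPrimeCore_coprime p).symm)
    have hyC : (y : G) ∈ Subgroup.centralizer (A : Set G) := Subgroup.mem_centralizer_iff.2 fun a ha => by
      have h := congrArg Subtype.val (hy ⟨a, ha⟩)
      exact mul_inv_eq_iff_eq_mul.1 h
    obtain ⟨u, v, huv, hu, hv, hup, hvc⟩ := PBasic.exists_pPart_mul (p := p) (y : G)
    have huA : u ∈ A := hcent u (Subgroup.zpowers_le.2 hyC hu) hup
    have hvq : f v ∈ R := by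
      obtain ⟨k, hk⟩ := Subgroup.mem_zpowers_iff.1 hv
      rw [← hk, map_zpow, y.2]
      exact R.zpow_mem hqR k
    have hv1 : f v = 1 := PBasic.eq_one_of_isPGroup_of_coprime (FittingCores.pCore_isPGroup p) hvq
      (Nat.Coprime.coprime_dvd_left (orderOf_map_dvd f v) hvc)
    have hqu : q = f u := by rw [← y.2, ← huv, map_mul, hv1, mul_one]
    rw [Subgroup.mem_centralizer_iff]
    rintro _ ⟨d, hd, rfl⟩
    set c : G := d * u * d⁻¹ * u⁻¹ with hc
    have hcD : c ∈ D := by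
      have h1 := (Subgroup.mem_normalizer_iff.1 (hAD huA) d⁻¹).1 (inv_mem hd)
      have : c = d * (u * d⁻¹ * u⁻¹) := by rw [hc]; group
      rw [this]
      exact mul_mem hd h1
    have hcR : f c ∈ R := by
      rw [hc, map_mul, map_mul, map_mul, map_inv, map_inv, ← hqu]
      exact mul_mem (hRn.conj_mem q hqR (f d)) (inv_mem hqR)
    have hc1 : f c = 1 := PBasic.eq_one_of_isPGroup_of_coprime (FittingCores.pCore_isPGroup p) hcR
      (Nat.Coprime.coprime_dvd_left ((orderOf_map_dvd f c).trans (Subgroup.orderOf_dvd_natCard D hcD)) hD)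
    rw [hc, map_mul, map_mul, map_mul, map_inv, map_inv, ← hqu, mul_inv_eq_one, mul_inv_eq_iff_eq_mul] at hc1
    exact hc1
  have hDcop : (Nat.card (D.map f)).Coprime p := Nat.Coprime.coprime_dvd_left (D.card_map_dvd f) hD
  have hADn : A.map f ≤ Subgroup.normalizer ((D.map f : Subgroup _) : Set _) :=
    (Subgroup.map_mono hAD).trans (Subgroup.le_normalizer_map f)
  have hDR : R ≤ Subgroup.centralizer ((D.map f : Subgroup _) : Set _) := by
    rcases hclass with hp2 | hcl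
    · exact CTransitivity.le_centralizer_of_fixed hp2 (hA.map f) hDcop hADn R
        (FittingCores.pCore_isPGroup p) Subgroup.le_normalizer_of_normal
        Subgroup.le_normalizer_of_normal hfix
    · refine le_centralizer_of_fixed_central hDcop hADn (FittingCores.pCore_isPGroup p)
        Subgroup.le_normalizer_of_normal Subgroup.le_normalizer_of_normal hfix ?_
      intro r hr a ha
      have hS : IsPGroup p ↥(A.map f ⊔ R) :=
        (hA.map f).to_sup_of_normal_right' (FittingCores.pCore_isPGroup p)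
          Subgroup.le_normalizer_of_normal
      have hc := hcl _ hS a (Subgroup.mem_sup_left ha) r (Subgroup.mem_sup_right hr)
      exact Subgroup.mem_centralizer_iff.2 fun x hx => (hc x (Subgroup.mem_sup_left hx)).symm
  intro d hd
  rw [← hfx]
  have hdR : f d ∈ R := PConstr.isPConstrained_iff.1 hcon
    (Subgroup.mem_centralizer_iff.2 fun r hr =>
      (Subgroup.mem_centralizer_iff.1 (hDR hr) (f d) ⟨d, hd, rfl⟩).symm)
  exact PBasic.eq_one_of_isPGroup_of_coprime (FittingCores.pCore_isPGroup p) hdR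
    (Nat.Coprime.coprime_dvd_left ((orderOf_map_dvd f d).trans (Subgroup.orderOf_dvd_natCard D hd)) hD)


end Cfsg.Agent.OddOrder.Transitive
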